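import Groth.Agent.H71.Catenary
import Mathlib.RingTheory.DiscreteValuationRing.TFAE
import Mathlib.RingTheory.Polynomial.ScaleRoots
import Mathlib.RingTheory.IntegralClosure.IntegrallyClosed
import Mathlib.RingTheory.Nakayama
import Mathlib.RingTheory.Filtration
import Mathlib.RingTheory.Ideal.MinimalPrime.Localization
import Mathlib.RingTheory.Localization.FractionRing
import Mathlib.RingTheory.Finiteness.Basic
import Mathlib.RingTheory.Ideal.KrullsHeightTheorem

/-!
# Hironaka's lemma (EGA IV 5.12.8)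
-/

set_option autoImplicit false
universe u

namespace Groth.Agent.H71.HIR

open Groth.Agent.H71

section General

variable {A : Type u} [CommRing A]

lemma mk_lt_mk {P Q : Ideal A} (hP : P.IsPrime) (hQ : Q.IsPrime) :
    (⟨P, hP⟩ : PrimeSpectrum A) < ⟨Q, hQ⟩ ↔ P < Q := Iff.rfl

variable [IsNoetherianRing A]

/-- relative principal ideal theorem as a covering relation. -/
lemma covBy_of_mem_minimalPrimes {q P : Ideal A} [hq : q.IsPrime] [hPp : P.IsPrime] {t : A}
    (htq : t ∉ q) (hP : P ∈ (q ⊔ Ideal.span {t}).minimalPrimes) :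
    (⟨q, hq⟩ : PrimeSpectrum A) ⋖ ⟨P, hPp⟩ := by
  have hqP : q ≤ P := le_sup_left.trans hP.1.2
  have htP : t ∈ P := hP.1.2 (Ideal.mem_sup_right (Ideal.mem_span_singleton_self t))
  have hne : q ≠ P := fun h => htq (h ▸ htP)
  refine ⟨(mk_lt_mk hq hPp).mpr (lt_of_le_of_ne hqP hne), ?_⟩
  intro z hqz hzP
  have hz : z.asIdeal.IsPrime := z.isPrime
  have hqQ : q < z.asIdeal := hqz
  have hQP : z.asIdeal < P := hzP
  have hsurj : Function.Surjective (Ideal.Quotient.mk q) := Ideal.Quotient.mk_surjective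
  have hcm : ∀ I : Ideal A, q ≤ I → (I.map (Ideal.Quotient.mk q)).comap (Ideal.Quotient.mk q) = I :=
    fun I hI => by
      rw [Ideal.comap_map_of_surjective _ hsurj, ← RingHom.ker_eq_comap_bot, Ideal.mk_ker,
        sup_eq_left.mpr hI]
  haveI hQbar : (z.asIdeal.map (Ideal.Quotient.mk q)).IsPrime :=
    Ideal.map_isPrime_of_surjective hsurj (by rw [Ideal.mk_ker]; exact hqQ.le)
  haveI hPbar : (P.map (Ideal.Quotient.mk q)).IsPrime :=
    Ideal.map_isPrime_of_surjective hsurj (by rw [Ideal.mk_ker]; exact hqP)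
  have h1 : (P.map (Ideal.Quotient.mk q)).height ≤ 1 :=
    Ideal.map_height_le_one_of_mem_minimalPrimes hP
  have hQP' : z.asIdeal.map (Ideal.Quotient.mk q) < P.map (Ideal.Quotient.mk q) :=
    lt_of_le_of_ne (Ideal.map_mono hQP.le)
      (fun h => hQP.ne (by rw [← hcm _ hqQ.le, ← hcm P hqP, h]))
  have hbQ : (⊥ : Ideal (A ⧸ q)) < z.asIdeal.map (Ideal.Quotient.mk q) :=
    bot_lt_iff_ne_bot.mpr (fun h => hqQ.ne' (by
      rw [← hcm _ hqQ.le, h, ← RingHom.ker_eq_comap_bot, Ideal.mk_ker]))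
  have h2 := Ideal.height_add_one_le_of_lt_of_isPrime hbQ
  have h3 := Ideal.height_add_one_le_of_lt_of_isPrime hQP'
  have h4 : (1 : ℕ∞) + 1 ≤ 1 :=
    le_trans (add_le_add (le_trans le_add_self h2) le_rfl) (le_trans h3 h1)
  have h5 : (1 + 1 : ℕ) ≤ 1 := by exact_mod_cast h4
  omega

/-- a Noetherian local ring whose maximal ideal is generated by a non-zero-divisor is a domain. -/
lemma isDomain_of_maximalIdeal_eq_span {R : Type u} [CommRing R] [IsNoetherianRing R]
    [IsLocalRing R] {τ : R} (hτ : τ ∈ nonZeroDivisors R)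
    (hm : IsLocalRing.maximalIdeal R = Ideal.span {τ}) : IsDomain R := by
  have key : ∀ x : R, x ≠ 0 → ∃ (n : ℕ) (u : R), IsUnit u ∧ x = τ ^ n * u := by
    intro x hx
    have hK : (⨅ i : ℕ, IsLocalRing.maximalIdeal R ^ i) = ⊥ :=
      Ideal.iInf_pow_eq_bot_of_isLocalRing _ (IsLocalRing.maximalIdeal.isMaximal R).ne_top
    have hex : ∃ n : ℕ, x ∉ IsLocalRing.maximalIdeal R ^ n := by
      by_contra hcon
      push_neg at hcon
      apply hx
      have hmem : x ∈ (⨅ i : ℕ, IsLocalRing.maximalIdeal R ^ i) := by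
        rw [Ideal.mem_iInf]; exact hcon
      rw [hK] at hmem
      exact (Submodule.mem_bot R).mp hmem
    classical
    have hn : x ∉ IsLocalRing.maximalIdeal R ^ (Nat.find hex) := Nat.find_spec hex
    have hn0 : Nat.find hex ≠ 0 := by
      intro h0
      rw [h0, pow_zero, Ideal.one_eq_top] at hn
      exact hn Submodule.mem_top
    obtain ⟨k, hk⟩ := Nat.exists_eq_succ_of_ne_zero hn0
    have hk' : x ∈ IsLocalRing.maximalIdeal R ^ k := by
      by_contra hcon
      have := Nat.find_min' hex hcon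
      omega
    rw [hm, Ideal.span_singleton_pow, Ideal.mem_span_singleton'] at hk'
    obtain ⟨u, hu⟩ := hk'
    refine ⟨k, u, ?_, by rw [← hu, mul_comm]⟩
    by_contra hnu
    have hum : u ∈ IsLocalRing.maximalIdeal R := (IsLocalRing.mem_maximalIdeal u).mpr hnu
    rw [hm, Ideal.mem_span_singleton'] at hum
    obtain ⟨c, hc⟩ := hum
    apply hn
    rw [hk, hm, Ideal.span_singleton_pow, Ideal.mem_span_singleton']
    exact ⟨c, by rw [← hu, ← hc, pow_succ]; ring⟩
  haveI : NoZeroDivisors R := ⟨by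
    intro a b hab
    by_contra hcon
    push_neg at hcon
    obtain ⟨n, u, hu, rfl⟩ := key a hcon.1
    obtain ⟨m, v, hv, rfl⟩ := key b hcon.2
    have h1 : τ ^ (n + m) * (u * v) = 0 := by rw [← hab, pow_add]; ring
    have h2 : u * v = 0 :=
      (mul_left_mem_nonZeroDivisors_eq_zero_iff (pow_mem hτ _)).mp h1
    exact (hu.mul hv).ne_zero h2⟩
  exact NoZeroDivisors.to_isDomain R

end General

section Local

variable {A : Type u} [CommRing A] [IsNoetherianRing A] [IsLocalRing A]

lemma coheight_ne_top (x : PrimeSpectrum A) : Order.coheight x ≠ ⊤ := by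
  intro h
  have h1 : ((Order.coheight x : ℕ∞) : WithBot ℕ∞) ≤ ringKrullDim A :=
    Order.coheight_le_krullDim x
  rw [h] at h1
  have h2 := lt_of_le_of_lt h1 (ringKrullDim_lt_top (R := A))
  exact absurd h2 (by simp)

/-- coheight as a natural number. -/
noncomputable def ch (x : PrimeSpectrum A) : ℕ := (Order.coheight x).toNat

lemma ch_spec (x : PrimeSpectrum A) : ((ch x : ℕ) : ℕ∞) = Order.coheight x :=
  ENat.coe_toNat (coheight_ne_top x)

lemma ch_lt {x y : PrimeSpectrum A} (h : x < y) : ch y + 1 ≤ ch x := by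
  have h1 : Order.coheight y + 1 ≤ Order.coheight x := Order.coheight_add_one_le h
  rw [← ch_spec, ← ch_spec] at h1
  exact_mod_cast h1

lemma ch_covBy (hc : CAlg.IsCatenary A) {x y : PrimeSpectrum A} (h : x ⋖ y) :
    ch x = ch y + 1 := by
  have h1 := CAT.coheight_eq_of_covBy hc h
  rw [← ch_spec, ← ch_spec] at h1
  exact_mod_cast h1

lemma ch_dim (x : PrimeSpectrum A) :
    ringKrullDim (A ⧸ x.asIdeal) = (((ch x : ℕ) : ℕ∞) : WithBot ℕ∞) := by
  rw [ch_spec]
  exact CAT.ringKrullDim_quotient_eq_coheight x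

/-- Part I, first step: all minimal primes lie in `p`. -/
theorem minimalPrimes_le (hcat : CAlg.IsCatenary A) (heq : EGA4.IsEquidim A) (t : A)
    (ht : t ∈ IsLocalRing.maximalIdeal A) (hreg : t ∈ nonZeroDivisors A) (p : Ideal A)
    (hp : (Ideal.span {t}).minimalPrimes = {p}) (q : Ideal A) (hq : q ∈ minimalPrimes A) :
    q ≤ p := by
  haveI hqp : q.IsPrime := hq.1.1
  have htq : t ∉ q := fun h =>
    Set.disjoint_left.mp (Ideal.disjoint_nonZeroDivisors_of_mem_minimalPrimes hq) h hreg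
  have hne : q ⊔ Ideal.span {t} ≠ ⊤ := by
    intro h
    have h1 : q ⊔ Ideal.span {t} ≤ IsLocalRing.maximalIdeal A :=
      sup_le (IsLocalRing.le_maximalIdeal hqp.ne_top) ((Ideal.span_singleton_le_iff_mem _).mpr ht)
    rw [h] at h1
    exact (IsLocalRing.maximalIdeal.isMaximal A).ne_top (top_le_iff.mp h1)
  obtain ⟨⟨P, hP⟩⟩ := Ideal.nonempty_minimalPrimes hne
  haveI hPp : P.IsPrime := hP.1.1
  have hqP : q ≤ P := le_sup_left.trans hP.1.2
  have htP : t ∈ P := hP.1.2 (Ideal.mem_sup_right (Ideal.mem_span_singleton_self t))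
  have hcov : (⟨q, hqp⟩ : PrimeSpectrum A) ⋖ ⟨P, hPp⟩ := covBy_of_mem_minimalPrimes htq hP
  have hPmin : P ∈ (Ideal.span {t}).minimalPrimes := by
    refine ⟨⟨hPp, (Ideal.span_singleton_le_iff_mem _).mpr htP⟩, ?_⟩
    rintro P₁ ⟨hP₁p, htP₁⟩ hP₁P
    by_contra hcon
    have hlt : P₁ < P := lt_of_le_of_ne hP₁P (fun h => hcon (h ▸ le_rfl))
    haveI := hP₁p
    obtain ⟨q₁, hq₁, hq₁P₁⟩ := Ideal.exists_minimalPrimes_le (bot_le : (⊥ : Ideal A) ≤ P₁)
    have hq₁p : q₁.IsPrime := hq₁.1.1
    have htq₁ : t ∉ q₁ := fun h =>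
      Set.disjoint_left.mp (Ideal.disjoint_nonZeroDivisors_of_mem_minimalPrimes hq₁) h hreg
    have hlt₁ : q₁ < P₁ := lt_of_le_of_ne hq₁P₁
      (fun h => htq₁ (h ▸ (htP₁ (Ideal.mem_span_singleton_self t))))
    have e1 := ch_covBy hcat hcov
    have e2 : ch (⟨P₁, hP₁p⟩ : PrimeSpectrum A) + 1 ≤ ch (⟨q₁, hq₁p⟩ : PrimeSpectrum A) :=
      ch_lt ((mk_lt_mk hq₁p hP₁p).mpr hlt₁)
    have e3 : ch (⟨P, hPp⟩ : PrimeSpectrum A) + 1 ≤ ch (⟨P₁, hP₁p⟩ : PrimeSpectrum A) :=
      ch_lt ((mk_lt_mk hP₁p hPp).mpr hlt)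
    have e4 : ch (⟨q, hqp⟩ : PrimeSpectrum A) = ch (⟨q₁, hq₁p⟩ : PrimeSpectrum A) := by
      have h1 : (((ch (⟨q, hqp⟩ : PrimeSpectrum A) : ℕ) : ℕ∞) : WithBot ℕ∞) =
          (((ch (⟨q₁, hq₁p⟩ : PrimeSpectrum A) : ℕ) : ℕ∞) : WithBot ℕ∞) :=
        (ch_dim (⟨q, hqp⟩ : PrimeSpectrum A)).symm.trans
          (((heq q hq).trans (heq q₁ hq₁).symm).trans (ch_dim ⟨q₁, hq₁p⟩))
      have h2 := WithBot.coe_injective h1
      exact_mod_cast h2
    omega
  rw [hp, Set.mem_singleton_iff] at hPmin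
  exact hPmin ▸ hqP

/-- Part I: `A` is a domain. -/
theorem isDomain_of_hyp [IsReduced A] (hcat : CAlg.IsCatenary A) (heq : EGA4.IsEquidim A) (t : A)
    (ht : t ∈ IsLocalRing.maximalIdeal A) (hreg : t ∈ nonZeroDivisors A) (p : Ideal A)
    [p.IsPrime] (hp : (Ideal.span {t}).minimalPrimes = {p})
    (hgen : IsLocalRing.maximalIdeal (Localization.AtPrime p) =
      Ideal.span {algebraMap A (Localization.AtPrime p) t}) : IsDomain A := by
  have hle := minimalPrimes_le hcat heq t ht hreg p hp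
  have hnzd : ∀ s : A, s ∉ p → ∀ x : A, s * x = 0 → x = 0 := by
    intro s hs x hsx
    have hx : x ∈ sInf (⊥ : Ideal A).minimalPrimes := by
      rw [Ideal.mem_sInf]
      intro q hq
      haveI : q.IsPrime := hq.1.1
      have hmem : s * x ∈ q := by rw [hsx]; exact q.zero_mem
      rcases Ideal.IsPrime.mem_or_mem ‹q.IsPrime› hmem with h | h
      · exact absurd (hle q hq h) hs
      · exact h
    rw [Ideal.sInf_minimalPrimes] at hx
    obtain ⟨n, hn⟩ := hx
    exact IsReduced.eq_zero x ⟨n, (Submodule.mem_bot A).mp hn⟩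
  have hinj : Function.Injective (algebraMap A (Localization.AtPrime p)) := by
    rw [injective_iff_map_eq_zero]
    intro x hx
    rw [IsLocalization.map_eq_zero_iff p.primeCompl] at hx
    obtain ⟨⟨s, hs⟩, hsx⟩ := hx
    exact hnzd s hs x hsx
  have hτ : algebraMap A (Localization.AtPrime p) t ∈ nonZeroDivisors (Localization.AtPrime p) :=
    IsLocalization.map_nonZeroDivisors_le p.primeCompl (Localization.AtPrime p)
      (Submonoid.mem_map_of_mem _ hreg)
  haveI := isDomain_of_maximalIdeal_eq_span hτ hgen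
  exact hinj.isDomain (algebraMap A (Localization.AtPrime p))

end Local


section Domain

variable {A : Type u} [CommRing A] [IsDomain A]

/-- the height-one hull inside an arbitrary fraction field. -/
def hullK (A : Type u) [CommRing A] (K : Type u) [Field K] [Algebra A K] : Set K :=
  {x | ∀ (P : Ideal A) [P.IsPrime], P.height = 1 →
    ∃ s : A, s ∉ P ∧ ∃ a : A, algebraMap A K a = algebraMap A K s * x}

lemma mem_hullK_iff {K : Type u} [Field K] [Algebra A K] {x : K} :
    x ∈ hullK A K ↔ ∀ (P : Ideal A) [P.IsPrime], P.height = 1 →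
      ∃ s : A, s ∉ P ∧ ∃ a : A, algebraMap A K a = algebraMap A K s * x := Iff.rfl

lemma exists_mul_eq {t : A} {p : Ideal A} [p.IsPrime]
    (hgen : IsLocalRing.maximalIdeal (Localization.AtPrime p) =
      Ideal.span {algebraMap A (Localization.AtPrime p) t})
    {y : A} (hy : y ∈ p) : ∃ s, s ∉ p ∧ ∃ b, s * y = t * b := by
  have h1 : algebraMap A (Localization.AtPrime p) y ∈
      IsLocalRing.maximalIdeal (Localization.AtPrime p) :=
    (IsLocalization.AtPrime.to_map_mem_maximal_iff (Localization.AtPrime p) p y).mpr hy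
  rw [hgen, Ideal.mem_span_singleton'] at h1
  obtain ⟨c, hc⟩ := h1
  obtain ⟨⟨b, s⟩, hbs⟩ := IsLocalization.surj p.primeCompl c
  dsimp only at hbs
  refine ⟨s, s.2, b, ?_⟩
  apply IsLocalization.injective (Localization.AtPrime p) (Ideal.primeCompl_le_nonZeroDivisors p)
  rw [map_mul, map_mul, ← hc, ← hbs]
  ring

/-- integrality passes to the residue ring: the key use of normality. -/
lemma exists_mul_eq_of_scaleRoots {N : Type u} [CommRing N] [IsDomain N] [IsIntegrallyClosed N]
    {g : Polynomial N} (hg : g.Monic) {a s : N} (hs : s ≠ 0)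
    (h : Polynomial.eval a (g.scaleRoots s) = 0) : ∃ c, a = c * s := by
  have hs' : algebraMap N (FractionRing N) s ≠ 0 := fun h' =>
    hs ((map_eq_zero_iff _ (IsFractionRing.injective N (FractionRing N))).mp h')
  have hz : algebraMap N (FractionRing N) s *
      (algebraMap N (FractionRing N) a / algebraMap N (FractionRing N) s) =
      algebraMap N (FractionRing N) a := by field_simp
  have h5 := Polynomial.scaleRoots_eval₂_mul (p := g) (algebraMap N (FractionRing N))
    (algebraMap N (FractionRing N) a / algebraMap N (FractionRing N) s) s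
  rw [hz, Polynomial.eval₂_at_apply, h, map_zero] at h5
  have h4 : Polynomial.eval₂ (algebraMap N (FractionRing N))
      (algebraMap N (FractionRing N) a / algebraMap N (FractionRing N) s) g = 0 := by
    rcases mul_eq_zero.mp h5.symm with h' | h'
    · exact absurd h' (pow_ne_zero _ hs')
    · exact h'
  obtain ⟨c, hc⟩ := IsIntegrallyClosed.algebraMap_eq_of_integral (R := N) (K := FractionRing N)
    ⟨g, hg, h4⟩
  refine ⟨c, ?_⟩
  apply IsFractionRing.injective N (FractionRing N)
  rw [map_mul, hc]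
  field_simp

variable {K : Type u} [Field K] [Algebra A K] [IsFractionRing A K]

lemma exists_residue {p : Ideal A} [p.IsPrime] [IsIntegrallyClosed (A ⧸ p)] {x : K}
    (hx : IsIntegral A x) {s a : A} (hs : s ∉ p)
    (hsa : algebraMap A K a = algebraMap A K s * x) : ∃ c : A, a - c * s ∈ p := by
  obtain ⟨f, hmonic, hf⟩ := hx
  have h1 : Polynomial.eval₂ (algebraMap A K) (algebraMap A K s * x) (Polynomial.scaleRoots f s) = 0 :=
    Polynomial.scaleRoots_eval₂_eq_zero (algebraMap A K) hf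
  rw [← hsa, Polynomial.eval₂_at_apply] at h1
  have h2 : Polynomial.eval a (Polynomial.scaleRoots f s) = 0 :=
    (map_eq_zero_iff _ (IsFractionRing.injective A K)).mp h1
  have h3 : Polynomial.eval (Ideal.Quotient.mk p a)
      ((f.map (Ideal.Quotient.mk p)).scaleRoots (Ideal.Quotient.mk p s)) = 0 := by
    rw [← Polynomial.map_scaleRoots f s (Ideal.Quotient.mk p)
      (by rw [hmonic.leadingCoeff, map_one]; exact one_ne_zero), Polynomial.eval_map,
      Polynomial.eval₂_at_apply, h2, map_zero]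
  have hs' : Ideal.Quotient.mk p s ≠ 0 := fun h => hs (Ideal.Quotient.eq_zero_iff_mem.mp h)
  obtain ⟨c', hc'⟩ := exists_mul_eq_of_scaleRoots (hmonic.map (Ideal.Quotient.mk p)) hs' h3
  obtain ⟨c, rfl⟩ := Ideal.Quotient.mk_surjective c'
  refine ⟨c, ?_⟩
  rw [← Ideal.Quotient.eq_zero_iff_mem, map_sub, map_mul, sub_eq_zero]
  exact hc'

variable [IsNoetherianRing A]

lemma height_eq_one {t : A} (ht0 : t ≠ 0) {p : Ideal A} [hpp : p.IsPrime]
    (hp : p ∈ (Ideal.span {t}).minimalPrimes) : p.height = 1 := by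
  apply le_antisymm
  · haveI : (Ideal.span {t}).IsPrincipal := ⟨⟨t, rfl⟩⟩
    exact Ideal.height_le_one_of_isPrincipal_of_mem_minimalPrimes _ p hp
  · have hbot : (⊥ : Ideal A) < p := bot_lt_iff_ne_bot.mpr (fun h => ht0 (by
      have hmem : t ∈ p := hp.1.2 (Ideal.mem_span_singleton_self t)
      rw [h] at hmem
      exact (Submodule.mem_bot A).mp hmem))
    have h1 := Ideal.height_add_one_le_of_lt_of_isPrime hbot
    exact le_trans le_add_self h1

lemma not_mem_of_height_one {t : A} (ht0 : t ≠ 0) {p : Ideal A} [p.IsPrime]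
    (hp : (Ideal.span {t}).minimalPrimes = {p})
    (P : Ideal A) [P.IsPrime] (hP : P.height = 1) (hne : P ≠ p) : t ∉ P := by
  intro htP
  obtain ⟨P₀, hP₀, hle⟩ := Ideal.exists_minimalPrimes_le (I := Ideal.span {t}) (J := P)
    ((Ideal.span_singleton_le_iff_mem _).mpr htP)
  have hP₀' := hP₀
  rw [hp, Set.mem_singleton_iff] at hP₀'
  have hpP : p ≤ P := hP₀' ▸ hle
  have hlt : p < P := lt_of_le_of_ne hpP (Ne.symm hne)
  have h1 : p.height = 1 := height_eq_one ht0 (by rw [hp]; exact Set.mem_singleton p)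
  have h2 := Ideal.height_add_one_le_of_lt_of_isPrime hlt
  rw [h1, hP] at h2
  have h3 : (1 + 1 : ℕ) ≤ 1 := by exact_mod_cast h2
  omega

lemma div_mem_hull {t : A} (ht0 : t ≠ 0) {p : Ideal A} [p.IsPrime]
    (hp : (Ideal.span {t}).minimalPrimes = {p}) {z : K} (hz : z ∈ hullK A K)
    (hzp : ∃ s, s ∉ p ∧ ∃ b, algebraMap A K s * z = algebraMap A K t * algebraMap A K b) :
    z / algebraMap A K t ∈ hullK A K := by
  have hι : algebraMap A K t ≠ 0 := fun h =>
    ht0 ((map_eq_zero_iff _ (IsFractionRing.injective A K)).mp h)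
  rw [mem_hullK_iff]
  intro P _ hP
  by_cases hPp : P = p
  · obtain ⟨s, hs, b, hb⟩ := hzp
    refine ⟨s, by rw [hPp]; exact hs, b, ?_⟩
    rw [show algebraMap A K s * (z / algebraMap A K t) =
      (algebraMap A K s * z) / algebraMap A K t by ring, hb]
    field_simp
  · have htP := not_mem_of_height_one ht0 hp P hP hPp
    obtain ⟨s', hs', a', ha'⟩ := (mem_hullK_iff.mp hz) P hP
    refine ⟨s' * t, fun h => (Ideal.IsPrime.mem_or_mem ‹P.IsPrime› h).elim hs' htP, a', ?_⟩
    rw [ha', map_mul]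
    field_simp

variable [IsLocalRing A]

/-- Part II: `A^(1) = A` and `p = tA`. -/
theorem hull_eq_range_and_eq_span {t : A} (ht : t ∈ IsLocalRing.maximalIdeal A) (ht0 : t ≠ 0)
    {p : Ideal A} [p.IsPrime] (hp : (Ideal.span {t}).minimalPrimes = {p})
    (hgen : IsLocalRing.maximalIdeal (Localization.AtPrime p) =
      Ideal.span {algebraMap A (Localization.AtPrime p) t})
    [IsIntegrallyClosed (A ⧸ p)]
    (B : Subalgebra A K) (hB : (B : Set K) = hullK A K) [Module.Finite A B] :
    (∀ x ∈ B, ∃ a : A, algebraMap A K a = x) ∧ p = Ideal.span {t} := by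
  have hpmin : p ∈ (Ideal.span {t}).minimalPrimes := by rw [hp]; exact Set.mem_singleton p
  have hp1 : p.height = 1 := height_eq_one ht0 hpmin
  have hmemB : ∀ x : K, x ∈ B ↔ x ∈ hullK A K := fun x => by rw [← hB]; rfl
  have hι : algebraMap A K t ≠ 0 := fun h =>
    ht0 ((map_eq_zero_iff _ (IsFractionRing.injective A K)).mp h)
  have C2 : ∀ x ∈ B, ∃ c : A, ∃ w ∈ B, x = algebraMap A K c + algebraMap A K t * w := by
    intro x hx
    obtain ⟨s, hs, a, ha⟩ := (mem_hullK_iff.mp ((hmemB x).mp hx)) p hp1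
    have hint : IsIntegral A x := by
      have h1 : IsIntegral A (⟨x, hx⟩ : B) := IsIntegral.of_finite A _
      exact h1.map B.val
    obtain ⟨c, hc⟩ := exists_residue hint hs ha
    obtain ⟨s', hs', b, hb⟩ := exists_mul_eq hgen hc
    have hzB : x - algebraMap A K c ∈ B := B.sub_mem hx (B.algebraMap_mem c)
    have heq : algebraMap A K (s' * s) * (x - algebraMap A K c) =
        algebraMap A K t * algebraMap A K b := by
      rw [← map_mul (algebraMap A K) t b, ← hb]
      simp only [map_mul, map_sub]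
      rw [ha]
      ring
    have hdiv := div_mem_hull ht0 hp ((hmemB _).mp hzB)
      ⟨s' * s, fun h => (Ideal.IsPrime.mem_or_mem ‹p.IsPrime› h).elim hs' hs, b, heq⟩
    refine ⟨c, (x - algebraMap A K c) / algebraMap A K t, (hmemB _).mpr hdiv, ?_⟩
    field_simp
    ring
  have hNak : (⊤ : Submodule A B) ≤ Submodule.span A {(1 : B)} := by
    apply Submodule.le_of_le_smul_of_le_jacobson_bot (I := Ideal.span {t}) Module.Finite.fg_top
    · rw [IsLocalRing.jacobson_eq_maximalIdeal ⊥ bot_ne_top]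
      exact (Ideal.span_singleton_le_iff_mem _).mpr ht
    · intro y _
      obtain ⟨c, w, hw, hxy⟩ := C2 y.1 y.2
      have hy : y = c • (1 : B) + t • (⟨w, hw⟩ : B) := by
        apply Subtype.ext
        rw [hxy]
        simp [Algebra.smul_def]
      rw [hy]
      exact Submodule.add_mem_sup (Submodule.smul_mem _ c (Submodule.subset_span rfl))
        (Submodule.smul_mem_smul (Ideal.mem_span_singleton_self t) Submodule.mem_top)
  have hrange : ∀ x ∈ B, ∃ a : A, algebraMap A K a = x := by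
    intro x hx
    have h1 : (⟨x, hx⟩ : B) ∈ Submodule.span A {(1 : B)} := hNak Submodule.mem_top
    obtain ⟨a, ha⟩ := Submodule.mem_span_singleton.mp h1
    refine ⟨a, ?_⟩
    have h2 := congrArg Subtype.val ha
    simpa [Algebra.smul_def] using h2
  refine ⟨hrange, ?_⟩
  apply le_antisymm
  · intro y hy
    obtain ⟨s, hs, b, hb⟩ := exists_mul_eq hgen hy
    have hyB : algebraMap A K y ∈ B := B.algebraMap_mem y
    have hdiv := div_mem_hull ht0 hp ((hmemB _).mp hyB)
      ⟨s, hs, b, by rw [← map_mul, hb, map_mul]⟩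
    obtain ⟨a, ha⟩ := hrange _ ((hmemB _).mpr hdiv)
    rw [Ideal.mem_span_singleton']
    refine ⟨a, ?_⟩
    apply IsFractionRing.injective A K
    rw [map_mul, ha]
    field_simp
  · rw [Ideal.span_singleton_le_iff_mem]
    exact hpmin.1.2 (Ideal.mem_span_singleton_self t)

end Domain


section PartIII

variable {A : Type u} [CommRing A] [IsDomain A] [IsNoetherianRing A] [IsLocalRing A]

lemma covBy_step (hcat : CAlg.IsCatenary A) {t : A} (ht0 : t ≠ 0) {p : Ideal A} [hpp : p.IsPrime]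
    (hpmin : p ∈ (Ideal.span {t}).minimalPrimes) (P : Ideal A) [hPP : P.IsPrime]
    (hP : P.height = 1) (htP : t ∉ P) {P' : Ideal A} [hP'p : P'.IsPrime]
    (hP' : P' ∈ (P ⊔ Ideal.span {t}).minimalPrimes) :
    ∀ Q : Ideal A, Q.IsPrime → p ≤ Q → Q ≤ P' → Q = p ∨ Q = P' := by
  have hbot : (⊥ : Ideal A).IsPrime := Ideal.isPrime_bot
  have c1 : (⟨⊥, hbot⟩ : PrimeSpectrum A) ⋖ ⟨p, hpp⟩ := by
    have hmem : p ∈ ((⊥ : Ideal A) ⊔ Ideal.span {t}).minimalPrimes := by
      rw [bot_sup_eq]; exact hpmin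
    haveI := hbot
    exact covBy_of_mem_minimalPrimes (q := ⊥) (fun h => ht0 ((Submodule.mem_bot A).mp h)) hmem
  have c2 : (⟨⊥, hbot⟩ : PrimeSpectrum A) ⋖ ⟨P, hPP⟩ := by
    refine ⟨?_, ?_⟩
    · rw [mk_lt_mk]
      exact bot_lt_iff_ne_bot.mpr (fun h => by
        rw [h, Ideal.height_bot] at hP
        exact absurd hP (by simp))
    · intro z hz1 hz2
      haveI := z.isPrime
      haveI := hbot
      have h1 := Ideal.height_add_one_le_of_lt_of_isPrime
        (show (⊥ : Ideal A) < z.asIdeal from hz1)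
      have h2 := Ideal.height_add_one_le_of_lt_of_isPrime (show z.asIdeal < P from hz2)
      rw [hP] at h2
      have h3 : (1 : ℕ∞) + 1 ≤ 1 := le_trans (add_le_add (le_trans le_add_self h1) le_rfl) h2
      have h4 : (1 + 1 : ℕ) ≤ 1 := by exact_mod_cast h3
      omega
  have c3 : (⟨P, hPP⟩ : PrimeSpectrum A) ⋖ ⟨P', hP'p⟩ := covBy_of_mem_minimalPrimes htP hP'
  have e1 := ch_covBy hcat c1
  have e2 := ch_covBy hcat c2
  have e3 := ch_covBy hcat c3
  intro Q hQ hpQ hQP'
  by_contra hcon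
  rw [not_or] at hcon
  have l1 : (⟨p, hpp⟩ : PrimeSpectrum A) < ⟨Q, hQ⟩ :=
    (mk_lt_mk hpp hQ).mpr (lt_of_le_of_ne hpQ (Ne.symm hcon.1))
  have l2 : (⟨Q, hQ⟩ : PrimeSpectrum A) < ⟨P', hP'p⟩ :=
    (mk_lt_mk hQ hP'p).mpr (lt_of_le_of_ne hQP' hcon.2)
  have e4 := ch_lt l1
  have e5 := ch_lt l2
  omega

lemma isPrincipalIdealRing_localization (p P' : Ideal A) [p.IsPrime] [hP' : P'.IsPrime]
    [IsIntegrallyClosed (A ⧸ p)] (hpP' : p ≤ P')
    (hcov : ∀ Q : Ideal A, Q.IsPrime → p ≤ Q → Q ≤ P' → Q = p ∨ Q = P')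
    [h𝔫 : (P'.map (Ideal.Quotient.mk p)).IsPrime] :
    IsPrincipalIdealRing (Localization.AtPrime (P'.map (Ideal.Quotient.mk p))) := by
  haveI : IsDomain (Localization.AtPrime (P'.map (Ideal.Quotient.mk p))) :=
    IsLocalization.isDomain_localization
      (Ideal.primeCompl_le_nonZeroDivisors (P'.map (Ideal.Quotient.mk p)))
  haveI : IsIntegrallyClosed (Localization.AtPrime (P'.map (Ideal.Quotient.mk p))) :=
    isIntegrallyClosed_of_isLocalization (Localization.AtPrime (P'.map (Ideal.Quotient.mk p)))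
      (P'.map (Ideal.Quotient.mk p)).primeCompl
      (Ideal.primeCompl_le_nonZeroDivisors (P'.map (Ideal.Quotient.mk p)))
  have h30 := (tfae_of_isNoetherianRing_of_isLocalRing_of_isDomain
    (R := Localization.AtPrime (P'.map (Ideal.Quotient.mk p)))).out 3 0
  refine h30.mp ⟨inferInstance, ?_⟩
  intro Q' hQ'0 hQ'
  have hcm : Ideal.map (algebraMap (A ⧸ p) (Localization.AtPrime (P'.map (Ideal.Quotient.mk p))))
      (Ideal.comap (algebraMap (A ⧸ p) (Localization.AtPrime (P'.map (Ideal.Quotient.mk p)))) Q')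
        = Q' :=
    IsLocalization.map_under (P'.map (Ideal.Quotient.mk p)).primeCompl _ Q'
  obtain ⟨Q₁, hQ₁⟩ : ∃ Q₁ : Ideal (A ⧸ p), Q₁ = Ideal.comap
    (algebraMap (A ⧸ p) (Localization.AtPrime (P'.map (Ideal.Quotient.mk p)))) Q' := ⟨_, rfl⟩
  have hQ₁p : Q₁.IsPrime := by rw [hQ₁]; exact Ideal.comap_isPrime _ _
  have hQ₁le : Q₁ ≤ P'.map (Ideal.Quotient.mk p) := by
    have h1 : Q' ≤ IsLocalRing.maximalIdeal
        (Localization.AtPrime (P'.map (Ideal.Quotient.mk p))) :=
      IsLocalRing.le_maximalIdeal hQ'.ne_top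
    have h2 := Ideal.comap_mono
      (f := algebraMap (A ⧸ p) (Localization.AtPrime (P'.map (Ideal.Quotient.mk p)))) h1
    have h3 : Ideal.comap
        (algebraMap (A ⧸ p) (Localization.AtPrime (P'.map (Ideal.Quotient.mk p))))
        (IsLocalRing.maximalIdeal (Localization.AtPrime (P'.map (Ideal.Quotient.mk p)))) =
        P'.map (Ideal.Quotient.mk p) := Localization.AtPrime.under_maximalIdeal
    rw [h3, ← hQ₁] at h2
    exact h2
  have hQ₁0 : Q₁ ≠ ⊥ := by
    intro h
    apply hQ'0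
    rw [← hcm, ← hQ₁, h, Ideal.map_bot]
  obtain ⟨Q₀, hQ₀⟩ : ∃ Q₀ : Ideal A, Q₀ = Ideal.comap (Ideal.Quotient.mk p) Q₁ := ⟨_, rfl⟩
  have hQ₀p : Q₀.IsPrime := by
    haveI := hQ₁p
    rw [hQ₀]; exact Ideal.comap_isPrime _ _
  have hpQ₀ : p ≤ Q₀ := by
    intro a ha
    rw [hQ₀, Ideal.mem_comap, Ideal.Quotient.eq_zero_iff_mem.mpr ha]
    exact Q₁.zero_mem
  have hmc : Ideal.map (Ideal.Quotient.mk p) Q₀ = Q₁ := by
    rw [hQ₀]; exact Ideal.map_comap_of_surjective _ Ideal.Quotient.mk_surjective Q₁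
  have hQ₀P' : Q₀ ≤ P' := by
    have h1 : Ideal.comap (Ideal.Quotient.mk p) (P'.map (Ideal.Quotient.mk p)) = P' := by
      rw [Ideal.comap_map_of_surjective _ Ideal.Quotient.mk_surjective,
        ← RingHom.ker_eq_comap_bot, Ideal.mk_ker, sup_eq_left.mpr hpP']
    rw [← h1, hQ₀]
    exact Ideal.comap_mono hQ₁le
  rcases hcov Q₀ hQ₀p hpQ₀ hQ₀P' with h | h
  · exfalso
    apply hQ₁0
    rw [← hmc, h, Ideal.map_quotient_self]
  · calc Q' = Ideal.map (algebraMap (A ⧸ p) _) (Ideal.comap (algebraMap (A ⧸ p)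
          (Localization.AtPrime (P'.map (Ideal.Quotient.mk p)))) Q') := hcm.symm
      _ = Ideal.map (algebraMap (A ⧸ p) _) Q₁ := by rw [hQ₁]
      _ = Ideal.map (algebraMap (A ⧸ p) _) (Ideal.map (Ideal.Quotient.mk p) Q₀) := by rw [hmc]
      _ = Ideal.map (algebraMap (A ⧸ p) _) (Ideal.map (Ideal.Quotient.mk p) P') := by rw [h]
      _ = IsLocalRing.maximalIdeal _ := Localization.AtPrime.map_eq_maximalIdeal

lemma exists_generator_mod (p P P' : Ideal A) [p.IsPrime] [P.IsPrime] [P'.IsPrime]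
    [h𝔫 : (P'.map (Ideal.Quotient.mk p)).IsPrime]
    [IsPrincipalIdealRing (Localization.AtPrime (P'.map (Ideal.Quotient.mk p)))] :
    ∃ f ∈ P, ∀ y ∈ P, ∃ s₁, s₁ ∉ P' ∧ ∃ d : A, s₁ * y - f * d ∈ p := by
  haveI := IsPrincipalIdealRing.principal ((P.map (Ideal.Quotient.mk p)).map
    (algebraMap (A ⧸ p) (Localization.AtPrime (P'.map (Ideal.Quotient.mk p)))))
  obtain ⟨g, hg⟩ := Submodule.IsPrincipal.principal ((P.map (Ideal.Quotient.mk p)).map
    (algebraMap (A ⧸ p) (Localization.AtPrime (P'.map (Ideal.Quotient.mk p)))))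
  have hgJ : g ∈ (P.map (Ideal.Quotient.mk p)).map
      (algebraMap (A ⧸ p) (Localization.AtPrime (P'.map (Ideal.Quotient.mk p)))) := by
    rw [hg]; exact Submodule.mem_span_singleton_self g
  obtain ⟨⟨⟨fbar, hfbar⟩, sbar⟩, hfs⟩ := (IsLocalization.mem_map_algebraMap_iff
    (P'.map (Ideal.Quotient.mk p)).primeCompl
    (Localization.AtPrime (P'.map (Ideal.Quotient.mk p)))).mp hgJ
  dsimp only at hfs
  obtain ⟨f, hfP, rfl⟩ := (Ideal.mem_map_iff_of_surjective _ Ideal.Quotient.mk_surjective).mp hfbar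
  refine ⟨f, hfP, ?_⟩
  intro y hy
  have hyJ : algebraMap (A ⧸ p) (Localization.AtPrime (P'.map (Ideal.Quotient.mk p)))
      (Ideal.Quotient.mk p y) ∈ (P.map (Ideal.Quotient.mk p)).map
      (algebraMap (A ⧸ p) (Localization.AtPrime (P'.map (Ideal.Quotient.mk p)))) :=
    Ideal.mem_map_of_mem _ (Ideal.mem_map_of_mem _ hy)
  rw [hg] at hyJ
  obtain ⟨c, hc⟩ := Ideal.mem_span_singleton'.mp hyJ
  obtain ⟨⟨dbar, s2bar⟩, hds⟩ := IsLocalization.surj (P'.map (Ideal.Quotient.mk p)).primeCompl c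
  dsimp only at hds
  obtain ⟨d, rfl⟩ := Ideal.Quotient.mk_surjective dbar
  obtain ⟨s2, hs2⟩ := Ideal.Quotient.mk_surjective (s2bar : A ⧸ p)
  obtain ⟨s, hs⟩ := Ideal.Quotient.mk_surjective (sbar : A ⧸ p)
  refine ⟨s2 * s, ?_, d, ?_⟩
  · intro hmem
    have hmem' : Ideal.Quotient.mk p (s2 * s) ∈ P'.map (Ideal.Quotient.mk p) :=
      Ideal.mem_map_of_mem _ hmem
    rw [map_mul, hs2, hs] at hmem'
    rcases Ideal.IsPrime.mem_or_mem h𝔫 hmem' with h | h
    · exact s2bar.2 h
    · exact sbar.2 h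
  · rw [← Ideal.Quotient.eq_zero_iff_mem, map_sub, map_mul, map_mul, map_mul, sub_eq_zero, hs2, hs]
    apply IsLocalization.injective (Localization.AtPrime (P'.map (Ideal.Quotient.mk p)))
      (Ideal.primeCompl_le_nonZeroDivisors (P'.map (Ideal.Quotient.mk p)))
    simp only [map_mul]
    rw [← hc, ← hfs, ← hds]
    ring

lemma map_le_span (P P' : Ideal A) [P.IsPrime] [hP' : P'.IsPrime] {t f : A}
    (htP : t ∉ P) (htP' : t ∈ P') (hfP : f ∈ P)
    (hstar : ∀ y ∈ P, ∃ s₁, s₁ ∉ P' ∧ ∃ d a : A, s₁ * y = f * d + t * a) :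
    P.map (algebraMap A (Localization.AtPrime P')) ≤
      Ideal.span {algebraMap A (Localization.AtPrime P') f} := by
  apply Submodule.le_of_le_smul_of_le_jacobson_bot
    (I := Ideal.span {algebraMap A (Localization.AtPrime P') t}) (IsNoetherian.noetherian _)
  · rw [IsLocalRing.jacobson_eq_maximalIdeal ⊥ bot_ne_top, Ideal.span_singleton_le_iff_mem]
    exact (IsLocalization.AtPrime.to_map_mem_maximal_iff _ P' t).mpr htP'
  · intro z hz
    obtain ⟨⟨⟨y, hy⟩, s⟩, hzs⟩ := (IsLocalization.mem_map_algebraMap_iff P'.primeCompl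
      (Localization.AtPrime P')).mp hz
    dsimp only at hzs
    obtain ⟨s₁, hs₁, d, a, hsda⟩ := hstar y hy
    have haP : a ∈ P := by
      have hta : t * a ∈ P := by
        have h1 : t * a = s₁ * y - f * d := by rw [hsda]; ring
        rw [h1]
        exact P.sub_mem (P.mul_mem_left _ hy) (P.mul_mem_right _ hfP)
      exact (Ideal.IsPrime.mem_or_mem ‹P.IsPrime› hta).resolve_left htP
    have hunit : IsUnit (algebraMap A (Localization.AtPrime P') ((s : A) * s₁)) :=
      IsLocalization.map_units (Localization.AtPrime P')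
        (⟨(s : A) * s₁, P'.primeCompl.mul_mem s.2 hs₁⟩ : P'.primeCompl)
    obtain ⟨v, hv⟩ := hunit.exists_right_inv
    have h1 : z * algebraMap A (Localization.AtPrime P') ((s : A) * s₁) =
        algebraMap A _ f * algebraMap A _ d + algebraMap A _ t * algebraMap A _ a := by
      rw [← map_mul, ← map_mul, ← map_add, ← hsda, map_mul, map_mul, ← hzs]
      ring
    have hz' : z = algebraMap A (Localization.AtPrime P') f * (algebraMap A _ d * v) +
        algebraMap A (Localization.AtPrime P') t * (algebraMap A _ a * v) := by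
      calc z = z * (algebraMap A (Localization.AtPrime P') ((s : A) * s₁) * v) := by
            rw [hv, mul_one]
        _ = (z * algebraMap A (Localization.AtPrime P') ((s : A) * s₁)) * v := by ring
        _ = _ := by rw [h1]; ring
    rw [hz']
    refine Submodule.add_mem_sup ?_ ?_
    · exact Ideal.mul_mem_right _ _ (Ideal.mem_span_singleton_self _)
    · exact Submodule.smul_mem_smul (Ideal.mem_span_singleton_self _)
        (Ideal.mul_mem_right _ _ (Ideal.mem_map_of_mem _ haP))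

lemma map_eq_span_of (P P' : Ideal A) [P.IsPrime] [P'.IsPrime] (hPP' : P ≤ P') {f : A}
    (hfP : f ∈ P)
    (hle : P.map (algebraMap A (Localization.AtPrime P')) ≤
      Ideal.span {algebraMap A (Localization.AtPrime P') f}) :
    P.map (algebraMap A (Localization.AtPrime P)) =
      Ideal.span {algebraMap A (Localization.AtPrime P) f} := by
  apply le_antisymm
  · rw [Ideal.map_le_iff_le_comap]
    intro y hy
    rw [Ideal.mem_comap, Ideal.mem_span_singleton']
    have h1 : algebraMap A (Localization.AtPrime P') y ∈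
        Ideal.span {algebraMap A (Localization.AtPrime P') f} := hle (Ideal.mem_map_of_mem _ hy)
    rw [Ideal.mem_span_singleton'] at h1
    obtain ⟨c, hc⟩ := h1
    obtain ⟨⟨r, s⟩, hrs⟩ := IsLocalization.surj P'.primeCompl c
    dsimp only at hrs
    have h2 : (s : A) * y = r * f := by
      apply IsLocalization.injective (Localization.AtPrime P')
        (Ideal.primeCompl_le_nonZeroDivisors P')
      rw [map_mul, map_mul, ← hc, ← hrs]
      ring
    have hsP : (s : A) ∉ P := fun h => s.2 (hPP' h)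
    have hunit : IsUnit (algebraMap A (Localization.AtPrime P) (s : A)) :=
      IsLocalization.map_units (Localization.AtPrime P) (⟨(s : A), hsP⟩ : P.primeCompl)
    obtain ⟨v, hv⟩ := hunit.exists_right_inv
    refine ⟨algebraMap A _ r * v, ?_⟩
    calc algebraMap A (Localization.AtPrime P) r * v * algebraMap A _ f
        = algebraMap A (Localization.AtPrime P) (r * f) * v := by rw [map_mul]; ring
      _ = algebraMap A (Localization.AtPrime P) ((s : A) * y) * v := by rw [h2]
      _ = algebraMap A (Localization.AtPrime P) y *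
          (algebraMap A (Localization.AtPrime P) (s : A) * v) := by rw [map_mul]; ring
      _ = algebraMap A (Localization.AtPrime P) y := by rw [hv, mul_one]
  · rw [Ideal.span_singleton_le_iff_mem]
    exact Ideal.mem_map_of_mem _ hfP

/-- regularity in codimension one. -/
theorem maximalIdeal_isPrincipal (hcat : CAlg.IsCatenary A) {t : A}
    (ht : t ∈ IsLocalRing.maximalIdeal A) (ht0 : t ≠ 0)
    {p : Ideal A} [hpp : p.IsPrime] (hp : (Ideal.span {t}).minimalPrimes = {p})
    (hgen : IsLocalRing.maximalIdeal (Localization.AtPrime p) =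
      Ideal.span {algebraMap A (Localization.AtPrime p) t})
    (hpt : p = Ideal.span {t}) [IsIntegrallyClosed (A ⧸ p)]
    (P : Ideal A) [hPP : P.IsPrime] (hP : P.height = 1) :
    (IsLocalRing.maximalIdeal (Localization.AtPrime P)).IsPrincipal := by
  have hpmin : p ∈ (Ideal.span {t}).minimalPrimes := by rw [hp]; exact Set.mem_singleton p
  by_cases hPp : P = p
  · subst hPp
    exact ⟨⟨_, hgen⟩⟩
  · have htP : t ∉ P := not_mem_of_height_one ht0 hp P hP hPp
    have hne : P ⊔ Ideal.span {t} ≠ ⊤ := by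
      intro h
      have h1 : P ⊔ Ideal.span {t} ≤ IsLocalRing.maximalIdeal A :=
        sup_le (IsLocalRing.le_maximalIdeal hPP.ne_top)
          ((Ideal.span_singleton_le_iff_mem _).mpr ht)
      rw [h] at h1
      exact (IsLocalRing.maximalIdeal.isMaximal A).ne_top (top_le_iff.mp h1)
    obtain ⟨⟨P', hP'⟩⟩ := Ideal.nonempty_minimalPrimes hne
    haveI hP'p : P'.IsPrime := hP'.1.1
    have hPP' : P ≤ P' := le_sup_left.trans hP'.1.2
    have htP' : t ∈ P' := hP'.1.2 (Ideal.mem_sup_right (Ideal.mem_span_singleton_self t))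
    have hpP' : p ≤ P' := by
      rw [hpt]; exact (Ideal.span_singleton_le_iff_mem _).mpr htP'
    have hcov := covBy_step hcat ht0 hpmin P hP htP hP'
    haveI h𝔫 : (P'.map (Ideal.Quotient.mk p)).IsPrime :=
      Ideal.map_isPrime_of_surjective Ideal.Quotient.mk_surjective
        (by rw [Ideal.mk_ker]; exact hpP')
    haveI := isPrincipalIdealRing_localization p P' hpP' hcov
    obtain ⟨f, hfP, hstar⟩ := exists_generator_mod p P P'
    have hstar' : ∀ y ∈ P, ∃ s₁, s₁ ∉ P' ∧ ∃ d a : A, s₁ * y = f * d + t * a := by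
      intro y hy
      obtain ⟨s₁, hs₁, d, hd⟩ := hstar y hy
      have hd' : s₁ * y - f * d ∈ Ideal.span {t} := hpt ▸ hd
      rw [Ideal.mem_span_singleton'] at hd'
      obtain ⟨a, ha⟩ := hd'
      exact ⟨s₁, hs₁, d, a, by rw [mul_comm t a, ha]; ring⟩
    have hle := map_le_span P P' htP htP' hfP hstar'
    have heq := map_eq_span_of P P' hPP' hfP hle
    rw [← Localization.AtPrime.map_eq_maximalIdeal, heq]
    exact ⟨⟨_, rfl⟩⟩

variable {K : Type u} [Field K] [Algebra A K] [IsFractionRing A K]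

lemma exists_denominator (P : Ideal A) [P.IsPrime]
    (hprin : (IsLocalRing.maximalIdeal (Localization.AtPrime P)).IsPrincipal)
    {x : K} (hx : IsIntegral A x) :
    ∃ s : A, s ∉ P ∧ ∃ a : A, algebraMap A K a = algebraMap A K s * x := by
  haveI : IsDomain (Localization.AtPrime P) :=
    IsLocalization.isDomain_localization (Ideal.primeCompl_le_nonZeroDivisors P)
  have h43 := (tfae_of_isNoetherianRing_of_isLocalRing_of_isDomain
      (R := Localization.AtPrime P)).out 4 3
  haveI : IsIntegrallyClosed (Localization.AtPrime P) := (h43.mp hprin).1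
  have hunits : ∀ s : P.primeCompl, IsUnit (algebraMap A K s) := fun s =>
    IsUnit.mk0 _ (fun h => by
      have h0 : (s : A) = 0 := (map_eq_zero_iff _ (IsFractionRing.injective A K)).mp h
      exact s.2 (h0 ▸ P.zero_mem))
  letI : Algebra (Localization.AtPrime P) K :=
    (IsLocalization.lift (M := P.primeCompl) (g := algebraMap A K) hunits).toAlgebra
  haveI : IsScalarTower A (Localization.AtPrime P) K :=
    IsScalarTower.of_algebraMap_eq (fun a => (IsLocalization.lift_eq hunits a).symm)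
  haveI : IsFractionRing (Localization.AtPrime P) K :=
    IsFractionRing.isFractionRing_of_isDomain_of_isLocalization P.primeCompl
      (Localization.AtPrime P) K
  have hx' : IsIntegral (Localization.AtPrime P) x := hx.tower_top
  obtain ⟨y, hy⟩ := IsIntegrallyClosed.algebraMap_eq_of_integral hx'
  obtain ⟨⟨a, s⟩, has⟩ := IsLocalization.surj P.primeCompl y
  dsimp only at has
  refine ⟨s, s.2, a, ?_⟩
  rw [← hy, IsScalarTower.algebraMap_apply A (Localization.AtPrime P) K a, ← has, map_mul,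
    ← IsScalarTower.algebraMap_apply, mul_comm]

/-- Part III: `A` is integrally closed. -/
theorem isIntegrallyClosed_of (hcat : CAlg.IsCatenary A) {t : A}
    (ht : t ∈ IsLocalRing.maximalIdeal A) (ht0 : t ≠ 0)
    {p : Ideal A} [p.IsPrime] (hp : (Ideal.span {t}).minimalPrimes = {p})
    (hgen : IsLocalRing.maximalIdeal (Localization.AtPrime p) =
      Ideal.span {algebraMap A (Localization.AtPrime p) t})
    [IsIntegrallyClosed (A ⧸ p)]
    (B : Subalgebra A K) (hB : (B : Set K) = hullK A K) [Module.Finite A B] :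
    IsIntegrallyClosed A ∧ p = Ideal.span {t} := by
  obtain ⟨hrange, hpt⟩ := hull_eq_range_and_eq_span ht ht0 hp hgen B hB
  refine ⟨?_, hpt⟩
  rw [isIntegrallyClosed_iff K]
  intro x hx
  apply hrange
  have hmem : x ∈ hullK A K := by
    rw [mem_hullK_iff]
    intro P _ hP
    exact exists_denominator P (maximalIdeal_isPrincipal hcat ht ht0 hp hgen hpt P hP) hx
  rw [← hB] at hmem
  exact hmem

end PartIII


section Final

variable (A : Type u) [CommRing A] [IsDomain A]

lemma algebraMap_bot_apply (a : A) :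
    algebraMap A (FractionRing (A ⧸ (⊥ : Ideal A))) a =
      algebraMap (A ⧸ (⊥ : Ideal A)) (FractionRing (A ⧸ (⊥ : Ideal A)))
        (Ideal.Quotient.mk ⊥ a) :=
  IsScalarTower.algebraMap_apply A (A ⧸ (⊥ : Ideal A)) (FractionRing (A ⧸ (⊥ : Ideal A))) a

omit [IsDomain A] in
lemma mk_bot_injective : Function.Injective (Ideal.Quotient.mk (⊥ : Ideal A)) :=
  (RingHom.injective_iff_ker_eq_bot _).mpr Ideal.mk_ker

lemma isFractionRing_bot : IsFractionRing A (FractionRing (A ⧸ (⊥ : Ideal A))) := by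
  have hinj : Function.Injective (algebraMap A (FractionRing (A ⧸ (⊥ : Ideal A)))) := by
    intro a b hab
    rw [algebraMap_bot_apply, algebraMap_bot_apply] at hab
    exact mk_bot_injective A (IsFractionRing.injective _ _ hab)
  haveI : FaithfulSMul A (FractionRing (A ⧸ (⊥ : Ideal A))) :=
    (faithfulSMul_iff_algebraMap_injective A _).mpr hinj
  refine IsFractionRing.of_field A (FractionRing (A ⧸ (⊥ : Ideal A))) (fun z => ?_)
  obtain ⟨x, y, _, hxy⟩ := IsFractionRing.div_surjective (A ⧸ (⊥ : Ideal A)) z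
  obtain ⟨x', rfl⟩ := Ideal.Quotient.mk_surjective x
  obtain ⟨y', rfl⟩ := Ideal.Quotient.mk_surjective y
  exact ⟨x', y', by rw [algebraMap_bot_apply, algebraMap_bot_apply]; exact hxy.symm⟩

lemma hullfin_transfer (h : EGA4.HeightOneHullFinite (A ⧸ (⊥ : Ideal A))) :
    ∃ B : Subalgebra A (FractionRing (A ⧸ (⊥ : Ideal A))),
      (B : Set (FractionRing (A ⧸ (⊥ : Ideal A)))) =
        hullK A (FractionRing (A ⧸ (⊥ : Ideal A))) ∧ Module.Finite A B := by
  obtain ⟨B, hB, hBfin⟩ := h
  have hsurj : Function.Surjective (Ideal.Quotient.mk (⊥ : Ideal A)) :=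
    Ideal.Quotient.mk_surjective
  have hinj := mk_bot_injective A
  have hcomap_ht : ∀ I : Ideal (A ⧸ (⊥ : Ideal A)),
      (I.comap (Ideal.Quotient.mk (⊥ : Ideal A))).height = I.height := fun I => by
    have h1 : I.comap (RingEquiv.ofBijective (Ideal.Quotient.mk (⊥ : Ideal A)) ⟨hinj, hsurj⟩) =
        I.comap (Ideal.Quotient.mk (⊥ : Ideal A)) := Ideal.ext fun x => Iff.rfl
    rw [← h1]
    exact RingEquiv.height_comap _ I
  refine ⟨B.restrictScalars A, ?_, ?_⟩
  · rw [Subalgebra.coe_restrictScalars, hB]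
    ext x
    rw [mem_hullK_iff]
    constructor
    · intro hx P _ hP
      have hx' : ∀ (P : Ideal (A ⧸ (⊥ : Ideal A))) [P.IsPrime], P.height = 1 →
          ∃ s : A ⧸ (⊥ : Ideal A), s ∉ P ∧ ∃ a : A ⧸ (⊥ : Ideal A),
            algebraMap (A ⧸ (⊥ : Ideal A)) (FractionRing (A ⧸ (⊥ : Ideal A))) a =
              algebraMap (A ⧸ (⊥ : Ideal A)) (FractionRing (A ⧸ (⊥ : Ideal A))) s * x := hx
      have hker : RingHom.ker (Ideal.Quotient.mk (⊥ : Ideal A)) ≤ P := by
        rw [Ideal.mk_ker]; exact bot_le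
      haveI : (P.map (Ideal.Quotient.mk (⊥ : Ideal A))).IsPrime :=
        Ideal.map_isPrime_of_surjective hsurj hker
      have hcomap : (P.map (Ideal.Quotient.mk (⊥ : Ideal A))).comap (Ideal.Quotient.mk ⊥) = P := by
        rw [Ideal.comap_map_of_surjective _ hsurj, ← RingHom.ker_eq_comap_bot, Ideal.mk_ker,
          sup_bot_eq]
      have hht : (P.map (Ideal.Quotient.mk (⊥ : Ideal A))).height = 1 := by
        rw [← hcomap_ht, hcomap]; exact hP
      obtain ⟨sbar, hsbar, abar, habar⟩ := hx' (P.map (Ideal.Quotient.mk ⊥)) hht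
      obtain ⟨s, rfl⟩ := hsurj sbar
      obtain ⟨a, rfl⟩ := hsurj abar
      exact ⟨s, fun hs => hsbar (Ideal.mem_map_of_mem _ hs), a, by
        rw [algebraMap_bot_apply, algebraMap_bot_apply]; exact habar⟩
    · intro hx
      show ∀ (P : Ideal (A ⧸ (⊥ : Ideal A))) [P.IsPrime], P.height = 1 →
          ∃ s : A ⧸ (⊥ : Ideal A), s ∉ P ∧ ∃ a : A ⧸ (⊥ : Ideal A),
            algebraMap (A ⧸ (⊥ : Ideal A)) (FractionRing (A ⧸ (⊥ : Ideal A))) a =
              algebraMap (A ⧸ (⊥ : Ideal A)) (FractionRing (A ⧸ (⊥ : Ideal A))) s * x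
      intro P' _ hP'
      obtain ⟨s, hs, a, ha⟩ := hx (P'.comap (Ideal.Quotient.mk ⊥)) (by rw [hcomap_ht]; exact hP')
      exact ⟨Ideal.Quotient.mk ⊥ s, fun h => hs (Ideal.mem_comap.mpr h), Ideal.Quotient.mk ⊥ a, by
        rw [← algebraMap_bot_apply, ← algebraMap_bot_apply]; exact ha⟩
  · have h1 : (Subalgebra.toSubmodule B).FG := Module.Finite.iff_fg.mp hBfin
    have h2 : ((Subalgebra.toSubmodule B).restrictScalars A).FG :=
      h1.restrictScalars_of_surjective hsurj
    exact Module.Finite.iff_fg.mpr h2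

end Final

/-- **Hironaka's lemma.** -/
theorem hironaka (A : Type u) [CommRing A] [IsNoetherianRing A] [IsLocalRing A]
    (hcat : CAlg.IsCatenary A) [IsReduced A] (heq : EGA4.IsEquidim A)
    (hfin : ∀ (q : Ideal A) [q.IsPrime], q ∈ minimalPrimes A →
      EGA4.HeightOneHullFinite (A ⧸ q))
    (t : A) (ht : t ∈ IsLocalRing.maximalIdeal A) (hreg : t ∈ nonZeroDivisors A)
    (p : Ideal A) [p.IsPrime] (hp : (Ideal.span {t}).minimalPrimes = {p})
    (hgen : IsLocalRing.maximalIdeal (Localization.AtPrime p) =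
      Ideal.span {algebraMap A (Localization.AtPrime p) t})
    [IsIntegrallyClosed (A ⧸ p)] :
    IsDomain A ∧ IsIntegrallyClosed A ∧ p = Ideal.span {t} := by
  haveI hdom : IsDomain A := isDomain_of_hyp hcat heq t ht hreg p hp hgen
  have ht0 : t ≠ 0 := nonZeroDivisors.ne_zero hreg
  have hbotmin : (⊥ : Ideal A) ∈ minimalPrimes A := by
    rw [IsDomain.minimalPrimes_eq_singleton_bot]; exact Set.mem_singleton _
  obtain ⟨B, hB, hBfin⟩ := hullfin_transfer A (hfin ⊥ hbotmin)
  haveI := hBfin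
  haveI := isFractionRing_bot A
  exact ⟨hdom, isIntegrallyClosed_of hcat ht ht0 hp hgen B hB⟩

end Groth.Agent.H71.HIR
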