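import Mathlib
import Groth.Agent.S5782
import Groth.Agent.S5805
import Groth.Agent.S0560

/-!
# Serre's criterion: a Noetherian local ring whose residue field has finite projective dimension
is regular.
-/

set_option autoImplicit false
universe u
open CategoryTheory IsLocalRing

namespace Groth.Agent.H71.SR

/-- finite projective dimension -/
def FinPD (R : Type u) [CommRing R] (M : Type u) [AddCommGroup M] [Module R M] : Prop :=
  ∃ n : ℕ, HasProjectiveDimensionLT (ModuleCat.of R M) n

section basic
variable {R : Type u} [CommRing R]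

theorem FinPD.of_linearEquiv {M N : Type u} [AddCommGroup M] [Module R M] [AddCommGroup N]
    [Module R N] (e : M ≃ₗ[R] N) (h : FinPD R M) : FinPD R N := by
  obtain ⟨n, hn⟩ := h
  exact ⟨n, hasProjectiveDimensionLT_of_iso e.toModuleIso n⟩

theorem FinPD.of_retract {M N : Type u} [AddCommGroup M] [Module R M] [AddCommGroup N]
    [Module R N] (i : M →ₗ[R] N) (r : N →ₗ[R] M) (hri : r ∘ₗ i = LinearMap.id)
    (h : FinPD R N) : FinPD R M := by
  obtain ⟨n, hn⟩ := h
  refine ⟨n, ?_⟩
  have ret : Retract (ModuleCat.of R M) (ModuleCat.of R N) :=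
    { i := ModuleCat.ofHom i
      r := ModuleCat.ofHom r
      retract := by
        rw [← ModuleCat.ofHom_comp, hri]; rfl }
  exact ret.hasProjectiveDimensionLT n

theorem FinPD.of_ses_left {M₁ M₂ M₃ : Type u} [AddCommGroup M₁] [Module R M₁] [AddCommGroup M₂]
    [Module R M₂] [AddCommGroup M₃] [Module R M₃]
    (f : M₁ →ₗ[R] M₂) (g : M₂ →ₗ[R] M₃) (hinj : Function.Injective f)
    (hex : Function.Exact f g) (hsurj : Function.Surjective g)
    (h₂ : FinPD R M₂) (h₃ : FinPD R M₃) : FinPD R M₁ := by
  obtain ⟨a, ha⟩ := h₂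
  obtain ⟨b, hb⟩ := h₃
  let S := ModuleCat.shortComplexOfCompEqZero f g hex.linearMap_comp_eq_zero
  have hS : S.ShortExact := ModuleCat.shortComplex_shortExact S hex hinj hsurj
  have ha' : HasProjectiveDimensionLT S.X₂ (max a b) :=
    hasProjectiveDimensionLT_of_ge (ModuleCat.of R M₂) a _ (le_max_left _ _)
  have hb' : HasProjectiveDimensionLT S.X₃ (max a b + 1) :=
    hasProjectiveDimensionLT_of_ge (ModuleCat.of R M₃) b _ (by omega)
  exact ⟨max a b, hS.hasProjectiveDimensionLT_X₁ (max a b) ha' hb'⟩

theorem FinPD.self : FinPD R R := ⟨1, by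
  rw [← projective_iff_hasProjectiveDimensionLT_one]
  exact (IsProjective.iff_projective (R := R) R).mp inferInstance⟩

end basic

section order

theorem lt_of_add_one_le_of_lt_succ (a b : WithBot ℕ∞) (d : ℕ) (h1 : a + 1 ≤ b)
    (h2 : b < ((d + 1 : ℕ) : WithBot ℕ∞)) : a < (d : WithBot ℕ∞) := by
  have h := lt_of_le_of_lt h1 h2
  induction a with
  | bot => exact WithBot.bot_lt_coe _
  | coe e =>
    induction e with
    | top =>
      exfalso
      have h' : ((⊤ : ℕ∞) + 1 : ℕ∞) < ((d + 1 : ℕ) : ℕ∞) := by exact_mod_cast h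
      simp at h'
    | coe n =>
      have h' : n + 1 < d + 1 := by exact_mod_cast h
      exact_mod_cast (by omega : n < d)

theorem exists_nat_gt_of_lt_top (a : WithBot ℕ∞) (h : a < ⊤) :
    ∃ n : ℕ, a < (n : WithBot ℕ∞) := by
  induction a with
  | bot => exact ⟨0, WithBot.bot_lt_coe _⟩
  | coe e =>
    induction e with
    | top => exact (lt_irrefl _ h).elim
    | coe n => exact ⟨n + 1, by exact_mod_cast Nat.lt_succ_self n⟩

end order

section step1
variable {R : Type u} [CommRing R] [IsLocalRing R] [IsNoetherianRing R]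

/-- If `k` has finite projective dimension and `m` kills a nonzero element, then `m = 0`. -/
theorem maximalIdeal_eq_bot_of_finPD
    (hk : FinPD R (ResidueField R)) (y : R) (hy : y ≠ 0)
    (hmy : ∀ a ∈ maximalIdeal R, a * y = 0) :
    maximalIdeal R = ⊥ := by
  classical
  obtain ⟨r, hr, hmin⟩ : ∃ r, HasProjectiveDimensionLT (ModuleCat.of R (ResidueField R)) r ∧
      ∀ s, s < r → ¬ HasProjectiveDimensionLT (ModuleCat.of R (ResidueField R)) s :=
    ⟨Nat.find hk, Nat.find_spec hk, fun s hs => Nat.find_min hk hs⟩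
  rcases r with _ | _ | s
  · -- r = 0 : impossible
    exfalso
    have hz := isZero_of_hasProjectiveDimensionLT_zero (ModuleCat.of R (ResidueField R))
    have hsub : Subsingleton (ResidueField R) := ModuleCat.isZero_iff_subsingleton.mp hz
    exact not_subsingleton (ResidueField R) hsub
  · -- r = 1 : k projective
    have hproj : Module.Projective R (ResidueField R) := by
      rw [IsProjective.iff_projective (R := R) (ResidueField R),
        projective_iff_hasProjectiveDimensionLT_one]
      exact hr
    have hsurj : Function.Surjective (Algebra.linearMap R (ResidueField R)) := by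
      intro z
      obtain ⟨w, hw⟩ := residue_surjective z
      exact ⟨w, hw⟩
    obtain ⟨σ, hσ⟩ := Module.projective_lifting_property (Algebra.linearMap R (ResidueField R))
      (LinearMap.id) hsurj
    have he : residue R (σ 1) = 1 := by
      have := LinearMap.congr_fun hσ 1
      simpa [ResidueField.algebraMap_eq] using this
    have hunit : IsUnit (σ 1) := by
      refine notMem_maximalIdeal.mp (fun hmem => ?_)
      have h0 := (residue_eq_zero_iff (σ 1)).mpr hmem
      rw [he] at h0
      exact one_ne_zero h0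
    refine eq_bot_iff.mpr (fun a ha => ?_)
    have h1 : a • (1 : ResidueField R) = 0 := by
      rw [Algebra.smul_def, mul_one, ResidueField.algebraMap_eq]
      exact (residue_eq_zero_iff a).mpr ha
    have h2 : a * σ 1 = 0 := by
      have := congrArg σ h1
      rwa [map_smul, map_zero, smul_eq_mul] at this
    exact Ideal.mem_bot.mpr (hunit.mul_left_eq_zero.mp h2)
  · -- r = s + 2
    exfalso
    apply hmin (s + 1) (by omega)
    have hker : maximalIdeal R ≤ LinearMap.ker (LinearMap.toSpanSingleton R R y) := by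
      intro a ha
      rw [LinearMap.mem_ker, LinearMap.toSpanSingleton_apply, smul_eq_mul]
      exact hmy a ha
    let f0 : (R ⧸ maximalIdeal R) →ₗ[R] R :=
      Submodule.liftQ (maximalIdeal R) (LinearMap.toSpanSingleton R R y) hker
    let f : ResidueField R →ₗ[R] R := f0
    let g : R →ₗ[R] (R ⧸ Ideal.span {y}) := Submodule.mkQ (Ideal.span {y})
    have hf : ∀ c : R, f (residue R c) = c * y := by
      intro c
      show Submodule.liftQ (maximalIdeal R) (LinearMap.toSpanSingleton R R y) hker
        (Submodule.Quotient.mk c) = c * y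
      rw [Submodule.liftQ_apply, LinearMap.toSpanSingleton_apply, smul_eq_mul]
    have hinj : Function.Injective f := by
      rw [injective_iff_map_eq_zero]
      intro w hw
      obtain ⟨c, rfl⟩ := residue_surjective w
      rw [hf] at hw
      rw [residue_eq_zero_iff]
      by_contra hc
      have hcu : IsUnit c := notMem_maximalIdeal.mp hc
      exact hy (hcu.mul_right_eq_zero.mp hw)
    have hex : Function.Exact f g := by
      intro z
      show Submodule.mkQ (Ideal.span {y}) z = 0 ↔ z ∈ Set.range f
      rw [Submodule.mkQ_apply, Submodule.Quotient.mk_eq_zero, Ideal.mem_span_singleton']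
      constructor
      · rintro ⟨c, rfl⟩
        exact ⟨residue R c, hf c⟩
      · rintro ⟨w, rfl⟩
        obtain ⟨c, rfl⟩ := residue_surjective w
        exact ⟨c, (hf c).symm⟩
    have hsurj : Function.Surjective g := Submodule.mkQ_surjective _
    let S := ModuleCat.shortComplexOfCompEqZero f g hex.linearMap_comp_eq_zero
    have hS : S.ShortExact := ModuleCat.shortComplex_shortExact S hex hinj hsurj
    have h3 : HasProjectiveDimensionLT S.X₃ (s + 1 + 1) :=
      Groth.Agent.S5805.result R (s + 1) hr (R ⧸ Ideal.span {y})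
    have hP : Projective S.X₂ := (IsProjective.iff_projective (R := R) R).mp inferInstance
    rw [hasProjectiveDimensionLT_iff]
    intro i hi Y e
    obtain ⟨j, rfl⟩ : ∃ j, i = j + 1 := ⟨i - 1, by omega⟩
    have hzero : hS.extClass.comp (show Abelian.Ext S.X₁ Y (j + 1) from e)
        (rfl : 1 + (j + 1) = 1 + (j + 1)) = 0 :=
      Abelian.Ext.eq_zero_of_hasProjectiveDimensionLT _ (s + 1 + 1) (by omega)
    obtain ⟨x₂, hx₂⟩ := Abelian.Ext.contravariant_sequence_exact₁ hS Y
      (show Abelian.Ext S.X₁ Y (j + 1) from e) rfl hzero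
    have hx0 : x₂ = 0 := Abelian.Ext.eq_zero_of_projective x₂
    rw [hx0, Abelian.Ext.comp_zero] at hx₂
    exact hx₂.symm

end step1

section step2
variable {R : Type u} [CommRing R] [IsLocalRing R] [IsNoetherianRing R]

/-- Prime avoidance: if `m ≠ 0` is not an associated prime, there is a nonzerodivisor in
`m \ m²`. -/
theorem exists_nzd_notMem_sq
    (hm : maximalIdeal R ≠ ⊥) (hass : maximalIdeal R ∉ associatedPrimes R R) :
    ∃ x ∈ maximalIdeal R, x ∉ maximalIdeal R ^ 2 ∧ x ∈ nonZeroDivisors R := by
  classical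
  by_contra hcon
  push Not at hcon
  let s : Finset (Ideal R) :=
    insert (maximalIdeal R ^ 2) (associatedPrimes.finite R R).toFinset
  have hsub : (↑(maximalIdeal R) : Set R) ⊆ ⋃ i ∈ (↑s : Set (Ideal R)), (↑i : Set R) := by
    intro x hx
    by_cases hx2 : x ∈ maximalIdeal R ^ 2
    · exact Set.mem_biUnion (show maximalIdeal R ^ 2 ∈ (↑s : Set (Ideal R)) by simp [s]) hx2
    · have hnz := hcon x hx hx2
      have hmem : x ∈ (↑(nonZeroDivisors R) : Set R)ᶜ := hnz
      rw [← biUnion_associatedPrimes_eq_compl_nonZeroDivisors R] at hmem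
      obtain ⟨p, hp, hxp⟩ := Set.mem_iUnion₂.mp hmem
      exact Set.mem_biUnion (show p ∈ (↑s : Set (Ideal R)) by simp [s, hp]) hxp
  have hprime : ∀ i ∈ s, i ≠ maximalIdeal R ^ 2 → i ≠ maximalIdeal R ^ 2 → i.IsPrime := by
    intro i hi h1 _
    have hi' : i ∈ (associatedPrimes.finite R R).toFinset := by
      rcases Finset.mem_insert.mp hi with h | h
      · exact absurd h h1
      · exact h
    exact ((Set.Finite.mem_toFinset _).mp hi').isPrime
  obtain ⟨i, hi, hle⟩ := (Ideal.subset_union_prime (f := fun i : Ideal R => i)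
    (maximalIdeal R ^ 2) (maximalIdeal R ^ 2) hprime).mp hsub
  rcases Finset.mem_insert.mp hi with h | h
  · subst h
    have hle' : maximalIdeal R ≤ maximalIdeal R ^ 2 := hle
    apply hm
    refine Submodule.eq_bot_of_le_smul_of_le_jacobson_bot (maximalIdeal R) (maximalIdeal R)
      (IsNoetherian.noetherian _) ?_ (IsLocalRing.jacobson_eq_maximalIdeal ⊥ bot_ne_top).ge
    rw [smul_eq_mul, ← sq]
    exact hle'
  · have hi' : i ∈ associatedPrimes R R := (Set.Finite.mem_toFinset _).mp h
    have hle' : maximalIdeal R ≤ i := hle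
    have hieq : i = maximalIdeal R :=
      le_antisymm (le_maximalIdeal hi'.isPrime.ne_top) hle'
    exact hass (hieq ▸ hi')

end step2

section step3
variable {R : Type u} [CommRing R] [IsLocalRing R] [IsNoetherianRing R]

theorem smul_residueField_quotient (x : R) [IsLocalRing (R ⧸ Ideal.span {x})] (a : R)
    (z : ResidueField (R ⧸ Ideal.span {x})) :
    a • z = residue (R ⧸ Ideal.span {x}) (Ideal.Quotient.mk (Ideal.span {x}) a) * z := by
  rw [Algebra.smul_def, IsScalarTower.algebraMap_apply R (R ⧸ Ideal.span {x})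
    (ResidueField (R ⧸ Ideal.span {x}))]
  rfl

/-- Passing to `R / x` for `x ∈ m \ m²` a nonzerodivisor preserves finiteness of the projective
dimension of the residue field. -/
theorem finPD_quotient (x : R) (hx : x ∈ maximalIdeal R) (hx2 : x ∉ maximalIdeal R ^ 2)
    (hreg : x ∈ nonZeroDivisors R) [IsLocalRing (R ⧸ Ideal.span {x})]
    (hk : FinPD R (ResidueField R)) :
    FinPD (R ⧸ Ideal.span {x}) (ResidueField (R ⧸ Ideal.span {x})) := by
  classical
  have hm : FinPD R (maximalIdeal R) :=
    FinPD.of_ses_left (Submodule.subtype (maximalIdeal R)) (Submodule.mkQ (maximalIdeal R))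
      (Submodule.injective_subtype _)
      (LinearMap.exact_subtype_mkQ _) (Submodule.mkQ_surjective _) FinPD.self hk
  have hfin : projectiveDimension (ModuleCat.of R (maximalIdeal R)) ≠ ⊤ := by
    obtain ⟨n, hn⟩ := hm
    exact (projectiveDimension_ne_top_iff _).mpr
      ⟨n, hasProjectiveDimensionLT_of_ge _ n (n + 1) (Nat.le_succ n)⟩
  have hA : IsSMulRegular R x := (isRegular_iff_mem_nonZeroDivisors.mpr hreg).left.isSMulRegular
  have hE : IsSMulRegular (maximalIdeal R) x :=
    IsSMulRegular.of_injective (Submodule.subtype (maximalIdeal R))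
      (Submodule.injective_subtype _) hA
  have h5782 := Groth.Agent.S5782.result R (maximalIdeal R) hfin x hx hA hE
  have hE' : FinPD (R ⧸ Ideal.span {x})
      ((maximalIdeal R) ⧸ (Ideal.span {x} • (⊤ : Submodule R (maximalIdeal R)))) := by
    have hne : projectiveDimension (ModuleCat.of (R ⧸ Ideal.span {x})
        ((maximalIdeal R) ⧸ (Ideal.span {x} • (⊤ : Submodule R (maximalIdeal R))))) ≠ ⊤ := by
      intro htop
      rw [htop] at h5782
      exact hfin (top_le_iff.mp h5782)
    obtain ⟨n, hn⟩ := (projectiveDimension_ne_top_iff _).mp hne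
    exact ⟨n + 1, hn⟩
  -- the local hom instance
  have : IsLocalHom (Ideal.Quotient.mk (Ideal.span {x})) :=
    IsLocalHom.of_surjective _ Ideal.Quotient.mk_surjective
  -- the functional on the cotangent space
  have hv : (maximalIdeal R).toCotangent ⟨x, hx⟩ ≠ 0 := by
    rw [Ne, Ideal.toCotangent_eq_zero]
    exact hx2
  obtain ⟨φ₀, hφ₀⟩ : ∃ φ₀ : Module.Dual (ResidueField R) (CotangentSpace R),
      φ₀ ((maximalIdeal R).toCotangent ⟨x, hx⟩) ≠ 0 := by
    by_contra hcon
    push Not at hcon
    exact hv ((Module.forall_dual_apply_eq_zero_iff (ResidueField R) _).mp hcon)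
  let φ : CotangentSpace R →ₗ[ResidueField R] ResidueField R :=
    (φ₀ ((maximalIdeal R).toCotangent ⟨x, hx⟩))⁻¹ • φ₀
  have hφ : φ ((maximalIdeal R).toCotangent ⟨x, hx⟩) = 1 := by
    show (φ₀ ((maximalIdeal R).toCotangent ⟨x, hx⟩))⁻¹ • φ₀ ((maximalIdeal R).toCotangent ⟨x, hx⟩) = 1
    rw [smul_eq_mul, inv_mul_cancel₀ hφ₀]
  -- θ : k → k̄ as an R-linear map
  let θ : ResidueField R →+* ResidueField (R ⧸ Ideal.span {x}) :=
    ResidueField.map (Ideal.Quotient.mk (Ideal.span {x}))
  let θₗ : ResidueField R →ₗ[R] ResidueField (R ⧸ Ideal.span {x}) :=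
    { toFun := θ
      map_add' := map_add θ
      map_smul' := by
        intro a z
        rw [RingHom.id_apply, smul_residueField_quotient, Algebra.smul_def, map_mul,
          ResidueField.algebraMap_eq]
        congr 1 }
  let ψ₀ : (maximalIdeal R) →ₗ[R] ResidueField (R ⧸ Ideal.span {x}) :=
    θₗ ∘ₗ (φ.restrictScalars R) ∘ₗ (maximalIdeal R).toCotangent
  have hψ₀ : ψ₀ ⟨x, hx⟩ = 1 := by
    show θ (φ ((maximalIdeal R).toCotangent ⟨x, hx⟩)) = 1
    rw [hφ, map_one]
  have hker' : (Ideal.span {x} • (⊤ : Submodule R (maximalIdeal R))) ≤ LinearMap.ker ψ₀ := by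
    rw [Submodule.smul_le]
    intro a ha e _
    rw [LinearMap.mem_ker, map_smul, smul_residueField_quotient,
      Ideal.Quotient.eq_zero_iff_mem.mpr ha, map_zero, zero_mul]
  let ρ₀ : ((maximalIdeal R) ⧸ (Ideal.span {x} • (⊤ : Submodule R (maximalIdeal R)))) →ₗ[R]
      ResidueField (R ⧸ Ideal.span {x}) :=
    Submodule.liftQ _ ψ₀ hker'
  let ρ : ((maximalIdeal R) ⧸ (Ideal.span {x} • (⊤ : Submodule R (maximalIdeal R))))
      →ₗ[R ⧸ Ideal.span {x}] ResidueField (R ⧸ Ideal.span {x}) :=
    LinearMap.extendScalarsOfSurjective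
      (Ideal.Quotient.mk_surjective :
        Function.Surjective (algebraMap R (R ⧸ Ideal.span {x}))) ρ₀
  -- the inclusion k̄ → E'
  let ξ : (maximalIdeal R) ⧸ (Ideal.span {x} • (⊤ : Submodule R (maximalIdeal R))) :=
    Submodule.Quotient.mk ⟨x, hx⟩
  have hkerξ : maximalIdeal (R ⧸ Ideal.span {x}) ≤
      LinearMap.ker (LinearMap.toSpanSingleton (R ⧸ Ideal.span {x})
        ((maximalIdeal R) ⧸ (Ideal.span {x} • (⊤ : Submodule R (maximalIdeal R)))) ξ) := by
    intro ā hā
    obtain ⟨a, rfl⟩ := Ideal.Quotient.mk_surjective ā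
    have ha : a ∈ maximalIdeal R := by
      by_contra hna
      have hu : IsUnit a := notMem_maximalIdeal.mp hna
      exact (mem_maximalIdeal _).mp hā (hu.map (Ideal.Quotient.mk (Ideal.span {x})))
    rw [LinearMap.mem_ker, LinearMap.toSpanSingleton_apply]
    have h1 : (Ideal.Quotient.mk (Ideal.span {x}) a) • ξ = a • ξ :=
      IsScalarTower.algebraMap_smul (R ⧸ Ideal.span {x}) a ξ
    rw [h1]
    show a • (Submodule.Quotient.mk (⟨x, hx⟩ : maximalIdeal R) :
      (maximalIdeal R) ⧸ (Ideal.span {x} • (⊤ : Submodule R (maximalIdeal R)))) = 0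
    rw [← Submodule.Quotient.mk_smul, Submodule.Quotient.mk_eq_zero]
    have h2 : a • (⟨x, hx⟩ : maximalIdeal R) = x • (⟨a, ha⟩ : maximalIdeal R) := by
      apply Subtype.ext
      show a * x = x * a
      exact mul_comm a x
    rw [h2]
    exact Submodule.smul_mem_smul (Ideal.mem_span_singleton_self x) Submodule.mem_top
  let i0 : ((R ⧸ Ideal.span {x}) ⧸ maximalIdeal (R ⧸ Ideal.span {x})) →ₗ[R ⧸ Ideal.span {x}]
      ((maximalIdeal R) ⧸ (Ideal.span {x} • (⊤ : Submodule R (maximalIdeal R)))) :=
    Submodule.liftQ (maximalIdeal (R ⧸ Ideal.span {x}))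
      (LinearMap.toSpanSingleton (R ⧸ Ideal.span {x}) _ ξ) hkerξ
  let i : ResidueField (R ⧸ Ideal.span {x}) →ₗ[R ⧸ Ideal.span {x}]
      ((maximalIdeal R) ⧸ (Ideal.span {x} • (⊤ : Submodule R (maximalIdeal R)))) := i0
  have hi1 : i 1 = ξ := by
    show Submodule.liftQ (maximalIdeal (R ⧸ Ideal.span {x}))
      (LinearMap.toSpanSingleton (R ⧸ Ideal.span {x}) _ ξ) hkerξ
      (Submodule.Quotient.mk (1 : R ⧸ Ideal.span {x})) = ξ
    rw [Submodule.liftQ_apply, LinearMap.toSpanSingleton_apply, one_smul]
  have hρξ : ρ ξ = 1 := by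
    show Submodule.liftQ _ ψ₀ hker' (Submodule.Quotient.mk ⟨x, hx⟩) = 1
    rw [Submodule.liftQ_apply]
    exact hψ₀
  have hρi : ρ ∘ₗ i = LinearMap.id := by
    apply LinearMap.ext
    intro z
    obtain ⟨c, rfl⟩ := residue_surjective z
    have hc : residue (R ⧸ Ideal.span {x}) c = c • (1 : ResidueField (R ⧸ Ideal.span {x})) := by
      rw [Algebra.smul_def, mul_one, ResidueField.algebraMap_eq]
    rw [hc, LinearMap.comp_apply, map_smul, map_smul, hi1, hρξ, LinearMap.id_apply]
  exact FinPD.of_retract i ρ hρi hE'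

end step3

section main

theorem regular_of_maximalIdeal_eq_bot {R : Type u} [CommRing R] [IsLocalRing R]
    [IsNoetherianRing R] (h : maximalIdeal R = ⊥) : IsRegularLocalRing R := by
  apply IsRegularLocalRing.of_spanFinrank_maximalIdeal_le
  rw [h, Submodule.spanFinrank_bot]
  exact_mod_cast ringKrullDim_nonneg_of_nontrivial

theorem regular_of_finPD_aux : ∀ (d : ℕ) (R : Type u) [CommRing R] [IsLocalRing R]
    [IsNoetherianRing R], ringKrullDim R < (d : WithBot ℕ∞) → FinPD R (ResidueField R) →
    IsRegularLocalRing R := by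
  intro d
  induction d with
  | zero =>
    intro R _ _ _ hd _
    exact absurd (lt_of_le_of_lt ringKrullDim_nonneg_of_nontrivial hd) (by simp)
  | succ d ih =>
    intro R _ _ _ hd hk
    by_cases hass : maximalIdeal R ∈ associatedPrimes R R
    · -- m is associated : m = 0
      obtain ⟨_, y, hy⟩ := isAssociatedPrime_iff.mp hass
      have hy0 : y ≠ 0 := by
        rintro rfl
        have h1 : (1 : R) ∈ maximalIdeal R := by
          rw [hy, Submodule.mem_colon_singleton]
          simp
        exact (Ideal.ne_top_iff_one _).mp (maximalIdeal.isMaximal R).ne_top h1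
      have hmy : ∀ a ∈ maximalIdeal R, a * y = 0 := by
        intro a ha
        rw [hy, Submodule.mem_colon_singleton] at ha
        simpa using ha
      exact regular_of_maximalIdeal_eq_bot (maximalIdeal_eq_bot_of_finPD hk y hy0 hmy)
    · by_cases hm : maximalIdeal R = ⊥
      · exact regular_of_maximalIdeal_eq_bot hm
      · obtain ⟨x, hx, hx2, hreg⟩ := exists_nzd_notMem_sq hm hass
        have hne : Ideal.span {x} ≠ (⊤ : Ideal R) := by
          intro htop
          rw [Ideal.span_singleton_eq_top] at htop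
          exact (mem_maximalIdeal x).mp hx htop
        haveI : Nontrivial (R ⧸ Ideal.span {x}) := Ideal.Quotient.nontrivial_iff.mpr hne
        haveI : IsLocalRing (R ⧸ Ideal.span {x}) :=
          IsLocalRing.of_surjective' (Ideal.Quotient.mk (Ideal.span {x}))
            Ideal.Quotient.mk_surjective
        have hk' := finPD_quotient x hx hx2 hreg hk
        have hdim := ringKrullDim_quotient_succ_le_of_nonZeroDivisor hreg
        have hd' : ringKrullDim (R ⧸ Ideal.span {x}) < (d : WithBot ℕ∞) :=
          lt_of_add_one_le_of_lt_succ _ _ d hdim hd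
        haveI : IsRegularLocalRing (R ⧸ Ideal.span {x}) := ih (R ⧸ Ideal.span {x}) hd' hk'
        exact Groth.Agent.S0560.result R x hx hreg

/-- **Serre**: a Noetherian local ring whose residue field has finite projective dimension is
regular. -/
theorem regular_of_finPD (R : Type u) [CommRing R] [IsLocalRing R] [IsNoetherianRing R]
    (hk : FinPD R (ResidueField R)) : IsRegularLocalRing R := by
  obtain ⟨d, hd⟩ := exists_nat_gt_of_lt_top (ringKrullDim R) ringKrullDim_lt_top
  exact regular_of_finPD_aux d R hd hk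

end main

end Groth.Agent.H71.SR
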