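import Mathlib
import Groth.Agent.S0565
import Groth.Agent.H1.NoetherianDescent

/-!
# Descent of regularity along flat maps
-/

set_option autoImplicit false
set_option linter.style.haveILetI false
universe u

namespace Groth.Agent.H71.RD

/-- If `A → B` is flat, `q` a prime of `B` over `p`, and `B_q` is regular, then `A_p` is regular. -/
theorem regular_of_flat_liesOver (A B : Type u) [CommRing A] [CommRing B] [IsNoetherianRing A]
    [Algebra A B] [Module.Flat A B] (p : Ideal A) [p.IsPrime] (q : Ideal B) [q.IsPrime]
    [q.LiesOver p] [IsRegularLocalRing (Localization.AtPrime q)] :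
    IsRegularLocalRing (Localization.AtPrime p) := by
  letI := Localization.AtPrime.algebraOfLiesOver p q
  haveI : IsLocalHom (algebraMap (Localization.AtPrime p) (Localization.AtPrime q)) :=
    Localization.isLocalHom_localRingHom _ _ _ _
  exact Groth.Agent.S0565.result (Localization.AtPrime p) (Localization.AtPrime q)

/-- For a faithfully flat map to a Noetherian ring, every prime `p` of the base has a prime `q`
above it of the same height. -/
theorem exists_liesOver_height_eq (R S : Type u) [CommRing R] [CommRing S] [Algebra R S]
    [Module.FaithfullyFlat R S] [IsNoetherianRing S] (p : Ideal R) [p.IsPrime] :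
    ∃ q : Ideal S, q.IsPrime ∧ q.LiesOver p ∧ q.height = p.height := by
  haveI : IsNoetherianRing R := Groth.Agent.H1.isNoetherianRing_of_faithfullyFlat R S
  obtain ⟨P, hPprime, hPover⟩ := Ideal.exists_isPrime_liesOver_of_faithfullyFlat (B := S) p
  have hle : p.map (algebraMap R S) ≤ P := by
    rw [Ideal.map_le_iff_le_comap]
    exact le_of_eq hPover.over
  obtain ⟨q, hqmin, hqP⟩ := Ideal.exists_minimalPrimes_le hle
  haveI hqprime : q.IsPrime := hqmin.1.1
  have hqover : p = q.under R := by
    apply le_antisymm
    · exact Ideal.map_le_iff_le_comap.mp hqmin.1.2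
    · calc q.under R ≤ P.under R := Ideal.comap_mono hqP
        _ = p := hPover.over.symm
  haveI : q.LiesOver p := ⟨hqover⟩
  have hheight : q.height = p.height := by
    rw [Ideal.height_eq_height_add_of_liesOver_of_hasGoingDown p q]
    have h0 : (q.map (Ideal.Quotient.mk (p.map (algebraMap R S)))).height = 0 := by
      haveI : (q.map (Ideal.Quotient.mk (p.map (algebraMap R S)))).IsPrime :=
        Ideal.map_isPrime_of_surjective Ideal.Quotient.mk_surjective
          (by rw [Ideal.mk_ker]; exact hqmin.1.2)
      rw [Ideal.height_eq_zero_iff]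
      have h1 : q ∈ (p.map (algebraMap R S)).minimalPrimes := hqmin
      rw [Ideal.minimalPrimes_eq_comap] at h1
      obtain ⟨q', hq', hq'eq⟩ := h1
      rw [← hq'eq, Ideal.map_comap_of_surjective _ Ideal.Quotient.mk_surjective]
      exact hq'
    rw [h0, add_zero]
  exact ⟨q, hqprime, inferInstance, hheight⟩

end Groth.Agent.H71.RD
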