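import Mathlib
import Groth.Agent.H71.Hironaka
import Groth.Agent.H71.RegularDescent
import Groth.Agent.S0560
import Groth.Agent.S0564

/-!
# Lifting reducedness, equidimensionality and (R_k) from `A/tA` to `A` (EGA IV 5.12.2)
-/

set_option autoImplicit false
set_option linter.style.haveILetI false
universe u

open IsLocalRing

namespace Groth.Agent.H71.QR

open Groth.Agent.H71 Groth.Agent.H71.HIR Groth.Agent.H71.CAT

section LocQuot

variable {A : Type u} [CommRing A]

lemma comap_map_mk {t : A} {P : Ideal A} (htP : t ∈ P) :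
    (P.map (Ideal.Quotient.mk (Ideal.span {t}))).comap (Ideal.Quotient.mk (Ideal.span {t})) =
      P := by
  rw [Ideal.comap_map_of_surjective _ Ideal.Quotient.mk_surjective, ← RingHom.ker_eq_comap_bot,
    Ideal.mk_ker, sup_eq_left]
  exact (Ideal.span_singleton_le_iff_mem _).mpr htP

lemma map_mk_isPrime {t : A} {P : Ideal A} [P.IsPrime] (htP : t ∈ P) :
    (P.map (Ideal.Quotient.mk (Ideal.span {t}))).IsPrime :=
  Ideal.map_isPrime_of_surjective Ideal.Quotient.mk_surjective
    (by rw [Ideal.mk_ker]; exact (Ideal.span_singleton_le_iff_mem _).mpr htP)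

/-- `(A/t)_{P/t} ≃ A_P/(t)`. -/
theorem locQuot_equiv (t : A) (P : Ideal A) [P.IsPrime] (htP : t ∈ P)
    [(P.map (Ideal.Quotient.mk (Ideal.span {t}))).IsPrime] :
    Nonempty (Localization.AtPrime (P.map (Ideal.Quotient.mk (Ideal.span {t}))) ≃+*
      (Localization.AtPrime P ⧸ Ideal.span {algebraMap A (Localization.AtPrime P) t})) := by
  let τ := algebraMap A (Localization.AtPrime P) t
  let φ : (A ⧸ Ideal.span {t}) →+* (Localization.AtPrime P ⧸ Ideal.span {τ}) :=
    Ideal.Quotient.lift (Ideal.span {t})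
      ((Ideal.Quotient.mk (Ideal.span {τ})).comp (algebraMap A (Localization.AtPrime P))) (by
        intro a ha
        rw [RingHom.comp_apply, Ideal.Quotient.eq_zero_iff_mem]
        obtain ⟨c, rfl⟩ := Ideal.mem_span_singleton'.mp ha
        rw [map_mul]
        exact Ideal.mul_mem_left _ _ (Ideal.mem_span_singleton_self τ))
  letI : Algebra (A ⧸ Ideal.span {t}) (Localization.AtPrime P ⧸ Ideal.span {τ}) := φ.toAlgebra
  have H : (Ideal.Quotient.mk (Ideal.span {τ})).comp (algebraMap A (Localization.AtPrime P)) =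
      (algebraMap (A ⧸ Ideal.span {t}) (Localization.AtPrime P ⧸ Ideal.span {τ})).comp
        (Ideal.Quotient.mk (Ideal.span {t})) := RingHom.ext fun a => rfl
  have H' : RingHom.ker (Ideal.Quotient.mk (Ideal.span {τ})) ≤
      (RingHom.ker (Ideal.Quotient.mk (Ideal.span {t}))).map
        (algebraMap A (Localization.AtPrime P)) := by
    rw [Ideal.mk_ker, Ideal.mk_ker, Ideal.map_span, Set.image_singleton]
  have hloc := IsLocalization.of_surjective P.primeCompl (Localization.AtPrime P)
    (Ideal.Quotient.mk (Ideal.span {t})) Ideal.Quotient.mk_surjective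
    (Ideal.Quotient.mk (Ideal.span {τ})) Ideal.Quotient.mk_surjective H H'
  have hM : P.primeCompl.map (Ideal.Quotient.mk (Ideal.span {t})) =
      (P.map (Ideal.Quotient.mk (Ideal.span {t}))).primeCompl := by
    ext x
    obtain ⟨a, rfl⟩ := Ideal.Quotient.mk_surjective x
    rw [Submonoid.mem_map, Ideal.mem_primeCompl_iff]
    constructor
    · rintro ⟨b, hb, hba⟩ hmem
      rw [← hba] at hmem
      have hb' : b ∈ (P.map (Ideal.Quotient.mk (Ideal.span {t}))).comap
          (Ideal.Quotient.mk (Ideal.span {t})) := hmem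
      rw [comap_map_mk htP] at hb'
      exact hb hb'
    · intro hx
      exact ⟨a, Ideal.mem_primeCompl_iff.mpr (fun ha => hx (Ideal.mem_map_of_mem _ ha)), rfl⟩
  rw [hM] at hloc
  haveI : IsLocalization.AtPrime (Localization.AtPrime P ⧸ Ideal.span {τ})
      (P.map (Ideal.Quotient.mk (Ideal.span {t}))) := hloc
  exact ⟨(IsLocalization.algEquiv (P.map (Ideal.Quotient.mk (Ideal.span {t}))).primeCompl
    (Localization.AtPrime (P.map (Ideal.Quotient.mk (Ideal.span {t}))))
    (Localization.AtPrime P ⧸ Ideal.span {τ})).toRingEquiv⟩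

variable [IsNoetherianRing A]

lemma algebraMap_mem_maximalIdeal {t : A} {P : Ideal A} [P.IsPrime] (htP : t ∈ P) :
    algebraMap A (Localization.AtPrime P) t ∈ maximalIdeal (Localization.AtPrime P) :=
  (IsLocalization.AtPrime.to_map_mem_maximal_iff (Localization.AtPrime P) P t).mpr htP

lemma algebraMap_mem_nonZeroDivisors {t : A} (hreg : t ∈ nonZeroDivisors A) (P : Ideal A)
    [P.IsPrime] :
    algebraMap A (Localization.AtPrime P) t ∈ nonZeroDivisors (Localization.AtPrime P) :=
  IsLocalization.map_nonZeroDivisors_le P.primeCompl (Localization.AtPrime P)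
    (Submonoid.mem_map_of_mem _ hreg)

/-- regularity of `A_P` from regularity of `(A/t)_{P/t}`. -/
theorem regular_of_regular_quotient (t : A) (hreg : t ∈ nonZeroDivisors A) (P : Ideal A)
    [P.IsPrime] (htP : t ∈ P) [(P.map (Ideal.Quotient.mk (Ideal.span {t}))).IsPrime]
    [IsRegularLocalRing (Localization.AtPrime (P.map (Ideal.Quotient.mk (Ideal.span {t}))))] :
    IsRegularLocalRing (Localization.AtPrime P) := by
  obtain ⟨e⟩ := locQuot_equiv t P htP
  haveI : IsRegularLocalRing
      (Localization.AtPrime P ⧸ Ideal.span {algebraMap A (Localization.AtPrime P) t}) :=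
    IsRegularLocalRing.of_ringEquiv e
  exact Groth.Agent.S0560.result (Localization.AtPrime P) _ (algebraMap_mem_maximalIdeal htP)
    (algebraMap_mem_nonZeroDivisors hreg P)

/-- `ht (P/t) + 1 = ht P` for a non-zero-divisor `t ∈ P`. -/
theorem height_map_add_one (t : A) (hreg : t ∈ nonZeroDivisors A) (P : Ideal A)
    [P.IsPrime] (htP : t ∈ P) [(P.map (Ideal.Quotient.mk (Ideal.span {t}))).IsPrime] :
    (P.map (Ideal.Quotient.mk (Ideal.span {t}))).height + 1 = P.height := by
  obtain ⟨e⟩ := locQuot_equiv t P htP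
  have h1 := ringKrullDim_quotient_span_singleton_succ_eq_ringKrullDim_of_mem_nonZeroDivisors
    (algebraMap_mem_nonZeroDivisors hreg P) (algebraMap_mem_maximalIdeal htP)
  rw [← ringKrullDim_eq_of_ringEquiv e,
    IsLocalization.AtPrime.ringKrullDim_eq_height
      (P.map (Ideal.Quotient.mk (Ideal.span {t})))
      (Localization.AtPrime (P.map (Ideal.Quotient.mk (Ideal.span {t})))),
    IsLocalization.AtPrime.ringKrullDim_eq_height P (Localization.AtPrime P)] at h1
  exact_mod_cast h1

end LocQuot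

section Reduced

variable {A : Type u} [CommRing A] [IsNoetherianRing A] [IsLocalRing A]

theorem isReduced_of_quotient (t : A) (ht : t ∈ maximalIdeal A) (hreg : t ∈ nonZeroDivisors A)
    [IsReduced (A ⧸ Ideal.span {t})] : IsReduced A := by
  rw [← nilradical_eq_bot_iff]
  have hle : nilradical A ≤ Ideal.span {t} • nilradical A := by
    intro n hn
    have hnil : IsNilpotent n := mem_nilradical.mp hn
    have h0 : Ideal.Quotient.mk (Ideal.span {t}) n = 0 :=
      (hnil.map (Ideal.Quotient.mk (Ideal.span {t}))).eq_zero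
    rw [Ideal.Quotient.eq_zero_iff_mem] at h0
    obtain ⟨c, rfl⟩ := Ideal.mem_span_singleton'.mp h0
    obtain ⟨r, hr⟩ := hnil
    have hc : c ∈ nilradical A := by
      rw [mem_nilradical]
      refine ⟨r, ?_⟩
      rw [mul_pow] at hr
      exact (mul_right_mem_nonZeroDivisors_eq_zero_iff (pow_mem hreg r)).mp hr
    have h1 : c * t = t • c := by rw [smul_eq_mul, mul_comm]
    rw [h1]
    exact Submodule.smul_mem_smul (Ideal.mem_span_singleton_self t) hc
  refine Submodule.eq_bot_of_le_smul_of_le_jacobson_bot (Ideal.span {t}) (nilradical A)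
    (IsNoetherian.noetherian _) hle ?_
  rw [IsLocalRing.jacobson_eq_maximalIdeal ⊥ bot_ne_top]
  exact (Ideal.span_singleton_le_iff_mem _).mpr ht

end Reduced

section Equidim

variable {A : Type u} [CommRing A] [IsNoetherianRing A] [IsLocalRing A]

/-- a minimal prime of a reduced ring is killed by an element outside `tA`. -/
lemma exists_notMem_span_mul_eq_zero (t : A) (ht : t ∈ maximalIdeal A)
    (hreg : t ∈ nonZeroDivisors A) (q : Ideal A) (hq : q ∈ minimalPrimes A) :
    ∃ c : A, c ∉ Ideal.span {t} ∧ ∀ b ∈ q, b * c = 0 := by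
  classical
  have hann : Module.annihilator A A = ⊥ := by
    refine eq_bot_iff.mpr (fun a ha => ?_)
    have := Module.mem_annihilator.mp ha (1 : A)
    simpa using this
  have hqass : q ∈ associatedPrimes A A := by
    apply Module.associatedPrimes.minimalPrimes_annihilator_subset_associatedPrimes A A
    rw [hann]
    exact hq
  obtain ⟨hqp, a₀, ha₀⟩ := isAssociatedPrime_iff.mp hqass
  have ha₀0 : a₀ ≠ 0 := by
    rintro rfl
    have h1 : (1 : A) ∈ q := by
      rw [ha₀, Submodule.mem_colon_singleton]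
      simp
    exact (Ideal.ne_top_iff_one _).mp hqp.ne_top h1
  have hne : Ideal.span {t} ≠ (⊤ : Ideal A) := by
    intro htop
    rw [Ideal.span_singleton_eq_top] at htop
    exact (mem_maximalIdeal t).mp ht htop
  have hex : ∃ n : ℕ, a₀ ∉ Ideal.span {t} ^ n := by
    by_contra hcon
    push Not at hcon
    have h1 : a₀ ∈ ⨅ i : ℕ, Ideal.span {t} ^ i := (Submodule.mem_iInf _).mpr hcon
    rw [Ideal.iInf_pow_eq_bot_of_isLocalRing _ hne] at h1
    exact ha₀0 ((Submodule.mem_bot A).mp h1)
  have hn := Nat.find_spec hex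
  have hmin := fun m (hm : m < Nat.find hex) => Nat.find_min hex hm
  rcases hN : Nat.find hex with _ | m
  · exfalso
    rw [hN, pow_zero, Ideal.one_eq_top] at hn
    exact hn Submodule.mem_top
  · have hm : a₀ ∈ Ideal.span {t} ^ m := by
      by_contra hcon
      exact hmin m (by omega) hcon
    rw [Ideal.span_singleton_pow] at hm
    obtain ⟨c, hc⟩ := Ideal.mem_span_singleton'.mp hm
    refine ⟨c, ?_, ?_⟩
    · intro hct
      obtain ⟨c', rfl⟩ := Ideal.mem_span_singleton'.mp hct
      apply hn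
      rw [hN, Ideal.span_singleton_pow, ← hc]
      refine Ideal.mem_span_singleton'.mpr ⟨c', ?_⟩
      rw [pow_succ]
      ring
    · intro b hb
      rw [ha₀, Submodule.mem_colon_singleton, Submodule.mem_bot, smul_eq_mul] at hb
      rw [← hc] at hb
      have h2 : b * c * t ^ m = 0 := by rw [mul_assoc]; exact hb
      exact (mul_right_mem_nonZeroDivisors_eq_zero_iff (pow_mem hreg m)).mp h2

theorem isEquidim_of_quotient (t : A) (ht : t ∈ maximalIdeal A)
    (hreg : t ∈ nonZeroDivisors A) [IsReduced (A ⧸ Ideal.span {t})]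
    (heq : EGA4.IsEquidim (A ⧸ Ideal.span {t})) : EGA4.IsEquidim A := by
  intro q hq
  haveI hqp : q.IsPrime := hq.1.1
  obtain ⟨c, hc, hqc⟩ := exists_notMem_span_mul_eq_zero t ht hreg q hq
  have hrad : (Ideal.span {t}).IsRadical :=
    (Ideal.isRadical_iff_quotient_reduced _).mpr inferInstance
  have hinf : sInf (Ideal.span {t}).minimalPrimes = Ideal.span {t} := by
    rw [Ideal.sInf_minimalPrimes, hrad.radical]
  obtain ⟨P', hP', hcP'⟩ : ∃ P' ∈ (Ideal.span {t}).minimalPrimes, c ∉ P' := by
    by_contra hcon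
    push Not at hcon
    apply hc
    rw [← hinf]
    exact Ideal.mem_sInf.mpr (fun {I} hI => hcon I hI)
  haveI hP'p : P'.IsPrime := hP'.1.1
  have htP' : t ∈ P' := hP'.1.2 (Ideal.mem_span_singleton_self t)
  have hqP' : q ≤ P' := by
    intro b hb
    have h0 : b * c ∈ P' := by rw [hqc b hb]; exact P'.zero_mem
    exact (hP'p.mem_or_mem h0).resolve_right hcP'
  have htq : t ∉ q := fun h =>
    Set.disjoint_left.mp (Ideal.disjoint_nonZeroDivisors_of_mem_minimalPrimes hq) h hreg
  have hlt : q < P' := lt_of_le_of_ne hqP' (fun h => htq (h ▸ htP'))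
  have hch : ch (⟨P', hP'p⟩ : PrimeSpectrum A) + 1 ≤ ch (⟨q, hqp⟩ : PrimeSpectrum A) :=
    ch_lt ((mk_lt_mk hqp hP'p).mpr hlt)
  -- dim A/P' = dim A/t
  have hP'' := hP'
  rw [Ideal.minimalPrimes_eq_comap] at hP''
  obtain ⟨q', hq', hq'eq⟩ := hP''
  have h1 : ringKrullDim (A ⧸ P') = ringKrullDim (A ⧸ Ideal.span {t}) := by
    rw [← heq q' hq']
    let g : A →+* (A ⧸ Ideal.span {t}) ⧸ q' :=
      (Ideal.Quotient.mk q').comp (Ideal.Quotient.mk (Ideal.span {t}))
    have hg : Function.Surjective g :=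
      Ideal.Quotient.mk_surjective.comp Ideal.Quotient.mk_surjective
    have hker : RingHom.ker g = P' := by
      ext a
      rw [RingHom.mem_ker, ← hq'eq, Ideal.mem_comap]
      exact Ideal.Quotient.eq_zero_iff_mem
    exact (ringKrullDim_eq_of_ringEquiv (Ideal.quotEquivOfEq hker)).symm.trans
      (ringKrullDim_eq_of_ringEquiv (RingHom.quotientKerEquivOfSurjective hg))
  have h2 := ringKrullDim_quotient_span_singleton_succ_eq_ringKrullDim_of_mem_nonZeroDivisors
    hreg ht
  have e1 : ringKrullDim (A ⧸ P') =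
      (((ch (⟨P', hP'p⟩ : PrimeSpectrum A) : ℕ) : ℕ∞) : WithBot ℕ∞) :=
    ch_dim (⟨P', hP'p⟩ : PrimeSpectrum A)
  have e2 : ringKrullDim (A ⧸ q) =
      (((ch (⟨q, hqp⟩ : PrimeSpectrum A) : ℕ) : ℕ∞) : WithBot ℕ∞) :=
    ch_dim (⟨q, hqp⟩ : PrimeSpectrum A)
  apply le_antisymm (ringKrullDim_quotient_le q)
  calc ringKrullDim A = ringKrullDim (A ⧸ Ideal.span {t}) + 1 := h2.symm
    _ = (((ch (⟨P', hP'p⟩ : PrimeSpectrum A) : ℕ) : ℕ∞) : WithBot ℕ∞) + 1 := by rw [← h1, e1]
    _ = (((ch (⟨P', hP'p⟩ : PrimeSpectrum A) + 1 : ℕ) : ℕ∞) : WithBot ℕ∞) := by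
        push_cast; rfl
    _ ≤ (((ch (⟨q, hqp⟩ : PrimeSpectrum A) : ℕ) : ℕ∞) : WithBot ℕ∞) := by exact_mod_cast hch
    _ = ringKrullDim (A ⧸ q) := e2.symm

end Equidim

section Heights

variable {A : Type u} [CommRing A] [IsNoetherianRing A] [IsLocalRing A]

lemma height_add_ch_le (x : PrimeSpectrum A) :
    ((x.asIdeal.height + ((ch x : ℕ) : ℕ∞) : ℕ∞) : WithBot ℕ∞) ≤ ringKrullDim A := by
  rw [ch_spec, PrimeSpectrum.height_eq_orderHeight, ringKrullDim,
    Order.krullDim_eq_iSup_height_add_coheight_of_nonempty]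
  exact WithBot.coe_le_coe.mpr
    (le_iSup (fun a : PrimeSpectrum A => Order.height a + Order.coheight a) x)

lemma le_height_add_ch (hcat : CAlg.IsCatenary A) (hequi : EGA4.IsEquidim A)
    (x : PrimeSpectrum A) :
    ringKrullDim A ≤ ((x.asIdeal.height + ((ch x : ℕ) : ℕ∞) : ℕ∞) : WithBot ℕ∞) := by
  obtain ⟨q, hq, hqx⟩ := Ideal.exists_minimalPrimes_le (bot_le : (⊥ : Ideal A) ≤ x.asIdeal)
  have hqp : q.IsPrime := hq.1.1
  have hdq : ringKrullDim A =
      (((ch (⟨q, hqp⟩ : PrimeSpectrum A) : ℕ) : ℕ∞) : WithBot ℕ∞) :=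
    (hequi q hq).symm.trans (ch_dim (⟨q, hqp⟩ : PrimeSpectrum A))
  -- a saturated chain from q to x
  obtain ⟨L, t₁, ht1, ht2, ht3⟩ : ∃ L, Sat (⟨q, hqp⟩ : PrimeSpectrum A) x L := by
    by_cases hqx' : (⟨q, hqp⟩ : PrimeSpectrum A) = x
    · rw [hqx']
      exact ⟨0, RelSeries.singleton _ _, rfl, rfl, rfl⟩
    · have hlt : (⟨q, hqp⟩ : PrimeSpectrum A) < x := lt_of_le_of_ne hqx hqx'
      obtain ⟨L, -, hL⟩ := exists_sat_refinement
        ((RelSeries.singleton {(a, b) : PrimeSpectrum A × PrimeSpectrum A | a < b}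
          (⟨q, hqp⟩ : PrimeSpectrum A)).snoc x hlt)
      obtain ⟨t, h1, h2, h3⟩ := hL
      exact ⟨L, t, h1.trans (RelSeries.head_snoc _ _ _), h2.trans (RelSeries.last_snoc _ _ _),
        h3⟩
  obtain ⟨L₂, t₂, hs1, hs2, hs3⟩ := exists_sat x
  have hconn : t₁.last = t₂.head := ht2.trans hs1.symm
  have hsat : Sat (⟨q, hqp⟩ : PrimeSpectrum A) (IsLocalRing.closedPoint A) (L + L₂) :=
    ⟨t₁.smash t₂ hconn, (RelSeries.head_smash hconn).trans ht1,
      (RelSeries.last_smash hconn).trans hs2, by
        show t₁.length + t₂.length = L + L₂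
        rw [ht3, hs3]⟩
  have hcq := coheight_eq_of_sat hcat hsat
  have hcx := coheight_eq_of_sat hcat (⟨t₂, hs1, hs2, hs3⟩ : Sat x (IsLocalRing.closedPoint A) L₂)
  have hLx : (L : ℕ∞) ≤ Order.height x := by
    have h := Order.length_le_height_last (p := toLT t₁)
    have hlast : (toLT t₁).last = x := ht2
    rw [hlast] at h
    have hlen : (toLT t₁).length = L := ht3
    rw [hlen] at h
    exact h
  rw [hdq, ch_spec, ch_spec, hcq, hcx, PrimeSpectrum.height_eq_orderHeight]
  apply WithBot.coe_le_coe.mpr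
  push_cast
  exact add_le_add hLx le_rfl

end Heights

section Main

variable {A : Type u} [CommRing A] [IsNoetherianRing A] [IsLocalRing A]

theorem main (k : ℕ) (hcat : CAlg.IsCatenary A) (t : A) (ht : t ∈ maximalIdeal A)
    (hreg : t ∈ nonZeroDivisors A) [IsReduced (A ⧸ Ideal.span {t})]
    (heq : EGA4.IsEquidim (A ⧸ Ideal.span {t}))
    (hR : LocCoh.HasRk k (A ⧸ Ideal.span {t})) :
    IsReduced A ∧ EGA4.IsEquidim A ∧ LocCoh.HasRk k A := by
  haveI hred : IsReduced A := isReduced_of_quotient t ht hreg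
  have hequi : EGA4.IsEquidim A := isEquidim_of_quotient t ht hreg heq
  refine ⟨hred, hequi, ?_⟩
  -- primes containing t
  have key : ∀ (P : Ideal A) [P.IsPrime], t ∈ P →
      ∀ [(P.map (Ideal.Quotient.mk (Ideal.span {t}))).IsPrime],
      (P.map (Ideal.Quotient.mk (Ideal.span {t}))).height ≤ k →
      IsRegularLocalRing (Localization.AtPrime P) := by
    intro P _ htP _ hle
    haveI := hR (P.map (Ideal.Quotient.mk (Ideal.span {t}))) hle
    exact regular_of_regular_quotient t hreg P htP
  intro P hP hPk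
  by_cases htP : t ∈ P
  · haveI := map_mk_isPrime (t := t) (P := P) htP
    have hht := height_map_add_one t hreg P htP
    refine key P htP (le_trans ?_ hPk)
    rw [← hht]
    exact le_self_add
  · -- t ∉ P : go up to a prime P' minimal over P + tA
    have hne : P ⊔ Ideal.span {t} ≠ ⊤ := by
      intro h
      have h1 : P ⊔ Ideal.span {t} ≤ maximalIdeal A :=
        sup_le (le_maximalIdeal hP.ne_top) ((Ideal.span_singleton_le_iff_mem _).mpr ht)
      rw [h] at h1
      exact (maximalIdeal.isMaximal A).ne_top (top_le_iff.mp h1)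
    obtain ⟨⟨P', hP'⟩⟩ := Ideal.nonempty_minimalPrimes hne
    haveI hP'p : P'.IsPrime := hP'.1.1
    have hPP' : P ≤ P' := le_sup_left.trans hP'.1.2
    have htP' : t ∈ P' := hP'.1.2 (Ideal.mem_sup_right (Ideal.mem_span_singleton_self t))
    have hcov : (⟨P, hP⟩ : PrimeSpectrum A) ⋖ ⟨P', hP'p⟩ := covBy_of_mem_minimalPrimes htP hP'
    have hch := ch_covBy hcat hcov
    have hup := height_add_ch_le (⟨P', hP'p⟩ : PrimeSpectrum A)
    have hlow := le_height_add_ch hcat hequi (⟨P, hP⟩ : PrimeSpectrum A)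
    have h3 : (P'.height + ((ch (⟨P', hP'p⟩ : PrimeSpectrum A) : ℕ) : ℕ∞) : ℕ∞) ≤
        P.height + ((ch (⟨P, hP⟩ : PrimeSpectrum A) : ℕ) : ℕ∞) :=
      WithBot.coe_le_coe.mp (hup.trans hlow)
    rw [hch] at h3
    have h4 : P'.height ≤ P.height + 1 := by
      have h5 : P'.height + ((ch (⟨P', hP'p⟩ : PrimeSpectrum A) : ℕ) : ℕ∞) ≤
          (P.height + 1) + ((ch (⟨P', hP'p⟩ : PrimeSpectrum A) : ℕ) : ℕ∞) := by
        refine h3.trans (le_of_eq ?_)
        push_cast
        ring
      exact (ENat.add_le_add_iff_right (ENat.natCast_ne_top _)).mp h5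
    haveI := map_mk_isPrime (t := t) (P := P') htP'
    have hht := height_map_add_one t hreg P' htP'
    have h6 : (P'.map (Ideal.Quotient.mk (Ideal.span {t}))).height ≤ k := by
      have h7 : (P'.map (Ideal.Quotient.mk (Ideal.span {t}))).height + 1 ≤ P.height + 1 :=
        hht ▸ h4
      exact ((ENat.add_le_add_iff_right (by simp)).mp h7).trans hPk
    haveI hregP' : IsRegularLocalRing (Localization.AtPrime P') := key P' htP' h6
    -- descend to P
    have hdisj : Disjoint (P'.primeCompl : Set A) (P : Set A) :=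
      Set.disjoint_left.mpr (fun x hx hxP => hx (hPP' hxP))
    haveI : (P.map (algebraMap A (Localization.AtPrime P'))).IsPrime :=
      IsLocalization.isPrime_of_isPrime_disjoint P'.primeCompl (Localization.AtPrime P') P hP hdisj
    haveI : (P.map (algebraMap A (Localization.AtPrime P'))).LiesOver P :=
      IsLocalization.liesOver_map_of_isPrime_disjoint P'.primeCompl (Localization.AtPrime P') hdisj
    haveI : IsRegularLocalRing (Localization.AtPrime
        (P.map (algebraMap A (Localization.AtPrime P')))) :=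
      Groth.Agent.S0564.result (Localization.AtPrime P') _
    exact Groth.Agent.H71.RD.regular_of_flat_liesOver A (Localization.AtPrime P') P
      (P.map (algebraMap A (Localization.AtPrime P')))

end Main

end Groth.Agent.H71.QR
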