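import Mathlib
import Groth.Agent.S0564
import Groth.Agent.H71.RegularDescent
import Groth.Agent.H71.QuotRegular

/-!
# Regular rings: generization, criterion via maximal ideals, power series
-/

set_option autoImplicit false
set_option linter.style.haveILetI false
universe u

namespace Groth.Agent.H71.RL

section
variable {A : Type u} [CommRing A] [IsNoetherianRing A]

/-- regularity of the local ring passes to smaller primes (generization). -/
theorem regular_of_le (P P' : Ideal A) [hP : P.IsPrime] [P'.IsPrime] (hPP' : P ≤ P')
    [IsRegularLocalRing (Localization.AtPrime P')] :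
    IsRegularLocalRing (Localization.AtPrime P) := by
  have hdisj : Disjoint (P'.primeCompl : Set A) (P : Set A) :=
    Set.disjoint_left.mpr (fun x hx hxP => hx (hPP' hxP))
  haveI : (P.map (algebraMap A (Localization.AtPrime P'))).IsPrime :=
    IsLocalization.isPrime_of_isPrime_disjoint P'.primeCompl (Localization.AtPrime P') P hP hdisj
  haveI : (P.map (algebraMap A (Localization.AtPrime P'))).LiesOver P :=
    IsLocalization.liesOver_map_of_isPrime_disjoint P'.primeCompl (Localization.AtPrime P') hdisj
  haveI : IsRegularLocalRing (Localization.AtPrime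
      (P.map (algebraMap A (Localization.AtPrime P')))) :=
    Groth.Agent.S0564.result (Localization.AtPrime P') _
  exact Groth.Agent.H71.RD.regular_of_flat_liesOver A (Localization.AtPrime P') P
    (P.map (algebraMap A (Localization.AtPrime P')))

/-- a Noetherian ring is regular as soon as its localizations at maximal ideals are. -/
theorem isRegularRing_of_maximal
    (h : ∀ (m : Ideal A) [m.IsMaximal], IsRegularLocalRing (Localization.AtPrime m)) :
    IsRegularRing A := by
  rw [isRegularRing_iff]
  intro P hP
  obtain ⟨m, hm, hPm⟩ := Ideal.exists_le_maximal P hP.ne_top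
  haveI := hm
  haveI := h m
  exact regular_of_le P m hPm

end

section PowerSeries

variable (A : Type u) [CommRing A]

lemma X_mem_of_isMaximal (n : Ideal (PowerSeries A)) [hn : n.IsMaximal] :
    (PowerSeries.X : PowerSeries A) ∈ n := by
  by_contra hX
  obtain ⟨y, i, hi, hyi⟩ := hn.exists_inv hX
  have hc : PowerSeries.constantCoeff i = 1 := by
    have := congrArg (PowerSeries.constantCoeff (R := A)) hyi
    simpa using this
  have hu : IsUnit i := by
    rw [PowerSeries.isUnit_iff_constantCoeff, hc]
    exact isUnit_one
  exact hn.ne_top (Ideal.eq_top_of_isUnit_mem _ hi hu)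

lemma X_mem_nonZeroDivisors :
    (PowerSeries.X : PowerSeries A) ∈ nonZeroDivisors (PowerSeries A) :=
  mem_nonZeroDivisors_iff_left.mpr
    (fun f hf => PowerSeries.X_mul_cancel (by rw [hf, mul_zero]))

/-- `A⟦X⟧ / (X) ≃ A`. -/
noncomputable def quotXEquiv :
    (PowerSeries A ⧸ Ideal.span {(PowerSeries.X : PowerSeries A)}) ≃+* A :=
  (Ideal.quotEquivOfEq (by
    apply Ideal.ext
    intro φ
    rw [RingHom.mem_ker, Ideal.mem_span_singleton, PowerSeries.X_dvd_iff] :
    Ideal.span {(PowerSeries.X : PowerSeries A)} =
      RingHom.ker (PowerSeries.constantCoeff (R := A)))).trans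
  (RingHom.quotientKerEquivOfSurjective
    (fun a => ⟨PowerSeries.C a, PowerSeries.constantCoeff_C a⟩))

theorem powerSeries_isRegularRing [IsRegularRing A] : IsRegularRing (PowerSeries A) := by
  haveI : IsRegularRing (PowerSeries A ⧸ Ideal.span {(PowerSeries.X : PowerSeries A)}) :=
    IsRegularRing.of_ringEquiv (quotXEquiv A).symm
  apply isRegularRing_of_maximal
  intro n hn
  have hX := X_mem_of_isMaximal A n
  haveI := Groth.Agent.H71.QR.map_mk_isPrime (t := (PowerSeries.X : PowerSeries A)) (P := n) hX
  exact Groth.Agent.H71.QR.regular_of_regular_quotient _ (X_mem_nonZeroDivisors A) n hX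

theorem mvPowerSeries_isRegularRing [IsRegularRing A] (n : ℕ) :
    IsRegularRing (MvPowerSeries (Fin n) A) := by
  induction n with
  | zero =>
    exact IsRegularRing.of_ringEquiv
      (MvPowerSeries.isEmptyEquiv (σ := Fin 0) (R := A)).symm.toRingEquiv
  | succ n ih =>
    haveI := ih
    haveI : IsRegularRing (PowerSeries (MvPowerSeries (Fin n) A)) :=
      powerSeries_isRegularRing (MvPowerSeries (Fin n) A)
    exact IsRegularRing.of_ringEquiv (MvPowerSeries.finSuccEquiv A n).symm.toRingEquiv

end PowerSeries

end Groth.Agent.H71.RL
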