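import Mathlib
import Groth.Agent.H71.RegularLoc
import Groth.Agent.S0543

/-!
# Ascent of regularity along flat local homomorphisms with trivial closed fibre; completions
-/

set_option autoImplicit false
set_option linter.style.haveILetI false
universe u

open IsLocalRing

namespace Groth.Agent.H71.FR

/-- flat local hom `R → S` with `m_R S = m_S`, `R` regular, `S` Noetherian ⇒ `S` regular. -/
theorem regular_of_flat_of_map_maximalIdeal (R S : Type u) [CommRing R] [CommRing S]
    [IsRegularLocalRing R] [IsLocalRing S] [IsNoetherianRing S] [Algebra R S] [Module.Flat R S]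
    [IsLocalHom (algebraMap R S)]
    (h : (maximalIdeal R).map (algebraMap R S) = maximalIdeal S) : IsRegularLocalRing S := by
  apply IsRegularLocalRing.of_spanFinrank_maximalIdeal_le
  have h1 : (maximalIdeal S).spanFinrank ≤ (maximalIdeal R).spanFinrank := by
    rw [← h]
    exact Ideal.spanFinrank_map_le_of_fg _ (IsNoetherian.noetherian _)
  haveI : (maximalIdeal S).LiesOver (maximalIdeal R) :=
    ⟨(IsLocalRing.maximalIdeal_comap (algebraMap R S)).symm⟩
  have h2 := Ideal.height_eq_height_add_of_liesOver_of_hasGoingDown (maximalIdeal R)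
    (maximalIdeal S)
  have h3 : ((maximalIdeal S).map
      (Ideal.Quotient.mk ((maximalIdeal R).map (algebraMap R S)))).height = 0 := by
    have hbot : (maximalIdeal S).map
        (Ideal.Quotient.mk ((maximalIdeal R).map (algebraMap R S))) = ⊥ := by
      rw [Ideal.map_eq_bot_iff_le_ker, Ideal.mk_ker, h]
    haveI : Nontrivial (S ⧸ (maximalIdeal R).map (algebraMap R S)) :=
      Ideal.Quotient.nontrivial_iff.mpr (by rw [h]; exact (maximalIdeal.isMaximal S).ne_top)
    rw [hbot]
    exact Ideal.height_bot
  rw [h3, add_zero] at h2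
  have h4 : ringKrullDim S = ringKrullDim R := by
    rw [← IsLocalRing.maximalIdeal_height_eq_ringKrullDim,
      ← IsLocalRing.maximalIdeal_height_eq_ringKrullDim, h2]
  rw [h4, ← (isRegularLocalRing_iff R).mp inferInstance]
  exact_mod_cast h1

/-- the adic completion of a regular ring is regular. -/
theorem adicCompletion_isRegularRing (A : Type u) [CommRing A] [IsRegularRing A] (J : Ideal A) :
    IsRegularRing (AdicCompletion J A) := by
  haveI hNoeth : IsNoetherianRing (AdicCompletion J A) := Groth.Agent.S0543.result A J
  have fg : J.FG := IsNoetherian.noetherian J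
  haveI hcomp : IsAdicComplete (J.map (algebraMap A (AdicCompletion J A))) (AdicCompletion J A) :=
    AdicCompletion.isAdicComplete_self J fg
  apply Groth.Agent.H71.RL.isRegularRing_of_maximal
  intro N hN
  have hJN : J.map (algebraMap A (AdicCompletion J A)) ≤ N :=
    (IsAdicComplete.le_jacobson_bot _).trans (sInf_le ⟨bot_le, hN⟩)
  have hJn : J ≤ N.comap (algebraMap A (AdicCompletion J A)) := Ideal.map_le_iff_le_comap.mp hJN
  have hker : RingHom.ker (AdicCompletion.evalOneₐ J).toRingHom ≤ N := by
    rw [AdicCompletion.ker_evalOneₐ_eq_map J fg]; exact hJN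
  haveI hNmap : (N.map (AdicCompletion.evalOneₐ J).toRingHom).IsMaximal :=
    Ideal.IsMaximal.map_of_surjective_of_ker_le (AdicCompletion.evalOneₐ_surjective J) hker
  have hNeq : (N.map (AdicCompletion.evalOneₐ J).toRingHom).comap
      (AdicCompletion.evalOneₐ J).toRingHom = N := by
    rw [Ideal.comap_map_of_surjective' (AdicCompletion.evalOneₐ J).toRingHom
      (AdicCompletion.evalOneₐ_surjective J), sup_eq_left]
    exact hker
  have hn_eq : N.comap (algebraMap A (AdicCompletion J A)) =
      (N.map (AdicCompletion.evalOneₐ J).toRingHom).comap (Ideal.Quotient.mk J) := by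
    rw [← AdicCompletion.evalOneₐ_comp_algebraMap_eq_mk, ← Ideal.comap_comap, hNeq]
  haveI hnmax : (N.comap (algebraMap A (AdicCompletion J A))).IsMaximal := by
    rw [hn_eq]; exact Ideal.comap_isMaximal_of_surjective _ Ideal.Quotient.mk_surjective
  haveI hmapmax := AdicCompletion.isMaximal_map_of_le J
    (N.comap (algebraMap A (AdicCompletion J A))) hJn fg
  have hNn : (N.comap (algebraMap A (AdicCompletion J A))).map
      (algebraMap A (AdicCompletion J A)) = N :=
    hmapmax.eq_of_le hN.ne_top Ideal.map_comap_le
  haveI : N.LiesOver (N.comap (algebraMap A (AdicCompletion J A))) := ⟨rfl⟩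
  letI := Localization.AtPrime.algebraOfLiesOver (N.comap (algebraMap A (AdicCompletion J A))) N
  haveI : IsLocalHom (algebraMap
      (Localization.AtPrime (N.comap (algebraMap A (AdicCompletion J A))))
      (Localization.AtPrime N)) := Localization.isLocalHom_localRingHom _ _ _ _
  have hmax : (maximalIdeal (Localization.AtPrime (N.comap (algebraMap A (AdicCompletion J A))))).map
      (algebraMap (Localization.AtPrime (N.comap (algebraMap A (AdicCompletion J A))))
        (Localization.AtPrime N)) = maximalIdeal (Localization.AtPrime N) := by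
    rw [← Localization.AtPrime.map_eq_maximalIdeal, ← Localization.AtPrime.map_eq_maximalIdeal,
      Ideal.map_map,
      ← IsScalarTower.algebraMap_eq A
        (Localization.AtPrime (N.comap (algebraMap A (AdicCompletion J A))))
        (Localization.AtPrime N),
      IsScalarTower.algebraMap_eq A (AdicCompletion J A) (Localization.AtPrime N),
      ← Ideal.map_map, hNn]
  exact regular_of_flat_of_map_maximalIdeal
    (Localization.AtPrime (N.comap (algebraMap A (AdicCompletion J A))))
    (Localization.AtPrime N) hmax


/-- sub-additivity of the embedding dimension along a quotient. -/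
theorem spanFinrank_maximalIdeal_le_add (S : Type u) [CommRing S] [IsLocalRing S]
    [IsNoetherianRing S] (I : Ideal S) (hI : I ≤ maximalIdeal S) [IsLocalRing (S ⧸ I)] :
    (maximalIdeal S).spanFinrank ≤ I.spanFinrank + (maximalIdeal (S ⧸ I)).spanFinrank := by
  classical
  have hsurj : Function.Surjective (Ideal.Quotient.mk I) := Ideal.Quotient.mk_surjective
  have hfg : (maximalIdeal (S ⧸ I)).FG := IsNoetherian.noetherian _
  obtain ⟨s, hcard, hspan⟩ := Submodule.FG.exists_span_finset_card_eq_spanFinrank hfg
  have hfgI : I.FG := IsNoetherian.noetherian _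
  obtain ⟨u, hucard, huspan⟩ := Submodule.FG.exists_span_finset_card_eq_spanFinrank hfgI
  set t : Finset S := s.image (Function.surjInv hsurj) with ht
  have himg : (Ideal.Quotient.mk I) '' (t : Set S) = (s : Set (S ⧸ I)) := by
    rw [ht, Finset.coe_image, Set.image_image]
    simp [Function.surjInv_eq hsurj]
  have hmap : (Ideal.span (t : Set S)).map (Ideal.Quotient.mk I) = maximalIdeal (S ⧸ I) := by
    rw [Ideal.map_span, himg]
    exact hspan
  have hjac : I ≤ Ideal.jacobson ⊥ := by
    rw [IsLocalRing.jacobson_eq_maximalIdeal ⊥ bot_ne_top]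
    exact hI
  have hloc : IsLocalHom (Ideal.Quotient.mk I) := isLocalHom_of_le_jacobson_bot _ hjac
  have hcomap : (maximalIdeal (S ⧸ I)).comap (Ideal.Quotient.mk I) = maximalIdeal S :=
    ((IsLocalRing.local_hom_TFAE (Ideal.Quotient.mk I)).out 0 4).mp hloc
  have hmS : maximalIdeal S = Ideal.span ((t ∪ u : Finset S) : Set S) := by
    rw [← hcomap, ← hmap, Ideal.comap_map_of_surjective _ hsurj, ← RingHom.ker_eq_comap_bot,
      Ideal.mk_ker, Finset.coe_union, Ideal.span_union]
    congr 1
    exact huspan.symm
  calc (maximalIdeal S).spanFinrank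
      = (Ideal.span ((t ∪ u : Finset S) : Set S)).spanFinrank := by rw [← hmS]
    _ ≤ ((t ∪ u : Finset S) : Set S).ncard :=
        Submodule.spanFinrank_span_le_ncard_of_finite (Finset.finite_toSet _)
    _ = (t ∪ u).card := Set.ncard_coe_finset _
    _ ≤ t.card + u.card := Finset.card_union_le _ _
    _ ≤ s.card + u.card := Nat.add_le_add_right Finset.card_image_le _
    _ = I.spanFinrank + (maximalIdeal (S ⧸ I)).spanFinrank := by rw [hcard, hucard, add_comm]

/-- flat local hom, regular base and regular closed fibre ⇒ regular total ring. -/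
theorem regular_of_flat_of_regular_fibre (R S : Type u) [CommRing R] [CommRing S]
    [IsRegularLocalRing R] [IsLocalRing S] [IsNoetherianRing S] [Algebra R S] [Module.Flat R S]
    [IsLocalHom (algebraMap R S)] (I : Ideal S)
    (hI : I = (maximalIdeal R).map (algebraMap R S)) [IsRegularLocalRing (S ⧸ I)] :
    IsRegularLocalRing S := by
  apply IsRegularLocalRing.of_spanFinrank_maximalIdeal_le
  have hIle : I ≤ maximalIdeal S := by
    rw [hI]
    exact IsLocalRing.map_maximalIdeal_le (algebraMap R S)
  have h0 := spanFinrank_maximalIdeal_le_add S I hIle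
  have h1 : I.spanFinrank ≤ (maximalIdeal R).spanFinrank := by
    rw [hI]
    exact Ideal.spanFinrank_map_le_of_fg _ (IsNoetherian.noetherian _)
  haveI : (maximalIdeal S).LiesOver (maximalIdeal R) :=
    ⟨(IsLocalRing.maximalIdeal_comap (algebraMap R S)).symm⟩
  have h2 := Ideal.height_eq_height_add_of_liesOver_of_hasGoingDown (maximalIdeal R)
    (maximalIdeal S)
  rw [← hI] at h2
  have h3 : (maximalIdeal S).map (Ideal.Quotient.mk I) = maximalIdeal (S ⧸ I) :=
    IsLocalRing.map_maximalIdeal_of_surjective _ Ideal.Quotient.mk_surjective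
  rw [h3] at h2
  have h4 : ringKrullDim S = ringKrullDim R + ringKrullDim (S ⧸ I) := by
    rw [← IsLocalRing.maximalIdeal_height_eq_ringKrullDim,
      ← IsLocalRing.maximalIdeal_height_eq_ringKrullDim,
      ← IsLocalRing.maximalIdeal_height_eq_ringKrullDim, h2]
    rfl
  rw [h4, ← (isRegularLocalRing_iff R).mp inferInstance,
    ← (isRegularLocalRing_iff (S ⧸ I)).mp inferInstance]
  have h5 : (maximalIdeal S).spanFinrank ≤
      (maximalIdeal R).spanFinrank + (maximalIdeal (S ⧸ I)).spanFinrank :=
    h0.trans (Nat.add_le_add_right h1 _)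
  exact_mod_cast h5

end Groth.Agent.H71.FR
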