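import Groth.Agent.H71.DimFun
import Mathlib.Topology.JacobsonSpace
import Mathlib.Topology.KrullDimension

set_option autoImplicit false
universe u
open AlgebraicGeometry CategoryTheory TopologicalSpace

namespace Groth.Agent.H71.DimFun

theorem exists_closedPoint_specializes {T : Type u} [TopologicalSpace T] [JacobsonSpace T] (y : T) :
    ∃ z : T, y ⤳ z ∧ IsClosed ({z} : Set T) := by
  have h := closure_inter_closedPoints (X := T) (Z := closure {y}) isClosed_closure
  have hne : (closure {y} ∩ closedPoints T).Nonempty := by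
    by_contra hempty
    rw [Set.not_nonempty_iff_eq_empty] at hempty
    rw [hempty, closure_empty] at h
    have : y ∈ closure ({y} : Set T) := subset_closure rfl
    rw [← h] at this
    exact this
  obtain ⟨z, hz1, hz2⟩ := hne
  exact ⟨z, specializes_iff_mem_closure.mpr hz1, hz2⟩

theorem isDimFun_mono (X : Scheme.{u}) (δ : X → ℤ) (hδ : Cyc.IsDimFun X δ) {a b : X} (h : a ⤳ b) :
    δ b ≤ δ a := by
  by_cases hab : a = b
  · rw [hab]
  · exact (hδ a b h hab).1.le

theorem topKrullDim_closure_le (X : Scheme.{u}) (δ : X → ℤ) (hδ : Cyc.IsDimFun X δ) (ξ : X) (N : ℕ)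
    (h0 : ∀ y : X, 0 ≤ δ y) (hN : δ ξ ≤ N) :
    topologicalKrullDim ↥(closure ({ξ} : Set X)) ≤ ((N : ℕ∞) : WithBot ℕ∞) := by
  classical
  haveI : QuasiSober ↥(closure ({ξ} : Set X)) :=
    (isClosed_closure.isClosedEmbedding_subtypeVal).quasiSober
  have hgen : ∀ T : IrreducibleCloseds ↥(closure ({ξ} : Set X)),
      ∃ t : ↥(closure ({ξ} : Set X)), IsGenericPoint t (T : Set ↥(closure ({ξ} : Set X))) :=
    fun T => QuasiSober.sober T.isIrreducible T.isClosed
  choose gp hgp using hgen
  let g : IrreducibleCloseds ↥(closure ({ξ} : Set X)) → ℤ := fun T => δ (gp T : X)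
  have hmono : StrictMono g := by
    intro T T' hlt
    have hmem : gp T ∈ (T' : Set ↥(closure ({ξ} : Set X))) :=
      SetLike.coe_subset_coe.mpr hlt.le (hgp T).mem
    have hsp : gp T' ⤳ gp T := by
      rw [specializes_iff_mem_closure, (hgp T').def]; exact hmem
    have hne : gp T' ≠ gp T := by
      intro h
      apply hlt.ne
      apply SetLike.coe_injective
      rw [← (hgp T).def, ← (hgp T').def, h]
    have hspX : (gp T' : X) ⤳ (gp T : X) := hsp.map continuous_subtype_val
    have hneX : (gp T' : X) ≠ (gp T : X) := fun h => hne (Subtype.ext h)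
    exact (hδ _ _ hspX hneX).1
  unfold topologicalKrullDim Order.krullDim
  apply iSup_le
  intro p
  have h1 := (p.map g hmono).head_add_length_le_int
  rw [LTSeries.head_map, LTSeries.last_map] at h1
  have hhead : 0 ≤ g p.head := h0 _
  have hlast : g p.last ≤ δ ξ :=
    isDimFun_mono X δ hδ (specializes_iff_mem_closure.mpr (gp p.last).2)
  have hlen : ((p.map g hmono).length : ℤ) ≤ N := by linarith
  have hlen' : p.length ≤ N := by
    have : (p.map g hmono).length = p.length := rfl
    rw [this] at hlen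
    exact_mod_cast hlen
  exact_mod_cast hlen'

/-- the irreducible closed subset `closure {t}`. -/
def clIrr {Z : Type u} [TopologicalSpace Z] (t : Z) : IrreducibleCloseds Z :=
  ⟨closure {t}, isIrreducible_singleton.closure, isClosed_closure⟩

theorem clIrr_le_iff {Z : Type u} [TopologicalSpace Z] {t t' : Z} :
    clIrr t ≤ clIrr t' ↔ t' ⤳ t := by
  rw [specializes_iff_closure_subset]
  exact SetLike.coe_subset_coe.symm

theorem le_topKrullDim_closure (X : Scheme.{u}) (ξ z : X)
    (q : PrimeSpectrum (X.presheaf.stalk z)) (hq : X.fromSpecStalk z q = ξ) :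
    ((Order.coheight q : ℕ∞) : WithBot ℕ∞) ≤ topologicalKrullDim ↥(closure ({ξ} : Set X)) := by
  rw [Order.coheight_eq_krullDim_Ici]
  have hmemZ : ∀ r : Set.Ici q, X.fromSpecStalk z r.1 ∈ closure ({ξ} : Set X) := fun r => by
    rw [← specializes_iff_mem_closure, ← hq]
    exact (fromSpecStalk_specializes_iff X z q r.1).mpr r.2
  let f : Set.Ici q → (IrreducibleCloseds ↥(closure ({ξ} : Set X)))ᵒᵈ := fun r =>
    OrderDual.toDual (clIrr ⟨X.fromSpecStalk z r.1, hmemZ r⟩)
  have hf : StrictMono f := by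
    intro r r' hlt
    change clIrr (⟨X.fromSpecStalk z r'.1, hmemZ r'⟩ : ↥(closure ({ξ} : Set X))) <
      clIrr ⟨X.fromSpecStalk z r.1, hmemZ r⟩
    rw [lt_iff_le_not_ge, clIrr_le_iff, clIrr_le_iff, subtype_specializes_iff,
      subtype_specializes_iff]
    change X.fromSpecStalk z r.1 ⤳ X.fromSpecStalk z r'.1 ∧
      ¬ X.fromSpecStalk z r'.1 ⤳ X.fromSpecStalk z r.1
    rw [fromSpecStalk_specializes_iff, fromSpecStalk_specializes_iff]
    exact ⟨hlt.le, not_le_of_gt hlt⟩
  calc Order.krullDim (Set.Ici q)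
      ≤ Order.krullDim (IrreducibleCloseds ↥(closure ({ξ} : Set X)))ᵒᵈ :=
        Order.krullDim_le_of_strictMono f hf
    _ = Order.krullDim (IrreducibleCloseds ↥(closure ({ξ} : Set X))) := Order.krullDim_orderDual

theorem ker_specMap (X : Scheme.{u}) (z ξ : X) (h : ξ ⤳ z) :
    RingHom.ker (Cyc.specMap z ξ h) =
      (IsLocalRing.maximalIdeal (X.presheaf.stalk ξ)).comap (X.presheaf.stalkSpecializes h).hom := by
  ext a
  rw [RingHom.mem_ker, Ideal.mem_comap]
  change IsLocalRing.residue (X.presheaf.stalk ξ) ((X.presheaf.stalkSpecializes h).hom a) = 0 ↔ _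
  exact IsLocalRing.residue_eq_zero_iff _

theorem locQuot_dim (X : Scheme.{u}) (z ξ : X) (h : ξ ⤳ z)
    (q : PrimeSpectrum (X.presheaf.stalk z)) (hq : X.fromSpecStalk z q = ξ) :
    ringKrullDim (Cyc.LocQuot z ξ h) = ((Order.coheight q : ℕ∞) : WithBot ℕ∞) := by
  have hker : RingHom.ker (Cyc.specMap z ξ h) = q.asIdeal := by
    rw [ker_specMap]
    have h2 : (Spec.map (X.presheaf.stalkSpecializes h) ≫ X.fromSpecStalk z)
        (IsLocalRing.closedPoint (X.presheaf.stalk ξ)) =
        (X.fromSpecStalk ξ) (IsLocalRing.closedPoint (X.presheaf.stalk ξ)) := by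
      rw [Scheme.SpecMap_stalkSpecializes_fromSpecStalk]
    rw [Scheme.Hom.comp_apply, Scheme.fromSpecStalk_closedPoint] at h2
    have h3 : q = Spec.map (X.presheaf.stalkSpecializes h)
        (IsLocalRing.closedPoint (X.presheaf.stalk ξ)) :=
      fromSpecStalk_injective X z (hq.trans h2.symm)
    rw [h3]
    rfl
  rw [coheight_eq_ringKrullDim_quotient]
  exact ringKrullDim_eq_of_ringEquiv (Ideal.quotEquivOfEq hker)

end Groth.Agent.H71.DimFun
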