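import Groth.Agent.H71.HConn
import Mathlib.Order.KrullDimension
import Mathlib.RingTheory.KrullDimension.NonZeroDivisors
import Mathlib.RingTheory.Ideal.KrullsHeightTheorem

/-!
# Catenary Noetherian local rings: coheight along covering relations, equidimensionality
-/

set_option autoImplicit false
universe u

open Groth.Agent.H71.HC

namespace Groth.Agent.H71.CAT

variable {A : Type u} [CommRing A]

section Noeth

variable [IsNoetherianRing A]

instance wfGT : WellFoundedGT (PrimeSpectrum A) :=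
  StrictMono.wellFoundedGT (f := fun x : PrimeSpectrum A => x.asIdeal) (fun _ _ h => h)

lemma height_lt_top (x : PrimeSpectrum A) : Order.height x < ⊤ := by
  rw [← PrimeSpectrum.height_eq_orderHeight]
  exact Ideal.height_lt_top_of_isPrime

instance wfLT : WellFoundedLT (PrimeSpectrum A) :=
  StrictMono.wellFoundedLT (f := fun x : PrimeSpectrum A => Order.height x)
    (fun x _ h => Order.height_strictMono h (height_lt_top x))

/-- a saturated chain from `x` to `y` of length `L`. -/
def Sat (x y : PrimeSpectrum A) (L : ℕ) : Prop :=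
  ∃ t : RelSeries {(a, b) : PrimeSpectrum A × PrimeSpectrum A | a ⋖ b},
    t.head = x ∧ t.last = y ∧ t.length = L

lemma exists_sat_refinement (s : LTSeries (PrimeSpectrum A)) :
    ∃ L, s.length ≤ L ∧ Sat s.head s.last L := by
  obtain ⟨t, i, hti, hi0, hil⟩ := s.exists_relSeries_covBy
  refine ⟨t.length, ?_, t, ?_, ?_, rfl⟩
  · have := Fintype.card_le_of_embedding i
    simpa using this
  · show t 0 = s 0
    rw [← hi0]; exact congrFun hti 0
  · show t (Fin.last _) = s (Fin.last _)
    rw [← hil]; exact congrFun hti _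

lemma sat_cons {x y z : PrimeSpectrum A} (hxy : x ⋖ y) {L : ℕ} (h : Sat y z L) :
    Sat x z (L + 1) := by
  obtain ⟨t, ht1, ht2, ht3⟩ := h
  have hrel : x ⋖ t.head := ht1 ▸ hxy
  refine ⟨t.cons x hrel, RelSeries.head_cons _ _ _, ?_, ?_⟩
  · rw [RelSeries.last_cons]; exact ht2
  · rw [RelSeries.cons_length, ht3]

/-- the underlying strictly increasing series. -/
def toLT (t : RelSeries {(a, b) : PrimeSpectrum A × PrimeSpectrum A | a ⋖ b}) :
    LTSeries (PrimeSpectrum A) where
  length := t.length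
  toFun := t.toFun
  step i := by
    have h : t.toFun i.castSucc ⋖ t.toFun i.succ := t.step i
    exact h.lt

lemma toLT_covBy (t : RelSeries {(a, b) : PrimeSpectrum A × PrimeSpectrum A | a ⋖ b})
    (i : Fin (toLT t).length) : (toLT t) (Fin.castSucc i) ⋖ (toLT t) (Fin.succ i) :=
  t.step i

end Noeth

section Local

variable [IsLocalRing A]

lemma le_closedPoint (x : PrimeSpectrum A) : x ≤ IsLocalRing.closedPoint A :=
  IsLocalRing.le_maximalIdeal x.isPrime.ne_top

instance connectedSpace_of_isLocalRing : ConnectedSpace (PrimeSpectrum A) where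
  toPreconnectedSpace := ⟨isPreconnected_of_forall (IsLocalRing.closedPoint A)
    (fun y _ => ⟨closure {y}, Set.subset_univ _,
      specializes_iff_mem_closure.mp
        ((PrimeSpectrum.le_iff_specializes y _).mp (le_closedPoint y)),
      subset_closure rfl, isPreconnected_singleton.closure⟩)⟩
  toNonempty := ⟨IsLocalRing.closedPoint A⟩

variable [IsNoetherianRing A]

lemma exists_sat (x : PrimeSpectrum A) : ∃ L, Sat x (IsLocalRing.closedPoint A) L := by
  by_cases hx : x = IsLocalRing.closedPoint A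
  · subst hx
    exact ⟨0, RelSeries.singleton _ _, rfl, rfl, rfl⟩
  · have hlt : x < IsLocalRing.closedPoint A := lt_of_le_of_ne (le_closedPoint x) hx
    obtain ⟨L, -, hL⟩ := exists_sat_refinement
      ((RelSeries.singleton {(a, b) : PrimeSpectrum A × PrimeSpectrum A | a < b} x).snoc
        (IsLocalRing.closedPoint A) hlt)
    obtain ⟨t, ht1, ht2, ht3⟩ := hL
    exact ⟨L, t, ht1.trans (RelSeries.head_snoc _ _ _), ht2.trans (RelSeries.last_snoc _ _ _),
      ht3⟩

/-- in a catenary Noetherian local ring, the coheight of a prime is the length of any saturated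
chain from it to the closed point. -/
lemma coheight_eq_of_sat (hc : CAlg.IsCatenary A) {x : PrimeSpectrum A} {L : ℕ}
    (h : Sat x (IsLocalRing.closedPoint A) L) : Order.coheight x = L := by
  apply le_antisymm
  · rw [Order.coheight_eq_iSup_head_eq]
    apply iSup₂_le
    intro s hs
    obtain ⟨L', hL', hsat⟩ : ∃ L', s.length ≤ L' ∧ Sat x (IsLocalRing.closedPoint A) L' := by
      by_cases hl : s.last = IsLocalRing.closedPoint A
      · obtain ⟨L', h1, h2⟩ := exists_sat_refinement s
        rw [hs, hl] at h2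
        exact ⟨L', h1, h2⟩
      · have hlt : s.last < IsLocalRing.closedPoint A :=
          lt_of_le_of_ne (le_closedPoint _) hl
        obtain ⟨L', h1, h2⟩ := exists_sat_refinement (s.snoc _ hlt)
        rw [RelSeries.head_snoc, RelSeries.last_snoc, hs] at h2
        refine ⟨L', le_trans ?_ h1, h2⟩
        rw [RelSeries.snoc_length]
        exact Nat.le_succ _
    obtain ⟨t, ht1, ht2, ht3⟩ := hsat
    obtain ⟨t', ht1', ht2', ht3'⟩ := h
    have heq := hc.2 (toLT t) (toLT t') (ht1.trans ht1'.symm) (ht2.trans ht2'.symm)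
      (toLT_covBy t) (toLT_covBy t')
    have heq' : L' = L := by rw [← ht3, ← ht3']; exact heq
    rw [← heq']
    exact_mod_cast hL'
  · obtain ⟨t, ht1, ht2, ht3⟩ := h
    have := Order.length_le_coheight_head (p := toLT t)
    rw [← ht3, ← ht1]
    exact this

theorem coheight_eq_of_covBy (hc : CAlg.IsCatenary A) {x y : PrimeSpectrum A} (hxy : x ⋖ y) :
    Order.coheight x = Order.coheight y + 1 := by
  obtain ⟨L, hL⟩ := exists_sat y
  rw [coheight_eq_of_sat hc hL, coheight_eq_of_sat hc (sat_cons hxy hL)]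
  push_cast
  rfl

lemma ringKrullDim_quotient_eq_coheight (x : PrimeSpectrum A) :
    ringKrullDim (A ⧸ x.asIdeal) = ((Order.coheight x : ℕ∞) : WithBot ℕ∞) := by
  rw [ringKrullDim_quotient, Order.coheight_eq_krullDim_Ici]
  have : PrimeSpectrum.zeroLocus (x.asIdeal : Set A) = Set.Ici x := by
    ext q
    rw [PrimeSpectrum.mem_zeroLocus, SetLike.coe_subset_coe, Set.mem_Ici]
    rfl
  rw [this]

/-- the link step. -/
lemma ringKrullDim_quotient_eq_of_link (hc : CAlg.IsCatenary A) {a b Q : Ideal A}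
    (ha : a ∈ minimalPrimes A) (hb : b ∈ minimalPrimes A) [hQ : Q.IsPrime] (haQ : a ≤ Q)
    (hbQ : b ≤ Q) (hht : Q.height + 1 ≤ ((2 : ℕ) : ℕ∞)) :
    ringKrullDim (A ⧸ a) = ringKrullDim (A ⧸ b) := by
  by_cases hab : a = b
  · rw [hab]
  have hQ1 : Q.height ≤ 1 := by
    have h1 : Q.height + 1 ≤ 1 + 1 := by rw [one_add_one_eq_two]; exact_mod_cast hht
    exact (ENat.add_le_add_iff_right (by simp)).mp h1
  have key : ∀ c : Ideal A, ∀ hcmin : c ∈ minimalPrimes A, c ≤ Q → c ≠ Q →
      ringKrullDim (A ⧸ c) =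
        ((Order.coheight (⟨Q, hQ⟩ : PrimeSpectrum A) + 1 : ℕ∞) : WithBot ℕ∞) := by
    intro c hcmin hcQ hne
    have hlt : (⟨c, hcmin.1.1⟩ : PrimeSpectrum A) < ⟨Q, hQ⟩ := lt_of_le_of_ne hcQ
      (fun h => hne (congrArg PrimeSpectrum.asIdeal h))
    have hcov : (⟨c, hcmin.1.1⟩ : PrimeSpectrum A) ⋖ ⟨Q, hQ⟩ := by
      refine ⟨hlt, fun r h1 h2 => ?_⟩
      have e1 := Order.height_add_one_le h1
      have e2 := Order.height_add_one_le h2
      have e3 : Order.height (⟨Q, hQ⟩ : PrimeSpectrum A) ≤ 1 := by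
        rw [← PrimeSpectrum.height_eq_orderHeight]; exact hQ1
      have e4 : (1 : ℕ∞) + 1 ≤ 1 :=
        le_trans (add_le_add (le_trans (le_add_self) e1) le_rfl) (le_trans e2 e3)
      exact absurd e4 (by norm_num)
    rw [← coheight_eq_of_covBy hc hcov]
    exact ringKrullDim_quotient_eq_coheight (⟨c, hcmin.1.1⟩ : PrimeSpectrum A)
  have haQ' : a ≠ Q := by
    intro h
    exact hab (le_antisymm (h ▸ (ha.2 ⟨hb.1.1, bot_le⟩ (h ▸ hbQ))) (h ▸ hbQ))
  have hbQ' : b ≠ Q := by
    intro h
    exact hab (le_antisymm (h ▸ haQ) (h ▸ (hb.2 ⟨ha.1.1, bot_le⟩ (h ▸ haQ))))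
  rw [key a ha haQ haQ', key b hb hbQ hbQ']

/-- Hartshorne: a catenary Noetherian local ring with depth at least two at all primes of height at
least two is equidimensional. -/
theorem equidim (hc : CAlg.IsCatenary A)
    (h : ∀ (p : Ideal A) [p.IsPrime], ((2 : ℕ) : ℕ∞) ≤ p.height →
      (2 : ℕ∞) ≤ LocCoh.depth (Localization.AtPrime p) (Localization.AtPrime p))
    (p : Ideal A) (hp : p ∈ minimalPrimes A) : ringKrullDim (A ⧸ p) = ringKrullDim A := by
  have hall : ∀ p' ∈ minimalPrimes A, ringKrullDim (A ⧸ p') = ringKrullDim (A ⧸ p) := by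
    intro p' hp'
    obtain ⟨n, c, h0, hl, hmin, hlink⟩ := hartshorne_chain A 2 h p p' hp hp'
    have hind : ∀ i : Fin (n + 1), ringKrullDim (A ⧸ c i) = ringKrullDim (A ⧸ c 0) := by
      intro i
      induction i using Fin.induction with
      | zero => rfl
      | succ j ih =>
        rw [← ih]
        obtain ⟨Q, hQ, h1, h2, h3⟩ := hlink j
        exact (ringKrullDim_quotient_eq_of_link hc (hmin _) (hmin _) h1 h2 h3).symm
    rw [← hl, hind, h0]
  apply le_antisymm (ringKrullDim_quotient_le p)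
  rw [ringKrullDim, Order.krullDim_eq_iSup_coheight]
  apply iSup_le
  intro x
  obtain ⟨p', hp', hle⟩ := Ideal.exists_minimalPrimes_le (bot_le : (⊥ : Ideal A) ≤ x.asIdeal)
  rw [← hall p' hp', ringKrullDim_quotient_eq_coheight (⟨p', hp'.1.1⟩ : PrimeSpectrum A)]
  exact WithBot.coe_le_coe.mpr (Order.coheight_anti (show (⟨p', hp'.1.1⟩ : PrimeSpectrum A) ≤ x from hle))

end Local

end Groth.Agent.H71.CAT
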