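import Groth.Agent.S4730
import Groth.Agent.S9126
import Groth.Agent.H71.Catenary
import Groth.Agent.H46.Catenary2

/-!
# The dimension formula (inequality, and equality over universally catenary bases)
-/

set_option autoImplicit false
universe u

namespace Groth.Agent.H71.DimFormula

open Groth.Agent.H71.CAT

section Order

lemma height_head_add_length_le {α : Type*} [Preorder α] (l : LTSeries α) :
    Order.height l.head + l.length ≤ Order.height l.last := by
  have key : ∀ (i : ℕ) (hi : i < l.length + 1),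
      Order.height l.head + (i : ℕ∞) ≤ Order.height (l ⟨i, hi⟩) := by
    intro i
    induction i with
    | zero =>
      intro hi
      rw [Nat.cast_zero, add_zero]
      exact le_of_eq rfl
    | succ k ih =>
      intro hi
      have hk : k < l.length + 1 := by omega
      have hlt : l ⟨k, hk⟩ < l ⟨k + 1, hi⟩ := l.strictMono (by simp [Fin.lt_def])
      calc Order.height l.head + ((k + 1 : ℕ) : ℕ∞)
          = (Order.height l.head + (k : ℕ∞)) + 1 := by push_cast; rw [add_assoc]
        _ ≤ Order.height (l ⟨k, hk⟩) + 1 := add_le_add (ih hk) le_rfl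
        _ ≤ Order.height (l ⟨k + 1, hi⟩) := Order.height_add_one_le hlt
  exact key l.length (Nat.lt_succ_self _)

end Order

section LocalCat

/-- the catenary condition for saturated chains ending at a given prime. -/
def LocalCat (B : Type u) [CommRing B] (Q : PrimeSpectrum B) : Prop :=
  ∀ s t : LTSeries (PrimeSpectrum B), s.head = t.head → s.last = Q → t.last = Q →
    (∀ i : Fin s.length, s (Fin.castSucc i) ⋖ s (Fin.succ i)) →
    (∀ i : Fin t.length, t (Fin.castSucc i) ⋖ t (Fin.succ i)) → s.length = t.length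

lemma localCat_of_isCatenary {B : Type u} [CommRing B] (hc : CAlg.IsCatenary B)
    (Q : PrimeSpectrum B) : LocalCat B Q :=
  fun s t h1 h2 h3 => hc.2 s t h1 (h2.trans h3.symm)

lemma localCat_of_embedding {B C : Type u} [CommRing B] [CommRing C]
    (g : PrimeSpectrum C → PrimeSpectrum B) (hle : ∀ x y, g x ≤ g y ↔ x ≤ y)
    (hlower : ∀ x r, r ≤ g x → ∃ z, g z = r) (hC : CAlg.IsCatenary C)
    (Q₀ : PrimeSpectrum C) : LocalCat B (g Q₀) := by
  intro s t hst hs ht hss hts
  have hsr : ∀ i, s i ∈ Set.range g := fun i =>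
    hlower Q₀ (s i) (hs ▸ s.monotone (Fin.le_last i))
  have htr : ∀ i, t i ∈ Set.range g := fun i =>
    hlower Q₀ (t i) (ht ▸ t.monotone (Fin.le_last i))
  obtain ⟨s', hs'1, hs'2, hs'3, hs'4⟩ := Groth.Agent.H46.exists_lift_series g hle s hsr
  obtain ⟨t', ht'1, ht'2, ht'3, ht'4⟩ := Groth.Agent.H46.exists_lift_series g hle t htr
  have hinj : Function.Injective g := fun x y hxy =>
    le_antisymm ((hle x y).mp hxy.le) ((hle y x).mp hxy.ge)
  have := hC.2 s' t' (hinj (by rw [hs'2, ht'2, hst])) (hinj (by rw [hs'3, ht'3, hs, ht]))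
    (hs'4 hss) (ht'4 hts)
  omega

end LocalCat

section Ring

variable {B S : Type u} [CommRing B] [CommRing S]

/-- image of a chain above the kernel under a surjection. -/
lemma map_chain_le (φ : B →+* S) (hφ : Function.Surjective φ)
    (s : LTSeries (PrimeSpectrum B)) (hk : RingHom.ker φ ≤ s.head.asIdeal)
    (q : PrimeSpectrum S) (hq : s.last.asIdeal = q.asIdeal.comap φ) :
    (s.length : ℕ∞) ≤ Order.height q := by
  have hki : ∀ i, RingHom.ker φ ≤ (s i).asIdeal := fun i => hk.trans (s.head_le i)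
  have hcm : ∀ i, ((s i).asIdeal.map φ).comap φ = (s i).asIdeal := fun i => by
    rw [Ideal.comap_map_of_surjective φ hφ, sup_eq_left]
    exact hki i
  let u : LTSeries (PrimeSpectrum S) :=
    { length := s.length
      toFun := fun i => ⟨(s i).asIdeal.map φ, Ideal.map_isPrime_of_surjective hφ (hki i)⟩
      step := fun i => by
        have hlt : s i.castSucc < s i.succ := s.step i
        have hlt' : (s i.castSucc).asIdeal < (s i.succ).asIdeal := hlt
        have h3 : (s i.castSucc).asIdeal.map φ < (s i.succ).asIdeal.map φ := by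
          refine lt_of_le_of_ne (Ideal.map_mono hlt'.le) (fun heq => hlt'.ne ?_)
          have := congrArg (Ideal.comap φ) heq
          rwa [hcm, hcm] at this
        exact h3 }
  have hlast : u.last = q := by
    apply PrimeSpectrum.ext
    show (s.last).asIdeal.map φ = q.asIdeal
    rw [hq, Ideal.map_comap_of_surjective φ hφ]
  calc (s.length : ℕ∞) = u.length := rfl
    _ ≤ Order.height u.last := Order.length_le_height_last
    _ = Order.height q := by rw [hlast]

lemma height_add_height_ker_le [IsNoetherianRing S] (φ : B →+* S) (hφ : Function.Surjective φ)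
    [hk : (RingHom.ker φ).IsPrime] (q : Ideal S) [hq : q.IsPrime] :
    q.height + (RingHom.ker φ).height ≤ (q.comap φ).height := by
  haveI hQ : (q.comap φ).IsPrime := inferInstance
  have e1 : q.height = Order.height (⟨q, hq⟩ : PrimeSpectrum S) :=
    PrimeSpectrum.height_eq_orderHeight ⟨q, hq⟩
  have e2 : (RingHom.ker φ).height = Order.height (⟨RingHom.ker φ, hk⟩ : PrimeSpectrum B) :=
    PrimeSpectrum.height_eq_orderHeight ⟨_, hk⟩
  have e3 : (q.comap φ).height = Order.height (⟨q.comap φ, hQ⟩ : PrimeSpectrum B) :=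
    PrimeSpectrum.height_eq_orderHeight ⟨_, hQ⟩
  rw [e1, e2, e3]
  show Order.height (⟨q, hq⟩ : PrimeSpectrum S) +
    Order.height (⟨RingHom.ker φ, hk⟩ : PrimeSpectrum B) ≤
      Order.height (⟨q.comap φ, hQ⟩ : PrimeSpectrum B)
  have hfin : Order.height (⟨q, hq⟩ : PrimeSpectrum S) ≠ ⊤ := (CAT.height_lt_top _).ne
  obtain ⟨n, hn⟩ := ENat.ne_top_iff_exists.mp hfin
  obtain ⟨s, hs1, hs2⟩ := Order.exists_series_of_height_eq_coe _ hn.symm
  let f : PrimeSpectrum S → PrimeSpectrum B :=
    fun x => ⟨x.asIdeal.comap φ, inferInstance⟩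
  have hf : StrictMono f := by
    intro x y hxy
    have hxy' : x.asIdeal < y.asIdeal := hxy
    show Ideal.comap φ x.asIdeal < Ideal.comap φ y.asIdeal
    exact lt_of_le_of_ne (Ideal.comap_mono hxy'.le)
      (fun h => hxy'.ne (Ideal.comap_injective_of_surjective φ hφ h))
  have key := height_head_add_length_le (s.map f hf)
  rw [LTSeries.last_map, LTSeries.head_map, hs1] at key
  have hlen : (s.map f hf).length = n := hs2
  rw [hlen] at key
  have hle : Order.height (⟨RingHom.ker φ, hk⟩ : PrimeSpectrum B) ≤ Order.height (f s.head) := by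
    apply Order.height_mono
    show RingHom.ker φ ≤ Ideal.comap φ s.head.asIdeal
    exact Ideal.comap_mono bot_le
  rw [← hn, add_comm]
  exact le_trans (add_le_add hle le_rfl) key

variable [IsDomain B] [IsNoetherianRing B]

/-- the generic point of a domain. -/
def botPt : PrimeSpectrum B := ⟨⊥, Ideal.isPrime_bot⟩

lemma botPt_le (x : PrimeSpectrum B) : botPt ≤ x :=
  show (⊥ : Ideal B) ≤ x.asIdeal from bot_le

lemma exists_sat_bot (x : PrimeSpectrum B) :
    ∃ L : ℕ, (L : ℕ∞) = Order.height x ∧ Sat botPt x L := by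
  have hfin : Order.height x ≠ ⊤ := (CAT.height_lt_top x).ne
  obtain ⟨n, hn⟩ := ENat.ne_top_iff_exists.mp hfin
  obtain ⟨s, hs1, hs2⟩ := Order.exists_series_of_height_eq_coe x hn.symm
  have hhead : s.head = botPt := by
    by_contra hne
    have hlt : (botPt : PrimeSpectrum B) < s.head := lt_of_le_of_ne (botPt_le _) (Ne.symm hne)
    have h1 := Order.length_le_height_last (p := s.cons botPt hlt)
    rw [RelSeries.last_cons, hs1, RelSeries.cons_length, hs2, ← hn] at h1
    have h2 : n + 1 ≤ n := by exact_mod_cast h1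
    omega
  obtain ⟨L, hL, hsat⟩ := CAT.exists_sat_refinement s
  rw [hhead, hs1] at hsat
  refine ⟨L, ?_, hsat⟩
  obtain ⟨t, ht1, ht2, ht3⟩ := hsat
  have h1 : (L : ℕ∞) ≤ Order.height x := by
    have h := Order.length_le_height_last (p := CAT.toLT t)
    have hl : (CAT.toLT t).last = x := ht2
    have hlen : (CAT.toLT t).length = L := ht3
    rw [hl, hlen] at h
    exact h
  have h2 : Order.height x ≤ (L : ℕ∞) := by
    rw [← hn]
    have : n ≤ L := hs2 ▸ hL
    exact_mod_cast this
  exact le_antisymm h1 h2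

omit [IsDomain B] in
lemma exists_sat_of_le {x y : PrimeSpectrum B} (h : x ≤ y) : ∃ b, Sat x y b := by
  rcases eq_or_lt_of_le h with heq | hlt
  · subst heq
    exact ⟨0, RelSeries.singleton _ x, rfl, rfl, rfl⟩
  · obtain ⟨L, _, hs⟩ := CAT.exists_sat_refinement
      ((RelSeries.singleton {(a, b) : PrimeSpectrum B × PrimeSpectrum B | a < b} x).snoc y hlt)
    have h1 : ((RelSeries.singleton {(a, b) : PrimeSpectrum B × PrimeSpectrum B | a < b} x).snoc
        y hlt).head = x := (RelSeries.head_snoc _ _ _).trans (RelSeries.head_singleton _)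
    have h2 : ((RelSeries.singleton {(a, b) : PrimeSpectrum B × PrimeSpectrum B | a < b} x).snoc
        y hlt).last = y := RelSeries.last_snoc _ _ _
    rw [h1, h2] at hs
    exact ⟨L, hs⟩

omit [IsDomain B] in
lemma sat_trans {x y z : PrimeSpectrum B} {L M : ℕ} (h1 : Sat x y L) (h2 : Sat y z M) :
    Sat x z (L + M) := by
  obtain ⟨t1, a1, b1, c1⟩ := h1
  obtain ⟨t2, a2, b2, c2⟩ := h2
  refine ⟨t1.smash t2 (b1.trans a2.symm), ?_, ?_, ?_⟩
  · rw [RelSeries.head_smash]; exact a1
  · rw [RelSeries.last_smash]; exact b2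
  · show t1.length + t2.length = L + M
    rw [c1, c2]

lemma height_comap_le_of_localCat (φ : B →+* S)
    (hφ : Function.Surjective φ) [hk : (RingHom.ker φ).IsPrime] (q : Ideal S) [hq : q.IsPrime]
    [hQ : (q.comap φ).IsPrime] (hc : LocalCat B ⟨q.comap φ, hQ⟩) :
    (q.comap φ).height ≤ q.height + (RingHom.ker φ).height := by
  have e1 : q.height = Order.height (⟨q, hq⟩ : PrimeSpectrum S) :=
    PrimeSpectrum.height_eq_orderHeight ⟨q, hq⟩
  have e2 : (RingHom.ker φ).height = Order.height (⟨RingHom.ker φ, hk⟩ : PrimeSpectrum B) :=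
    PrimeSpectrum.height_eq_orderHeight ⟨_, hk⟩
  have e3 : (q.comap φ).height = Order.height (⟨q.comap φ, hQ⟩ : PrimeSpectrum B) :=
    PrimeSpectrum.height_eq_orderHeight ⟨_, hQ⟩
  rw [e1, e2, e3]
  let Pp : PrimeSpectrum B := ⟨RingHom.ker φ, hk⟩
  let Qp : PrimeSpectrum B := ⟨q.comap φ, hQ⟩
  show Order.height Qp ≤ Order.height (⟨q, hq⟩ : PrimeSpectrum S) + Order.height Pp
  have hPQ : Pp ≤ Qp := show RingHom.ker φ ≤ q.comap φ from Ideal.comap_mono bot_le
  obtain ⟨a, ha, hsa⟩ := exists_sat_bot Pp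
  obtain ⟨L, hL, hsL⟩ := exists_sat_bot Qp
  obtain ⟨b, hsb⟩ := exists_sat_of_le hPQ
  have hb : (b : ℕ∞) ≤ Order.height (⟨q, hq⟩ : PrimeSpectrum S) := by
    obtain ⟨t, ht1, ht2, ht3⟩ := hsb
    have hh : (CAT.toLT t).head = Pp := ht1
    have hl : (CAT.toLT t).last = Qp := ht2
    have hlen : (CAT.toLT t).length = b := ht3
    have := map_chain_le φ hφ (CAT.toLT t)
      (le_of_eq (congrArg PrimeSpectrum.asIdeal hh).symm) ⟨q, hq⟩
      (congrArg PrimeSpectrum.asIdeal hl)
    rwa [hlen] at this
  have hab : a + b = L := by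
    obtain ⟨t1, x1, y1, z1⟩ := sat_trans hsa hsb
    obtain ⟨t2, x2, y2, z2⟩ := hsL
    have h := hc (CAT.toLT t1) (CAT.toLT t2) (x1.trans x2.symm) y1 y2
      (CAT.toLT_covBy t1) (CAT.toLT_covBy t2)
    have e1 : (CAT.toLT t1).length = a + b := z1
    have e2 : (CAT.toLT t2).length = L := z2
    omega
  rw [← hL, ← ha, ← hab]
  push_cast
  rw [add_comm]
  exact add_le_add hb le_rfl

end Ring

section OneGen

open Polynomial

variable (R S : Type u) [CommRing R] [IsDomain R] [IsNoetherianRing R] [CommRing S] [IsDomain S]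
  [Algebra R S] [FaithfulSMul R S]

theorem one_gen (a : S) (ha : Algebra.adjoin R {a} = ⊤) (p : Ideal R) [p.IsPrime]
    (q : Ideal S) [q.IsPrime] [q.LiesOver p] :
    ((q.height : Cardinal.{u}) + Algebra.trdeg (R ⧸ p) (S ⧸ q) ≤
        (p.height : Cardinal.{u}) + Algebra.trdeg R S) ∧
    (LocalCat R[X] ⟨q.comap ((Polynomial.aeval a : R[X] →ₐ[R] S) : R[X] →+* S),
        inferInstance⟩ → (q.height : Cardinal.{u}) + Algebra.trdeg (R ⧸ p) (S ⧸ q) =
        (p.height : Cardinal.{u}) + Algebra.trdeg R S) := by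
  classical
  have hφ : Function.Surjective (Polynomial.aeval a : R[X] →ₐ[R] S) := by
    rw [← AlgHom.range_eq_top, ← Algebra.adjoin_singleton_eq_range_aeval]
    exact ha
  let φ : R[X] →ₐ[R] S := Polynomial.aeval a
  let φr : R[X] →+* S := (φ : R[X] →+* S)
  have hφr : Function.Surjective φr := hφ
  haveI : IsNoetherianRing S := isNoetherianRing_of_surjective R[X] S φr hφr
  have hcomp : φr.comp (algebraMap R R[X]) = algebraMap R S := φ.comp_algebraMap
  let Q : Ideal R[X] := q.comap φr
  haveI hQp : Q.IsPrime := Ideal.comap_isPrime φr q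
  haveI hQl : Q.LiesOver p := ⟨by
    show p = Ideal.comap (algebraMap R R[X]) (Ideal.comap φr q)
    rw [Ideal.comap_comap, hcomp]
    exact (‹q.LiesOver p›).over⟩
  have h4730 := Groth.Agent.S4730.result R p Q
  have htr : Algebra.trdeg (R ⧸ p) (R[X] ⧸ Q) = Algebra.trdeg (R ⧸ p) (S ⧸ q) := by
    let ψr : R[X] ⧸ Q →+* S ⧸ q := Ideal.quotientMap q φr le_rfl
    have hψi : Function.Injective ψr := Ideal.quotientMap_injective
    have hψs : Function.Surjective ψr := Ideal.quotientMap_surjective hφr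
    let ψ : (R[X] ⧸ Q) →ₐ[R ⧸ p] (S ⧸ q) :=
      { ψr with
        commutes' := by
          intro x
          obtain ⟨r, rfl⟩ := Ideal.Quotient.mk_surjective x
          show ψr (algebraMap (R ⧸ p) (R[X] ⧸ Q) (Ideal.Quotient.mk p r)) =
            algebraMap (R ⧸ p) (S ⧸ q) (Ideal.Quotient.mk p r)
          rw [Ideal.Quotient.algebraMap_mk_of_liesOver, Ideal.Quotient.algebraMap_mk_of_liesOver]
          show Ideal.quotientMap q φr le_rfl (Ideal.Quotient.mk Q _) = _
          rw [Ideal.quotientMap_mk]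
          exact congrArg (Ideal.Quotient.mk q) (φ.commutes r) }
    exact (AlgEquiv.ofBijective ψ ⟨hψi, hψs⟩).trdeg_eq
  rw [htr] at h4730
  haveI hker : (RingHom.ker φr).IsPrime := RingHom.ker_isPrime φr
  by_cases hk : RingHom.ker φr = ⊥
  · have hinj : Function.Injective φ := (RingHom.injective_iff_ker_eq_bot φr).mpr hk
    let e : R[X] ≃ₐ[R] S := AlgEquiv.ofBijective φ ⟨hinj, hφ⟩
    have hT : Algebra.trdeg R S = 1 := by rw [← e.trdeg_eq, Polynomial.trdeg_of_isDomain]
    have hht : Q.height = q.height := RingEquiv.height_comap (e : R[X] ≃+* S) q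
    have heq : (q.height : Cardinal.{u}) + Algebra.trdeg (R ⧸ p) (S ⧸ q) =
        (p.height : Cardinal.{u}) + Algebra.trdeg R S := by
      rw [hT, h4730, hht]
    exact ⟨heq.le, fun _ => heq⟩
  · have h1 : (1 : ℕ∞) ≤ (RingHom.ker φr).height := by
      rw [ENat.one_le_iff_ne_zero]
      exact fun h0 => hk (Ideal.height_eq_zero_iff_eq_bot.mp h0)
    have h2 := height_add_height_ker_le φr hφr q
    have h3 : q.height + 1 ≤ Q.height := le_trans (add_le_add le_rfl h1) h2
    have h3c : (q.height : Cardinal.{u}) + 1 ≤ (Q.height : Cardinal.{u}) := by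
      have := Cardinal.ofENat_le_ofENat.mpr h3
      rwa [Cardinal.ofENat_add, Cardinal.ofENat_one] at this
    refine ⟨?_, fun hc => ?_⟩
    · have h5 : ((q.height : Cardinal.{u}) + Algebra.trdeg (R ⧸ p) (S ⧸ q)) + 1 ≤
          (p.height : Cardinal.{u}) + 1 := by
        rw [h4730]
        calc ((q.height : Cardinal.{u}) + Algebra.trdeg (R ⧸ p) (S ⧸ q)) + 1
            = ((q.height : Cardinal.{u}) + 1) + Algebra.trdeg (R ⧸ p) (S ⧸ q) := by ring
          _ ≤ (Q.height : Cardinal.{u}) + Algebra.trdeg (R ⧸ p) (S ⧸ q) :=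
            add_le_add h3c le_rfl
      exact (Cardinal.add_one_le_add_one_iff.mp h5).trans (self_le_add_right _ _)
    · have hle := height_comap_le_of_localCat φr hφr q hc
      have hker1 : (RingHom.ker φr).height ≤ 1 := by
        haveI hb : (⊥ : Ideal R).IsPrime := Ideal.isPrime_bot
        haveI : (RingHom.ker φr).LiesOver (⊥ : Ideal R) := ⟨by
          show (⊥ : Ideal R) = Ideal.comap (algebraMap R R[X]) (RingHom.ker φr)
          rw [RingHom.comap_ker, hcomp]
          exact ((RingHom.injective_iff_ker_eq_bot _).mp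
            (FaithfulSMul.algebraMap_injective R S)).symm⟩
        have h := Groth.Agent.S4730.result R (⊥ : Ideal R) (RingHom.ker φr)
        have h' : ((RingHom.ker φr).height : Cardinal.{u}) ≤ ((1 : ℕ∞) : Cardinal.{u}) := by
          rw [Cardinal.ofENat_one]
          calc ((RingHom.ker φr).height : Cardinal.{u})
              ≤ ((RingHom.ker φr).height : Cardinal.{u}) +
                  Algebra.trdeg (R ⧸ (⊥ : Ideal R)) (R[X] ⧸ RingHom.ker φr) :=
                self_le_add_right _ _
            _ = (((⊥ : Ideal R).height : ℕ∞) : Cardinal.{u}) + 1 := h.symm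
            _ = 1 := by
                rw [Ideal.height_eq_zero_iff_eq_bot.mpr rfl, Cardinal.ofENat_zero, zero_add]
        exact Cardinal.ofENat_le_ofENat.mp h'
      have hQ : Q.height = q.height + 1 :=
        le_antisymm (hle.trans (add_le_add le_rfl hker1)) h3
      have hT : Algebra.trdeg R S = 0 := by
        obtain ⟨f, hfmem, hf0⟩ := Submodule.exists_mem_ne_zero_of_ne_bot hk
        have hX : IsAlgebraic R a := ⟨f, hf0, RingHom.mem_ker.mp hfmem⟩
        haveI halg : Algebra.IsAlgebraic R S := ⟨fun x => by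
          apply Algebra.isAlgebraic_adjoin_singleton_iff.mpr hX
          rw [ha]; exact Algebra.mem_top⟩
        exact trdeg_eq_zero
      rw [hT, add_zero]
      have h6 : ((q.height : Cardinal.{u}) + Algebra.trdeg (R ⧸ p) (S ⧸ q)) + 1 =
          (p.height : Cardinal.{u}) + 1 := by
        rw [h4730, hQ, Cardinal.ofENat_add, Cardinal.ofENat_one]; ring
      exact Cardinal.add_one_inj.mp h6

end OneGen

section Main

open Polynomial

variable {S : Type u} [CommRing S] [IsDomain S]

/-- the hypothesis carried along the induction: local catenarity of the polynomial rings over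
the finite type intermediate rings at the primes induced from `q`. -/
def Hyp (R : Type u) [CommRing R] [Algebra R S] (q : Ideal S) [q.IsPrime] : Prop :=
  ∀ (R' : Type u) [CommRing R'] [IsDomain R'] [Algebra R R'] [Algebra R' S]
    [IsScalarTower R R' S] [FaithfulSMul R' S] [Algebra.FiniteType R R'] (a : S),
    LocalCat R'[X] ⟨q.comap ((Polynomial.aeval a : R'[X] →ₐ[R'] S) : R'[X] →+* S), inferInstance⟩

theorem main' (s : Finset S) : ∀ (R : Type u) [CommRing R] [IsDomain R] [IsNoetherianRing R]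
    [Algebra R S] [FaithfulSMul R S], Algebra.adjoin R (↑s : Set S) = ⊤ →
    ∀ (p : Ideal R) [p.IsPrime] (q : Ideal S) [q.IsPrime] [q.LiesOver p],
    ((q.height : Cardinal.{u}) + Algebra.trdeg (R ⧸ p) (S ⧸ q) ≤
        (p.height : Cardinal.{u}) + Algebra.trdeg R S) ∧
    (Hyp R q →
      (q.height : Cardinal.{u}) + Algebra.trdeg (R ⧸ p) (S ⧸ q) =
        (p.height : Cardinal.{u}) + Algebra.trdeg R S) := by
  classical
  induction s using Finset.induction_on with
  | empty =>
    intro R _ _ _ _ _ hs p _ q _ _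
    have ha : Algebra.adjoin R {(0 : S)} = ⊤ := by
      rw [Finset.coe_empty, Algebra.adjoin_empty] at hs
      refine eq_top_iff.mpr ?_
      rw [← hs]; exact bot_le
    obtain ⟨h1, h2⟩ := one_gen R S 0 ha p q
    exact ⟨h1, fun H => h2 (H R 0)⟩
  | insert a s' _ ih =>
    intro R _ _ _ _ _ hs p _ q _ _
    let R₁ : Subalgebra R S := Algebra.adjoin R {a}
    haveI hfg : Algebra.FiniteType R R₁ :=
      (Subalgebra.fg_iff_finiteType _).mp ⟨{a}, by simp [R₁]⟩
    haveI : IsNoetherianRing R₁ := Algebra.FiniteType.isNoetherianRing R R₁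
    haveI : FaithfulSMul R₁ S :=
      (faithfulSMul_iff_algebraMap_injective R₁ S).mpr Subtype.val_injective
    haveI : FaithfulSMul R R₁ := (faithfulSMul_iff_algebraMap_injective R R₁).mpr (by
      intro x y hxy
      apply FaithfulSMul.algebraMap_injective R S
      have := congrArg (algebraMap R₁ S) hxy
      rwa [← IsScalarTower.algebraMap_apply, ← IsScalarTower.algebraMap_apply] at this)
    have hs' : Algebra.adjoin R₁ (↑s' : Set S) = ⊤ := by
      rw [Finset.coe_insert, Set.insert_eq, Algebra.adjoin_union_eq_adjoin_adjoin] at hs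
      apply Subalgebra.restrictScalars_injective R
      rw [hs, Subalgebra.restrictScalars_top]
    have ha₁ : Algebra.adjoin R {(⟨a, Algebra.subset_adjoin rfl⟩ : R₁)} = ⊤ := by
      have := Algebra.adjoin_adjoin_coe_preimage (R := R) (s := ({a} : Set S))
      convert this using 2
      ext x
      simp [Subtype.ext_iff]
    let q₁ : Ideal R₁ := q.under R₁
    haveI : q₁.IsPrime := inferInstance
    haveI : q.LiesOver q₁ := inferInstance
    haveI : q₁.LiesOver p := inferInstance
    obtain ⟨A1, A2⟩ := one_gen R R₁ ⟨a, Algebra.subset_adjoin rfl⟩ ha₁ p q₁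
    obtain ⟨B1, B2⟩ := ih R₁ hs' q₁ q
    have tow : Algebra.trdeg R R₁ + Algebra.trdeg R₁ S = Algebra.trdeg R S :=
      trdeg_add_eq R R₁ (A := S)
    haveI : IsScalarTower (R ⧸ p) (R₁ ⧸ q₁) (S ⧸ q) := IsScalarTower.of_algebraMap_eq (by
      intro x
      obtain ⟨r, rfl⟩ := Ideal.Quotient.mk_surjective x
      exact congrArg (Ideal.Quotient.mk q) (IsScalarTower.algebraMap_apply R R₁ S r))
    have tow' : Algebra.trdeg (R ⧸ p) (R₁ ⧸ q₁) + Algebra.trdeg (R₁ ⧸ q₁) (S ⧸ q) =
        Algebra.trdeg (R ⧸ p) (S ⧸ q) :=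
      trdeg_add_eq (R ⧸ p) (R₁ ⧸ q₁) (A := S ⧸ q)
    refine ⟨?_, fun H => ?_⟩
    · calc (q.height : Cardinal.{u}) + Algebra.trdeg (R ⧸ p) (S ⧸ q)
          = ((q.height : Cardinal.{u}) + Algebra.trdeg (R₁ ⧸ q₁) (S ⧸ q)) +
              Algebra.trdeg (R ⧸ p) (R₁ ⧸ q₁) := by rw [← tow']; ring
        _ ≤ ((q₁.height : Cardinal.{u}) + Algebra.trdeg R₁ S) +
              Algebra.trdeg (R ⧸ p) (R₁ ⧸ q₁) := add_le_add B1 le_rfl
        _ = ((q₁.height : Cardinal.{u}) + Algebra.trdeg (R ⧸ p) (R₁ ⧸ q₁)) +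
              Algebra.trdeg R₁ S := by ring
        _ ≤ ((p.height : Cardinal.{u}) + Algebra.trdeg R R₁) + Algebra.trdeg R₁ S :=
            add_le_add A1 le_rfl
        _ = (p.height : Cardinal.{u}) + Algebra.trdeg R S := by rw [← tow]; ring
    · have A2' := A2 (by
        have h0 := H R a
        have hI : q₁.comap ((Polynomial.aeval (⟨a, Algebra.subset_adjoin rfl⟩ : R₁) :
              R[X] →ₐ[R] R₁) : R[X] →+* R₁) =
            q.comap ((Polynomial.aeval a : R[X] →ₐ[R] S) : R[X] →+* S) := by
          ext f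
          show algebraMap R₁ S (Polynomial.aeval (⟨a, Algebra.subset_adjoin rfl⟩ : R₁) f) ∈ q ↔
            Polynomial.aeval a f ∈ q
          rw [← Polynomial.aeval_algebraMap_apply]
          exact Iff.rfl
        have hpt : (⟨q₁.comap ((Polynomial.aeval (⟨a, Algebra.subset_adjoin rfl⟩ : R₁) :
              R[X] →ₐ[R] R₁) : R[X] →+* R₁), inferInstance⟩ : PrimeSpectrum R[X]) =
            ⟨q.comap ((Polynomial.aeval a : R[X] →ₐ[R] S) : R[X] →+* S), inferInstance⟩ :=
          PrimeSpectrum.ext hI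
        exact (congrArg (LocalCat R[X]) hpt).mpr h0)
      have B2' := B2 (by
        intro R' _ _ _ _ _ _ _ b
        letI : Algebra R R' := ((algebraMap R₁ R').comp (algebraMap R R₁)).toAlgebra
        haveI : IsScalarTower R R₁ R' := IsScalarTower.of_algebraMap_eq' rfl
        haveI : IsScalarTower R R' S := IsScalarTower.of_algebraMap_eq (fun x => by
          show algebraMap R S x = algebraMap R' S (algebraMap R₁ R' (algebraMap R R₁ x))
          rw [← IsScalarTower.algebraMap_apply R₁ R' S, ← IsScalarTower.algebraMap_apply R R₁ S])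
        haveI : Algebra.FiniteType R R' :=
          Algebra.FiniteType.trans (inferInstance : Algebra.FiniteType R R₁) inferInstance
        exact H R' b)
      calc (q.height : Cardinal.{u}) + Algebra.trdeg (R ⧸ p) (S ⧸ q)
          = ((q.height : Cardinal.{u}) + Algebra.trdeg (R₁ ⧸ q₁) (S ⧸ q)) +
              Algebra.trdeg (R ⧸ p) (R₁ ⧸ q₁) := by rw [← tow']; ring
        _ = ((q₁.height : Cardinal.{u}) + Algebra.trdeg R₁ S) +
              Algebra.trdeg (R ⧸ p) (R₁ ⧸ q₁) := by rw [B2']
        _ = ((q₁.height : Cardinal.{u}) + Algebra.trdeg (R ⧸ p) (R₁ ⧸ q₁)) +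
              Algebra.trdeg R₁ S := by ring
        _ = ((p.height : Cardinal.{u}) + Algebra.trdeg R R₁) + Algebra.trdeg R₁ S := by
            rw [A2']
        _ = (p.height : Cardinal.{u}) + Algebra.trdeg R S := by rw [← tow]; ring

theorem main (s : Finset S) (R : Type u) [CommRing R] [IsDomain R] [IsNoetherianRing R]
    [Algebra R S] [FaithfulSMul R S] (hs : Algebra.adjoin R (↑s : Set S) = ⊤)
    (p : Ideal R) [p.IsPrime] (q : Ideal S) [q.IsPrime] [q.LiesOver p] :
    ((q.height : Cardinal.{u}) + Algebra.trdeg (R ⧸ p) (S ⧸ q) ≤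
        (p.height : Cardinal.{u}) + Algebra.trdeg R S) ∧
    (CAlg.IsUniversallyCatenary R →
      (q.height : Cardinal.{u}) + Algebra.trdeg (R ⧸ p) (S ⧸ q) =
        (p.height : Cardinal.{u}) + Algebra.trdeg R S) := by
  obtain ⟨h1, h2⟩ := main' s R hs p q
  refine ⟨h1, fun hR => h2 ?_⟩
  intro R' _ _ _ _ _ _ _ a
  exact localCat_of_isCatenary (hR.2 R'[X]
    (Algebra.FiniteType.trans (inferInstance : Algebra.FiniteType R R') inferInstance)) _

end Main

end Groth.Agent.H71.DimFormula
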