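import Mathlib
import Groth.Agent.H14.AnnParams

/-!
# Multipliers with given parameters (squad lemma (Mult) for S6824)
-/

set_option autoImplicit false
universe u

namespace Groth.Agent.H71.Mult

open IsLocalRing Groth.Agent.H14.AnnParams

theorem span_unit_mul {S : Type u} [CommRing S] {ι : Type*} (g : ι → S) (w : ι → S)
    (hw : ∀ i, IsUnit (w i)) :
    Ideal.span (Set.range fun i => w i * g i) = Ideal.span (Set.range g) := by
  apply le_antisymm
  · rw [Ideal.span_le]
    rintro _ ⟨i, rfl⟩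
    exact Ideal.mul_mem_left _ _ (Ideal.subset_span ⟨i, rfl⟩)
  · rw [Ideal.span_le]
    rintro _ ⟨i, rfl⟩
    obtain ⟨w', hw'⟩ := (hw i).exists_left_inv
    have h : g i = w' * (w i * g i) := by rw [← mul_assoc, hw', one_mul]
    show g i ∈ _
    rw [h]
    exact Ideal.mul_mem_left _ _ (Ideal.subset_span ⟨i, rfl⟩)

/-- the inductive choice of multipliers making the annihilator condition hold -/
theorem key {Λ : Type u} [CommRing Λ] [IsNoetherianRing Λ] (q : Ideal Λ) [q.IsPrime]
    [IsRegularLocalRing (Localization.AtPrime q)]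
    (d : ℕ) (hd : ringKrullDim (Localization.AtPrime q) = d) (e : ℕ) (he : 0 < e)
    (x : Fin d → Λ)
    (F1 : ∀ t : Fin d → Λ, (∀ i, t i ∉ q) →
      Ideal.span (Set.range fun i => algebraMap Λ (Localization.AtPrime q) (t i * x i)) =
        maximalIdeal (Localization.AtPrime q)) :
    ∃ t : Fin d → Λ, (∀ i, t i ∉ q) ∧ ∀ (i : Fin d) (y : Λ),
      (t i * x i) ^ 2 * y ∈ Ideal.span (Set.range
          fun j : {j : Fin d // (j : ℕ) < (i : ℕ)} => (t j * x j) ^ e) →
        (t i * x i) * y ∈ Ideal.span (Set.range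
          fun j : {j : Fin d // (j : ℕ) < (i : ℕ)} => (t j * x j) ^ e) := by
  classical
  have key : ∀ k : ℕ, k ≤ d → ∃ t : Fin d → Λ, (∀ i, t i ∉ q) ∧ ∀ i : Fin d, (i : ℕ) < k →
      ∀ y : Λ, (t i * x i) ^ 2 * y ∈ Ideal.span (Set.range
          fun j : {j : Fin d // (j : ℕ) < (i : ℕ)} => (t j * x j) ^ e) →
        (t i * x i) * y ∈ Ideal.span (Set.range
          fun j : {j : Fin d // (j : ℕ) < (i : ℕ)} => (t j * x j) ^ e) := by
    intro k
    induction k with
    | zero =>
      intro _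
      exact ⟨fun _ => 1, fun _ h => (Ideal.IsPrime.ne_top inferInstance)
        ((Ideal.eq_top_iff_one q).mpr h), fun i hi => absurd hi (Nat.not_lt_zero _)⟩
    | succ k ih =>
      intro hk
      obtain ⟨t, htq, ht⟩ := ih (by omega)
      have hkd : k < d := by omega
      have hreg : ∀ y : Localization.AtPrime q,
          algebraMap Λ (Localization.AtPrime q) (t ⟨k, hkd⟩ * x ⟨k, hkd⟩) * y ∈
            (Ideal.span (Set.range fun j : {j : Fin d // (j : ℕ) < k} =>
              (t j * x j) ^ e)).map (algebraMap Λ (Localization.AtPrime q)) →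
          y ∈ (Ideal.span (Set.range fun j : {j : Fin d // (j : ℕ) < k} =>
              (t j * x j) ^ e)).map (algebraMap Λ (Localization.AtPrime q)) := by
        have hJmap : (Ideal.span (Set.range fun j : {j : Fin d // (j : ℕ) < k} =>
              (t j * x j) ^ e)).map (algebraMap Λ (Localization.AtPrime q)) =
            Ideal.span (Set.range fun j : {j : Fin d // (j : ℕ) < k} =>
              (algebraMap Λ (Localization.AtPrime q) (t j * x j)) ^ e) := by
          rw [Ideal.map_span, ← Set.range_comp]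
          congr 2
          ext j
          simp only [Function.comp_apply, map_pow]
        intro y hy
        rw [hJmap] at hy ⊢
        exact regular_mod_pows (Localization.AtPrime q) d hd
          (fun i => algebraMap Λ (Localization.AtPrime q) (t i * x i)) (F1 t htq) e he
          ⟨k, hkd⟩ y hy
      obtain ⟨t', ht'q, ht'⟩ := exists_good q _ _ hreg
      refine ⟨Function.update t ⟨k, hkd⟩ (t' * t ⟨k, hkd⟩), ?_, ?_⟩
      · intro i
        by_cases h : i = ⟨k, hkd⟩
        · subst h
          rw [Function.update_self]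
          exact fun hm => (Ideal.IsPrime.mem_or_mem inferInstance hm).elim ht'q (htq _)
        · rw [Function.update_of_ne h]
          exact htq i
      · intro i hi y
        have hJeq : (fun j : {j : Fin d // (j : ℕ) < (i : ℕ)} =>
            (Function.update t ⟨k, hkd⟩ (t' * t ⟨k, hkd⟩) j * x j) ^ e) =
            fun j : {j : Fin d // (j : ℕ) < (i : ℕ)} => (t j * x j) ^ e := by
          funext j
          have hne : (j : Fin d) ≠ ⟨k, hkd⟩ := by
            intro h
            have h' := congrArg Fin.val h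
            have := j.2
            simp only at h'
            omega
          rw [Function.update_of_ne hne]
        rw [hJeq]
        by_cases h : i = ⟨k, hkd⟩
        · subst h
          rw [Function.update_self]
          have hmul : t' * t ⟨k, hkd⟩ * x ⟨k, hkd⟩ = t' * (t ⟨k, hkd⟩ * x ⟨k, hkd⟩) :=
            mul_assoc _ _ _
          rw [hmul]
          exact ht' y
        · rw [Function.update_of_ne h]
          refine ht i ?_ y
          have : (i : ℕ) ≠ k := fun h' => h (Fin.ext h')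
          omega
  obtain ⟨t, htq, ht⟩ := key d le_rfl
  exact ⟨t, htq, fun i y => ht i i.2 y⟩

theorem exists_lambda_multipliers {Λ : Type u} [CommRing Λ] [IsNoetherianRing Λ] (𝔮 : Ideal Λ) [𝔮.IsPrime] [IsRegularLocalRing (Localization.AtPrime 𝔮)] (d : ℕ) (hd : ringKrullDim (Localization.AtPrime 𝔮) = d) (a : Fin d → Λ) (ha𝔮 : ∀ i, a i ∈ 𝔮) (hgen : Ideal.span (Set.range fun i => algebraMap Λ (Localization.AtPrime 𝔮) (a i)) = maximalIdeal (Localization.AtPrime 𝔮)) {r : ℕ} (hh : Fin r → Λ) (N n e : ℕ) (hN : 0 < N) (he : 0 < e) (hNn : N ≤ n) (hpow : (𝔮 ^ N).map (algebraMap Λ (Localization.AtPrime 𝔮)) ≤ (Ideal.span (Set.range hh)).map (algebraMap Λ (Localization.AtPrime 𝔮))) (D : Fin d → Fin r → Localization.AtPrime 𝔮) (hD : ∀ i, algebraMap Λ (Localization.AtPrime 𝔮) (a i) ^ N - ∑ j, algebraMap Λ (Localization.AtPrime 𝔮) (hh j) * D i j ∈ maximalIdeal (Localization.AtPrime 𝔮) ^ n) : ∃ (δ : Fin d → Λ) (lam : Fin d → Fin r → Λ), (∀ i, δ i ∉ 𝔮) ∧ (∀ i, (a i * δ i) ^ N = ∑ j, hh j * lam i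 j) ∧ (∀ (i : Fin d) (y : Λ), (a i * δ i) ^ 2 * y ∈ Ideal.span (Set.range fun j : {j : Fin d // (j : ℕ) < (i : ℕ)} => (a j * δ j) ^ e) → (a i * δ i) * y ∈ Ideal.span (Set.range fun j : {j : Fin d // (j : ℕ) < (i : ℕ)} => (a j * δ j) ^ e)) ∧ (∀ i j, algebraMap Λ (Localization.AtPrime 𝔮) (lam i j) - algebraMap Λ (Localization.AtPrime 𝔮) (δ i) ^ N * D i j ∈ maximalIdeal (Localization.AtPrime 𝔮) ^ (n - N)) := by
  classical
  have hmax : 𝔮.map (algebraMap Λ (Localization.AtPrime 𝔮)) =
      maximalIdeal (Localization.AtPrime 𝔮) := Localization.AtPrime.map_eq_maximalIdeal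
  -- Step 1: exact representation
  have hmN : maximalIdeal (Localization.AtPrime 𝔮) ^ N ≤
      Ideal.span (Set.range fun j => algebraMap Λ (Localization.AtPrime 𝔮) (hh j)) := by
    have h1 : (𝔮 ^ N).map (algebraMap Λ (Localization.AtPrime 𝔮)) =
        maximalIdeal (Localization.AtPrime 𝔮) ^ N := by rw [Ideal.map_pow, hmax]
    have h2 : (Ideal.span (Set.range hh)).map (algebraMap Λ (Localization.AtPrime 𝔮)) =
        Ideal.span (Set.range fun j => algebraMap Λ (Localization.AtPrime 𝔮) (hh j)) := by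
      rw [Ideal.map_span, ← Set.range_comp]
      rfl
    rw [← h1, ← h2]
    exact hpow
  have hmn : maximalIdeal (Localization.AtPrime 𝔮) ^ n ≤
      maximalIdeal (Localization.AtPrime 𝔮) ^ (n - N) •
        Ideal.span (Set.range fun j => algebraMap Λ (Localization.AtPrime 𝔮) (hh j)) := by
    have hnN : n = (n - N) + N := by omega
    conv_lhs => rw [hnN, pow_add]
    rw [Ideal.smul_eq_mul]
    exact Ideal.mul_mono_right hmN
  have hμ : ∀ i, ∃ μ : Fin r → Localization.AtPrime 𝔮,
      (∀ j, μ j ∈ maximalIdeal (Localization.AtPrime 𝔮) ^ (n - N)) ∧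
      algebraMap Λ (Localization.AtPrime 𝔮) (a i) ^ N -
        ∑ j, algebraMap Λ (Localization.AtPrime 𝔮) (hh j) * D i j =
        ∑ j, μ j * algebraMap Λ (Localization.AtPrime 𝔮) (hh j) := by
    intro i
    have h := hmn (hD i)
    rw [Ideal.span, Submodule.mem_ideal_smul_span_iff_exists_sum] at h
    obtain ⟨c, hc, hsum⟩ := h
    refine ⟨fun j => c j, hc, ?_⟩
    rw [← hsum, Finsupp.sum_fintype]
    · rfl
    · intro j
      simp
  choose μ hμm hμeq using hμ
  have hD'eq : ∀ i, algebraMap Λ (Localization.AtPrime 𝔮) (a i) ^ N =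
      ∑ j, algebraMap Λ (Localization.AtPrime 𝔮) (hh j) * (D i j + μ i j) := by
    intro i
    have h1 := hμeq i
    simp only [mul_add, Finset.sum_add_distrib]
    have h2 : ∑ j, algebraMap Λ (Localization.AtPrime 𝔮) (hh j) * μ i j =
        ∑ j, μ i j * algebraMap Λ (Localization.AtPrime 𝔮) (hh j) :=
      Finset.sum_congr rfl fun j _ => mul_comm _ _
    rw [h2, ← h1]
    ring
  -- Step 2: clear denominators
  have h2 : ∀ i, ∃ (σ : Λ) (l : Fin r → Λ), σ ∉ 𝔮 ∧
      (∀ j, algebraMap Λ (Localization.AtPrime 𝔮) (l j) =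
        algebraMap Λ (Localization.AtPrime 𝔮) σ * (D i j + μ i j)) ∧
      σ * a i ^ N = ∑ j, hh j * l j := by
    intro i
    obtain ⟨b, hb⟩ := IsLocalization.exist_integer_multiples 𝔮.primeCompl
      (Finset.univ : Finset (Fin r)) (fun j => D i j + μ i j)
    have hb' : ∀ j, ∃ l : Λ, algebraMap Λ (Localization.AtPrime 𝔮) l =
        algebraMap Λ (Localization.AtPrime 𝔮) b * (D i j + μ i j) := by
      intro j
      obtain ⟨l, hl⟩ := hb j (Finset.mem_univ j)
      exact ⟨l, by rw [hl, Algebra.smul_def]⟩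
    choose l₀ hl₀ using hb'
    have h3 : algebraMap Λ (Localization.AtPrime 𝔮) ((b : Λ) * a i ^ N) =
        algebraMap Λ (Localization.AtPrime 𝔮) (∑ j, hh j * l₀ j) := by
      rw [map_mul, map_pow, hD'eq i, map_sum, Finset.mul_sum]
      refine Finset.sum_congr rfl fun j _ => ?_
      rw [map_mul, hl₀ j]
      ring
    obtain ⟨c, hc⟩ := (IsLocalization.eq_iff_exists 𝔮.primeCompl (Localization.AtPrime 𝔮)).mp h3
    refine ⟨c * b, fun j => c * l₀ j, 𝔮.primeCompl.mul_mem c.2 b.2, ?_, ?_⟩
    · intro j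
      rw [map_mul, map_mul, hl₀ j]
      ring
    · have h4 : (c : Λ) * b * a i ^ N = c * (b * a i ^ N) := by ring
      rw [h4, hc, Finset.mul_sum]
      refine Finset.sum_congr rfl fun j _ => by ring
  choose σ l hσq hlφ hσeq using h2
  -- Step 3: the annihilator condition
  have F1 : ∀ t : Fin d → Λ, (∀ i, t i ∉ 𝔮) →
      Ideal.span (Set.range fun i => algebraMap Λ (Localization.AtPrime 𝔮) (t i * (σ i * a i))) =
        maximalIdeal (Localization.AtPrime 𝔮) := by
    intro t ht
    rw [← hgen]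
    have h := span_unit_mul (fun i => algebraMap Λ (Localization.AtPrime 𝔮) (a i))
      (fun i => algebraMap Λ (Localization.AtPrime 𝔮) (t i) *
        algebraMap Λ (Localization.AtPrime 𝔮) (σ i))
      (fun i => (IsLocalization.map_units (Localization.AtPrime 𝔮)
          (⟨t i, ht i⟩ : 𝔮.primeCompl)).mul
        (IsLocalization.map_units (Localization.AtPrime 𝔮) (⟨σ i, hσq i⟩ : 𝔮.primeCompl)))
    rw [← h]
    congr 2
    funext i
    rw [map_mul, map_mul, mul_assoc]
  obtain ⟨τ, hτq, hτ⟩ := key 𝔮 d hd e he (fun i => σ i * a i) F1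
  refine ⟨fun i => σ i * τ i, fun i j => σ i ^ (N - 1) * τ i ^ N * l i j, ?_, ?_, ?_, ?_⟩
  · intro i hmem
    exact (Ideal.IsPrime.mem_or_mem inferInstance hmem).elim (hσq i) (hτq i)
  · intro i
    obtain ⟨N', rfl⟩ : ∃ N', N = N' + 1 := ⟨N - 1, by omega⟩
    have h1 : (a i * (σ i * τ i)) ^ (N' + 1) =
        σ i ^ N' * τ i ^ (N' + 1) * (σ i * a i ^ (N' + 1)) := by ring
    show (a i * (σ i * τ i)) ^ (N' + 1) = _
    rw [h1, hσeq i, Finset.mul_sum]
    refine Finset.sum_congr rfl fun j _ => ?_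
    simp only [Nat.add_sub_cancel]
    ring
  · intro i y
    have hx : ∀ j : Fin d, a j * (σ j * τ j) = τ j * (σ j * a j) := fun j => by ring
    simp only [hx]
    exact hτ i y
  · intro i j
    have h5 : algebraMap Λ (Localization.AtPrime 𝔮) (σ i ^ (N - 1) * τ i ^ N * l i j) -
        algebraMap Λ (Localization.AtPrime 𝔮) (σ i * τ i) ^ N * D i j =
        algebraMap Λ (Localization.AtPrime 𝔮) (σ i * τ i) ^ N * μ i j := by
      obtain ⟨N', rfl⟩ : ∃ N', N = N' + 1 := ⟨N - 1, by omega⟩
      simp only [Nat.add_sub_cancel, map_mul, map_pow, hlφ i j]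
      ring
    show algebraMap Λ (Localization.AtPrime 𝔮) (σ i ^ (N - 1) * τ i ^ N * l i j) -
        algebraMap Λ (Localization.AtPrime 𝔮) (σ i * τ i) ^ N * D i j ∈ _
    rw [h5]
    exact Ideal.mul_mem_left _ _ (hμm i j)

end Groth.Agent.H71.Mult
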