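import Groth.Agent.S6461

set_option autoImplicit false
universe u
open AlgebraicGeometry CategoryTheory

namespace Groth.Agent.H71.DimFun

theorem coheight_eq_ringKrullDim_quotient {A : Type u} [CommRing A] (q : PrimeSpectrum A) :
    ((Order.coheight q : ℕ∞) : WithBot ℕ∞) = ringKrullDim (A ⧸ q.asIdeal) := by
  rw [ringKrullDim_quotient]
  have hset : PrimeSpectrum.zeroLocus (q.asIdeal : Set A) = Set.Ici q := by
    ext r
    rw [PrimeSpectrum.mem_zeroLocus, Set.mem_Ici]
    rfl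
  rw [hset, ← Order.coheight_eq_krullDim_Ici]

theorem fromSpecStalk_specializes (X : Scheme.{u}) (x : X)
    (q : PrimeSpectrum (X.presheaf.stalk x)) : X.fromSpecStalk x q ⤳ x :=
  (Set.ext_iff.mp (Scheme.range_fromSpecStalk (X := X) (x := x)) _).mp ⟨q, rfl⟩

theorem exists_of_specializes (X : Scheme.{u}) {x ξ : X} (h : ξ ⤳ x) :
    ∃ q : PrimeSpectrum (X.presheaf.stalk x), X.fromSpecStalk x q = ξ :=
  (Set.ext_iff.mp (Scheme.range_fromSpecStalk (X := X) (x := x)) ξ).mpr h

theorem fromSpecStalk_specializes_iff (X : Scheme.{u}) (x : X)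
    (r q : PrimeSpectrum (X.presheaf.stalk x)) :
    X.fromSpecStalk x r ⤳ X.fromSpecStalk x q ↔ r ≤ q := by
  have hφ : Topology.IsEmbedding (X.fromSpecStalk x) := (X.fromSpecStalk x).isEmbedding
  rw [PrimeSpectrum.le_iff_specializes]
  exact hφ.isInducing.specializes_iff

theorem fromSpecStalk_injective (X : Scheme.{u}) (x : X) :
    Function.Injective (fun q : PrimeSpectrum (X.presheaf.stalk x) => X.fromSpecStalk x q) :=
  (X.fromSpecStalk x).isEmbedding.injective

theorem delta_eq_add_coheight (X : Scheme.{u}) [IsLocallyNoetherian X] (δ : X → ℤ)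
    (hδ : Cyc.IsDimFun X δ) (x : X) (q : PrimeSpectrum (X.presheaf.stalk x)) :
    ∃ d : ℕ, Order.coheight q = (d : ℕ∞) ∧ δ (X.fromSpecStalk x q) = δ x + d := by
  have hfin : Order.coheight q ≠ ⊤ := by
    intro h
    have h1 := Order.coheight_le_krullDim q
    rw [h] at h1
    have h2 : ringKrullDim (X.presheaf.stalk x) < ⊤ := ringKrullDim_lt_top
    exact absurd (lt_of_le_of_lt h1 h2) (lt_irrefl _)
  obtain ⟨d, hd⟩ := ENat.ne_top_iff_exists.mp hfin
  refine ⟨d, hd.symm, ?_⟩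
  let φ : PrimeSpectrum (X.presheaf.stalk x) → X := fun q => X.fromSpecStalk x q
  have hφ : Topology.IsEmbedding φ := (X.fromSpecStalk x).isEmbedding
  have hφc : φ (IsLocalRing.closedPoint _) = x := Scheme.fromSpecStalk_closedPoint
  have hrange : Set.range φ = {y | y ⤳ x} := Scheme.range_fromSpecStalk
  have hrange' : Set.range φ = {y | y ⤳ φ (IsLocalRing.closedPoint _)} := by
    rw [hφc]; exact hrange
  have := Groth.Agent.S6461.delta_eq_of_coheight φ hφ hrange' δ hδ d q hd.symm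
  rw [hφc] at this
  exact this

theorem isMin_of_generic (X : Scheme.{u}) (x : X) (q : PrimeSpectrum (X.presheaf.stalk x))
    (hgen : ∀ ξ' : X, ξ' ⤳ X.fromSpecStalk x q → ξ' = X.fromSpecStalk x q) : IsMin q := by
  intro r hrq
  have h1 : X.fromSpecStalk x r ⤳ X.fromSpecStalk x q :=
    (fromSpecStalk_specializes_iff X x r q).mpr hrq
  have h2 : r = q := fromSpecStalk_injective X x (hgen _ h1)
  rw [h2]

theorem generic_of_isMin (X : Scheme.{u}) (x : X) (q : PrimeSpectrum (X.presheaf.stalk x))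
    (hq : IsMin q) : ∀ ξ' : X, ξ' ⤳ X.fromSpecStalk x q → ξ' = X.fromSpecStalk x q := by
  intro ξ' h
  obtain ⟨r, rfl⟩ := exists_of_specializes X (h.trans (fromSpecStalk_specializes X x q))
  have hrq : r ≤ q := (fromSpecStalk_specializes_iff X x r q).mp h
  rw [le_antisymm hrq (hq hrq)]

theorem exists_generic_specializes (X : Scheme.{u}) (y : X) :
    ∃ ξ : X, ξ ⤳ y ∧ ∀ ξ' : X, ξ' ⤳ ξ → ξ' = ξ := by
  obtain ⟨p, hp, -⟩ := Ideal.exists_minimalPrimes_le (I := (⊥ : Ideal (X.presheaf.stalk y)))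
    (J := IsLocalRing.maximalIdeal _) bot_le
  let q : PrimeSpectrum (X.presheaf.stalk y) := ⟨p, hp.1.1⟩
  have hq : IsMin q := by
    intro r hrq
    exact hp.2 ⟨r.2, bot_le⟩ hrq
  exact ⟨X.fromSpecStalk y q, fromSpecStalk_specializes X y q, generic_of_isMin X y q hq⟩

theorem exists_open_generic_specializes (X : Scheme.{u}) [IsLocallyNoetherian X] (x : X) :
    ∃ U : X.Opens, x ∈ U ∧
      ∀ ξ : X, ξ ∈ U → (∀ ξ' : X, ξ' ⤳ ξ → ξ' = ξ) → ξ ⤳ x := by
  obtain ⟨W, hW, hxW, -⟩ := TopologicalSpace.Opens.isBasis_iff_nbhd.mp X.isBasis_affineOpens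
    (show x ∈ (⊤ : X.Opens) from trivial)
  haveI : IsNoetherianRing Γ(X, W) := IsLocallyNoetherian.component_noetherian ⟨W, hW⟩
  exact @Groth.Agent.S6461.exists_open_generic_specializes _ _ _ W
    (noetherianSpace_of_isAffineOpen W hW) x hxW

end Groth.Agent.H71.DimFun
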