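import Groth.Agent.H71.DepthLoc
import Groth.Agent.H29.CM
import Groth.Agent.H15.DepthSpread
import Mathlib.RingTheory.Ideal.Height
import Mathlib.RingTheory.Support

/-!
# `depth M_s ≤ depth M_p + ht (s/p)` for primes `p ⊆ s` (EGA IV 6.11.5 type inequality)
-/

set_option autoImplicit false
universe u

open Groth.Agent.H58 Groth.Agent.H15.Depth Groth.Agent.H71.ZC Groth.Agent.H71.HC
  Groth.Agent.H71.SK Groth.Agent.H71.DL
open scoped Pointwise
open RingTheory.Sequence

namespace Groth.Agent.H71.DH

variable {R : Type u} [CommRing R]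

/-- an element of `R` regular on `M_s` is regular on `M_p` for `p ≤ s`. -/
lemma isSMulRegular_localized_of_le (M : Type u) [AddCommGroup M] [Module R M]
    {p s : Ideal R} [p.IsPrime] [s.IsPrime] (hps : p ≤ s) {x : R}
    (hx : IsSMulRegular (LocalizedModule s.primeCompl M)
      (algebraMap R (Localization.AtPrime s) x)) :
    IsSMulRegular (LocalizedModule p.primeCompl M)
      (algebraMap R (Localization.AtPrime p) x) := by
  rw [isSMulRegular_iff_right_eq_zero_of_smul] at hx ⊢
  intro w hw
  obtain ⟨t, m, ht, htw⟩ := exists_smul_eq_mk p w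
  have h1 : LocalizedModule.mkLinearMap p.primeCompl M (x • m) = 0 := by
    rw [map_smul, ← htw, smul_comm x t w,
      ← algebraMap_smul (Localization.AtPrime p) x w, hw, smul_zero]
  obtain ⟨u, hu, hum⟩ := (mk_eq_zero_iff p (x • m)).mp h1
  have h2 : LocalizedModule.mkLinearMap s.primeCompl M (u • m) = 0 := by
    apply hx
    rw [algebraMap_smul, ← map_smul, smul_comm x u m, hum, map_zero]
  obtain ⟨v, hv, hvm⟩ := (mk_eq_zero_iff s (u • m)).mp h2
  have h3 : LocalizedModule.mkLinearMap p.primeCompl M m = 0 := by
    rw [mk_eq_zero_iff]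
    refine ⟨v * u, ?_, by rw [mul_smul]; exact hvm⟩
    intro hvu
    rcases (Ideal.IsPrime.mem_or_mem ‹p.IsPrime› hvu) with h | h
    · exact hv (hps h)
    · exact hu h
  apply smul_inj p ht
  rw [htw, h3, smul_zero]

/-- `M_s = 0` implies `M_p = 0` for `p ≤ s`. -/
lemma subsingleton_of_le (M : Type u) [AddCommGroup M] [Module R M]
    {p s : Ideal R} [p.IsPrime] [s.IsPrime] (hps : p ≤ s)
    (h : Subsingleton (LocalizedModule s.primeCompl M)) :
    Subsingleton (LocalizedModule p.primeCompl M) := by
  have h1 : (⟨s, inferInstance⟩ : PrimeSpectrum R) ∉ Module.support R M :=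
    Module.notMem_support_iff.mpr h
  have h2 : (⟨p, inferInstance⟩ : PrimeSpectrum R) ∉ Module.support R M := fun h3 =>
    h1 (Module.mem_support_mono (p := ⟨p, inferInstance⟩) (q := ⟨s, inferInstance⟩) hps h3)
  exact Module.notMem_support_iff.mp h2

/-- a regular element in `p R_s` can be replaced by one coming from `p`. -/
lemma exists_regular_numerator (M : Type u) [AddCommGroup M] [Module R M]
    (s p : Ideal R) [s.IsPrime] {a : Localization.AtPrime s}
    (ha : a ∈ p.map (algebraMap R (Localization.AtPrime s)))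
    (hreg : IsSMulRegular (LocalizedModule s.primeCompl M) a) :
    ∃ x ∈ p, IsSMulRegular (LocalizedModule s.primeCompl M)
      (algebraMap R (Localization.AtPrime s) x) := by
  obtain ⟨⟨⟨x, hx⟩, t⟩, hxt⟩ :=
    (IsLocalization.mem_map_algebraMap_iff s.primeCompl (Localization.AtPrime s)).mp ha
  refine ⟨x, hx, ?_⟩
  dsimp only at hxt
  rw [← hxt]
  exact hreg.mul ((IsLocalization.map_units (Localization.AtPrime s) t).isSMulRegular _)

/-- `dim R_s / Q ≤ ht (s/p)` for a prime `Q ⊇ p R_s`. -/
lemma ringKrullDim_quotient_le_height (p s : Ideal R) [p.IsPrime] [s.IsPrime] (hps : p ≤ s)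
    (Q : Ideal (Localization.AtPrime s)) [Q.IsPrime]
    (hQ : p.map (algebraMap R (Localization.AtPrime s)) ≤ Q) :
    ringKrullDim (Localization.AtPrime s ⧸ Q) ≤
      (((s.map (Ideal.Quotient.mk p)).height : ℕ∞) : WithBot ℕ∞) := by
  have hsbar : (s.map (Ideal.Quotient.mk p)).IsPrime :=
    Ideal.map_isPrime_of_surjective Ideal.Quotient.mk_surjective
      (by rw [Ideal.mk_ker]; exact hps)
  have hle : p ≤ Q.comap (algebraMap R (Localization.AtPrime s)) :=
    Ideal.map_le_iff_le_comap.mp hQ
  let φ : R ⧸ p →+* Localization.AtPrime s ⧸ Q :=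
    Ideal.quotientMap Q (algebraMap R (Localization.AtPrime s)) hle
  have hφ : ∀ r : R, φ (Ideal.Quotient.mk p r) =
      Ideal.Quotient.mk Q (algebraMap R (Localization.AtPrime s) r) :=
    fun r => Ideal.quotientMap_mk
  let sbar : PrimeSpectrum (R ⧸ p) := ⟨s.map (Ideal.Quotient.mk p), hsbar⟩
  have hunit : ∀ t : R, t ∉ s →
      IsUnit (Ideal.Quotient.mk Q (algebraMap R (Localization.AtPrime s) t)) := fun t ht =>
    (IsLocalization.map_units (Localization.AtPrime s) (⟨t, ht⟩ : s.primeCompl)).map
      (Ideal.Quotient.mk Q)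
  have hmem : ∀ q : PrimeSpectrum (Localization.AtPrime s ⧸ Q),
      q.asIdeal.comap φ ≤ s.map (Ideal.Quotient.mk p) := by
    intro q x hx
    obtain ⟨r, rfl⟩ := Ideal.Quotient.mk_surjective x
    by_cases hr : r ∈ s
    · exact Ideal.mem_map_of_mem _ hr
    · exfalso
      have h1 : φ (Ideal.Quotient.mk p r) ∈ q.asIdeal := Ideal.mem_comap.mp hx
      rw [hφ] at h1
      exact q.isPrime.ne_top (Ideal.eq_top_of_isUnit_mem _ h1 (hunit r hr))
  let g : PrimeSpectrum (Localization.AtPrime s ⧸ Q) → Set.Iic sbar := fun q =>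
    ⟨⟨q.asIdeal.comap φ, inferInstance⟩, hmem q⟩
  have hg : StrictMono g := by
    intro q q' hqq'
    have hle' : q.asIdeal ≤ q'.asIdeal := hqq'.le
    have hne : ¬ q'.asIdeal ≤ q.asIdeal := fun h => hqq'.not_ge h
    rw [lt_iff_le_not_ge]
    refine ⟨Ideal.comap_mono hle', ?_⟩
    intro hge
    have hge' : q'.asIdeal.comap φ ≤ q.asIdeal.comap φ := hge
    apply hne
    intro a ha
    obtain ⟨b, rfl⟩ := Ideal.Quotient.mk_surjective a
    obtain ⟨⟨r, t⟩, hrt⟩ := IsLocalization.surj s.primeCompl b
    dsimp only at hrt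
    have h1 : φ (Ideal.Quotient.mk p r) ∈ q'.asIdeal := by
      rw [hφ, ← hrt, map_mul]
      exact Ideal.mul_mem_right _ _ ha
    have h2 : φ (Ideal.Quotient.mk p r) ∈ q.asIdeal := Ideal.mem_comap.mp (hge' (Ideal.mem_comap.mpr h1))
    rw [hφ, ← hrt, map_mul] at h2
    rcases q.isPrime.mem_or_mem h2 with h | h
    · exact h
    · exact absurd (Ideal.eq_top_of_isUnit_mem _ h (hunit t t.2)) q.isPrime.ne_top
  calc ringKrullDim (Localization.AtPrime s ⧸ Q) ≤ Order.krullDim (Set.Iic sbar) :=
        Order.krullDim_le_of_strictMono g hg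
    _ = ((Order.height sbar : ℕ∞) : WithBot ℕ∞) := (Order.height_eq_krullDim_Iic sbar).symm
    _ = _ := by rw [← PrimeSpectrum.height_eq_orderHeight]

variable [IsNoetherianRing R]

/-- quotient by a regular element in `p` drops the depth of `M_p` by one. -/
lemma depth_quot_add_one_le (M : Type u) [AddCommGroup M] [Module R M] [Module.Finite R M]
    (p : Ideal R) [p.IsPrime] {x : R} (hx : x ∈ p)
    (hreg : IsSMulRegular (LocalizedModule p.primeCompl M)
      (algebraMap R (Localization.AtPrime p) x)) :
    LocCoh.depth (Localization.AtPrime p) (LocalizedModule p.primeCompl (QuotSMulTop x M)) + 1 ≤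
      LocCoh.depth (Localization.AtPrime p) (LocalizedModule p.primeCompl M) := by
  by_cases htop : IsLocalRing.maximalIdeal (Localization.AtPrime p) •
      (⊤ : Submodule (Localization.AtPrime p) (LocalizedModule p.primeCompl M)) = ⊤
  · unfold LocCoh.depth
    rw [idealDepth_eq_top_of_smul_top_eq_top htop]
    exact le_top
  · have hxm : algebraMap R (Localization.AtPrime p) x ∈
        IsLocalRing.maximalIdeal (Localization.AtPrime p) :=
      (IsLocalization.AtPrime.to_map_mem_maximal_iff (Localization.AtPrime p) p x).mpr hx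
    have h1 := idealDepth_quotSMulTop_add_one htop hxm hreg
    have h2 := Groth.Agent.H15.DepthSpread.idealDepth_congr
      (I := IsLocalRing.maximalIdeal (Localization.AtPrime p)) (locQuotEquiv M p x)
    unfold LocCoh.depth
    exact le_of_eq (by rw [h2, h1])

theorem natCast_le_depth_add_height (p s : Ideal R) [p.IsPrime] [s.IsPrime] (hps : p ≤ s) :
    ∀ (n : ℕ) (M : Type u) [AddCommGroup M] [Module R M] [Module.Finite R M],
      (n : ℕ∞) ≤ LocCoh.depth (Localization.AtPrime s) (LocalizedModule s.primeCompl M) →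
      (n : ℕ∞) ≤ LocCoh.depth (Localization.AtPrime p) (LocalizedModule p.primeCompl M) +
        (s.map (Ideal.Quotient.mk p)).height := by
  intro n
  induction n with
  | zero => intro M _ _ _ _; rw [Nat.cast_zero]; exact zero_le
  | succ n ih =>
    intro M _ _ _ h
    rcases (le_depth_iff M s (n + 1)).mp h with hsub | hseq
    · have hsp := subsingleton_of_le M hps hsub
      have h1 : LocCoh.depth (Localization.AtPrime p) (LocalizedModule p.primeCompl M) = ⊤ := by
        unfold LocCoh.depth
        exact idealDepth_eq_top_of_subsingleton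
      rw [h1, top_add]
      exact le_top
    · rcases exists_regular_or_hasSocle
          (I := p.map (algebraMap R (Localization.AtPrime s)))
          (LocalizedModule s.primeCompl M) with ⟨a, ha, hareg⟩ | ⟨w, hw0, hIw⟩
      · obtain ⟨x, hxp, hxreg⟩ := exists_regular_numerator M s p ha hareg
        have hxm : algebraMap R (Localization.AtPrime s) x ∈
            IsLocalRing.maximalIdeal (Localization.AtPrime s) :=
          (IsLocalization.AtPrime.to_map_mem_maximal_iff (Localization.AtPrime s) s x).mpr
            (hps hxp)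
        have h1 : HasSeq (IsLocalRing.maximalIdeal (Localization.AtPrime s))
            (LocalizedModule s.primeCompl (QuotSMulTop x M)) n :=
          (hasSeq_quot_of_hasSeq_succ hxm hxreg hseq).congr (locQuotEquiv M s x).symm
        have h2 := ih (QuotSMulTop x M) ((le_depth_iff (QuotSMulTop x M) s n).mpr (Or.inr h1))
        have h3 := depth_quot_add_one_le M p hxp (isSMulRegular_localized_of_le M hps hxreg)
        calc ((n + 1 : ℕ) : ℕ∞) = (n : ℕ∞) + 1 := Nat.cast_succ n
          _ ≤ (LocCoh.depth (Localization.AtPrime p)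
                (LocalizedModule p.primeCompl (QuotSMulTop x M)) +
                (s.map (Ideal.Quotient.mk p)).height) + 1 := add_le_add h2 le_rfl
          _ = (LocCoh.depth (Localization.AtPrime p)
                (LocalizedModule p.primeCompl (QuotSMulTop x M)) + 1) +
                (s.map (Ideal.Quotient.mk p)).height := add_right_comm _ _ _
          _ ≤ _ := add_le_add h3 le_rfl
      · obtain ⟨Q, hQass, hle⟩ :=
          exists_le_isAssociatedPrime_of_isNoetherianRing (Localization.AtPrime s) w hw0
        haveI hQ : Q.IsPrime := hQass.isPrime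
        have hIQ : p.map (algebraMap R (Localization.AtPrime s)) ≤ Q := fun a ha => hle (by
          rw [Submodule.mem_colon_singleton, Submodule.mem_bot]; exact hIw a ha)
        have h1 := Groth.Agent.H29.CM.depth_le_ringKrullDim_quotient
          (A := Localization.AtPrime s) (M := LocalizedModule s.primeCompl M) (p := Q) hQass
        have h2 := h1.trans (ringKrullDim_quotient_le_height p s hps Q hIQ)
        rw [WithBot.coe_le_coe] at h2
        exact (h.trans h2).trans le_add_self

/-- `depth M_s ≤ depth M_p + ht (s/p)`. -/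
theorem depth_le_depth_add_height (M : Type u) [AddCommGroup M] [Module R M] [Module.Finite R M]
    (p s : Ideal R) [p.IsPrime] [s.IsPrime] (hps : p ≤ s) :
    LocCoh.depth (Localization.AtPrime s) (LocalizedModule s.primeCompl M) ≤
      LocCoh.depth (Localization.AtPrime p) (LocalizedModule p.primeCompl M) +
        (s.map (Ideal.Quotient.mk p)).height := by
  rw [← ENat.forall_natCast_le_iff_le]
  intro n hn
  exact natCast_le_depth_add_height p s hps n M hn

end Groth.Agent.H71.DH
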