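import Mathlib.RingTheory.Ideal.MinimalPrime.Localization
import Mathlib.RingTheory.Localization.AtPrime.Basic
import Mathlib.RingTheory.Regular.RegularSequence
import Mathlib.Tactic.LinearCombination
import Mathlib.Tactic.Ring

set_option autoImplicit false

namespace Groth.Agent.H71

/-- The conductor of `σ` into the image of `ρ`: those `r` with `ρ r * σ` in the range of `ρ`. -/
def conductor {R M : Type*} [CommRing R] [CommRing M] (ρ : R →+* M) (σ : M) : Ideal R where
  carrier := {r | ∃ r', ρ r' = ρ r * σ}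
  add_mem' := by
    rintro r₁ r₂ ⟨r₁', h₁⟩ ⟨r₂', h₂⟩
    exact ⟨r₁' + r₂', by rw [map_add, map_add, add_mul, h₁, h₂]⟩
  zero_mem' := ⟨0, by rw [map_zero, zero_mul]⟩
  smul_mem' := by
    rintro c r ⟨r', h⟩
    exact ⟨c * r', by rw [smul_eq_mul, map_mul, map_mul, h, mul_assoc]⟩

lemma mem_conductor {R M : Type*} [CommRing R] [CommRing M] (ρ : R →+* M) (σ : M) (r : R) :
    r ∈ conductor ρ σ ↔ ∃ r', ρ r' = ρ r * σ := Iff.rfl

/-- Elementary reformulation of a weakly regular sequence of length two on the ring itself. -/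
lemma elementary_of_isWeaklyRegular_pair {L : Type*} [CommRing L] (a b : L)
    (h : RingTheory.Sequence.IsWeaklyRegular L [a, b]) :
    (∀ x : L, a * x = 0 → x = 0) ∧ (∀ x y : L, b * x = a * y → ∃ y', x = a * y') := by
  rw [RingTheory.Sequence.isWeaklyRegular_cons_iff,
    RingTheory.Sequence.isWeaklyRegular_cons_iff] at h
  obtain ⟨h1, h2, -⟩ := h
  refine ⟨fun x hx => h1.right_eq_zero_of_smul (by rwa [smul_eq_mul]), fun x y hxy => ?_⟩
  have h3 : b • (Submodule.Quotient.mk x : QuotSMulTop a L) = 0 := by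
    rw [← Submodule.Quotient.mk_smul, Submodule.Quotient.mk_eq_zero, smul_eq_mul, hxy]
    exact Submodule.smul_mem_pointwise_smul y a ⊤ Submodule.mem_top
  have h4 := h2.right_eq_zero_of_smul h3
  rw [Submodule.Quotient.mk_eq_zero] at h4
  obtain ⟨y', -, hy'⟩ := (Submodule.mem_smul_pointwise_iff_exists _ _ _).mp h4
  exact ⟨y', by rw [← hy', smul_eq_mul]⟩

/-- If `a, b` behave like a regular sequence with respect to an injective ring map `ι : L → T`
(`a` is a nonzerodivisor on `T`, `b` is a nonzerodivisor on `L / a`), and `a ^ m * τ`, `b ^ n * τ`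
both lie in the image of `ι`, then so does `τ`. -/
lemma mem_range_of_pow_mul_mem_range {L T : Type*} [CommRing L] [CommRing T] (ι : L →+* T)
    (hι : Function.Injective ι) (a b : L)
    (ha : ∀ τ : T, ι a * τ = 0 → τ = 0)
    (hb : ∀ x y : L, b * x = a * y → ∃ y', x = a * y') :
    ∀ (m n : ℕ) (τ : T), ι a ^ m * τ ∈ Set.range ι → ι b ^ n * τ ∈ Set.range ι →
      τ ∈ Set.range ι := by
  have claim : ∀ τ : T, ι a * τ ∈ Set.range ι → ι b * τ ∈ Set.range ι → τ ∈ Set.range ι := by
    rintro τ ⟨α, hα⟩ ⟨β, hβ⟩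
    have h1 : b * α = a * β := by
      apply hι
      rw [map_mul, map_mul, hα, hβ]; ring
    obtain ⟨γ, hγ⟩ := hb α β h1
    refine ⟨γ, ?_⟩
    have h2 : ι a * (τ - ι γ) = 0 := by
      rw [mul_sub, ← hα, hγ, map_mul]; ring
    exact (sub_eq_zero.mp (ha _ h2)).symm
  have claim1 : ∀ (m : ℕ) (τ : T), ι a ^ m * τ ∈ Set.range ι → ι b * τ ∈ Set.range ι →
      τ ∈ Set.range ι := by
    intro m
    induction m with
    | zero => intro τ h _; simpa using h
    | succ m ih =>
      intro τ h1 h2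
      refine ih τ (claim _ ?_ ?_) h2
      · have e : ι a * (ι a ^ m * τ) = ι a ^ (m + 1) * τ := by ring
        rw [e]; exact h1
      · obtain ⟨β, hβ⟩ := h2
        exact ⟨a ^ m * β, by rw [map_mul, map_pow, hβ]; ring⟩
  intro m n
  induction n with
  | zero => intro τ _ h; simpa using h
  | succ n ih =>
    intro τ h1 h2
    refine ih τ h1 (claim1 m _ ?_ ?_)
    · obtain ⟨α, hα⟩ := h1
      exact ⟨b ^ n * α, by rw [map_mul, map_pow, hα]; ring⟩
    · have e : ι b * (ι b ^ n * τ) = ι b ^ (n + 1) * τ := by ring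
      rw [e]; exact h2

open IsLocalRing in
/-- The algebraic core of the Hartogs extension argument: the conductor of `σ` cannot have a
minimal prime `p` such that `R_p` has a regular sequence of length two in its maximal ideal,
provided elements that are regular on `R_p` act torsion-freely (up to `p`-local units) on `M`. -/
theorem false_of_minimalPrime_conductor {R M : Type*} [CommRing R] [CommRing M] (ρ : R →+* M)
    (hρ : Function.Injective ρ) (σ : M) (p : Ideal R) [hpp : p.IsPrime]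
    (hp : p ∈ (conductor ρ σ).minimalPrimes)
    (L : Type*) [CommRing L] [Algebra R L] [IsLocalization.AtPrime L p] [IsLocalRing L]
    (a b : L) (ha : a ∈ maximalIdeal L) (hb : b ∈ maximalIdeal L)
    (ha_reg : ∀ x : L, a * x = 0 → x = 0)
    (hb_reg : ∀ x y : L, b * x = a * y → ∃ y', x = a * y')
    (hL1 : ∀ c : R, (∀ r : R, c * r = 0 → ∃ s, s ∉ p ∧ s * r = 0) →
      ∀ μ : M, ρ c * μ = 0 → ∃ s, s ∉ p ∧ ρ s * μ = 0) : False := by
  classical
  let N := Localization (p.primeCompl.map ρ)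
  let ι : L →+* N := IsLocalization.map (M := p.primeCompl) (T := p.primeCompl.map ρ) N ρ
    p.primeCompl.le_comap_map
  have hι : Function.Injective ι := IsLocalization.map_injective_of_injective p.primeCompl L N hρ
  have hιalg : ∀ r : R, ι (algebraMap R L r) = algebraMap M N (ρ r) := fun r =>
    IsLocalization.map_eq p.primeCompl.le_comap_map r
  have hunit : ∀ s : R, s ∉ p → IsUnit (algebraMap R L s) := fun s hs =>
    IsLocalization.map_units L (⟨s, hs⟩ : p.primeCompl)
  have hunitN : ∀ s : R, s ∉ p → IsUnit (algebraMap M N (ρ s)) := fun s hs =>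
    IsLocalization.map_units N (⟨ρ s, Submonoid.mem_map_of_mem ρ hs⟩ : p.primeCompl.map ρ)
  have hzeroN : ∀ μ : M, algebraMap M N μ = 0 → ∃ s, s ∉ p ∧ ρ s * μ = 0 := by
    intro μ h
    obtain ⟨⟨m, hm⟩, hmμ⟩ := (IsLocalization.map_eq_zero_iff (p.primeCompl.map ρ) N μ).mp h
    obtain ⟨s, hs, rfl⟩ := Submonoid.mem_map.mp hm
    exact ⟨s, hs, hmμ⟩
  -- `a` is a nonzerodivisor on `N`
  have haN : ∀ τ : N, ι a * τ = 0 → τ = 0 := by
    intro τ hτ
    obtain ⟨⟨a₀, s₀⟩, ha₀⟩ := IsLocalization.surj p.primeCompl a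
    obtain ⟨⟨μ, u⟩, hμ⟩ := IsLocalization.surj (p.primeCompl.map ρ) τ
    dsimp only at ha₀ hμ
    have h1 : algebraMap M N (ρ a₀ * μ) = 0 := by
      rw [map_mul, ← hιalg, ← ha₀, ← hμ, map_mul]
      linear_combination (ι (algebraMap R L s₀) * algebraMap M N u) * hτ
    obtain ⟨s₂, hs₂, h2⟩ := hzeroN _ h1
    have hc : ∀ r : R, a₀ * r = 0 → ∃ s, s ∉ p ∧ s * r = 0 := by
      intro r hr
      have h3 : a * (algebraMap R L s₀ * algebraMap R L r) = 0 := by
        rw [← mul_assoc, ha₀, ← map_mul, hr, map_zero]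
      have h4 := ha_reg _ h3
      rw [← map_mul] at h4
      obtain ⟨s', hs'⟩ := (IsLocalization.map_eq_zero_iff p.primeCompl L _).mp h4
      exact ⟨s' * s₀, p.primeCompl.mul_mem s'.2 s₀.2, by rw [mul_assoc]; exact hs'⟩
    obtain ⟨s, hs, h3⟩ := hL1 a₀ hc (ρ s₂ * μ) (by linear_combination h2)
    have h4 : algebraMap M N μ = 0 := by
      have h5 : algebraMap M N (ρ s * ρ s₂) * algebraMap M N μ = 0 := by
        rw [← map_mul, mul_assoc, h3, map_zero]
      have hu : IsUnit (algebraMap M N (ρ s * ρ s₂)) := by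
        rw [map_mul]; exact (hunitN s hs).mul (hunitN s₂ hs₂)
      exact (hu.mul_right_eq_zero).mp h5
    have hu : IsUnit (algebraMap M N u) := IsLocalization.map_units N u
    rw [h4] at hμ
    exact (hu.mul_left_eq_zero).mp hμ
  -- elements of the extended conductor multiply `σ` into the range of `ι`
  have hK : ∀ l ∈ (conductor ρ σ).map (algebraMap R L), ι l * algebraMap M N σ ∈ Set.range ι := by
    intro l hl
    obtain ⟨⟨⟨r, hrI⟩, s⟩, hls⟩ := (IsLocalization.mem_map_algebraMap_iff p.primeCompl L).mp hl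
    dsimp only at hls
    obtain ⟨r', hr'⟩ := (mem_conductor ρ σ r).mp hrI
    obtain ⟨v, hv⟩ := (hunit s s.2).exists_left_inv
    refine ⟨algebraMap R L r' * v, ?_⟩
    have h1 : ι l * ι (algebraMap R L s) = algebraMap M N (ρ r) := by
      rw [← map_mul, hls, hιalg]
    have h2 : ι v * ι (algebraMap R L s) = 1 := by rw [← map_mul, hv, map_one]
    have h3 : ι (algebraMap R L r' * v) = algebraMap M N (ρ r) * algebraMap M N σ * ι v := by
      rw [map_mul, hιalg, hr', map_mul]
    rw [h3, ← h1]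
    linear_combination (ι l * algebraMap M N σ) * h2
  have hrad := IsLocalization.AtPrime.radical_map_of_mem_minimalPrimes (A := L) p _ hp
  rw [IsLocalization.AtPrime.map_eq_maximalIdeal p L] at hrad
  rw [← hrad] at ha hb
  obtain ⟨m, hm⟩ := ha
  obtain ⟨n, hn⟩ := hb
  have hmem : algebraMap M N σ ∈ Set.range ι := by
    refine mem_range_of_pow_mul_mem_range ι hι a b haN hb_reg m n _ ?_ ?_
    · rw [← map_pow]; exact hK _ hm
    · rw [← map_pow]; exact hK _ hn
  obtain ⟨γ, hγ⟩ := hmem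
  obtain ⟨⟨r, s⟩, hrs⟩ := IsLocalization.surj p.primeCompl γ
  dsimp only at hrs
  have h5 : algebraMap M N (ρ s * σ) = algebraMap M N (ρ r) := by
    rw [map_mul, ← hγ, ← hιalg, ← hιalg, ← map_mul, mul_comm, hrs]
  obtain ⟨⟨c, hc⟩, hcs⟩ := (IsLocalization.eq_iff_exists (p.primeCompl.map ρ) N).mp h5
  obtain ⟨s', hs', rfl⟩ := Submonoid.mem_map.mp hc
  dsimp only at hcs
  have hmemI : s' * s ∈ conductor ρ σ :=
    (mem_conductor ρ σ _).mpr ⟨s' * r, by rw [map_mul, map_mul, mul_assoc]; exact hcs.symm⟩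
  exact (Ideal.mem_primeCompl_iff.mp (p.primeCompl.mul_mem hs' s.2)) (hp.1.2 hmemI)

end Groth.Agent.H71
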