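import Groth.Agent.S4713
import Groth.Agent.S5761
import Groth.Agent.H29.FlatCM
import Groth.Agent.H29.DepthFinite
import Groth.Agent.H71.RegularLoc

set_option autoImplicit false
set_option linter.style.haveILetI false
universe u
open AlgebraicGeometry CategoryTheory

namespace Groth.Agent.H71.StalkLoc

/-- Cohen–Macaulay local rings localize. -/
theorem isCM_localization {A : Type u} [CommRing A] (hA : LocCoh.IsCohenMacaulayLocalRing A)
    (q : Ideal A) [q.IsPrime] : LocCoh.IsCohenMacaulayLocalRing (Localization.AtPrime q) := by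
  haveI := hA
  have hM : LocCoh.IsCohenMacaulayModule A A := hA.supportDim_eq_depth
  have hq : (⟨q, inferInstance⟩ : PrimeSpectrum A) ∈ Module.support A A := by
    rw [Module.mem_support_iff]
    exact (Groth.Agent.H29.DepthFinite.selfEquiv q.primeCompl).toEquiv.nontrivial
  have h1 := Groth.Agent.S5761.result A A hM ⟨q, inferInstance⟩ hq
  have h2 := Groth.Agent.H29.CM.isCM_of_equiv
    (Groth.Agent.H29.DepthFinite.selfEquiv q.primeCompl) h1
  exact ⟨h2⟩

/-- The Cohen–Macaulay property transfers along ring isomorphisms. -/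
theorem isCM_of_ringEquiv {A B : Type u} [CommRing A] [CommRing B] (e : A ≃+* B)
    (hB : LocCoh.IsCohenMacaulayLocalRing B) : LocCoh.IsCohenMacaulayLocalRing A := by
  haveI := hB
  haveI : IsLocalRing A := e.symm.isLocalRing
  haveI : IsNoetherianRing A := isNoetherianRing_of_ringEquiv B e.symm
  letI : Algebra A B := e.toRingHom.toAlgebra
  haveI : IsLocalHom (algebraMap A B) := ⟨fun a ha => by
    have h1 : IsUnit (e.symm (e a)) := (show IsUnit (e a) from ha).map e.symm
    simpa using h1⟩
  haveI : Module.Flat A B := by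
    let l : A ≃ₗ[A] B :=
      { e with
        map_smul' := fun a x => by
          change e (a * x) = e.toRingHom a * e x
          exact map_mul e a x }
    exact Module.Flat.of_linearEquiv l.symm
  exact (Groth.Agent.H29.FlatCM.isCM_of_flat_of_isCM (A := A) (B := B) hB).1

/-- the Cohen–Macaulay property of local rings passes to smaller primes (generization). -/
theorem isCM_of_le {Γ : Type u} [CommRing Γ] [IsNoetherianRing Γ] (P P' : Ideal Γ) [hP : P.IsPrime]
    [P'.IsPrime] (hPP' : P ≤ P') (h : LocCoh.IsCohenMacaulayLocalRing (Localization.AtPrime P')) :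
    LocCoh.IsCohenMacaulayLocalRing (Localization.AtPrime P) := by
  have hdisj : Disjoint (P'.primeCompl : Set Γ) (P : Set Γ) :=
    Set.disjoint_left.mpr (fun x hx hxP => hx (hPP' hxP))
  haveI : (P.map (algebraMap Γ (Localization.AtPrime P'))).IsPrime :=
    IsLocalization.isPrime_of_isPrime_disjoint P'.primeCompl (Localization.AtPrime P') P hP hdisj
  haveI : (P.map (algebraMap Γ (Localization.AtPrime P'))).LiesOver P :=
    IsLocalization.liesOver_map_of_isPrime_disjoint P'.primeCompl (Localization.AtPrime P') hdisj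
  have h2 := isCM_localization h (P.map (algebraMap Γ (Localization.AtPrime P')))
  letI := Localization.AtPrime.algebraOfLiesOver P (P.map (algebraMap Γ (Localization.AtPrime P')))
  haveI : IsLocalHom (algebraMap (Localization.AtPrime P)
      (Localization.AtPrime (P.map (algebraMap Γ (Localization.AtPrime P'))))) :=
    Localization.isLocalHom_localRingHom _ _ _ _
  haveI := h2
  haveI := h
  exact (Groth.Agent.H29.FlatCM.isCM_of_flat_of_isCM (A := Localization.AtPrime P)
    (B := Localization.AtPrime (P.map (algebraMap Γ (Localization.AtPrime P')))) h2).1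

/-- For a specialization `x ⤳ z` in a locally Noetherian scheme, both stalks are localizations of
one Noetherian ring at comparable primes. -/
theorem stalk_of_specializes (X : Scheme.{u}) [IsLocallyNoetherian X] {x z : X} (hxz : x ⤳ z) :
    ∃ (Γ : Type u) (_ : CommRing Γ) (_ : IsNoetherianRing Γ) (P P' : Ideal Γ) (_ : P.IsPrime)
      (_ : P'.IsPrime), P ≤ P' ∧ Nonempty (X.presheaf.stalk x ≃+* Localization.AtPrime P) ∧
        Nonempty (X.presheaf.stalk z ≃+* Localization.AtPrime P') := by
  obtain ⟨U, hU, hzU, -⟩ := exists_isAffineOpen_mem_and_subset (X := X) (x := z) (U := ⊤) trivial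
  have hxU : x ∈ U := hxz.mem_open U.isOpen hzU
  haveI : IsNoetherianRing Γ(X, U) := IsLocallyNoetherian.component_noetherian ⟨U, hU⟩
  let algx : Algebra Γ(X, U) (X.presheaf.stalk x) :=
    TopCat.Presheaf.algebra_section_stalk X.presheaf (⟨x, hxU⟩ : U)
  let algz : Algebra Γ(X, U) (X.presheaf.stalk z) :=
    TopCat.Presheaf.algebra_section_stalk X.presheaf (⟨z, hzU⟩ : U)
  let algxz : Algebra (X.presheaf.stalk z) (X.presheaf.stalk x) :=
    (X.presheaf.stalkSpecializes hxz).hom.toAlgebra
  have : IsScalarTower Γ(X, U) (X.presheaf.stalk z) (X.presheaf.stalk x) := by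
    refine IsScalarTower.of_algebraMap_eq' ?_
    change (X.presheaf.germ U x hxU).hom =
      (X.presheaf.stalkSpecializes hxz).hom.comp (X.presheaf.germ U z hzU).hom
    rw [← CommRingCat.hom_comp, TopCat.Presheaf.germ_stalkSpecializes]
  have locx : IsLocalization.AtPrime (X.presheaf.stalk x) (hU.primeIdealOf ⟨x, hxU⟩).asIdeal :=
    hU.isLocalization_stalk ⟨x, hxU⟩
  have locz : IsLocalization.AtPrime (X.presheaf.stalk z) (hU.primeIdealOf ⟨z, hzU⟩).asIdeal :=
    hU.isLocalization_stalk ⟨z, hzU⟩
  have hle : (hU.primeIdealOf ⟨z, hzU⟩).asIdeal.primeCompl ≤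
      (hU.primeIdealOf ⟨x, hxU⟩).asIdeal.primeCompl := by
    intro r hr
    have h1 : IsUnit (algebraMap Γ(X, U) (X.presheaf.stalk z) r) :=
      IsLocalization.map_units (X.presheaf.stalk z) ⟨r, hr⟩
    have h2 : IsUnit (algebraMap Γ(X, U) (X.presheaf.stalk x) r) := by
      rw [IsScalarTower.algebraMap_apply Γ(X, U) (X.presheaf.stalk z) (X.presheaf.stalk x)]
      exact h1.map _
    exact (IsLocalization.AtPrime.isUnit_to_map_iff (X.presheaf.stalk x)
      (hU.primeIdealOf ⟨x, hxU⟩).asIdeal r).mp h2
  refine ⟨Γ(X, U), inferInstance, inferInstance, (hU.primeIdealOf ⟨x, hxU⟩).asIdeal,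
    (hU.primeIdealOf ⟨z, hzU⟩).asIdeal, inferInstance, inferInstance, ?_, ⟨?_⟩, ⟨?_⟩⟩
  · intro a ha
    by_contra hna
    exact (hle hna) ha
  · exact (IsLocalization.algEquiv (hU.primeIdealOf ⟨x, hxU⟩).asIdeal.primeCompl
      (X.presheaf.stalk x) (Localization.AtPrime (hU.primeIdealOf ⟨x, hxU⟩).asIdeal)).toRingEquiv
  · exact (IsLocalization.algEquiv (hU.primeIdealOf ⟨z, hzU⟩).asIdeal.primeCompl
      (X.presheaf.stalk z) (Localization.AtPrime (hU.primeIdealOf ⟨z, hzU⟩).asIdeal)).toRingEquiv

/-- every point of a locally Noetherian scheme specializes to a closed point. -/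
theorem exists_closed_specialization (X : Scheme.{u}) [IsLocallyNoetherian X] (x : X) :
    ∃ z : X, x ⤳ z ∧ IsClosed ({z} : Set X) := by
  obtain ⟨z, hz, hzc⟩ := Groth.Agent.S4713.result X (closure {x}) isClosed_closure
    ⟨x, subset_closure rfl⟩
  exact ⟨z, specializes_iff_mem_closure.mpr hz, hzc⟩

end Groth.Agent.H71.StalkLoc
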