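import Groth.Agent.H71.HConn
import Mathlib.RingTheory.KrullDimension.Module

/-!
# Hartshorne connectedness, local form: under `(S_2)` the components meet in codimension one
-/

set_option autoImplicit false
universe u

open Groth.Agent.H58 Groth.Agent.H15.Depth Groth.Agent.H71.ZC

namespace Groth.Agent.H71.HC

lemma hasSocle_of_pow_smul_eq_zero {R M : Type*} [CommRing R] [AddCommGroup M] [Module R M]
    (𝔪 : Ideal R) (n : ℕ) (m : M) (hm0 : m ≠ 0) (hm : ∀ r ∈ 𝔪 ^ n, r • m = 0) :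
    HasSocle 𝔪 M := by
  induction n generalizing m with
  | zero => exact absurd (by simpa using hm 1 (by simp)) hm0
  | succ n ih =>
    by_cases h : ∀ r ∈ 𝔪 ^ n, r • m = 0
    · exact ih m hm0 h
    · push_neg at h
      obtain ⟨r, hr, hrm⟩ := h
      refine ⟨r • m, hrm, fun a ha => ?_⟩
      rw [smul_smul]
      exact hm _ (by rw [pow_succ']; exact Ideal.mul_mem_mul ha hr)

lemma eq_zero_or_one_of_idempotent_local {B : Type*} [CommRing B] [IsLocalRing B] (r : B)
    (hr : r * r = r) : r = 0 ∨ r = 1 := by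
  rcases IsLocalRing.isUnit_or_isUnit_one_sub_self r with h | h
  · right
    have h1 : r * (r - 1) = 0 := by rw [mul_sub, hr, mul_one, sub_self]
    exact sub_eq_zero.mp (h.mul_right_eq_zero.mp h1)
  · left
    have h1 : (1 - r) * r = 0 := by rw [sub_mul, one_mul, hr, sub_self]
    exact h.mul_right_eq_zero.mp h1

lemma supportDim_localizedModule_self {A : Type u} [CommRing A] (Q : Ideal A) [Q.IsPrime] :
    Module.supportDim (Localization.AtPrime Q) (LocalizedModule Q.primeCompl A) =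
      (Q.height : WithBot ℕ∞) := by
  rw [Module.supportDim_eq_of_equiv (locSelfEquiv Q), Module.supportDim_self_eq_ringKrullDim,
    IsLocalization.AtPrime.ringKrullDim_eq_height Q (Localization.AtPrime Q)]

lemma min_le_depth_of_hasSk {A : Type u} [CommRing A] (k : ℕ) (hS : LocCoh.HasSk k A A)
    (Q : Ideal A) [Q.IsPrime] :
    min (k : ℕ∞) Q.height ≤
      LocCoh.depth (Localization.AtPrime Q) (LocalizedModule Q.primeCompl A) := by
  have h := hS Q
  rw [supportDim_localizedModule_self, ← WithBot.coe_natCast, ← WithBot.coe_min,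
    WithBot.coe_le_coe] at h
  exact h

/-- under `(S_2)` (indeed `(S_1)`), associated primes of `A` are minimal primes. -/
lemma mem_minimalPrimes_of_isAssociatedPrime {A : Type u} [CommRing A] [IsNoetherianRing A]
    (hS : LocCoh.HasSk 2 A A) (Q : Ideal A) (hQ : IsAssociatedPrime Q A) :
    Q ∈ minimalPrimes A := by
  have := hQ.isPrime
  have h1 := min_le_depth_of_hasSk 2 hS Q
  have h2 := not_one_le_depth_of_isAssociatedPrime A Q hQ
  rw [← Ideal.height_eq_zero_iff]
  by_contra hne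
  apply h2
  refine le_trans ?_ h1
  rw [le_min_iff]
  exact ⟨by norm_num, Order.one_le_iff_ne_zero.mpr hne⟩

/-- the local core: in a Noetherian local ring of depth `≥ 2`, two ideals with zero product whose
sum is primary to the maximal ideal cannot both be nonzero. -/
lemma eq_bot_or_eq_bot_of_hasSeq_two {B : Type u} [CommRing B] [IsNoetherianRing B]
    [IsLocalRing B] (I J : Ideal B) (hIJ : I * J = ⊥)
    (hrad : (I ⊔ J).radical = IsLocalRing.maximalIdeal B)
    (hseq : HasSeq (IsLocalRing.maximalIdeal B) B 2) : I = ⊥ ∨ J = ⊥ := by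
  have hIJ' : ∀ i ∈ I, ∀ j ∈ J, i * j = 0 := fun i hi j hj => by
    have h1 : i * j ∈ I * J := Ideal.mul_mem_mul hi hj
    rw [hIJ] at h1
    exact (Submodule.mem_bot B).mp h1
  obtain ⟨N, hN⟩ := Ideal.exists_pow_le_of_le_radical_of_fg hrad.ge
    (IsNoetherian.noetherian (IsLocalRing.maximalIdeal B))
  have hIJle : I ⊔ J ≤ IsLocalRing.maximalIdeal B := hrad ▸ Ideal.le_radical
  have hseq1 : HasSeq (IsLocalRing.maximalIdeal B) B 1 := hseq.mono (by norm_num)
  have hnosoc : ¬ HasSocle (IsLocalRing.maximalIdeal B) B := fun hsoc => by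
    obtain ⟨x, hx, hxreg, -⟩ := hasSeq_succ_iff.mp hseq1
    exact hsoc.not_regular hx hxreg
  have H1 : ∀ c : B, (∀ z ∈ I ⊔ J, z * c = 0) → c = 0 := by
    intro c hc
    by_contra hc0
    exact hnosoc (hasSocle_of_pow_smul_eq_zero _ N c hc0 (fun r hr => hc r (hN hr)))
  obtain ⟨x, hx, hxreg⟩ : ∃ x ∈ I ⊔ J, IsSMulRegular B x := by
    rcases exists_regular_or_hasSocle (I := I ⊔ J) B with h | ⟨m, hm0, hm⟩
    · exact h
    · exact absurd (H1 m hm) hm0
  have hseqq : HasSeq (IsLocalRing.maximalIdeal B) (QuotSMulTop x B) 1 :=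
    hasSeq_quot_of_hasSeq_succ (hIJle hx) hxreg hseq
  have hnosocq : ¬ HasSocle (IsLocalRing.maximalIdeal B) (QuotSMulTop x B) := fun hsoc => by
    obtain ⟨y, hy, hyreg, -⟩ := hasSeq_succ_iff.mp hseqq
    exact hsoc.not_regular hy hyreg
  obtain ⟨a₁, ha₁, b₁, hb₁, rfl⟩ := Submodule.mem_sup.mp hx
  have hreg : ∀ r : B, (a₁ + b₁) * r = 0 → r = 0 := fun r hr => hxreg.right_eq_zero_of_smul hr
  have H2 : ∀ m : B, (∀ z ∈ I ⊔ J, ∃ n, (a₁ + b₁) * n = z * m) →
      ∃ m', (a₁ + b₁) * m' = m := by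
    intro m hm
    by_contra hno
    apply hnosocq
    have hm0 : (Submodule.Quotient.mk m : QuotSMulTop (a₁ + b₁) B) ≠ 0 := by
      intro h0
      rw [Submodule.Quotient.mk_eq_zero, Submodule.mem_smul_pointwise_iff_exists] at h0
      obtain ⟨m', -, hm'⟩ := h0
      exact hno ⟨m', hm'⟩
    refine hasSocle_of_pow_smul_eq_zero _ N _ hm0 (fun r hr => ?_)
    obtain ⟨n, hn⟩ := hm r (hN hr)
    rw [← Submodule.Quotient.mk_smul, Submodule.Quotient.mk_eq_zero,
      Submodule.mem_smul_pointwise_iff_exists]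
    exact ⟨n, Submodule.mem_top, hn⟩
  obtain ⟨r, hrr, har, hrb⟩ := exists_idempotent I J hIJ' a₁ b₁ ha₁ hb₁ hreg H1 H2
  rcases eq_zero_or_one_of_idempotent_local r hrr with rfl | rfl
  · left
    rw [mul_zero] at har
    rw [eq_bot_iff]
    intro i hi
    rw [Ideal.mem_bot]
    apply hreg
    rw [har, zero_add, mul_comm]
    exact hIJ' i hi b₁ hb₁
  · right
    rw [one_mul] at hrb
    rw [eq_bot_iff]
    intro j hj
    rw [Ideal.mem_bot]
    apply hreg
    rw [hrb, add_zero]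
    exact hIJ' a₁ ha₁ j hj

theorem height_eq_one_of_S2 (R : Type u) [CommRing R] [IsNoetherianRing R]
    (hS : LocCoh.HasSk 2 R R) (P1 P2 : Set (Ideal R)) (hP : P1 ∪ P2 = minimalPrimes R)
    (hdisj : Disjoint P1 P2) (a b : Ideal R)
    (ha : ∀ r : R, r ∈ a ↔ ∀ p ∈ P1, ∃ s : R, s ∉ p ∧ s * r = 0)
    (hb : ∀ r : R, r ∈ b ↔ ∀ p ∈ P2, ∃ s : R, s ∉ p ∧ s * r = 0) (P : Ideal R)
    (hPmin : P ∈ (a ⊔ b).minimalPrimes) : P.height = 1 := by
  classical
  have hPprime : P.IsPrime := hPmin.1.1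
  have hle : a ⊔ b ≤ P := hPmin.1.2
  have hfin := minimalPrimes.finite_of_isNoetherianRing R
  have hP1sub : P1 ⊆ minimalPrimes R := hP ▸ Set.subset_union_left
  have hP2sub : P2 ⊆ minimalPrimes R := hP ▸ Set.subset_union_right
  have key : ∀ (S : Set (Ideal R)) (c : Ideal R), S ⊆ minimalPrimes R →
      (∀ r : R, r ∈ c ↔ ∀ p ∈ S, ∃ s : R, s ∉ p ∧ s * r = 0) →
      ∀ Q : Ideal R, Q.IsPrime → c ≤ Q → ∃ p ∈ S, p ≤ Q := by
    intro S c hS hc Q hQ hcQ
    by_contra hno
    push_neg at hno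
    have hSfin : S.Finite := hfin.subset hS
    have hy : ∀ p ∈ S, ∃ y s : R, y ∉ Q ∧ s ∉ p ∧ s * y = 0 := by
      intro p hp
      obtain ⟨x, hxp, hxQ⟩ := SetLike.not_le_iff_exists.mp (hno p hp)
      obtain ⟨k, s, hs, hsx⟩ := exists_mul_pow_mem_of_mem_minimalPrimes (hS hp) hxp
      exact ⟨x ^ k, s, fun h => hxQ (hQ.mem_of_pow_mem k h), hs, by simpa using hsx⟩
    choose! y s hyQ hsp hsy using hy
    have hprod : (∏ p ∈ hSfin.toFinset, y p) ∈ c := by
      rw [hc]
      intro p hp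
      refine ⟨s p, hsp p hp, ?_⟩
      obtain ⟨e, he⟩ := Finset.dvd_prod_of_mem y (hSfin.mem_toFinset.mpr hp)
      rw [he, ← mul_assoc, hsy p hp, zero_mul]
    have hnot : (∏ p ∈ hSfin.toFinset, y p) ∉ Q := by
      intro hmem
      obtain ⟨p, hp, hpQ⟩ := (Ideal.IsPrime.prod_mem_iff (hp := hQ)).mp hmem
      exact hyQ p (hSfin.mem_toFinset.mp hp) hpQ
    exact hnot (hcQ hprod)
  have hab : ∀ r : R, r ∈ a → r ∈ b → r = 0 := by
    intro r hra hrb
    by_contra hr0
    obtain ⟨Q, hQ, hQle⟩ := exists_le_isAssociatedPrime_of_isNoetherianRing R r hr0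
    have hQmin := mem_minimalPrimes_of_isAssociatedPrime hS Q hQ
    rw [← hP] at hQmin
    rcases hQmin with hQ1 | hQ2
    · obtain ⟨s, hs, hsr⟩ := (ha r).mp hra Q hQ1
      exact hs (hQle (by rw [Submodule.mem_colon_singleton, Submodule.mem_bot]; exact hsr))
    · obtain ⟨s, hs, hsr⟩ := (hb r).mp hrb Q hQ2
      exact hs (hQle (by rw [Submodule.mem_colon_singleton, Submodule.mem_bot]; exact hsr))
  obtain ⟨p₁, hp₁, hp₁P⟩ := key P1 a hP1sub ha P hPprime (le_sup_left.trans hle)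
  obtain ⟨p₂, hp₂, hp₂P⟩ := key P2 b hP2sub hb P hPprime (le_sup_right.trans hle)
  have hne12 : p₁ ≠ p₂ := fun h => Set.disjoint_left.mp hdisj hp₁ (h ▸ hp₂)
  have hht1 : P.height ≠ 0 := by
    intro h0
    have hPm : P ∈ minimalPrimes R := Ideal.height_eq_zero_iff.mp h0
    have e1 : P ≤ p₁ := hPm.2 ⟨(hP1sub hp₁).1.1, bot_le⟩ hp₁P
    have e2 : P ≤ p₂ := hPm.2 ⟨(hP2sub hp₂).1.1, bot_le⟩ hp₂P
    exact hne12 ((le_antisymm hp₁P e1).trans (le_antisymm hp₂P e2).symm)
  have hht2 : P.height ≤ 1 := by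
    by_contra hgt
    rw [not_le] at hgt
    have h2le : (2 : ℕ∞) ≤ P.height := by
      have h3 := Order.add_one_le_of_lt hgt
      rwa [one_add_one_eq_two] at h3
    have hd := min_le_depth_of_hasSk 2 hS P
    rw [Nat.cast_ofNat, min_eq_left h2le] at hd
    have hseq := hasSeq_self_of_le_depth_localizedModule P 2 (by rw [Nat.cast_ofNat]; exact hd)
    have hIJ : a.map (algebraMap R (Localization.AtPrime P)) *
        b.map (algebraMap R (Localization.AtPrime P)) = ⊥ := by
      rw [← Ideal.map_mul, eq_bot_iff, Ideal.map_le_iff_le_comap]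
      intro r hr
      rw [hab r (Ideal.mul_le_left hr) (Ideal.mul_le_right hr)]
      exact Submodule.zero_mem _
    have hrad : (a.map (algebraMap R (Localization.AtPrime P)) ⊔
        b.map (algebraMap R (Localization.AtPrime P))).radical =
        IsLocalRing.maximalIdeal (Localization.AtPrime P) := by
      rw [← Ideal.map_sup, IsLocalization.AtPrime.radical_map_of_mem_minimalPrimes (A := Localization.AtPrime P) P (a ⊔ b) hPmin,
        IsLocalization.AtPrime.map_eq_maximalIdeal]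
    have hker : ∀ (c : Ideal R), c.map (algebraMap R (Localization.AtPrime P)) = ⊥ →
        ∀ r ∈ c, ∃ s, s ∉ P ∧ s * r = 0 := by
      intro c hc r hr
      have h0 : algebraMap R (Localization.AtPrime P) r = 0 := by
        have := Ideal.mem_map_of_mem (algebraMap R (Localization.AtPrime P)) hr
        rw [hc] at this
        exact (Submodule.mem_bot _).mp this
      obtain ⟨⟨s, hs⟩, hsr⟩ := (IsLocalization.map_eq_zero_iff P.primeCompl _ r).mp h0
      exact ⟨s, hs, hsr⟩
    rcases eq_bot_or_eq_bot_of_hasSeq_two _ _ hIJ hrad hseq with h0 | h0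
    · -- a ⊆ p₂
      have hp₂prime : p₂.IsPrime := (hP2sub hp₂).1.1
      have hap₂ : a ≤ p₂ := by
        intro r hr
        obtain ⟨s, hs, hsr⟩ := hker a h0 r hr
        have : s * r ∈ p₂ := hsr ▸ Submodule.zero_mem _
        exact (hp₂prime.mem_or_mem this).resolve_left (fun h => hs (hp₂P h))
      obtain ⟨p, hp, hpp₂⟩ := key P1 a hP1sub ha p₂ hp₂prime hap₂
      have heq : p = p₂ :=
        le_antisymm hpp₂ ((hP2sub hp₂).2 ⟨(hP1sub hp).1.1, bot_le⟩ hpp₂)
      exact Set.disjoint_left.mp hdisj hp (heq ▸ hp₂)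
    · have hp₁prime : p₁.IsPrime := (hP1sub hp₁).1.1
      have hbp₁ : b ≤ p₁ := by
        intro r hr
        obtain ⟨s, hs, hsr⟩ := hker b h0 r hr
        have : s * r ∈ p₁ := hsr ▸ Submodule.zero_mem _
        exact (hp₁prime.mem_or_mem this).resolve_left (fun h => hs (hp₁P h))
      obtain ⟨p, hp, hpp₁⟩ := key P2 b hP2sub hb p₁ hp₁prime hbp₁
      have heq : p = p₁ :=
        le_antisymm hpp₁ ((hP1sub hp₁).2 ⟨(hP2sub hp).1.1, bot_le⟩ hpp₁)
      exact Set.disjoint_left.mp hdisj hp₁ (heq ▸ hp)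
  exact le_antisymm hht2 (Order.one_le_iff_ne_zero.mpr hht1)

end Groth.Agent.H71.HC
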