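import Groth.Agent.H71.AssQuot
import Mathlib.RingTheory.Spectrum.Prime.Module

/-!
# Serre's conditions `(S_1)`, `(S_2)`: support dimension of localizations, embedded primes
-/

set_option autoImplicit false
universe u

open Groth.Agent.H58 Groth.Agent.H15.Depth Groth.Agent.H71.ZC Groth.Agent.H71.HC
open scoped Pointwise

namespace Groth.Agent.H71.SK

section

variable {R : Type u} [CommRing R] (M : Type u) [AddCommGroup M] [Module R M]
  (P : Ideal R) [P.IsPrime]

/-- support of the localized module. -/
lemma mem_support_localizedModule_iff (q' : PrimeSpectrum (Localization.AtPrime P)) :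
    q' ∈ Module.support (Localization.AtPrime P) (LocalizedModule P.primeCompl M) ↔
      PrimeSpectrum.comap (algebraMap R (Localization.AtPrime P)) q' ∈ Module.support R M := by
  rw [Module.mem_support_iff', Module.mem_support_iff']
  have hqP : ∀ r : R, r ∉ P → algebraMap R (Localization.AtPrime P) r ∉ q'.asIdeal := by
    intro r hr hmem
    exact q'.isPrime.ne_top (Ideal.eq_top_of_isUnit_mem _ hmem
      (IsLocalization.map_units (Localization.AtPrime P) (⟨r, hr⟩ : P.primeCompl)))
  constructor
  · rintro ⟨w, hw⟩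
    obtain ⟨s, m, hs, hsm⟩ := exists_smul_eq_mk P w
    refine ⟨m, fun r hr => ?_⟩
    have hr' : algebraMap R (Localization.AtPrime P) r ∉ q'.asIdeal := hr
    intro h0
    apply hw _ hr'
    apply smul_inj P hs
    rw [smul_zero, algebraMap_smul, smul_comm, hsm, ← map_smul, h0, map_zero]
  · rintro ⟨m, hm⟩
    refine ⟨LocalizedModule.mkLinearMap P.primeCompl M m, fun c hc h0 => ?_⟩
    obtain ⟨⟨f, s⟩, hfs⟩ := IsLocalization.surj P.primeCompl c
    dsimp only at hfs
    have hf : f ∉ (PrimeSpectrum.comap (algebraMap R (Localization.AtPrime P)) q').asIdeal := by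
      intro hmem
      have h1 : algebraMap R (Localization.AtPrime P) f ∈ q'.asIdeal := hmem
      rw [← hfs] at h1
      rcases q'.isPrime.mem_or_mem h1 with h2 | h2
      · exact hc h2
      · exact hqP _ s.2 h2
    have h2 : LocalizedModule.mkLinearMap P.primeCompl M (f • m) = 0 := by
      rw [map_smul, ← algebraMap_smul (Localization.AtPrime P) f, ← hfs, mul_comm, mul_smul, h0,
        smul_zero]
    obtain ⟨t, ht, htm⟩ := (mk_eq_zero_iff P _).mp h2
    apply hm (t * f) ?_ (by rw [mul_smul]; exact htm)
    intro hmem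
    rcases (PrimeSpectrum.comap (algebraMap R (Localization.AtPrime P)) q').isPrime.mem_or_mem
      hmem with h3 | h3
    · exact hqP t ht h3
    · exact hf h3

/-- the support of `M_P` has positive dimension iff a prime strictly below `P` lies in `Supp M`. -/
lemma supportDim_pos_iff :
    0 < Module.supportDim (Localization.AtPrime P) (LocalizedModule P.primeCompl M) ↔
      ∃ q : PrimeSpectrum R, q ∈ Module.support R M ∧ q.asIdeal < P := by
  unfold Module.supportDim
  rw [Order.krullDim_pos_iff]
  constructor
  · rintro ⟨⟨x, hx⟩, ⟨y, hy⟩, hxy⟩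
    refine ⟨PrimeSpectrum.comap (algebraMap R (Localization.AtPrime P)) x,
      (mem_support_localizedModule_iff M P x).mp hx, ?_⟩
    have h1 : x.asIdeal < y.asIdeal := hxy
    have h2 : (⟨x.asIdeal, x.isPrime⟩ : {p : Ideal (Localization.AtPrime P) // p.IsPrime}) <
        ⟨y.asIdeal, y.isPrime⟩ := h1
    have h3 := (IsLocalization.AtPrime.orderIsoOfPrime (Localization.AtPrime P) P).lt_iff_lt.mpr h2
    have h4 := ((IsLocalization.AtPrime.orderIsoOfPrime (Localization.AtPrime P) P)
      ⟨y.asIdeal, y.isPrime⟩).2.2
    exact lt_of_lt_of_le h3 h4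
  · rintro ⟨q, hq, hqP⟩
    set e := IsLocalization.AtPrime.orderIsoOfPrime (Localization.AtPrime P) P with he
    set x := e.symm ⟨q.asIdeal, q.isPrime, hqP.le⟩ with hx
    set y := e.symm ⟨P, inferInstance, le_rfl⟩ with hy
    have hxc : (e x).1 = q.asIdeal := by rw [hx, e.apply_symm_apply]
    have hyc : (e y).1 = P := by rw [hy, e.apply_symm_apply]
    have hxy : x < y := e.symm.lt_iff_lt.mpr hqP
    have hxs : (⟨x.1, x.2⟩ : PrimeSpectrum (Localization.AtPrime P)) ∈
        Module.support (Localization.AtPrime P) (LocalizedModule P.primeCompl M) := by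
      rw [mem_support_localizedModule_iff]
      have : PrimeSpectrum.comap (algebraMap R (Localization.AtPrime P)) ⟨x.1, x.2⟩ = q :=
        PrimeSpectrum.ext hxc
      rw [this]; exact hq
    have hys : (⟨y.1, y.2⟩ : PrimeSpectrum (Localization.AtPrime P)) ∈
        Module.support (Localization.AtPrime P) (LocalizedModule P.primeCompl M) := by
      rw [mem_support_localizedModule_iff]
      have h1 : q ≤ PrimeSpectrum.comap (algebraMap R (Localization.AtPrime P)) ⟨y.1, y.2⟩ := by
        show q.asIdeal ≤ (e y).1
        rw [hyc]; exact hqP.le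
      exact Module.mem_support_mono h1 hq
    exact ⟨⟨_, hxs⟩, ⟨_, hys⟩, hxy⟩

lemma supportDim_localized_of_support_eq_univ (hsupp : Module.support R M = Set.univ) :
    Module.supportDim (Localization.AtPrime P) (LocalizedModule P.primeCompl M) =
      (P.height : WithBot ℕ∞) := by
  have h1 : Module.support (Localization.AtPrime P) (LocalizedModule P.primeCompl M) =
      Set.univ := by
    ext q'
    simp only [Set.mem_univ, iff_true]
    rw [mem_support_localizedModule_iff, hsupp]
    trivial
  unfold Module.supportDim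
  rw [Order.krullDim_eq_of_orderIso ((OrderIso.setCongr _ _ h1).trans OrderIso.Set.univ)]
  exact IsLocalization.AtPrime.ringKrullDim_eq_height P (Localization.AtPrime P)

variable [IsNoetherianRing R] [Module.Finite R M]

/-- depth zero at `P` means `P` is an associated prime. -/
lemma isAssociatedPrime_of_not_one_le_depth
    (h : ¬ (1 : ℕ∞) ≤ LocCoh.depth (Localization.AtPrime P)
      (LocalizedModule P.primeCompl M)) : IsAssociatedPrime P M := by
  have htop : IsLocalRing.maximalIdeal (Localization.AtPrime P) •
      (⊤ : Submodule (Localization.AtPrime P) (LocalizedModule P.primeCompl M)) ≠ ⊤ := by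
    intro htop
    apply h
    unfold LocCoh.depth
    rw [idealDepth_eq_top_of_smul_top_eq_top htop]
    exact le_top
  rcases exists_regular_or_hasSocle
      (I := IsLocalRing.maximalIdeal (Localization.AtPrime P))
      (LocalizedModule P.primeCompl M) with ⟨a, ha, hareg⟩ | hsoc
  · exfalso
    apply h
    have h1 := (le_idealDepth_iff htop 1).mpr (hasSeq_succ_iff.mpr ⟨a, ha, hareg, hasSeq_zero⟩)
    rwa [Nat.cast_one] at h1
  · obtain ⟨w, hw0, hw⟩ := hsoc
    have hA : ∀ f ∈ P, ∃ y : LocalizedModule P.primeCompl M, f • w = (0 : R) • y := by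
      intro f hf
      refine ⟨0, ?_⟩
      rw [smul_zero, ← algebraMap_smul (Localization.AtPrime P) f w]
      exact hw _
        ((IsLocalization.AtPrime.to_map_mem_maximal_iff (Localization.AtPrime P) P f).mpr hf)
    have hB : ¬ ∃ y : LocalizedModule P.primeCompl M, w = (0 : R) • y := by
      rintro ⟨y, hy⟩
      exact hw0 (by rw [hy, zero_smul])
    obtain ⟨mstar, h1, h2⟩ := descend_socle P (IsNoetherian.noetherian P) 0 w hA hB
    refine isAssociatedPrime_iff.mpr ⟨inferInstance, mstar, ?_⟩
    ext r
    rw [Submodule.mem_colon_singleton, Submodule.mem_bot]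
    constructor
    · intro hr
      obtain ⟨n, hn⟩ := h1 r hr
      rw [← hn, zero_smul]
    · intro hr
      by_contra hrP
      apply h2
      refine ⟨0, ?_⟩
      rw [smul_zero]
      exact (mk_eq_zero_iff P mstar).mpr ⟨r, hrP, hr⟩

end

/-- no embedded primes iff `(S_1)`. -/
theorem noEmbedded_iff_S1 {R M : Type u} [CommRing R] [IsNoetherianRing R] [AddCommGroup M]
    [Module R M] [Module.Finite R M] :
    (∀ p ∈ associatedPrimes R M, p ∈ (Module.annihilator R M).minimalPrimes) ↔
      LocCoh.HasSk 1 R M := by
  constructor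
  · intro h P hP
    by_cases hd : (1 : ℕ∞) ≤ LocCoh.depth (Localization.AtPrime P)
        (LocalizedModule P.primeCompl M)
    · refine le_trans (min_le_left _ _) ?_
      rw [← WithBot.coe_natCast, WithBot.coe_le_coe, Nat.cast_one]
      exact hd
    · have hass := isAssociatedPrime_of_not_one_le_depth M P hd
      have hmin := h P hass
      have hle0 : Module.supportDim (Localization.AtPrime P)
          (LocalizedModule P.primeCompl M) ≤ 0 := by
        rw [← not_lt, supportDim_pos_iff]
        rintro ⟨q, hq, hqP⟩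
        have h1 := hmin.2 ⟨q.isPrime, Module.annihilator_le_of_mem_support hq⟩ hqP.le
        exact absurd h1 (not_le_of_gt hqP)
      refine le_trans (min_le_right _ _) (le_trans hle0 ?_)
      rw [← WithBot.coe_zero, WithBot.coe_le_coe]
      exact zero_le
  · intro hS p hp
    have hpprime : p.IsPrime := IsAssociatedPrime.isPrime hp
    have hann : Module.annihilator R M ≤ p := by
      rw [← Submodule.annihilator_top]; exact IsAssociatedPrime.annihilator_le hp
    refine ⟨⟨hpprime, hann⟩, fun q hq hqp => ?_⟩
    by_contra hnot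
    have hlt : q < p := lt_of_le_of_ne hqp (fun h => hnot (h ▸ le_rfl))
    have hqs : (⟨q, hq.1⟩ : PrimeSpectrum R) ∈ Module.support R M :=
      Module.mem_support_iff_of_finite.mpr hq.2
    have hpos := (supportDim_pos_iff M p).mpr ⟨⟨q, hq.1⟩, hqs, hlt⟩
    have hSk := hS p
    have hnd := not_one_le_depth_of_isAssociatedPrime M p hp
    apply hnd
    generalize Module.supportDim (Localization.AtPrime p) (LocalizedModule p.primeCompl M) = d
      at hpos hSk
    induction d using WithBot.recBotCoe with
    | bot => exact absurd hpos (not_lt_bot)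
    | coe n =>
      rw [← WithBot.coe_zero, WithBot.coe_lt_coe] at hpos
      have h1 : (1 : ℕ∞) ≤ n := Order.one_le_iff_pos.mpr hpos
      rw [← WithBot.coe_natCast, ← WithBot.coe_min, WithBot.coe_le_coe, Nat.cast_one,
        min_eq_left h1] at hSk
      exact hSk

/-- torsion-free iff `Ass = {0}` iff generic support and `(S_1)`, over a Noetherian domain. -/
theorem torsionFree_iff (R : Type u) [CommRing R] [IsDomain R] [IsNoetherianRing R]
    (M : Type u) [AddCommGroup M] [Module R M] [Module.Finite R M] [Nontrivial M] :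
    (Module.IsTorsionFree R M ↔ associatedPrimes R M = {⊥}) ∧
    (Module.IsTorsionFree R M ↔
      (⟨⊥, Ideal.isPrime_bot⟩ : PrimeSpectrum R) ∈ Module.support R M ∧ LocCoh.HasSk 1 R M) := by
  have part1 : Module.IsTorsionFree R M ↔ associatedPrimes R M = {⊥} := by
    constructor
    · intro htf
      rw [Set.eq_singleton_iff_nonempty_unique_mem]
      refine ⟨associatedPrimes.nonempty R M, fun p hp => ?_⟩
      obtain ⟨hpprime, m, hm⟩ := isAssociatedPrime_iff.mp hp
      rw [eq_bot_iff]
      intro r hr
      rw [hm, Submodule.mem_colon_singleton, Submodule.mem_bot] at hr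
      rcases smul_eq_zero.mp hr with h | h
      · exact (Ideal.mem_bot).mpr h
      · exfalso
        apply hpprime.ne_top
        rw [hm, h, Ideal.eq_top_iff_one, Submodule.mem_colon_singleton, smul_zero]
        exact Submodule.zero_mem _
    · intro hass
      refine ⟨fun r hr => ?_⟩
      rw [isSMulRegular_iff_right_eq_zero_of_smul]
      intro m hm
      by_contra hm0
      obtain ⟨Q, hQ, hle⟩ := exists_le_isAssociatedPrime_of_isNoetherianRing R m hm0
      have hQbot : Q = ⊥ := by
        have : Q ∈ associatedPrimes R M := hQ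
        rw [hass] at this
        exact this
      have hrQ : r ∈ Q := hle (by rw [Submodule.mem_colon_singleton, Submodule.mem_bot]; exact hm)
      rw [hQbot, Ideal.mem_bot] at hrQ
      exact hr.ne_zero hrQ
  refine ⟨part1, ?_⟩
  rw [part1, ← noEmbedded_iff_S1]
  constructor
  · intro hass
    have hbot : (⊥ : Ideal R) ∈ associatedPrimes R M := by rw [hass]; rfl
    have hann : Module.annihilator R M ≤ ⊥ := by
      rw [← Submodule.annihilator_top]; exact IsAssociatedPrime.annihilator_le hbot
    refine ⟨Module.mem_support_iff_of_finite.mpr hann, fun p hp => ?_⟩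
    rw [hass] at hp
    have hp' : p = ⊥ := hp
    rw [hp']
    exact ⟨⟨Ideal.isPrime_bot, hann⟩, fun q _ _ => bot_le⟩
  · rintro ⟨hsupp, hmin⟩
    have hann : Module.annihilator R M ≤ ⊥ := Module.mem_support_iff_of_finite.mp hsupp
    rw [Set.eq_singleton_iff_nonempty_unique_mem]
    refine ⟨associatedPrimes.nonempty R M, fun p hp => ?_⟩
    have h1 := (hmin p hp).2 ⟨Ideal.isPrime_bot, hann⟩ bot_le
    exact le_bot_iff.mp h1

/-- `(S_1)` and `(S_2)` in terms of purity and closedness, for a module with full support. -/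
theorem hasSk_one_two_iff (A : Type u) [CommRing A] [IsNoetherianRing A] (M : Type u)
    [AddCommGroup M] [Module A M] [Module.Finite A M]
    (hsupp : Module.support A M = Set.univ) :
    (LocCoh.HasSk 1 A M ↔ EGA4.IsPureAlong (EGA4.Zge A 1) M) ∧
      (LocCoh.HasSk 2 A M ↔
        (EGA4.IsClosedAlong (EGA4.Zge A 2) M ∧ EGA4.IsPureAlong (EGA4.Zge A 1) M)) := by
  have hstab : ∀ n : ℕ, StableUnderSpecialization (EGA4.Zge A n) := by
    intro n x y hxy hx
    exact le_trans hx (Ideal.height_mono ((PrimeSpectrum.le_iff_specializes x y).mpr hxy))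
  have hSk : ∀ k : ℕ, LocCoh.HasSk k A M ↔ ∀ p : PrimeSpectrum A,
      min (k : ℕ∞) p.asIdeal.height ≤ LocCoh.depth (Localization.AtPrime p.asIdeal)
        (LocalizedModule p.asIdeal.primeCompl M) := by
    intro k
    constructor
    · intro h p
      have h1 := h p.asIdeal
      rw [supportDim_localized_of_support_eq_univ M p.asIdeal hsupp, ← WithBot.coe_natCast,
        ← WithBot.coe_min, WithBot.coe_le_coe] at h1
      exact h1
    · intro h P hP
      rw [supportDim_localized_of_support_eq_univ M P hsupp, ← WithBot.coe_natCast,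
        ← WithBot.coe_min, WithBot.coe_le_coe]
      exact h ⟨P, hP⟩
  have h1 : LocCoh.HasSk 1 A M ↔ ∀ p : PrimeSpectrum A, p ∈ EGA4.Zge A 1 →
      (1 : ℕ∞) ≤ LocCoh.depth (Localization.AtPrime p.asIdeal)
        (LocalizedModule p.asIdeal.primeCompl M) := by
    rw [hSk 1]
    constructor
    · intro h p hp
      have hp' : ((1 : ℕ) : ℕ∞) ≤ p.asIdeal.height := hp
      have h2 := h p
      rwa [min_eq_left hp', Nat.cast_one] at h2
    · intro h p
      by_cases hp : ((1 : ℕ) : ℕ∞) ≤ p.asIdeal.height
      · refine le_trans (min_le_left _ _) ?_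
        rw [Nat.cast_one]; exact h p hp
      · rw [not_le, Nat.cast_one, Order.lt_one_iff] at hp
        rw [hp]
        exact le_trans (min_le_right _ _) zero_le
  have h2 : LocCoh.HasSk 2 A M ↔ (∀ p : PrimeSpectrum A, p ∈ EGA4.Zge A 2 →
      (2 : ℕ∞) ≤ LocCoh.depth (Localization.AtPrime p.asIdeal)
        (LocalizedModule p.asIdeal.primeCompl M)) ∧ (∀ p : PrimeSpectrum A, p ∈ EGA4.Zge A 1 →
      (1 : ℕ∞) ≤ LocCoh.depth (Localization.AtPrime p.asIdeal)
        (LocalizedModule p.asIdeal.primeCompl M)) := by
    rw [hSk 2]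
    constructor
    · intro h
      refine ⟨fun p hp => ?_, fun p hp => ?_⟩
      · have hp' : ((2 : ℕ) : ℕ∞) ≤ p.asIdeal.height := hp
        have h3 := h p
        rwa [min_eq_left hp', Nat.cast_ofNat] at h3
      · have hp' : ((1 : ℕ) : ℕ∞) ≤ p.asIdeal.height := hp
        rw [Nat.cast_one] at hp'
        refine le_trans (le_min ?_ hp') (h p)
        rw [Nat.cast_ofNat]; norm_num
    · rintro ⟨ha, hb⟩ p
      by_cases hp2 : ((2 : ℕ) : ℕ∞) ≤ p.asIdeal.height
      · refine le_trans (min_le_left _ _) ?_
        rw [Nat.cast_ofNat]; exact ha p hp2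
      · by_cases hp1 : ((1 : ℕ) : ℕ∞) ≤ p.asIdeal.height
        · rw [not_le, Nat.cast_ofNat] at hp2
          have hle1 : p.asIdeal.height ≤ 1 := by
            have h3 : p.asIdeal.height < 1 + 1 := by rwa [one_add_one_eq_two]
            exact Order.le_of_lt_add_one h3
          exact le_trans (min_le_right _ _) (le_trans hle1 (hb p hp1))
        · rw [not_le, Nat.cast_one, Order.lt_one_iff] at hp1
          rw [hp1]
          exact le_trans (min_le_right _ _) zero_le
  refine ⟨?_, ?_⟩
  · rw [h1, isPureAlong_iff_depth M (EGA4.Zge A 1) (hstab 1)]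
  · rw [h2, isClosedAlong_iff_depth M (EGA4.Zge A 2) (hstab 2),
      isPureAlong_iff_depth M (EGA4.Zge A 1) (hstab 1)]

end Groth.Agent.H71.SK
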