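import Mathlib
import Groth.Prelude

/-!
# The (R_n)-locus of a Noetherian ring
-/

set_option autoImplicit false
set_option linter.style.haveILetI false
universe u

namespace Groth.Agent.H71.RKL

variable {A : Type u} [CommRing A]

/-- `(A_p)_{qA_p} ≃ A_q` for `q ≤ p`. -/
theorem nonempty_equiv_of_le (p q : Ideal A) [p.IsPrime] [hq : q.IsPrime] (hqp : q ≤ p)
    [(q.map (algebraMap A (Localization.AtPrime p))).IsPrime] :
    Nonempty (Localization.AtPrime (q.map (algebraMap A (Localization.AtPrime p))) ≃+*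
      Localization.AtPrime q) := by
  have hdisj : Disjoint (p.primeCompl : Set A) (q : Set A) :=
    Set.disjoint_left.mpr (fun x hx hxq => hx (hqp hxq))
  have := IsLocalization.isLocalization_isLocalization_atPrime_isLocalization (M := p.primeCompl)
    (Localization.AtPrime (q.map (algebraMap A (Localization.AtPrime p))))
    (q.map (algebraMap A (Localization.AtPrime p)))
  simp_rw [IsLocalization.under_map_of_isPrime_disjoint p.primeCompl (Localization.AtPrime p) hq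
    hdisj] at this
  exact ⟨(IsLocalization.algEquiv q.primeCompl
    (Localization.AtPrime (q.map (algebraMap A (Localization.AtPrime p))))
    (Localization.AtPrime q)).toRingEquiv⟩

theorem hasRkAt_iff (n : ℕ) (p : Ideal A) [p.IsPrime] :
    EGA4.HasRkAt n A p ↔ ∀ (q : Ideal A) [q.IsPrime], q ≤ p → q.height ≤ n →
      IsRegularLocalRing (Localization.AtPrime q) := by
  constructor
  · intro h q hq hqp hqn
    have hdisj : Disjoint (p.primeCompl : Set A) (q : Set A) :=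
      Set.disjoint_left.mpr (fun x hx hxq => hx (hqp hxq))
    haveI hQ : (q.map (algebraMap A (Localization.AtPrime p))).IsPrime :=
      IsLocalization.isPrime_of_isPrime_disjoint p.primeCompl _ q hq hdisj
    have hht : (q.map (algebraMap A (Localization.AtPrime p))).height = q.height :=
      IsLocalization.height_map_of_disjoint p.primeCompl q hdisj
    haveI : IsRegularLocalRing
        (Localization.AtPrime (q.map (algebraMap A (Localization.AtPrime p)))) :=
      h (q.map (algebraMap A (Localization.AtPrime p))) (hht ▸ hqn)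
    obtain ⟨e⟩ := nonempty_equiv_of_le p q hqp
    exact IsRegularLocalRing.of_ringEquiv e
  · intro h Q hQ hQn
    have hqp : Q.comap (algebraMap A (Localization.AtPrime p)) ≤ p := by
      have h1 := Ideal.comap_mono (f := algebraMap A (Localization.AtPrime p))
        (IsLocalRing.le_maximalIdeal hQ.ne_top)
      have h2 : (IsLocalRing.maximalIdeal (Localization.AtPrime p)).comap
          (algebraMap A (Localization.AtPrime p)) = p :=
        IsLocalization.AtPrime.under_maximalIdeal (Localization.AtPrime p) p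
      rwa [h2] at h1
    have hht : (Q.comap (algebraMap A (Localization.AtPrime p))).height = Q.height :=
      IsLocalization.height_under p.primeCompl Q
    haveI : IsRegularLocalRing
        (Localization.AtPrime (Q.comap (algebraMap A (Localization.AtPrime p)))) :=
      h (Q.comap (algebraMap A (Localization.AtPrime p))) hqp (hht ▸ hQn)
    exact IsRegularLocalRing.of_ringEquiv
      (IsLocalization.localizationLocalizationAtPrimeIsoLocalization p.primeCompl Q).toRingEquiv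

variable [IsNoetherianRing A]

/-- the complement of the `(R_n)`-locus as a union of closures of singular points. -/
theorem compl_RkLocus (n : ℕ) :
    {p : PrimeSpectrum A | EGA4.HasRkAt n A p.asIdeal}ᶜ =
      {p : PrimeSpectrum A | ∃ (q : Ideal A) (_ : q.IsPrime), q ≤ p.asIdeal ∧ q.height ≤ n ∧
        ¬ IsRegularLocalRing (Localization.AtPrime q)} := by
  ext p
  rw [Set.mem_compl_iff, Set.mem_setOf_eq, Set.mem_setOf_eq, hasRkAt_iff]
  constructor
  · intro h
    by_contra hcon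
    apply h
    intro q hq hqp hqn
    by_contra hreg
    exact hcon ⟨q, hq, hqp, hqn, hreg⟩
  · rintro ⟨q, hq, hqp, hqn, hreg⟩ h
    exact hreg (h q hqp hqn)

theorem isOpen_RkLocus_of_isOpen_regLocus (h : IsOpen (EGA4.regLocus A)) (n : ℕ) :
    IsOpen {p : PrimeSpectrum A | EGA4.HasRkAt n A p.asIdeal} := by
  rw [← isClosed_compl_iff, compl_RkLocus]
  have hZ : IsClosed (EGA4.regLocus A)ᶜ := isClosed_compl_iff.mpr h
  set I := PrimeSpectrum.vanishingIdeal (EGA4.regLocus A)ᶜ with hI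
  have hZI : PrimeSpectrum.zeroLocus (I : Set A) = (EGA4.regLocus A)ᶜ := by
    rw [hI, PrimeSpectrum.zeroLocus_vanishingIdeal_eq_closure, hZ.closure_eq]
  have hsing : ∀ (q : Ideal A) (hq : q.IsPrime),
      ¬ IsRegularLocalRing (Localization.AtPrime q) ↔ I ≤ q := by
    intro q hq
    have : (⟨q, hq⟩ : PrimeSpectrum A) ∈ PrimeSpectrum.zeroLocus (I : Set A) ↔
        (⟨q, hq⟩ : PrimeSpectrum A) ∈ (EGA4.regLocus A)ᶜ := by rw [hZI]
    rw [PrimeSpectrum.mem_zeroLocus, SetLike.coe_subset_coe] at this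
    exact this.symm
  have hfin : {q₀ : Ideal A | q₀ ∈ I.minimalPrimes ∧ q₀.height ≤ n}.Finite :=
    (Ideal.finite_minimalPrimes_of_isNoetherianRing A I).subset (fun q₀ h => h.1)
  have heq : {p : PrimeSpectrum A | ∃ (q : Ideal A) (_ : q.IsPrime), q ≤ p.asIdeal ∧
      q.height ≤ n ∧ ¬ IsRegularLocalRing (Localization.AtPrime q)} =
      ⋃ q₀ ∈ {q₀ : Ideal A | q₀ ∈ I.minimalPrimes ∧ q₀.height ≤ n},
        PrimeSpectrum.zeroLocus (q₀ : Set A) := by
    ext p
    simp only [Set.mem_setOf_eq, Set.mem_iUnion, PrimeSpectrum.mem_zeroLocus,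
      SetLike.coe_subset_coe, exists_prop]
    constructor
    · rintro ⟨q, hq, hqp, hqn, hreg⟩
      have hIq : I ≤ q := (hsing q hq).mp hreg
      obtain ⟨q₀, hq₀, hq₀q⟩ := Ideal.exists_minimalPrimes_le hIq
      exact ⟨q₀, ⟨hq₀, (Ideal.height_mono hq₀q).trans hqn⟩, hq₀q.trans hqp⟩
    · rintro ⟨q₀, ⟨hq₀, hq₀n⟩, hq₀p⟩
      exact ⟨q₀, hq₀.1.1, hq₀p, hq₀n, (hsing q₀ hq₀.1.1).mpr hq₀.1.2⟩
  rw [heq]
  exact hfin.isClosed_biUnion (fun q₀ _ => PrimeSpectrum.isClosed_zeroLocus _)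

theorem isOpen_R0Locus :
    IsOpen {p : PrimeSpectrum A | EGA4.HasRkAt 0 A p.asIdeal} := by
  rw [← isClosed_compl_iff, compl_RkLocus]
  have hfin : {q₀ : Ideal A | q₀ ∈ minimalPrimes A ∧
      ∀ h : q₀.IsPrime, ¬ IsRegularLocalRing (Localization.AtPrime q₀)}.Finite :=
    (minimalPrimes.finite_of_isNoetherianRing A).subset (fun q₀ h => h.1)
  have heq : {p : PrimeSpectrum A | ∃ (q : Ideal A) (_ : q.IsPrime), q ≤ p.asIdeal ∧
      q.height ≤ ((0 : ℕ) : ℕ∞) ∧ ¬ IsRegularLocalRing (Localization.AtPrime q)} =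
      ⋃ q₀ ∈ {q₀ : Ideal A | q₀ ∈ minimalPrimes A ∧
        ∀ h : q₀.IsPrime, ¬ IsRegularLocalRing (Localization.AtPrime q₀)},
        PrimeSpectrum.zeroLocus (q₀ : Set A) := by
    ext p
    simp only [Set.mem_setOf_eq, Set.mem_iUnion, PrimeSpectrum.mem_zeroLocus,
      SetLike.coe_subset_coe, exists_prop]
    constructor
    · rintro ⟨q, hq, hqp, hqn, hreg⟩
      have h0 : q.height = 0 := le_antisymm (by simpa using hqn) zero_le
      exact ⟨q, ⟨Ideal.height_eq_zero_iff.mp h0, fun _ => hreg⟩, hqp⟩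
    · rintro ⟨q₀, ⟨hq₀, hq₀r⟩, hq₀p⟩
      haveI := hq₀.1.1
      exact ⟨q₀, hq₀.1.1, hq₀p, by
        rw [Ideal.height_eq_zero_iff.mpr hq₀]; simp, hq₀r hq₀.1.1⟩
  rw [heq]
  exact hfin.isClosed_biUnion (fun q₀ _ => PrimeSpectrum.isClosed_zeroLocus _)


/-- singular primes of height at most one. -/
def S1 (A : Type u) [CommRing A] : Set (Ideal A) :=
  {q | ∃ (_ : q.IsPrime), q.height ≤ ((1 : ℕ) : ℕ∞) ∧
    ¬ IsRegularLocalRing (Localization.AtPrime q)}

lemma regular_congr {P P' : Ideal A} [hP : P.IsPrime] [hP' : P'.IsPrime] (h : P = P')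
    (hr : IsRegularLocalRing (Localization.AtPrime P)) :
    IsRegularLocalRing (Localization.AtPrime P') := by
  subst h
  exact hr

theorem isOpen_R1Locus_of_local
    (hyp : ∀ p : PrimeSpectrum A, p.asIdeal ∈ minimalPrimes A → EGA4.HasRkAt 1 A p.asIdeal →
      ∃ U : Set (PrimeSpectrum A), IsOpen U ∧ p ∈ U ∧
        U ⊆ {p : PrimeSpectrum A | EGA4.HasRkAt 1 A p.asIdeal}) :
    IsOpen {p : PrimeSpectrum A | EGA4.HasRkAt 1 A p.asIdeal} := by
  classical
  rw [← isClosed_compl_iff, compl_RkLocus]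
  -- finiteness of T(p₀)
  have hT : ∀ p₀ ∈ minimalPrimes A, ∀ hp₀ : p₀.IsPrime,
      IsRegularLocalRing (Localization.AtPrime p₀) → {q ∈ S1 A | p₀ ≤ q}.Finite := by
    intro p₀ hp₀min hp₀ hreg
    have hRk : EGA4.HasRkAt 1 A (⟨p₀, hp₀⟩ : PrimeSpectrum A).asIdeal := by
      rw [hasRkAt_iff]
      intro q' hq' hq'p _
      have heq : p₀ = q' := le_antisymm (hp₀min.2 ⟨hq', bot_le⟩ hq'p) hq'p
      exact regular_congr heq hreg
    obtain ⟨U, hUo, hpU, hUL⟩ := hyp ⟨p₀, hp₀⟩ hp₀min hRk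
    have hUc : IsClosed Uᶜ := isClosed_compl_iff.mpr hUo
    set J := PrimeSpectrum.vanishingIdeal Uᶜ with hJ
    have hZJ : PrimeSpectrum.zeroLocus (J : Set A) = Uᶜ := by
      rw [hJ, PrimeSpectrum.zeroLocus_vanishingIdeal_eq_closure, hUc.closure_eq]
    refine (Ideal.finite_minimalPrimes_of_isNoetherianRing A (J ⊔ p₀)).subset ?_
    rintro q ⟨⟨hq, hq1, hqs⟩, hp₀q⟩
    -- q ∉ U
    have hqC : (⟨q, hq⟩ : PrimeSpectrum A) ∈
        {p : PrimeSpectrum A | EGA4.HasRkAt 1 A p.asIdeal}ᶜ := by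
      rw [compl_RkLocus]
      exact ⟨q, hq, le_rfl, hq1, hqs⟩
    have hqU : (⟨q, hq⟩ : PrimeSpectrum A) ∈ Uᶜ := fun h => hqC (hUL h)
    have hJq : J ≤ q := by
      rw [← hZJ, PrimeSpectrum.mem_zeroLocus, SetLike.coe_subset_coe] at hqU
      exact hqU
    obtain ⟨g, hg, hgq⟩ := Ideal.exists_minimalPrimes_le (sup_le hJq hp₀q)
    have hgp : g.IsPrime := hg.1.1
    have hJg : J ≤ g := le_sup_left.trans hg.1.2
    have hp₀g : p₀ ≤ g := le_sup_right.trans hg.1.2
    have hne : p₀ ≠ g := by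
      intro h
      have hmem : (⟨p₀, hp₀⟩ : PrimeSpectrum A) ∈ PrimeSpectrum.zeroLocus (J : Set A) := by
        rw [PrimeSpectrum.mem_zeroLocus, SetLike.coe_subset_coe]
        exact h ▸ hJg
      rw [hZJ] at hmem
      exact hmem hpU
    have hgeq : g = q := by
      by_contra hgne
      have hlt1 : p₀ < g := lt_of_le_of_ne hp₀g hne
      have hlt2 : g < q := lt_of_le_of_ne hgq hgne
      have e1 := Ideal.height_add_one_le_of_lt_of_isPrime hlt1
      have e2 := Ideal.height_add_one_le_of_lt_of_isPrime hlt2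
      have e4 : (1 : ℕ∞) + 1 ≤ 1 :=
        le_trans (add_le_add (le_trans le_add_self e1) le_rfl)
          (le_trans e2 (by exact_mod_cast hq1))
      exact absurd e4 (by norm_num)
    rw [← hgeq]
    exact hg
  -- the finite set G
  have hMin := minimalPrimes.finite_of_isNoetherianRing A
  set G : Set (Ideal A) := {q | q ∈ S1 A ∧ (q ∈ minimalPrimes A ∨ ∃ p₀ ∈ minimalPrimes A,
    (∃ (_ : p₀.IsPrime), IsRegularLocalRing (Localization.AtPrime p₀)) ∧ p₀ ≤ q)} with hG
  have hGfin : G.Finite := by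
    have hsub : G ⊆ minimalPrimes A ∪ ⋃ p₀ ∈ {p₀ : Ideal A | p₀ ∈ minimalPrimes A ∧
        ∃ (_ : p₀.IsPrime), IsRegularLocalRing (Localization.AtPrime p₀)},
        {q ∈ S1 A | p₀ ≤ q} := by
      rintro q ⟨hqS, hq | ⟨p₀, hp₀, hreg, hp₀q⟩⟩
      · exact Or.inl hq
      · refine Or.inr ?_
        simp only [Set.mem_iUnion]
        exact ⟨p₀, ⟨hp₀, hreg⟩, hqS, hp₀q⟩
    refine Set.Finite.subset (hMin.union ?_) hsub
    refine Set.Finite.biUnion (hMin.subset (fun p₀ h => h.1)) ?_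
    rintro p₀ ⟨hp₀, hp₀p, hreg⟩
    exact hT p₀ hp₀ hp₀p hreg
  have heq : {p : PrimeSpectrum A | ∃ (q : Ideal A) (_ : q.IsPrime), q ≤ p.asIdeal ∧
      q.height ≤ ((1 : ℕ) : ℕ∞) ∧ ¬ IsRegularLocalRing (Localization.AtPrime q)} =
      ⋃ g ∈ G, PrimeSpectrum.zeroLocus (g : Set A) := by
    ext p
    simp only [Set.mem_iUnion, PrimeSpectrum.mem_zeroLocus, SetLike.coe_subset_coe, exists_prop]
    constructor
    · rintro ⟨q, hq, hqp, hq1, hqs⟩
      obtain ⟨p₀, hp₀, hp₀q⟩ := Ideal.exists_minimalPrimes_le (bot_le : (⊥ : Ideal A) ≤ q)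
      have hp₀p : p₀.IsPrime := hp₀.1.1
      by_cases hreg : IsRegularLocalRing (Localization.AtPrime p₀)
      · exact ⟨q, ⟨⟨hq, hq1, hqs⟩, Or.inr ⟨p₀, hp₀, ⟨hp₀p, hreg⟩, hp₀q⟩⟩, hqp⟩
      · refine ⟨p₀, ⟨⟨hp₀p, ?_, hreg⟩, Or.inl hp₀⟩, hp₀q.trans hqp⟩
        rw [Ideal.height_eq_zero_iff.mpr hp₀]
        simp
    · rintro ⟨g, ⟨⟨hg, hg1, hgs⟩, -⟩, hgp⟩
      exact ⟨g, hg, hgp, hg1, hgs⟩
  rw [heq]
  exact hGfin.isClosed_biUnion (fun g _ => PrimeSpectrum.isClosed_zeroLocus _)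

end Groth.Agent.H71.RKL
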