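import Mathlib
import Groth.Agent.H15.FinFlatCM
import Groth.Agent.S2092
import Groth.Agent.S4744

/-!
# Cohen–Macaulayness and finitely generated field extensions

* `isCMRing_of_isLocalization`: a localization of a CM ring is CM.
* `isCMRing_mvPolynomial`: polynomial rings in finitely many variables over a CM ring are CM.
* `isCMRing_tensor_of_essFiniteType`: if `F` is a CM algebra over a field `k` and `K/k` is a finitely
  generated field extension then `K ⊗[k] F` is CM.
-/

set_option autoImplicit false
set_option linter.style.haveILetI false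
set_option maxHeartbeats 400000

universe u

open TensorProduct

namespace Groth.Agent.H71.CMField

/-- A localization of a Cohen–Macaulay ring is Cohen–Macaulay. -/
theorem isCMRing_of_isLocalization {R S : Type u} [CommRing R] [CommRing S] [Algebra R S]
    (M : Submonoid R) [IsLocalization M S] (hR : LocCoh.IsCohenMacaulayRing R) :
    LocCoh.IsCohenMacaulayRing S := by
  haveI := hR
  haveI : IsNoetherianRing S := IsLocalization.isNoetherianRing M S inferInstance
  refine ⟨fun q hq => ?_⟩
  haveI := hq
  haveI : (q.comap (algebraMap R S)).IsPrime := Ideal.comap_isPrime _ q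
  haveI : IsLocalization.AtPrime (Localization.AtPrime q) (q.comap (algebraMap R S)) :=
    IsLocalization.isLocalization_isLocalization_atPrime_isLocalization M
      (Localization.AtPrime q) q
  exact Groth.Agent.H29.FlatCM.isCM_ringEquiv
    (IsLocalization.algEquiv (q.comap (algebraMap R S)).primeCompl
      (Localization.AtPrime (q.comap (algebraMap R S))) (Localization.AtPrime q)).toRingEquiv
    (hR.isCohenMacaulayLocalRing_localization (q.comap (algebraMap R S)))

/-- Polynomial rings in finitely many variables over a CM ring are CM. -/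
theorem isCMRing_mvPolynomial (ι : Type u) [Finite ι] (F : Type u) [CommRing F]
    (hF : LocCoh.IsCohenMacaulayRing F) : LocCoh.IsCohenMacaulayRing (MvPolynomial ι F) := by
  haveI := hF
  obtain ⟨n, ⟨e⟩⟩ := Finite.exists_equiv_fin ι
  exact Groth.Agent.S4744.isCMRing_of_ringEquiv (MvPolynomial.renameEquiv F e).symm.toRingEquiv
    (Groth.Agent.S2092.result n)

/-- A field is a Cohen–Macaulay ring. -/
theorem isCMRing_of_field (L : Type u) [Field L] : LocCoh.IsCohenMacaulayRing L :=
  Groth.Agent.S4744.isCMRing_of_isRegularRing L inferInstance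

/-- `k(t_1, …, t_n) ⊗[k] F` is CM when `F` is. -/
theorem isCMRing_fractionRing_mvPolynomial_tensor (k : Type u) [Field k] (ι : Type u) [Finite ι]
    (F : Type u) [CommRing F] [Algebra k F] (hF : LocCoh.IsCohenMacaulayRing F) :
    LocCoh.IsCohenMacaulayRing (FractionRing (MvPolynomial ι k) ⊗[k] F) := by
  -- `D ⊗[k] F` is a polynomial ring over `F`
  have h1 : LocCoh.IsCohenMacaulayRing (MvPolynomial ι k ⊗[k] F) :=
    Groth.Agent.S4744.isCMRing_of_ringEquiv
      ((MvPolynomial.algebraTensorAlgEquiv k F).symm.toRingEquiv.trans
        (Algebra.TensorProduct.comm k F (MvPolynomial ι k)).toRingEquiv)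
      (isCMRing_mvPolynomial ι F hF)
  -- `(D ⊗[k] F) ⊗[D] Frac D` is a localization of `D ⊗[k] F`
  have h2 : LocCoh.IsCohenMacaulayRing
      ((MvPolynomial ι k ⊗[k] F) ⊗[MvPolynomial ι k] FractionRing (MvPolynomial ι k)) :=
    isCMRing_of_isLocalization
      (Algebra.algebraMapSubmonoid (MvPolynomial ι k ⊗[k] F)
        (nonZeroDivisors (MvPolynomial ι k))) h1
  exact Groth.Agent.S4744.isCMRing_of_ringEquiv
    ((Algebra.TensorProduct.comm (MvPolynomial ι k) (MvPolynomial ι k ⊗[k] F)
        (FractionRing (MvPolynomial ι k))).toRingEquiv.trans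
      (Algebra.TensorProduct.cancelBaseChange k (MvPolynomial ι k) (MvPolynomial ι k)
        (FractionRing (MvPolynomial ι k)) F).toRingEquiv) h2

/-- An algebraic, essentially finitely generated field extension is finite. -/
theorem finite_of_essFiniteType_of_isAlgebraic (E K : Type u) [Field E] [Field K] [Algebra E K]
    [Algebra.EssFiniteType E K] [Algebra.IsAlgebraic E K] : Module.Finite E K := by
  obtain ⟨t, ht⟩ := IntermediateField.fg_top E K
  have h1 : FiniteDimensional E (IntermediateField.adjoin E (t : Set K)) :=
    IntermediateField.finiteDimensional_adjoin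
      (fun x _ => (Algebra.IsAlgebraic.isAlgebraic x).isIntegral)
  rw [ht] at h1
  exact Module.Finite.equiv (IntermediateField.topEquiv (F := E) (E := K)).toLinearEquiv

/-- Base change of a CM algebra over a field along a finitely generated field extension is CM. -/
theorem isCMRing_tensor_of_essFiniteType (k K F : Type u) [Field k] [Field K] [Algebra k K]
    [Algebra.EssFiniteType k K] [CommRing F] [Algebra k F] (hF : LocCoh.IsCohenMacaulayRing F) :
    LocCoh.IsCohenMacaulayRing (K ⊗[k] F) := by
  obtain ⟨s, hs⟩ := exists_isTranscendenceBasis k K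
  have hfin : s.Finite := by
    have h := (finTrdeg_iff_trdeg (K := k) (L := K)).mp inferInstance
    exact Cardinal.lt_aleph0_iff_set_finite.1 (hs.cardinalMk_eq_trdeg.trans_lt h)
  haveI : Finite s := hfin.to_subtype
  haveI : Algebra.IsAlgebraic (IntermediateField.adjoin k (Set.range ((↑) : s → K))) K :=
    hs.isAlgebraic_field
  haveI : Algebra.EssFiniteType (IntermediateField.adjoin k (Set.range ((↑) : s → K))) K :=
    Algebra.EssFiniteType.of_comp k _ K
  haveI : Module.Finite (IntermediateField.adjoin k (Set.range ((↑) : s → K))) K :=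
    finite_of_essFiniteType_of_isAlgebraic _ K
  have h1 := isCMRing_fractionRing_mvPolynomial_tensor k s F hF
  have h2 : LocCoh.IsCohenMacaulayRing
      ((IntermediateField.adjoin k (Set.range ((↑) : s → K))) ⊗[k] F) :=
    Groth.Agent.S4744.isCMRing_of_ringEquiv
      (Algebra.TensorProduct.congr hs.1.aevalEquivField
        (AlgEquiv.refl (R := k) (A₁ := F))).toRingEquiv h1
  have h3 := Groth.Agent.H15.FinFlatCM.isCMRing_tensor_of_finite
    (IntermediateField.adjoin k (Set.range ((↑) : s → K))) K _ h2
  exact Groth.Agent.S4744.isCMRing_of_ringEquiv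
    (Algebra.TensorProduct.cancelBaseChange k
      (IntermediateField.adjoin k (Set.range ((↑) : s → K)))
      (IntermediateField.adjoin k (Set.range ((↑) : s → K))) K F).toRingEquiv h3

end Groth.Agent.H71.CMField
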