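import Mathlib.RingTheory.Ideal.MinimalPrime.Localization
import Mathlib.RingTheory.Localization.AtPrime.Basic

set_option autoImplicit false

namespace Groth.Agent.H71

/-- If `𝔭` is a minimal prime over the annihilator of `t`, then the image of `t` in the
localization at `𝔭` is nonzero. -/
lemma algebraMap_ne_zero_of_mem_minimalPrimes_ann {A : Type*} [CommRing A] (t : A)
    (p : Ideal A) [p.IsPrime] (hp : p ∈ (Ideal.span {t}).annihilator.minimalPrimes)
    (B : Type*) [CommRing B] [Algebra A B] [IsLocalization.AtPrime B p] :
    algebraMap A B t ≠ 0 := by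
  intro h0
  obtain ⟨s, hs⟩ := (IsLocalization.map_eq_zero_iff p.primeCompl B t).mp h0
  have hsI : (s : A) ∈ (Ideal.span {t}).annihilator := by
    rw [Submodule.mem_annihilator_span_singleton]
    simpa [smul_eq_mul] using hs
  exact s.2 (hp.1.2 hsI)

/-- If `𝔭` is a minimal prime over the annihilator of `t`, then every element of the maximal
ideal of the localization at `𝔭` has a power killing the image of `t`. -/
lemma exists_pow_mul_algebraMap_eq_zero_of_mem_minimalPrimes_ann {A : Type*} [CommRing A] (t : A)
    (p : Ideal A) [p.IsPrime] (hp : p ∈ (Ideal.span {t}).annihilator.minimalPrimes)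
    (B : Type*) [CommRing B] [Algebra A B] [IsLocalization.AtPrime B p] [IsLocalRing B]
    (a : B) (ha : a ∈ IsLocalRing.maximalIdeal B) :
    ∃ k : ℕ, a ^ k * algebraMap A B t = 0 := by
  have hrad := IsLocalization.AtPrime.radical_map_of_mem_minimalPrimes (A := B) p _ hp
  rw [IsLocalization.AtPrime.map_eq_maximalIdeal p B] at hrad
  rw [← hrad] at ha
  obtain ⟨k, hk⟩ := ha
  refine ⟨k, ?_⟩
  have hle : (Ideal.span {t}).annihilator.map (algebraMap A B) ≤
      (Ideal.span {algebraMap A B t}).annihilator := by
    rw [Ideal.map_le_iff_le_comap]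
    intro x hx
    rw [Submodule.mem_annihilator_span_singleton] at hx
    rw [Ideal.mem_comap, Submodule.mem_annihilator_span_singleton, smul_eq_mul, ← map_mul]
    rw [smul_eq_mul] at hx
    rw [hx, map_zero]
  have := hle hk
  rwa [Submodule.mem_annihilator_span_singleton, smul_eq_mul] at this

end Groth.Agent.H71
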