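import Mathlib.AlgebraicGeometry.Morphisms.SchemeTheoreticallyDominant
import Mathlib.AlgebraicGeometry.AffineScheme
import Groth.Agent.H71.AnnMinPrime

set_option autoImplicit false
universe u

namespace Groth.Agent.H71

open AlgebraicGeometry CategoryTheory CategoryTheory.Limits

/-- If every point outside an open `U` (with quasi-compact inclusion) has a regular element in
the maximal ideal of its local ring, then restriction of sections from an affine open `V` to
`V ∩ U` is injective. -/
lemma opens_ι_app_injective_of_regular (X : Scheme.{u}) (U : X.Opens)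
    (hZ : ∀ z : X, z ∉ U → ∃ a ∈ IsLocalRing.maximalIdeal (X.presheaf.stalk z),
      IsSMulRegular (X.presheaf.stalk z) a)
    (V : X.Opens) (hV : IsAffineOpen V) :
    Function.Injective (U.ι.app V) := by
  rw [injective_iff_map_eq_zero]
  intro t ht
  by_contra ht0
  -- the annihilator of `t` is a proper ideal
  have hI : (Ideal.span {t}).annihilator ≠ ⊤ := by
    intro h
    have h1 : (1 : Γ(X, V)) ∈ (Ideal.span {t}).annihilator := h ▸ Submodule.mem_top
    rw [Submodule.mem_annihilator_span_singleton, one_smul] at h1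
    exact ht0 h1
  obtain ⟨p, hp⟩ := Ideal.nonempty_minimalPrimes hI
  have hpp : p.IsPrime := hp.1.1
  let y : PrimeSpectrum Γ(X, V) := ⟨p, hpp⟩
  have hzV : hV.fromSpec y ∈ V := by
    have : hV.fromSpec y ∈ Set.range hV.fromSpec := ⟨y, rfl⟩
    rwa [hV.range_fromSpec] at this
  let : Algebra Γ(X, V) (X.presheaf.stalk (hV.fromSpec y)) :=
    TopCat.Presheaf.algebra_section_stalk X.presheaf ⟨hV.fromSpec y, hzV⟩
  have hloc : IsLocalization.AtPrime (X.presheaf.stalk (hV.fromSpec y)) p :=
    hV.isLocalization_stalk' y hzV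
  have hne := algebraMap_ne_zero_of_mem_minimalPrimes_ann t p hp (X.presheaf.stalk (hV.fromSpec y))
  by_cases hzU : hV.fromSpec y ∈ U
  · -- the germ of `t` at `z` is the germ of its restriction
    apply hne
    have hz' : hV.fromSpec y ∈ U.ι ''ᵁ U.ι ⁻¹ᵁ V := by
      refine ⟨⟨hV.fromSpec y, hzU⟩, ?_, rfl⟩
      exact hzV
    have := X.presheaf.germ_res_apply (homOfLE (x := U.ι ''ᵁ U.ι ⁻¹ᵁ V)
      (Set.image_preimage_subset _ _)) (hV.fromSpec y) hz' t
    change X.presheaf.germ V (hV.fromSpec y) hzV t = 0
    rw [← this]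
    rw [Scheme.Opens.ι_app] at ht
    exact (congrArg _ ht).trans (map_zero _)
  · obtain ⟨a, ham, hreg⟩ := hZ _ hzU
    obtain ⟨k, hk⟩ := exists_pow_mul_algebraMap_eq_zero_of_mem_minimalPrimes_ann t p hp
      (X.presheaf.stalk (hV.fromSpec y)) a ham
    apply hne
    have := (hreg.pow k).right_eq_zero_of_smul (by rwa [smul_eq_mul])
    exact this

/-- If every point outside an open `U` (with quasi-compact inclusion) has a regular element in
the maximal ideal of its local ring, then `U ⟶ X` is scheme-theoretically dominant. -/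
lemma isSchemeTheoreticallyDominant_opens_ι (X : Scheme.{u}) (U : X.Opens) [QuasiCompact U.ι]
    (hZ : ∀ z : X, z ∉ U → ∃ a ∈ IsLocalRing.maximalIdeal (X.presheaf.stalk z),
      IsSMulRegular (X.presheaf.stalk z) a) :
    IsSchemeTheoreticallyDominant U.ι := by
  rw [isSchemeTheoreticallyDominant_iff]
  ext1
  funext V
  rw [Scheme.Hom.ker_apply, Scheme.IdealSheafData.ideal_bot, Pi.bot_apply,
    ← RingHom.injective_iff_ker_eq_bot]
  exact opens_ι_app_injective_of_regular X U hZ V.1 V.2

end Groth.Agent.H71
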