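import Mathlib.AlgebraicGeometry.Morphisms.QuasiSeparated
import Mathlib.AlgebraicGeometry.Morphisms.QuasiCompact
import Groth.Agent.H71.OpenSchDominant
import Groth.Agent.H71.HartogsAlg

set_option autoImplicit false
universe u

namespace Groth.Agent.H71

open AlgebraicGeometry CategoryTheory CategoryTheory.Limits TopologicalSpace Topology

/-- Sections over a quasi-compact open `W` of an affine open `V` that are killed by an element
`c` which is a nonzerodivisor "at `p`" are killed by some element outside `p`. -/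
lemma exists_notMem_res_mul_eq_zero (X : Scheme.{u}) (V W : X.Opens) (hV : IsAffineOpen V)
    (hWV : W ≤ V) (hW : IsCompact (W : Set X)) (p : Ideal Γ(X, V)) [hpp : p.IsPrime]
    (c : Γ(X, V)) (hc : ∀ r : Γ(X, V), c * r = 0 → ∃ s, s ∉ p ∧ s * r = 0)
    (μ : Γ(X, W)) (hμ : (X.presheaf.map (homOfLE hWV).op).hom c * μ = 0) :
    ∃ s, s ∉ p ∧ (X.presheaf.map (homOfLE hWV).op).hom s * μ = 0 := by
  set ρ : Γ(X, V) →+* Γ(X, W) := (X.presheaf.map (homOfLE hWV).op).hom with hρ
  have hgerm : ∀ (w : X) (hw : w ∈ W) (r : Γ(X, V)),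
      (X.presheaf.germ W w hw).hom (ρ r) = (X.presheaf.germ V w (hWV hw)).hom r := fun w hw r =>
    X.presheaf.germ_res_apply (homOfLE hWV) w hw r
  have key : ∃ s, s ∉ p ∧ ∀ (w : X) (hw : w ∈ W), w ∈ (W : Set X) →
      (X.presheaf.germ W w hw).hom (ρ s * μ) = 0 := by
    refine hW.induction_on (p := fun S => ∃ s, s ∉ p ∧ ∀ (w : X) (hw : w ∈ W), w ∈ S →
      (X.presheaf.germ W w hw).hom (ρ s * μ) = 0) ?_ ?_ ?_ ?_
    · exact ⟨1, fun h => hpp.ne_top ((Ideal.eq_top_iff_one p).mpr h), fun w hw h => h.elim⟩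
    · rintro S T hST ⟨s, hs, h⟩
      exact ⟨s, hs, fun w hw hwS => h w hw (hST hwS)⟩
    · rintro S T ⟨s₁, hs₁, h₁⟩ ⟨s₂, hs₂, h₂⟩
      refine ⟨s₁ * s₂, fun h => (hpp.mem_or_mem h).elim hs₁ hs₂, fun w hw hwST => ?_⟩
      rcases hwST with h | h
      · have e : ρ (s₁ * s₂) * μ = ρ s₂ * (ρ s₁ * μ) := by rw [map_mul]; ring
        rw [e, map_mul, h₁ w hw h, mul_zero]
      · have e : ρ (s₁ * s₂) * μ = ρ s₁ * (ρ s₂ * μ) := by rw [map_mul]; ring
        rw [e, map_mul, h₂ w hw h, mul_zero]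
    · intro x hx
      have hxW : x ∈ W := hx
      have hxV : x ∈ V := hWV hxW
      let _alg : Algebra Γ(X, V) (X.presheaf.stalk x) :=
        TopCat.Presheaf.algebra_section_stalk X.presheaf ⟨x, hxV⟩
      have hloc : IsLocalization.AtPrime (X.presheaf.stalk x)
          (hV.primeIdealOf ⟨x, hxV⟩).asIdeal := hV.isLocalization_stalk ⟨x, hxV⟩
      have halg : ∀ r : Γ(X, V), algebraMap Γ(X, V) (X.presheaf.stalk x) r =
          (X.presheaf.germ V x hxV).hom r := fun r => rfl
      obtain ⟨⟨m, g⟩, hmg⟩ := IsLocalization.surj (hV.primeIdealOf ⟨x, hxV⟩).asIdeal.primeCompl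
        ((X.presheaf.germ W x hxW).hom μ)
      dsimp only at hmg
      have h1 : algebraMap Γ(X, V) (X.presheaf.stalk x) (c * m) = 0 := by
        rw [map_mul, ← hmg, halg, ← hgerm x hxW c, ← mul_assoc, ← map_mul, hμ, map_zero,
          zero_mul]
      obtain ⟨g', hg'⟩ := (IsLocalization.map_eq_zero_iff
        (hV.primeIdealOf ⟨x, hxV⟩).asIdeal.primeCompl _ _).mp h1
      obtain ⟨s, hs, hsr⟩ := hc (g' * m) (by linear_combination hg')
      have h2 : (X.presheaf.germ W x hxW).hom (ρ s * μ) = 0 := by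
        have hu : IsUnit (algebraMap Γ(X, V) (X.presheaf.stalk x) ((g * g' : _) : Γ(X, V))) :=
          IsLocalization.map_units _ (g * g')
        refine (hu.mul_left_eq_zero).mp ?_
        rw [map_mul, hgerm x hxW s, ← halg, Submonoid.coe_mul, map_mul]
        have h3 : algebraMap Γ(X, V) (X.presheaf.stalk x) (s * (g' * m)) = 0 := by
          rw [hsr, map_zero]
        rw [map_mul, map_mul] at h3
        linear_combination (algebraMap Γ(X, V) (X.presheaf.stalk x) s *
          algebraMap Γ(X, V) (X.presheaf.stalk x) (g' : Γ(X, V))) * hmg + h3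
      obtain ⟨O, hxO, iU, iV, hO⟩ := X.presheaf.germ_eq x hxW hxW (ρ s * μ) (0 : Γ(X, W))
        (h2.trans (map_zero _).symm)
      refine ⟨(O : Set X), mem_nhdsWithin_of_mem_nhds (O.isOpen.mem_nhds hxO), s, hs,
        fun w hw hwO => ?_⟩
      have e1 := X.presheaf.germ_res_apply iU w hwO (ρ s * μ)
      have e2 := X.presheaf.germ_res_apply iV w hwO (0 : Γ(X, W))
      rw [hO, e2] at e1
      exact e1.symm.trans (map_zero _)
  obtain ⟨s, hs, h⟩ := key
  refine ⟨s, hs, ?_⟩
  exact TopCat.Presheaf.section_ext X.sheaf W _ _ (fun w hw => (h w hw hw).trans (map_zero _).symm)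

/-- Hartogs-type extension: if `W ≤ V` is a quasi-compact open of an affine open `V` such that
restriction is injective and every point of `V` outside `W` has a regular sequence of length two
in the maximal ideal of its local ring, then restriction `Γ(V) → Γ(W)` is surjective. -/
theorem res_surjective_of_depth_two (X : Scheme.{u}) (V W : X.Opens) (hV : IsAffineOpen V)
    (hWV : W ≤ V) (hW : IsCompact (W : Set X))
    (hinj : Function.Injective (X.presheaf.map (homOfLE hWV).op).hom)
    (hZ : ∀ z : X, z ∈ V → z ∉ W → ∃ a b : X.presheaf.stalk z,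
      a ∈ IsLocalRing.maximalIdeal (X.presheaf.stalk z) ∧
      b ∈ IsLocalRing.maximalIdeal (X.presheaf.stalk z) ∧
      (∀ x, a * x = 0 → x = 0) ∧ (∀ x y, b * x = a * y → ∃ y', x = a * y')) :
    Function.Surjective (X.presheaf.map (homOfLE hWV).op).hom := by
  intro σ
  by_contra hσ
  set ρ : Γ(X, V) →+* Γ(X, W) := (X.presheaf.map (homOfLE hWV).op).hom with hρ
  have hI : conductor ρ σ ≠ ⊤ := by
    intro h
    have h1 : (1 : Γ(X, V)) ∈ conductor ρ σ := h ▸ Submodule.mem_top
    obtain ⟨r', hr'⟩ := (mem_conductor ρ σ 1).mp h1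
    exact hσ ⟨r', by rw [hr', map_one, one_mul]⟩
  obtain ⟨p, hp⟩ := Ideal.nonempty_minimalPrimes hI
  have hpp : p.IsPrime := hp.1.1
  let y : PrimeSpectrum Γ(X, V) := ⟨p, hpp⟩
  have hzV : hV.fromSpec y ∈ V := by
    have : hV.fromSpec y ∈ Set.range hV.fromSpec := ⟨y, rfl⟩
    rwa [hV.range_fromSpec] at this
  by_cases hzW : hV.fromSpec y ∈ W
  · -- the point lies in `W`: a basic open neighbourhood gives a denominator outside `p`
    obtain ⟨g, hgW, hzg⟩ := hV.exists_basicOpen_le (V := W) ⟨hV.fromSpec y, hzW⟩ hzV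
    have hgp : g ∉ p := by
      have h1 : y ∈ hV.fromSpec ⁻¹ᵁ X.basicOpen g := hzg
      rw [hV.fromSpec_preimage_basicOpen] at h1
      exact (PrimeSpectrum.mem_basicOpen g y).mp h1
    have hDV : X.basicOpen g ≤ V := X.basicOpen_le g
    let resVD : Γ(X, V) →+* Γ(X, X.basicOpen g) := (X.presheaf.map (homOfLE hDV).op).hom
    let resWD : Γ(X, W) →+* Γ(X, X.basicOpen g) := (X.presheaf.map (homOfLE hgW).op).hom
    obtain ⟨n, r, hr⟩ := exists_eq_pow_mul_of_isAffineOpen X V hV g (resWD σ)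
    replace hr : resVD r = resVD g ^ n * resWD σ := hr
    have hOW : X.basicOpen (ρ g) ≤ W := X.basicOpen_le _
    have hOD : X.basicOpen (ρ g) ≤ X.basicOpen g := by
      have h1 : X.basicOpen (ρ g) = W ⊓ X.basicOpen g := X.basicOpen_res g (homOfLE hWV).op
      rw [h1]; exact inf_le_right
    let resWO : Γ(X, W) →+* Γ(X, X.basicOpen (ρ g)) := (X.presheaf.map (homOfLE hOW).op).hom
    let resDO : Γ(X, X.basicOpen g) →+* Γ(X, X.basicOpen (ρ g)) :=
      (X.presheaf.map (homOfLE hOD).op).hom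
    have e1 : ∀ r : Γ(X, V), resWO (ρ r) = resDO (resVD r) := by
      intro r
      change (X.presheaf.map (homOfLE hWV).op ≫ X.presheaf.map (homOfLE hOW).op).hom r =
        (X.presheaf.map (homOfLE hDV).op ≫ X.presheaf.map (homOfLE hOD).op).hom r
      rw [← Functor.map_comp, ← Functor.map_comp]; rfl
    have e2 : ∀ τ : Γ(X, W), resWO τ = resDO (resWD τ) := by
      intro τ
      change _ = (X.presheaf.map (homOfLE hgW).op ≫ X.presheaf.map (homOfLE hOD).op).hom τ
      rw [← Functor.map_comp]; rfl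
    have H : resWO (ρ (g ^ n) * σ - ρ r) = 0 := by
      rw [map_sub, map_mul, e1, e1, e2, ← map_mul, ← map_sub, map_pow, hr, sub_self, map_zero]
    obtain ⟨m, hm⟩ := exists_pow_mul_eq_zero_of_res_basicOpen_eq_zero_of_isCompact X hW
      (ρ (g ^ n) * σ - ρ r) (ρ g) H
    have hmem : g ^ m * g ^ n ∈ conductor ρ σ := by
      refine (mem_conductor ρ σ _).mpr ⟨g ^ m * r, ?_⟩
      rw [map_mul, map_mul, map_pow]
      linear_combination (-1 : Γ(X, W)) * hm
    have hpow : g ^ (m + n) ∈ p := by rw [pow_add]; exact hp.1.2 hmem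
    exact hgp (hpp.mem_of_pow_mem _ hpow)
  · -- the point lies outside `W`: use the regular sequence of length two
    let _alg : Algebra Γ(X, V) (X.presheaf.stalk (hV.fromSpec y)) :=
      TopCat.Presheaf.algebra_section_stalk X.presheaf ⟨hV.fromSpec y, hzV⟩
    have hloc : IsLocalization.AtPrime (X.presheaf.stalk (hV.fromSpec y)) p :=
      hV.isLocalization_stalk' y hzV
    obtain ⟨a, b, ha, hb, ha_reg, hb_reg⟩ := hZ _ hzV hzW
    exact false_of_minimalPrime_conductor ρ hinj σ p hp (X.presheaf.stalk (hV.fromSpec y)) a b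
      ha hb ha_reg hb_reg
      (fun c hc μ hμ => exists_notMem_res_mul_eq_zero X V W hV hWV hW p c hc μ hμ)

/-- If every point outside the open `U` (with quasi-compact inclusion) has a weakly regular
sequence of length two in the maximal ideal of its local ring, then restriction of sections from
an affine open `V` to `V ∩ U` is bijective. -/
theorem opens_ι_app_bijective_of_regularSeq_two (X : Scheme.{u}) (U : X.Opens)
    [QuasiCompact U.ι]
    (hZ : ∀ z : X, z ∉ U → ∃ a b : X.presheaf.stalk z,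
      a ∈ IsLocalRing.maximalIdeal (X.presheaf.stalk z) ∧
      b ∈ IsLocalRing.maximalIdeal (X.presheaf.stalk z) ∧
      RingTheory.Sequence.IsWeaklyRegular (X.presheaf.stalk z) [a, b])
    (V : X.Opens) (hV : IsAffineOpen V) : Function.Bijective (U.ι.app V).hom := by
  have hinj : Function.Injective (U.ι.app V).hom := by
    refine opens_ι_app_injective_of_regular X U (fun z hz => ?_) V hV
    obtain ⟨a, b, ha, -, hab⟩ := hZ z hz
    exact ⟨a, ha, ((RingTheory.Sequence.isWeaklyRegular_cons_iff _ a [b]).mp hab).1⟩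
  have hWV : U.ι ''ᵁ U.ι ⁻¹ᵁ V ≤ V := Set.image_preimage_subset _ _
  have hcomp : IsCompact ((U.ι ''ᵁ U.ι ⁻¹ᵁ V : X.Opens) : Set X) := by
    have h1 : IsCompact ((U.ι ⁻¹ᵁ V : U.toScheme.Opens) : Set U) :=
      U.ι.isCompact_preimage hV.isCompact
    exact h1.image U.ι.continuous
  have hρ : (U.ι.app V).hom = (X.presheaf.map (homOfLE hWV).op).hom := rfl
  refine ⟨hinj, ?_⟩
  rw [hρ]
  refine res_surjective_of_depth_two X V _ hV hWV hcomp (by rw [← hρ]; exact hinj) ?_
  intro z hzV hzW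
  have hzU : z ∉ U := fun hzU => hzW ⟨⟨z, hzU⟩, hzV, rfl⟩
  obtain ⟨a, b, ha, hb, hab⟩ := hZ z hzU
  exact ⟨a, b, ha, hb, elementary_of_isWeaklyRegular_pair a b hab⟩

end Groth.Agent.H71
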