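import Groth.Agent.S2677
import Groth.Agent.S0604
import Groth.Agent.S0563
import Groth.Agent.H29.CM3
import Groth.Agent.H29.CM4
import Groth.Agent.H29.DepthChange
import Groth.Agent.H29.DepthFinite
import Groth.Agent.H15.DepthSpread
import Groth.Agent.H21.HilbertCI

/-!
# The Cohen–Macaulay locus of a quotient of a regular ring is open
-/

set_option autoImplicit false
universe u

open CategoryTheory IsLocalRing

namespace Groth.Agent.H71.CMOpen

open Groth.Agent.H29 Groth.Agent.H15.Depth

section L1

variable {R T : Type u} [CommRing R] [CommRing T] [Algebra R T]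

theorem annihilator_eq_ker : Module.annihilator R T = RingHom.ker (algebraMap R T) := by
  ext r
  rw [Module.mem_annihilator, RingHom.mem_ker]
  constructor
  · intro h
    have := h 1
    rwa [Algebra.smul_def, mul_one] at this
  · intro h t
    rw [Algebra.smul_def, h, zero_mul]

variable [IsLocalRing R] [IsLocalRing T]

theorem map_maximalIdeal_of_surjective (hs : Function.Surjective (algebraMap R T)) :
    (maximalIdeal R).map (algebraMap R T) = maximalIdeal T := by
  apply le_antisymm
  · exact DepthChange.map_maximalIdeal_le_of_surjective hs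
  · intro y hy
    obtain ⟨x, hx, rfl⟩ := DepthChange.exists_lift_maximalIdeal hs y hy
    exact Ideal.mem_map_of_mem _ hx

theorem isCMLocalRing_iff_isCMModule [IsNoetherianRing R]
    (hs : Function.Surjective (algebraMap R T)) :
    LocCoh.IsCohenMacaulayLocalRing T ↔ LocCoh.IsCohenMacaulayModule R T := by
  haveI : IsNoetherianRing T := isNoetherianRing_of_surjective R T (algebraMap R T) hs
  haveI : Module.Finite R T := Module.Finite.of_surjective (Algebra.linearMap R T) hs
  have hdepth : LocCoh.depth R T = LocCoh.depth T T := by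
    have h1 := DepthFinite.idealDepth_eq_idealDepth_map (A := R) (B := T) (maximalIdeal R)
      le_rfl T
    rw [map_maximalIdeal_of_surjective hs] at h1
    exact h1
  have hdim : Module.supportDim R T = Module.supportDim T T := by
    rw [Module.supportDim_self_eq_ringKrullDim,
      Module.supportDim_eq_ringKrullDim_quotient_annihilator, annihilator_eq_ker]
    exact ringKrullDim_eq_of_ringEquiv (RingHom.quotientKerEquivOfSurjective hs)
  constructor
  · intro hT
    show Module.supportDim R T = ((LocCoh.depth R T : ℕ∞) : WithBot ℕ∞)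
    rw [hdim, hdepth]
    exact hT.supportDim_eq_depth
  · intro h
    refine ⟨?_⟩
    rw [← hdim, ← hdepth]
    exact h

end L1

section L2

theorem isCM_iff_pd_le_grade {R : Type u} [CommRing R] [IsRegularLocalRing R] (N : Type u)
    [AddCommGroup N] [Module R N] [Module.Finite R N] [Nontrivial N] (K : Ideal R)
    (hK : K ≤ maximalIdeal R)
    (hdim : Module.supportDim R N = Module.supportDim R (R ⧸ (K • (⊤ : Submodule R R)))) :
    LocCoh.IsCohenMacaulayModule R N ↔
      ∃ m : ℕ, projectiveDimension (ModuleCat.of R N) ≤ (m : WithBot ℕ∞) ∧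
        (m : ℕ∞) ≤ LocCoh.idealDepth K R := by
  have hKtop : K ≠ ⊤ := fun h =>
    (IsLocalRing.maximalIdeal.isMaximal R).ne_top (top_le_iff.mp (h ▸ hK))
  have hRcm : LocCoh.IsCohenMacaulayModule R R :=
    Groth.Agent.H21.HilbertCI.isCM_of_isRegularLocalRing R
  obtain ⟨d, hd⟩ := CM.exists_nat_supportDim (A := R) (M := R)
  obtain ⟨c, hc⟩ := CM.exists_nat_supportDim (A := R) (M := N)
  obtain ⟨δ, hδ⟩ := CM.exists_nat_depth (A := R) (M := N)
  obtain ⟨g, hg⟩ := CM.exists_nat_idealDepth (A := R) (M := R) hK
  have hdR : ringKrullDim R = (d : WithBot ℕ∞) := by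
    rw [← Module.supportDim_self_eq_ringKrullDim, hd]; rfl
  haveI hpd := Groth.Agent.S0563.result R d hdR N
  obtain ⟨e, he⟩ : ∃ e : ℕ, projectiveDimension (ModuleCat.of R N) = (e : WithBot ℕ∞) := by
    have h1 : projectiveDimension (ModuleCat.of R N) < ((d + 1 : ℕ) : WithBot ℕ∞) :=
      projectiveDimension_lt_iff.mpr hpd
    have h2 : projectiveDimension (ModuleCat.of R N) ≠ ⊥ := by
      rw [Ne, projectiveDimension_eq_bot_iff]
      intro hz
      haveI := ModuleCat.subsingleton_of_isZero hz
      exact not_subsingleton N ‹_›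
    generalize projectiveDimension (ModuleCat.of R N) = x at h1 h2
    induction x using WithBot.recBotCoe with
    | bot => exact absurd rfl h2
    | coe x =>
      induction x using ENat.recTopCoe with
      | top =>
        exfalso
        have h3 : ((⊤ : ℕ∞) : WithBot ℕ∞) ≤ ((d + 1 : ℕ) : WithBot ℕ∞) := h1.le
        have h4 : (⊤ : ℕ∞) ≤ ((d + 1 : ℕ) : ℕ∞) := by exact_mod_cast h3
        exact absurd h4 (by simp)
      | coe n => exact ⟨n, rfl⟩
  have e1 : LocCoh.depth R R = (d : ℕ∞) := by
    have h : Module.supportDim R R = ((LocCoh.depth R R : ℕ∞) : WithBot ℕ∞) := hRcm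
    rw [hd] at h
    exact (WithBot.coe_inj.mp h).symm
  have e2 : d = e + δ := by
    have h := Groth.Agent.S0604.result R N e he
    rw [e1, hδ] at h
    exact_mod_cast h
  have e3 : d = c + g := by
    have h := CM.supportDim_eq_add_idealDepth_of_isCM hRcm hKtop (I := K)
    rw [← hdim, hd, hc, hg] at h
    exact_mod_cast h
  have e4 : δ ≤ c := by
    have h := CM.depth_le_supportDim (A := R) (M := N)
    rw [hδ, hc] at h
    exact_mod_cast h
  constructor
  · intro hN
    have h : Module.supportDim R N = ((LocCoh.depth R N : ℕ∞) : WithBot ℕ∞) := hN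
    rw [hc, hδ] at h
    have hcδ : c = δ := by exact_mod_cast h
    refine ⟨e, le_of_eq he, ?_⟩
    rw [hg]
    have : e ≤ g := by omega
    exact_mod_cast this
  · rintro ⟨m, hm1, hm2⟩
    rw [he] at hm1
    rw [hg] at hm2
    have h1 : e ≤ m := by exact_mod_cast hm1
    have h2 : m ≤ g := by exact_mod_cast hm2
    show Module.supportDim R N = ((LocCoh.depth R N : ℕ∞) : WithBot ℕ∞)
    rw [hc, hδ]
    have : c = δ := by omega
    rw [this]

end L2

section L3

variable {P S : Type u} [CommRing P] [CommRing S] (π : P →+* S) (hπ : Function.Surjective π)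
  (q : Ideal S) [q.IsPrime] (Q : Ideal P) [Q.IsPrime] (hQ : Q = q.comap π)

include hπ in
theorem ker_localRingHom :
    RingHom.ker (Localization.localRingHom Q q π hQ) =
      (RingHom.ker π).map (algebraMap P (Localization.AtPrime Q)) := by
  apply le_antisymm
  · intro z hz
    obtain ⟨x, s, rfl⟩ := IsLocalization.exists_mk'_eq Q.primeCompl z
    rw [RingHom.mem_ker, Localization.localRingHom_mk', IsLocalization.mk'_eq_zero_iff] at hz
    obtain ⟨t, ht⟩ := hz
    obtain ⟨b, hb⟩ := hπ t.1
    have hbQ : b ∈ Q.primeCompl := by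
      show b ∉ Q
      rw [hQ, Ideal.mem_comap, hb]
      exact t.2
    have hbx : b * x ∈ RingHom.ker π := by
      rw [RingHom.mem_ker, map_mul, hb]; exact ht
    rw [IsLocalization.mem_map_algebraMap_iff Q.primeCompl]
    refine ⟨⟨⟨b * x, hbx⟩, ⟨b, hbQ⟩ * s⟩, ?_⟩
    simp only [Submonoid.coe_mul, map_mul]
    linear_combination (algebraMap P (Localization.AtPrime Q) b) *
      IsLocalization.mk'_spec (Localization.AtPrime Q) x s
  · rw [Ideal.map_le_iff_le_comap]
    intro x hx
    rw [Ideal.mem_comap, RingHom.mem_ker, Localization.localRingHom_to_map,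
      RingHom.mem_ker.mp hx, map_zero]

include hπ in
theorem localRingHom_surjective :
    Function.Surjective (Localization.localRingHom Q q π hQ) := by
  intro z
  obtain ⟨y, ⟨t, ht⟩, rfl⟩ := IsLocalization.exists_mk'_eq q.primeCompl z
  obtain ⟨x, rfl⟩ := hπ y
  obtain ⟨b, rfl⟩ := hπ t
  have hbQ : b ∈ Q.primeCompl := by
    show b ∉ Q
    rw [hQ, Ideal.mem_comap]
    exact ht
  exact ⟨IsLocalization.mk' _ x ⟨b, hbQ⟩, Localization.localRingHom_mk' _ _ _ _ _ _⟩

end L3

section Main

variable {P S : Type u} [CommRing P] [IsRegularRing P] [CommRing S] [Algebra P S]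

/-- the pointwise criterion. -/
theorem key (hπ : Function.Surjective (algebraMap P S)) (q : PrimeSpectrum S) :
    LocCoh.IsCohenMacaulayLocalRing (Localization.AtPrime q.asIdeal) ↔
      ∃ m : ℕ,
        projectiveDimension (ModuleCat.of
          (Localization.AtPrime (PrimeSpectrum.comap (algebraMap P S) q).asIdeal)
          (LocalizedModule (PrimeSpectrum.comap (algebraMap P S) q).asIdeal.primeCompl S)) ≤
            (m : WithBot ℕ∞) ∧
        (m : ℕ∞) ≤ LocCoh.idealDepth
          ((RingHom.ker (algebraMap P S)).map (algebraMap P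
            (Localization.AtPrime (PrimeSpectrum.comap (algebraMap P S) q).asIdeal)))
          (LocalizedModule (PrimeSpectrum.comap (algebraMap P S) q).asIdeal.primeCompl P) := by
  classical
  haveI : Module.Finite P S := Module.Finite.of_surjective (Algebra.linearMap P S) hπ
  set Q : Ideal P := (PrimeSpectrum.comap (algebraMap P S) q).asIdeal with hQdef
  have hQ : Q = q.asIdeal.comap (algebraMap P S) := rfl
  let R := Localization.AtPrime Q
  let T := Localization.AtPrime q.asIdeal
  let φ : R →+* T := Localization.localRingHom Q q.asIdeal (algebraMap P S) hQ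
  letI : Algebra R T := φ.toAlgebra
  haveI : IsScalarTower P R T := IsScalarTower.of_algebraMap_eq (fun x => by
    rw [IsScalarTower.algebraMap_apply P S T]
    exact (Localization.localRingHom_to_map Q q.asIdeal (algebraMap P S) hQ x).symm)
  have hs : Function.Surjective (algebraMap R T) :=
    localRingHom_surjective (algebraMap P S) hπ q.asIdeal Q hQ
  haveI : q.asIdeal.LiesOver Q := ⟨rfl⟩
  have hsub : Algebra.algebraMapSubmonoid S Q.primeCompl = q.asIdeal.primeCompl :=
    Ideal.algebraMapSubmonoid_primeCompl_of_liesOver_surjective q.asIdeal Q hπ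
  haveI : IsLocalization (Algebra.algebraMapSubmonoid S Q.primeCompl) T := by
    rw [hsub]; infer_instance
  haveI : IsLocalizedModule Q.primeCompl (IsScalarTower.toAlgHom P S T).toLinearMap :=
    (isLocalizedModule_iff_isLocalization).mpr inferInstance
  let e : LocalizedModule Q.primeCompl S ≃ₗ[R] T :=
    (IsLocalizedModule.iso Q.primeCompl
      (IsScalarTower.toAlgHom P S T).toLinearMap).extendScalarsOfIsLocalization Q.primeCompl R
  haveI : Module.Finite R T := Module.Finite.of_surjective (Algebra.linearMap R T) hs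
  haveI : Nontrivial (LocalizedModule Q.primeCompl S) := e.toEquiv.nontrivial
  set K : Ideal R := (RingHom.ker (algebraMap P S)).map (algebraMap P R) with hKdef
  have hK : K ≤ maximalIdeal R := by
    rw [← IsLocalization.AtPrime.map_eq_maximalIdeal Q R]
    apply Ideal.map_mono
    intro x hx
    show algebraMap P S x ∈ q.asIdeal
    rw [RingHom.mem_ker.mp hx]
    exact Ideal.zero_mem _
  have hker : RingHom.ker (algebraMap R T) = K :=
    ker_localRingHom (algebraMap P S) hπ q.asIdeal Q hQ
  have hKK : K • (⊤ : Submodule R R) = K := by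
    rw [Ideal.smul_eq_mul, Ideal.mul_top]
  have hdim : Module.supportDim R (LocalizedModule Q.primeCompl S) =
      Module.supportDim R (R ⧸ (K • (⊤ : Submodule R R))) := by
    rw [hKK, Module.supportDim_eq_of_equiv e,
      Module.supportDim_eq_ringKrullDim_quotient_annihilator, annihilator_eq_ker, hker,
      Module.supportDim_quotient_eq_ringKrullDim]
  have step1 := isCMLocalRing_iff_isCMModule (R := R) (T := T) hs
  have step2 : LocCoh.IsCohenMacaulayModule R T ↔
      LocCoh.IsCohenMacaulayModule R (LocalizedModule Q.primeCompl S) :=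
    ⟨CM.isCM_of_equiv e.symm, CM.isCM_of_equiv e⟩
  have step3 := isCM_iff_pd_le_grade (R := R) (LocalizedModule Q.primeCompl S) K hK hdim
  have step4 : LocCoh.idealDepth K R = LocCoh.idealDepth K (LocalizedModule Q.primeCompl P) :=
    (Groth.Agent.H15.DepthSpread.idealDepth_congr (DepthFinite.selfEquiv Q.primeCompl)).symm
  rw [step1, step2, step3, step4]

theorem isOpen_CM (hπ : Function.Surjective (algebraMap P S)) :
    IsOpen {q : PrimeSpectrum S |
      LocCoh.IsCohenMacaulayLocalRing (Localization.AtPrime q.asIdeal)} := by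
  classical
  haveI : Module.Finite P S := Module.Finite.of_surjective (Algebra.linearMap P S) hπ
  rw [isOpen_iff_forall_mem_open]
  intro q hq
  obtain ⟨m, hm1, hm2⟩ := (key hπ q).mp hq
  set Q : Ideal P := (PrimeSpectrum.comap (algebraMap P S) q).asIdeal with hQdef
  set K : Ideal (Localization.AtPrime Q) :=
    (RingHom.ker (algebraMap P S)).map (algebraMap P (Localization.AtPrime Q)) with hKdef
  have hK : K ≤ maximalIdeal (Localization.AtPrime Q) := by
    rw [← IsLocalization.AtPrime.map_eq_maximalIdeal Q (Localization.AtPrime Q)]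
    apply Ideal.map_mono
    intro x hx
    show algebraMap P S x ∈ q.asIdeal
    rw [RingHom.mem_ker.mp hx]
    exact Ideal.zero_mem _
  haveI : Nontrivial (LocalizedModule Q.primeCompl P) :=
    (DepthFinite.selfEquiv Q.primeCompl).toEquiv.nontrivial
  have hne : K • (⊤ : Submodule (Localization.AtPrime Q) (LocalizedModule Q.primeCompl P)) ≠ ⊤ :=
    CM.smul_top_ne_top_of_le_maximalIdeal hK
  have hseq := (le_idealDepth_iff hne m).mp hm2
  obtain ⟨f, hfQ, hf⟩ := Groth.Agent.H15.DepthSpread.exists_notMem_forall_le_idealDepth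
    (RingHom.ker (algebraMap P S)) Q m P hseq
  refine ⟨(PrimeSpectrum.comap (algebraMap P S)) ⁻¹'
    ({p : PrimeSpectrum P | projectiveDimension (ModuleCat.of (Localization.AtPrime p.asIdeal)
        (LocalizedModule p.asIdeal.primeCompl S)) ≤ (m : WithBot ℕ∞)} ∩
      (PrimeSpectrum.basicOpen f : Set (PrimeSpectrum P))), ?_, ?_, ?_⟩
  · rintro q' ⟨h1, h2⟩
    exact (key hπ q').mpr ⟨m, h1, hf _ h2⟩
  · exact ((Groth.Agent.S2677.result P S m).inter
      (PrimeSpectrum.basicOpen f).isOpen).preimage (PrimeSpectrum.continuous_comap _)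
  · exact ⟨hm1, hfQ⟩

end Main

end Groth.Agent.H71.CMOpen
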