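import Groth.Agent.H71.DepthHt
import Groth.Prelude.Def_SGA2

/-!
# `depth M_p > n - c(p)` for all `p ⊉ I` iff `depth M_p ≥ n` for the `p ⊉ I` with `c(p) = 1`
-/

set_option autoImplicit false
universe u

namespace Groth.Agent.H71.RC

variable {A : Type u} [CommRing A]

/-- primes of `A/p` as elements of `Set.Ici p`. -/
def toIci (p : PrimeSpectrum A) (Q : PrimeSpectrum (A ⧸ p.asIdeal)) : Set.Ici p :=
  ⟨⟨Q.asIdeal.comap (Ideal.Quotient.mk p.asIdeal), inferInstance⟩, by
    show p.asIdeal ≤ Q.asIdeal.comap (Ideal.Quotient.mk p.asIdeal)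
    intro a ha
    rw [Ideal.mem_comap, Ideal.Quotient.eq_zero_iff_mem.mpr ha]
    exact Q.asIdeal.zero_mem⟩

lemma toIci_strictMono (p : PrimeSpectrum A) : StrictMono (toIci p) := by
  intro Q Q' h
  have h1 : Q.asIdeal < Q'.asIdeal := h
  show Q.asIdeal.comap (Ideal.Quotient.mk p.asIdeal) <
    Q'.asIdeal.comap (Ideal.Quotient.mk p.asIdeal)
  exact lt_of_le_of_ne (Ideal.comap_mono h1.le) (fun he =>
    h1.ne (Ideal.comap_injective_of_surjective _ Ideal.Quotient.mk_surjective he))

theorem height_map_le (p r : PrimeSpectrum A) (hpr : p ≤ r) :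
    (r.asIdeal.map (Ideal.Quotient.mk p.asIdeal)).height ≤
      Order.height (⟨r, hpr⟩ : Set.Ici p) := by
  have hprime : (r.asIdeal.map (Ideal.Quotient.mk p.asIdeal)).IsPrime :=
    Ideal.map_isPrime_of_surjective Ideal.Quotient.mk_surjective
      (by rw [Ideal.mk_ker]; exact hpr)
  have h1 : (r.asIdeal.map (Ideal.Quotient.mk p.asIdeal)).height =
      Order.height (⟨_, hprime⟩ : PrimeSpectrum (A ⧸ p.asIdeal)) :=
    PrimeSpectrum.height_eq_orderHeight ⟨_, hprime⟩
  rw [h1]
  have h2 := Order.height_le_height_apply_of_strictMono (toIci p) (toIci_strictMono p)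
    ⟨_, hprime⟩
  have h3 : toIci p ⟨_, hprime⟩ = ⟨r, hpr⟩ := by
    apply Subtype.ext
    apply PrimeSpectrum.ext
    show (r.asIdeal.map (Ideal.Quotient.mk p.asIdeal)).comap (Ideal.Quotient.mk p.asIdeal) =
      r.asIdeal
    rw [Ideal.comap_map_of_surjective _ Ideal.Quotient.mk_surjective,
      ← RingHom.ker_eq_comap_bot, Ideal.mk_ker, sup_eq_left.mpr hpr]
  rw [h3] at h2
  exact h2

theorem main [IsNoetherianRing A] (I : Ideal A) (M : Type u) [AddCommGroup M] [Module A M]
    [Module.Finite A M] (n : ℕ) :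
    (∀ p : PrimeSpectrum A, ¬ I ≤ p.asIdeal → (n : ℕ∞) <
      LocCoh.depth (Localization.AtPrime p.asIdeal) (LocalizedModule p.asIdeal.primeCompl M) +
        SGA2.relCodim I p) ↔
    (∀ p : PrimeSpectrum A, ¬ I ≤ p.asIdeal → SGA2.relCodim I p = 1 → (n : ℕ∞) ≤
      LocCoh.depth (Localization.AtPrime p.asIdeal) (LocalizedModule p.asIdeal.primeCompl M)) := by
  constructor
  · intro h p hp hc
    have h1 := h p hp
    rw [hc] at h1
    by_contra hcon
    rw [not_le] at hcon
    exact absurd (lt_of_lt_of_le h1 (Order.add_one_le_of_lt hcon)) (lt_irrefl _)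
  · intro h p hp
    by_cases hemp : IsEmpty {q : PrimeSpectrum A // p ≤ q ∧ I ≤ q.asIdeal}
    · have htop : SGA2.relCodim I p = ⊤ := by
        unfold SGA2.relCodim
        exact iInf_of_empty _
      rw [htop, add_top]
      exact ENat.coe_lt_top n
    · rw [not_isEmpty_iff] at hemp
      obtain ⟨q, hq⟩ := ENat.exists_eq_iInf
        (fun q : {q : PrimeSpectrum A // p ≤ q ∧ I ≤ q.asIdeal} =>
          Order.height (⟨q.1, q.2.1⟩ : Set.Ici p))
      have hc : SGA2.relCodim I p = Order.height (⟨q.1, q.2.1⟩ : Set.Ici p) := hq.symm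
      rcases eq_or_ne (Order.height (⟨q.1, q.2.1⟩ : Set.Ici p)) ⊤ with htop | hfin
      · rw [hc, htop, add_top]
        exact ENat.coe_lt_top n
      · obtain ⟨k, hk⟩ := ENat.ne_top_iff_exists.mp hfin
        -- k ≥ 1
        have hk0 : k ≠ 0 := by
          intro h0
          rw [h0, Nat.cast_zero] at hk
          have hmin : IsMin (⟨q.1, q.2.1⟩ : Set.Ici p) := Order.height_eq_zero.mp hk.symm
          have hle : (⟨q.1, q.2.1⟩ : Set.Ici p) ≤ ⟨p, Set.self_mem_Ici⟩ :=
            hmin (show (⟨p, Set.self_mem_Ici⟩ : Set.Ici p) ≤ ⟨q.1, q.2.1⟩ from q.2.1)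
          have hle' : q.1.asIdeal ≤ p.asIdeal := hle
          exact hp (le_trans q.2.2 hle')
        obtain ⟨j, rfl⟩ := Nat.exists_eq_succ_of_ne_zero hk0
        obtain ⟨s, hs_last, hs_len⟩ := Order.exists_series_of_height_eq_coe
          (⟨q.1, q.2.1⟩ : Set.Ici p) hk.symm
        have hjlt : j < s.length + 1 := by omega
        have hr'q : s ⟨j, hjlt⟩ < (⟨q.1, q.2.1⟩ : Set.Ici p) := by
          rw [← hs_last]
          apply s.strictMono
          rw [Fin.lt_def]
          simp only [Fin.val_last]
          omega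
        have hge : (j : ℕ∞) ≤ Order.height (s ⟨j, hjlt⟩) := Order.index_le_height s ⟨j, hjlt⟩
        have hle1 : Order.height (s ⟨j, hjlt⟩) + 1 ≤ ((j + 1 : ℕ) : ℕ∞) := by
          rw [hk]; exact Order.height_add_one_le hr'q
        have hle : Order.height (s ⟨j, hjlt⟩) ≤ (j : ℕ∞) := by
          rw [Nat.cast_succ] at hle1
          exact (ENat.add_le_add_iff_right ENat.one_ne_top).mp hle1
        have hheight : Order.height (s ⟨j, hjlt⟩) = (j : ℕ∞) := le_antisymm hle hge
        obtain ⟨r, hpr, hr'⟩ : ∃ (r : PrimeSpectrum A) (hpr : p ≤ r),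
            s ⟨j, hjlt⟩ = (⟨r, hpr⟩ : Set.Ici p) := ⟨(s ⟨j, hjlt⟩).1, (s ⟨j, hjlt⟩).2, rfl⟩
        rw [hr'] at hr'q hheight
        have hrq : r < q.1 := hr'q
        -- r does not contain I
        have hIr : ¬ I ≤ r.asIdeal := by
          intro hIr
          have h1 : SGA2.relCodim I p ≤ Order.height (⟨r, hpr⟩ : Set.Ici p) :=
            iInf_le (fun q : {q : PrimeSpectrum A // p ≤ q ∧ I ≤ q.asIdeal} =>
              Order.height (⟨q.1, q.2.1⟩ : Set.Ici p)) ⟨r, hpr, hIr⟩
          rw [hc, ← hk, hheight] at h1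
          have h2 : j + 1 ≤ j := by exact_mod_cast h1
          omega
        have hrel : SGA2.relCodim I r = 1 := by
          apply le_antisymm
          · refine le_trans (iInf_le _
              (⟨q.1, hrq.le, q.2.2⟩ : {q' : PrimeSpectrum A // r ≤ q' ∧ I ≤ q'.asIdeal})) ?_
            by_contra hcon
            rw [not_le] at hcon
            have h2 : ((2 : ℕ) : ℕ∞) ≤ Order.height (⟨q.1, hrq.le⟩ : Set.Ici r) := by
              have h3 := Order.add_one_le_of_lt hcon
              have h4 : ((2 : ℕ) : ℕ∞) = 1 + 1 := by norm_num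
              rw [h4]; exact h3
            obtain ⟨t, ht_last, ht_len⟩ := Order.exists_series_of_le_height _ h2
            have hx1 : t ⟨0, by omega⟩ < t ⟨1, by omega⟩ := by
              apply t.strictMono
              rw [Fin.lt_def]
              simp
            have hx2 : t ⟨1, by omega⟩ < (⟨q.1, hrq.le⟩ : Set.Ici r) := by
              rw [← ht_last]
              apply t.strictMono
              rw [Fin.lt_def]
              simp only [Fin.val_last]
              omega
            have hrx : r < (t ⟨1, by omega⟩).1 :=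
              lt_of_le_of_lt (t ⟨0, by omega⟩).2 hx1
            have hxq : (t ⟨1, by omega⟩).1 < q.1 := hx2
            have hpx : p ≤ (t ⟨1, by omega⟩).1 := le_trans hpr hrx.le
            have e1 : Order.height (⟨r, hpr⟩ : Set.Ici p) + 1 ≤
                Order.height (⟨(t ⟨1, by omega⟩).1, hpx⟩ : Set.Ici p) :=
              Order.height_add_one_le
                (show (⟨r, hpr⟩ : Set.Ici p) < ⟨(t ⟨1, by omega⟩).1, hpx⟩ from hrx)
            have e2 : Order.height (⟨(t ⟨1, by omega⟩).1, hpx⟩ : Set.Ici p) + 1 ≤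
                Order.height (⟨q.1, q.2.1⟩ : Set.Ici p) :=
              Order.height_add_one_le
                (show (⟨(t ⟨1, by omega⟩).1, hpx⟩ : Set.Ici p) < ⟨q.1, q.2.1⟩ from hxq)
            rw [hheight] at e1
            rw [← hk] at e2
            have e3 : ((j : ℕ∞) + 1) + 1 ≤ ((j + 1 : ℕ) : ℕ∞) :=
              le_trans (add_le_add e1 le_rfl) e2
            have e4 : j + 1 + 1 ≤ j + 1 := by exact_mod_cast e3
            omega
          · unfold SGA2.relCodim
            refine le_iInf (fun q' => ?_)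
            rw [Order.one_le_iff_ne_zero, Ne, Order.height_eq_zero]
            intro hmin
            have hle : (⟨q'.1, q'.2.1⟩ : Set.Ici r) ≤ ⟨r, Set.self_mem_Ici⟩ :=
              hmin (show (⟨r, Set.self_mem_Ici⟩ : Set.Ici r) ≤ ⟨q'.1, q'.2.1⟩ from q'.2.1)
            have hle' : q'.1.asIdeal ≤ r.asIdeal := hle
            exact hIr (le_trans q'.2.2 hle')
        have hdr := h r hIr hrel
        haveI := p.isPrime
        haveI := r.isPrime
        have hS := Groth.Agent.H71.DH.depth_le_depth_add_height M p.asIdeal r.asIdeal hpr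
        have hht := height_map_le p r hpr
        rw [hheight] at hht
        have h5 : (n : ℕ∞) ≤ LocCoh.depth (Localization.AtPrime p.asIdeal)
            (LocalizedModule p.asIdeal.primeCompl M) + (j : ℕ∞) :=
          le_trans hdr (le_trans hS (add_le_add le_rfl hht))
        rw [hc, ← hk]
        generalize LocCoh.depth (Localization.AtPrime p.asIdeal)
            (LocalizedModule p.asIdeal.primeCompl M) = d at h5 ⊢
        induction d using ENat.recTopCoe with
        | top => rw [top_add]; exact ENat.coe_lt_top n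
        | coe m =>
          have h6 : n ≤ m + j := by exact_mod_cast h5
          have h7 : n < m + (j + 1) := by omega
          exact_mod_cast h7

end Groth.Agent.H71.RC
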