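import Mathlib
import Groth.Agent.H60.Rees

/-!
# Rees' change of rings for `Ext` into a module (helper71)

Generalisation of `Groth.Agent.H60.Rees` (target the ring) to an arbitrary target module:
for `f` regular on the `A`-module `M`, `B = A/(f)`, `Mb = M/fM` and a finitely generated `B`-module
`N`, the canonical map `Ψ : Ext_B^i(N, Mb) → Ext_A^{i+1}(N, M)` is bijective and semilinear.
-/

set_option autoImplicit false
universe u
open CategoryTheory Abelian

namespace Groth.Agent.H71.ReesMod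

open Groth.Agent.H60.Rees

variable {A : Type u} [CommRing A] (f : A)

/-- The data of a module `M` on which `f` is regular together with a model `Mb` of `M/fM` over
`A/(f)`. -/
structure Data where
  /-- the module -/
  M : ModuleCat.{u} A
  /-- its reduction -/
  Mb : ModuleCat.{u} (Bq f)
  /-- the reduction map -/
  q : M ⟶ (Res f).obj Mb
  hreg : IsSMulRegular M f
  hsurj : Function.Surjective q.hom
  hker : ∀ m : M, q.hom m = 0 ↔ ∃ m' : M, f • m' = m

variable {f} (D : Data f)

/-- The short exact sequence `0 → M → M → M/fM → 0` of `A`-modules. -/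
noncomputable abbrev S₀ : ShortComplex (ModuleCat.{u} A) where
  X₁ := D.M
  X₂ := D.M
  X₃ := (Res f).obj D.Mb
  f := f • 𝟙 D.M
  g := D.q
  zero := by
    refine ModuleCat.hom_ext (LinearMap.ext fun a => ?_)
    change D.q.hom (f • a) = 0
    exact (D.hker _).mpr ⟨a, rfl⟩

theorem hS₀ : (S₀ D).ShortExact := by
  refine ModuleCat.shortComplex_shortExact _ ?_ ?_ ?_
  · intro y
    change D.q.hom y = 0 ↔ ∃ x : D.M, f • x = y
    exact D.hker y
  · intro a b hab
    exact D.hreg hab
  · exact D.hsurj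

/-- The canonical comparison map `Ext_B^i(N, Mb) → Ext_A^{i+1}(N, M)`. -/
noncomputable def Ψ (N : ModuleCat.{u} (Bq f)) {i j : ℕ} (h : i + 1 = j) :
    Ext N D.Mb i →+ Ext ((Res f).obj N) D.M j :=
  ((hS₀ D).extClass.postcomp ((Res f).obj N) h).comp ((Res f).mapExtAddHom N D.Mb i)

theorem Ψ_apply (N : ModuleCat.{u} (Bq f)) {i j : ℕ} (h : i + 1 = j) (x : Ext N D.Mb i) :
    Ψ D N h x = (x.mapExactFunctor (Res f)).comp (hS₀ D).extClass h := rfl

theorem Ψ_nat {N N' : ModuleCat.{u} (Bq f)} (g : N' ⟶ N) {i j : ℕ}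
    (h : i + 1 = j) (x : Ext N D.Mb i) :
    Ψ D N' h ((Ext.mk₀ g).comp x (zero_add i)) =
      (Ext.mk₀ ((Res f).map g)).comp (Ψ D N h x) (zero_add j) := by
  rw [Ψ_apply, Ψ_apply, Ext.mapExactFunctor_comp, Ext.mapExactFunctor_mk₀,
    Ext.comp_assoc _ _ _ (zero_add i) h (by omega)]

theorem Ψ_delta {T : ShortComplex (ModuleCat.{u} (Bq f))}
    (hT : T.ShortExact) {i j : ℕ} (h : i + 1 = j) {i' j' : ℕ} (hi' : 1 + i = i')
    (hj' : i' + 1 = j') (x : Ext T.X₁ D.Mb i) :
    Ψ D T.X₃ hj' (hT.extClass.comp x hi') =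
      (hT.map_of_exact (Res f)).extClass.comp (Ψ D T.X₁ h x)
        (show 1 + j = j' by omega) := by
  rw [Ψ_apply, Ψ_apply, Ext.mapExactFunctor_comp, Ext.mapExactFunctor_extClass,
    Ext.comp_assoc _ _ _ hi' h (by omega)]
  rfl

/-- The base case: `Hom_B(N, Mb) ≃ Ext_A^1(N, M)`. -/
theorem Ψ_zero_bijective (N : ModuleCat.{u} (Bq f)) :
    Function.Bijective (Ψ D N (zero_add 1)) := by
  constructor
  · rw [injective_iff_map_eq_zero]
    intro x hx
    obtain ⟨g, rfl⟩ := (Ext.mk₀_bijective N D.Mb).2 x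
    have hx' : (Ext.mk₀ ((Res f).map g)).comp (hS₀ D).extClass (zero_add 1) = 0 := by
      rw [Ψ_apply, Ext.mapExactFunctor_mk₀] at hx
      exact hx
    obtain ⟨x₂, hx₂⟩ := Ext.covariant_sequence_exact₃ _ (hS₀ D)
      (Ext.mk₀ ((Res f).map g)) (zero_add 1) hx'
    obtain ⟨y, rfl⟩ := (Ext.mk₀_bijective _ _).2 x₂
    have hy : y = 0 := by
      refine ModuleCat.hom_ext (LinearMap.ext fun n => ?_)
      have h1 : f • (y.hom n) = f • (0 : D.M) := by
        rw [← LinearMap.map_smul, smul_res_eq_zero, map_zero, smul_zero]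
      exact D.hreg h1
    rw [hy, Ext.mk₀_zero, Ext.zero_comp] at hx₂
    have hg : (Res f).map g = 0 :=
      (Ext.mk₀_bijective _ _).1 (by rw [← hx₂, Ext.mk₀_zero])
    have hg0 : g = 0 := (Res f).map_injective (by rw [hg, Functor.map_zero])
    rw [hg0, Ext.mk₀_zero]
  · intro z
    have hz : z.comp (Ext.mk₀ (S₀ D).f) (add_zero 1) = 0 := by
      show z.comp (Ext.mk₀ (f • 𝟙 D.M)) (add_zero 1) = 0
      rw [Ext.mk₀_smul, Ext.comp_smul, Ext.comp_mk₀_id]
      exact smul_ext_res f N z
    obtain ⟨x₃, hx₃⟩ := Ext.covariant_sequence_exact₁ _ (hS₀ D) z hz (zero_add 1)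
    obtain ⟨x', rfl⟩ := (Ext.mk₀_bijective _ _).2 x₃
    refine ⟨Ext.mk₀ (liftHom f (M := D.Mb) x'), ?_⟩
    rw [Ψ_apply, Ext.mapExactFunctor_mk₀, res_map_liftHom]
    exact hx₃

/-- **Rees' change of rings**: `Ext_B^i(N, Mb) ≃ Ext_A^{i+1}(N, M)` for finitely generated `N`. -/
theorem Ψ_bijective [IsNoetherianRing A] (hreg : IsSMulRegular A f) :
    ∀ (i : ℕ) (N : Type u) [AddCommGroup N] [Module (Bq f) N] [Module.Finite (Bq f) N],
      Function.Bijective (Ψ D (ModuleCat.of (Bq f) N) (rfl : i + 1 = i + 1)) := by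
  intro i
  induction i with
  | zero =>
    intro N _ _ _
    exact Ψ_zero_bijective D _
  | succ i ih =>
    intro N _ _ _
    obtain ⟨n, p, hp⟩ := Module.Finite.exists_fin' (Bq f) N
    have hT := LinearMap.shortExact_shortComplexKer hp
    have ihK := ih (LinearMap.ker p)
    have ihF := ih (Fin n → Bq f)
    have hA := hT.map_of_exact (Res f)
    constructor
    · rw [injective_iff_map_eq_zero]
      intro w hw
      have keyP : ∀ e : Ext (ModuleCat.of (Bq f) (Fin n → Bq f)) D.Mb (i + 1), e = 0 := by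
        have : Projective (ModuleCat.of (Bq f) (Fin n → Bq f)) :=
          (IsProjective.iff_projective (R := Bq f) (Fin n → Bq f)).mp inferInstance
        exact fun e => Ext.eq_zero_of_projective e
      have h0 : (Ext.mk₀ p.shortComplexKer.g).comp w (zero_add (i + 1)) = 0 := keyP _
      obtain ⟨x, hx⟩ := Ext.contravariant_sequence_exact₃ hT D.Mb w h0 (add_comm 1 i)
      have hw' : hA.extClass.comp (Ψ D p.shortComplexKer.X₁ rfl x)
          (show 1 + (i + 1) = i + 1 + 1 by omega) = 0 := by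
        rw [← Ψ_delta D hT rfl (add_comm 1 i) rfl x, hx]
        exact hw
      obtain ⟨y', hy'⟩ := Ext.contravariant_sequence_exact₁ hA D.M
        (Ψ D p.shortComplexKer.X₁ rfl x) (show 1 + (i + 1) = i + 1 + 1 by omega) hw'
      obtain ⟨y, hy⟩ := ihF.2 y'
      have hxy : (Ext.mk₀ p.shortComplexKer.f).comp y (zero_add i) = x := by
        apply ihK.1
        refine (Ψ_nat D p.shortComplexKer.f rfl y).trans ?_
        rw [← hy']
        congr 1
      rw [← hx, ← hxy, ← Ext.comp_assoc _ _ _ (add_zero 1) (zero_add i) (by omega),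
        hT.extClass_comp, Ext.zero_comp]
    · intro z
      have keyF : ∀ e : Ext ((Res f).obj (ModuleCat.of (Bq f) (Fin n → Bq f)))
          D.M (i + 1 + 1), e = 0 := by
        haveI := pd_res_free f hreg n
        exact fun e => e.eq_zero_of_hasProjectiveDimensionLT 2 (by omega)
      have h0 : (Ext.mk₀ (p.shortComplexKer.map (Res f)).g).comp z (zero_add (i + 1 + 1)) = 0 :=
        keyF _
      obtain ⟨y, hy⟩ := Ext.contravariant_sequence_exact₃ hA D.M z h0
        (add_comm 1 (i + 1))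
      obtain ⟨x, hx⟩ := ihK.2 y
      refine ⟨hT.extClass.comp x (add_comm 1 i), ?_⟩
      refine (Ψ_delta D hT rfl (add_comm 1 i) rfl x).trans ?_
      rw [← hy, ← hx]

/-- `Ψ` is semilinear with respect to `A → A/(f)`. -/
theorem Ψ_smul (N : ModuleCat.{u} (Bq f)) {i j : ℕ} (h : i + 1 = j) (a : A)
    (x : Ext N D.Mb i) : Ψ D N h (π f a • x) = a • Ψ D N h x := by
  have h1 : π f a • x = (Ext.mk₀ (π f a • 𝟙 N)).comp x (zero_add i) := by
    rw [Ext.mk₀_smul, Ext.smul_comp, Ext.mk₀_id_comp]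
  have h2 : (Res f).map (π f a • 𝟙 N) = a • 𝟙 ((Res f).obj N) := by
    refine ModuleCat.hom_ext (LinearMap.ext fun n => ?_)
    rfl
  rw [h1, Ψ_nat, h2, Ext.mk₀_smul, Ext.smul_comp, Ext.mk₀_id_comp]

/-- Lengths agree along a semilinear additive bijection over a surjective ring map. -/
theorem length_eq_of_semilinear {A B : Type*} [CommRing A] [CommRing B] (φ : A →+* B)
    (hφ : Function.Surjective φ) {X Y : Type*} [AddCommGroup X] [Module B X] [AddCommGroup Y]
    [Module A Y] (ψ : X →+ Y) (hψ : Function.Bijective ψ)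
    (h : ∀ (a : A) (x : X), ψ (φ a • x) = a • ψ x) :
    Module.length B X = Module.length A Y := by
  haveI : RingHomSurjective φ := ⟨hφ⟩
  let e : X ≃+ Y := AddEquiv.ofBijective ψ hψ
  let g : Y →ₛₗ[φ] X :=
    { toFun := e.symm
      map_add' := fun a b => e.symm.map_add a b
      map_smul' := fun a y => by
        apply e.injective
        show ψ (e.symm (a • y)) = ψ (φ a • e.symm y)
        rw [h]
        show e (e.symm (a • y)) = a • e (e.symm y)
        rw [e.apply_symm_apply, e.apply_symm_apply] }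
  have hg : Function.Bijective g := e.symm.bijective
  rw [Module.length, Module.length, WithBot.unbot_inj,
    Order.krullDim_eq_of_orderIso (Submodule.orderIsoMapComapOfBijective g hg)]

/-- The length form of Rees' theorem. -/
theorem length_ext_eq [IsNoetherianRing A] (hreg : IsSMulRegular A f) (i : ℕ) (N : Type u)
    [AddCommGroup N] [Module (Bq f) N] [Module.Finite (Bq f) N] :
    Module.length (Bq f) (Ext (ModuleCat.of (Bq f) N) D.Mb i) =
      Module.length A (Ext ((Res f).obj (ModuleCat.of (Bq f) N)) D.M (i + 1)) :=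
  length_eq_of_semilinear (π f) Ideal.Quotient.mk_surjective
    (Ψ D (ModuleCat.of (Bq f) N) (rfl : i + 1 = i + 1)) (Ψ_bijective D hreg i N)
    (fun a x => Ψ_smul D _ rfl a x)

/-- `Hom_A(N, M) = 0` for an `A/(f)`-module `N`. -/
theorem subsingleton_ext_zero (N : ModuleCat.{u} (Bq f)) :
    Subsingleton (Ext ((Res f).obj N) D.M 0) := by
  refine ⟨fun a b => ?_⟩
  obtain ⟨y, rfl⟩ := (Ext.mk₀_bijective _ _).2 a
  obtain ⟨y', rfl⟩ := (Ext.mk₀_bijective _ _).2 b
  have key : ∀ y : (Res f).obj N ⟶ D.M, y = 0 := by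
    intro y
    refine ModuleCat.hom_ext (LinearMap.ext fun n => ?_)
    have h1 : f • (y.hom n) = f • (0 : D.M) := by
      rw [← LinearMap.map_smul, smul_res_eq_zero, map_zero, smul_zero]
    exact D.hreg h1
  rw [key y, key y']

end Groth.Agent.H71.ReesMod
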