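import Mathlib
import Groth.Prelude.Def_GrLC2
import Groth.Agent.H82.ExtBC
import Groth.Agent.H71.ReesMod

/-!
# Bass numbers: flat base change with field fibre, and Rees' shift (helper71)
-/

set_option autoImplicit false
set_option linter.style.haveILetI false
set_option linter.unusedSectionVars false

universe u

open CategoryTheory Abelian IsLocalRing TensorProduct

namespace Groth.Agent.H71.BassBC

open Groth.Agent.H82 Groth.Agent.H82.TorBC

/-- Bass numbers only depend on the isomorphism class of the module. -/
theorem bassNumLocal_congr {S : Type u} [CommRing S] [IsLocalRing S] {N N' : Type u}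
    [AddCommGroup N] [Module S N] [AddCommGroup N'] [Module S N'] (e : N ≃ₗ[S] N') (i : ℕ) :
    GrLC.bassNumLocal S N i = GrLC.bassNumLocal S N' i := by
  unfold GrLC.bassNumLocal
  exact (ExtBC.extCongr (Iso.refl (ModuleCat.of S (ResidueField S))) e.toModuleIso i).length_eq

section FieldFibre

variable (R S : Type u) [CommRing R] [CommRing S] [IsLocalRing R] [IsLocalRing S]
  [IsNoetherianRing R] [Algebra R S] [Module.Flat R S] [IsLocalHom (algebraMap R S)]

attribute [local instance] Groth.Agent.H82.ExtBC.extModule

/-- Flat base change with trivial closed fibre preserves Bass numbers. -/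
theorem bassNumLocal_tensor_of_map_eq
    (hm : (maximalIdeal R).map (algebraMap R S) = maximalIdeal S)
    (M : Type u) [AddCommGroup M] [Module R M] (i : ℕ) :
    GrLC.bassNumLocal S (S ⊗[R] M) i = GrLC.bassNumLocal R M i := by
  have hbc := ExtBC.isBaseChange_l R S M i (ResidueField R)
  have h1 := IsLocalRing.length_baseChange R S
    (Abelian.Ext.{u} (ModuleCat.of R (ResidueField R)) (ModuleCat.of R M) i)
  have h2 : Module.length S (S ⧸ (maximalIdeal R).map (algebraMap R S)) = 1 := by
    rw [hm]
    haveI : IsSimpleModule S (S ⧸ maximalIdeal S) :=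
      isSimpleModule_iff_quot_maximal.mpr ⟨maximalIdeal S, inferInstance, ⟨LinearEquiv.refl _ _⟩⟩
    exact Module.length_eq_one_iff.mpr inferInstance
  rw [h2, mul_one] at h1
  have h3 := hbc.equiv.length_eq
  -- identify the source and the target
  let e0 : (S ⧸ maximalIdeal S) ≃ₗ[S] (S ⧸ (maximalIdeal R).map (algebraMap R S)) :=
    Submodule.quotEquivOfEq _ _ hm.symm
  let e1 : (S ⧸ (maximalIdeal R).map (algebraMap R S)) ≃ₗ[S] S ⊗[R] (R ⧸ maximalIdeal R) :=
    (Algebra.TensorProduct.quotIdealMapEquivTensorQuot S (maximalIdeal R)).toLinearEquiv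
  let e2 : ResidueField S ≃ₗ[S] (E R S).obj (ModuleCat.of R (ResidueField R)) :=
    (e0.trans e1).trans (bcEquiv R S (ResidueField R))
  let iX : ModuleCat.of S (ResidueField S) ≅ (E R S).obj (ModuleCat.of R (ResidueField R)) :=
    e2.toModuleIso
  let iY : (E R S).obj (ModuleCat.of R M) ≅ ModuleCat.of S (S ⊗[R] M) :=
    (bcEquiv R S M).symm.toModuleIso
  have h4 := (ExtBC.extCongr iX iY i).length_eq
  unfold GrLC.bassNumLocal
  rw [← h4, ← h3, h1]

/-- Flat base change with trivial closed fibre preserves Bass numbers (base change form). -/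
theorem bassNumLocal_of_isBaseChange
    (hm : (maximalIdeal R).map (algebraMap R S) = maximalIdeal S)
    {M : Type u} [AddCommGroup M] [Module R M] {N : Type u} [AddCommGroup N] [Module S N]
    [Module R N] [IsScalarTower R S N] {g : M →ₗ[R] N} (hg : IsBaseChange S g) (i : ℕ) :
    GrLC.bassNumLocal S N i = GrLC.bassNumLocal R M i := by
  rw [← bassNumLocal_tensor_of_map_eq R S hm M i]
  exact bassNumLocal_congr hg.equiv.symm i

end FieldFibre

end Groth.Agent.H71.BassBC
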