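import Mathlib
import Groth.Prelude.Def_GrLC2
import Groth.Agent.H82.ExtBC
import Groth.Agent.H71.ReesMod
import Groth.Agent.H71.BassBC

/-!
# Bass numbers: Rees' shift (helper71)

For a Noetherian local ring `S`, `x ∈ 𝔪` regular on `S` and on `N`:
`μ^0(N) = 0` and `μ^{i+1}_S(N) = μ^i_{S/x}(N/xN)`.
-/

set_option autoImplicit false
set_option linter.style.haveILetI false
set_option linter.unusedSectionVars false

universe u

open CategoryTheory Abelian IsLocalRing TensorProduct

namespace Groth.Agent.H71.BassRees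

open Groth.Agent.H82 Groth.Agent.H60.Rees Groth.Agent.H71

variable (S : Type u) [CommRing S] [IsLocalRing S] (x : S) [IsLocalRing (S ⧸ Ideal.span {x})]

/-- The residue field of `S/(x)` is the residue field of `S`. -/
noncomputable def resFieldEquiv :
    ResidueField S ≃ₗ[S]
      ((Res x).obj (ModuleCat.of (Bq x) (ResidueField (S ⧸ Ideal.span {x})))) := by
  haveI : IsLocalHom (π x) := .of_surjective _ Ideal.Quotient.mk_surjective
  let φ : ResidueField S →+* ResidueField (S ⧸ Ideal.span {x}) := ResidueField.map (π x)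
  refine LinearEquiv.ofBijective
    { toFun := fun a => φ a
      map_add' := fun a b => map_add φ a b
      map_smul' := fun s a => ?_ } ⟨?_, ?_⟩
  · show φ (s • a) = (π x s) • φ a
    rw [Algebra.smul_def, map_mul, Algebra.smul_def]
    congr 1
  · intro a b hab
    exact φ.injective hab
  · intro z
    obtain ⟨z', rfl⟩ := residue_surjective (R := S ⧸ Ideal.span {x}) z
    obtain ⟨s, rfl⟩ := Ideal.Quotient.mk_surjective z'
    exact ⟨residue S s, ResidueField.map_residue (π x) s⟩

variable [IsNoetherianRing S]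

/-- **Rees' shift for Bass numbers.** -/
theorem bassNumLocal_rees (hxS : IsSMulRegular S x) (D : ReesMod.Data x) :
    GrLC.bassNumLocal S D.M 0 = 0 ∧
      ∀ i : ℕ, GrLC.bassNumLocal S D.M (i + 1) = GrLC.bassNumLocal (S ⧸ Ideal.span {x}) D.Mb i := by
  let k' := ResidueField (S ⧸ Ideal.span {x})
  let iX : (Res x).obj (ModuleCat.of (Bq x) k') ≅ ModuleCat.of S (ResidueField S) :=
    (resFieldEquiv S x).symm.toModuleIso
  have hc : ∀ i, Module.length S (Ext (ModuleCat.of S (ResidueField S)) D.M i) =
      Module.length S (Ext ((Res x).obj (ModuleCat.of (Bq x) k')) D.M i) := fun i =>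
    (ExtBC.extCongr iX (Iso.refl D.M) i).length_eq
  refine ⟨?_, fun i => ?_⟩
  · show Module.length S (Ext (ModuleCat.of S (ResidueField S)) (ModuleCat.of S D.M) 0) = 0
    have : Subsingleton (Ext ((Res x).obj (ModuleCat.of (Bq x) k')) D.M 0) :=
      ReesMod.subsingleton_ext_zero D _
    have h0 : Module.length S (Ext ((Res x).obj (ModuleCat.of (Bq x) k')) D.M 0) = 0 :=
      Module.length_eq_zero_iff.mpr this
    exact (hc 0).trans h0
  · have h1 := ReesMod.length_ext_eq D hxS i k'
    show Module.length S (Ext (ModuleCat.of S (ResidueField S)) (ModuleCat.of S D.M) (i + 1)) =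
      Module.length (S ⧸ Ideal.span {x})
        (Ext (ModuleCat.of (S ⧸ Ideal.span {x}) k') (ModuleCat.of (S ⧸ Ideal.span {x}) D.Mb) i)
    exact (hc (i + 1)).trans h1.symm

end Groth.Agent.H71.BassRees
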