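import Mathlib
import Groth.Prelude.Def_GrLC2
import Groth.Agent.H71.BassBC
import Groth.Agent.H71.BassRees
import Groth.Agent.H29.FlatDepthMod
import Groth.Agent.H57.RegFlat
import Groth.Agent.H23.RegularLocal
import Groth.Agent.H23.RegularSeq
import Groth.Agent.H1.CSA.RegDesc

/-!
# Bass numbers under a flat local homomorphism with regular closed fibre (helper71)

For a flat local homomorphism `(R, 𝔪) → (S, 𝔫)` of Noetherian local rings whose closed fibre
`S/𝔪S` is regular of dimension `d` and any `R`-module `M`: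
`μ^i_S(S ⊗ M) = 0` for `i < d` and `μ^{i+d}_S(S ⊗ M) = μ^i_R(M)`.
-/

set_option autoImplicit false
set_option linter.style.haveILetI false
set_option linter.unusedSectionVars false

universe u

open CategoryTheory Abelian IsLocalRing TensorProduct
open scoped Pointwise

namespace Groth.Agent.H71.BassReg

open Groth.Agent.H60.Rees Groth.Agent.H71

section Data

variable (R : Type u) [CommRing R] (S : Type u) [CommRing S] [Algebra R S] (x : S)
  (M : Type u) [AddCommGroup M] [Module R M]

/-- The reduction map `S ⊗ M → S/(x) ⊗ M`. -/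
noncomputable def redMap : S ⊗[R] M →ₗ[R] (S ⧸ Ideal.span {x}) ⊗[R] M :=
  LinearMap.rTensor M ((Ideal.Quotient.mkₐ R (Ideal.span {x})).toLinearMap)

theorem redMap_tmul (s : S) (m : M) :
    redMap R S x M (s ⊗ₜ m) = (Ideal.Quotient.mk (Ideal.span {x}) s) ⊗ₜ m := rfl

theorem redMap_smul (s : S) (t : S ⊗[R] M) :
    redMap R S x M (s • t) = (Ideal.Quotient.mk (Ideal.span {x}) s) • redMap R S x M t := by
  induction t using TensorProduct.induction_on with
  | zero => simp
  | tmul s₁ m =>
    rw [TensorProduct.smul_tmul', redMap_tmul, redMap_tmul, TensorProduct.smul_tmul', smul_eq_mul,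
      map_mul, smul_eq_mul]
  | add a b ha hb => rw [smul_add, map_add, map_add, ha, hb, smul_add]

theorem redMap_surjective : Function.Surjective (redMap R S x M) :=
  LinearMap.rTensor_surjective M Ideal.Quotient.mk_surjective

theorem redMap_eq_zero_iff (t : S ⊗[R] M) :
    redMap R S x M t = 0 ↔ ∃ t' : S ⊗[R] M, x • t' = t := by
  have hex : Function.Exact ((LinearMap.lsmul S S x).restrictScalars R)
      ((Ideal.Quotient.mkₐ R (Ideal.span {x})).toLinearMap) := by
    intro y
    show Ideal.Quotient.mk (Ideal.span {x}) y = 0 ↔ _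
    rw [Ideal.Quotient.eq_zero_iff_mem, Ideal.mem_span_singleton', Set.mem_range]
    constructor
    · rintro ⟨a, rfl⟩
      exact ⟨a, mul_comm x a⟩
    · rintro ⟨a, rfl⟩
      exact ⟨a, mul_comm a x⟩
  have hex2 := rTensor_exact M hex
    (show Function.Surjective ((Ideal.Quotient.mkₐ R (Ideal.span {x})).toLinearMap) from
      Ideal.Quotient.mk_surjective)
  show LinearMap.rTensor M ((Ideal.Quotient.mkₐ R (Ideal.span {x})).toLinearMap) t = 0 ↔ _
  rw [hex2 t, Set.mem_range]
  constructor
  · rintro ⟨b, rfl⟩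
    exact ⟨b, (Groth.Agent.H29.FlatDepthMod.rTensor_lsmul_apply S M x b).symm⟩
  · rintro ⟨b, rfl⟩
    exact ⟨b, Groth.Agent.H29.FlatDepthMod.rTensor_lsmul_apply S M x b⟩

/-- The Rees datum `S ⊗ M → S/(x) ⊗ M`. -/
noncomputable def reesData (hreg : IsSMulRegular (S ⊗[R] M) x) : ReesMod.Data x where
  M := ModuleCat.of S (S ⊗[R] M)
  Mb := ModuleCat.of (S ⧸ Ideal.span {x}) ((S ⧸ Ideal.span {x}) ⊗[R] M)
  q := ModuleCat.ofHom
    { toFun := fun t => redMap R S x M t
      map_add' := fun a b => map_add (redMap R S x M) a b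
      map_smul' := fun s t => redMap_smul R S x M s t }
  hreg := hreg
  hsurj := redMap_surjective R S x M
  hker := redMap_eq_zero_iff R S x M

end Data

variable (R : Type u) [CommRing R] [IsLocalRing R] [IsNoetherianRing R]
  (M : Type u) [AddCommGroup M] [Module R M]

theorem exists_notMem_sq (F : Type u) [CommRing F] [IsLocalRing F] [IsNoetherianRing F]
    (h : maximalIdeal F ≠ ⊥) : ∃ x ∈ maximalIdeal F, x ∉ maximalIdeal F ^ 2 := by
  by_contra hcon
  push Not at hcon
  apply h
  have hle : maximalIdeal F ≤ maximalIdeal F • maximalIdeal F := by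
    intro y hy
    have := hcon y hy
    rwa [sq, ← Ideal.smul_eq_mul] at this
  exact Submodule.eq_bot_of_le_smul_of_le_jacobson_bot (maximalIdeal F) (maximalIdeal F)
    (IsNoetherian.noetherian _) hle (IsLocalRing.maximalIdeal_le_jacobson _)

theorem bass_regular_fibre_aux : ∀ (d : ℕ) (S : Type u) [CommRing S] [IsLocalRing S]
    [IsNoetherianRing S] [Algebra R S] [IsLocalHom (algebraMap R S)] [Module.Flat R S]
    [IsRegularLocalRing (S ⧸ (maximalIdeal R).map (algebraMap R S))],
    (maximalIdeal (S ⧸ (maximalIdeal R).map (algebraMap R S))).spanFinrank = d →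
    (∀ i < d, GrLC.bassNumLocal S (S ⊗[R] M) i = 0) ∧
      ∀ i, GrLC.bassNumLocal S (S ⊗[R] M) (i + d) = GrLC.bassNumLocal R M i := by
  intro d
  induction d with
  | zero =>
    intro S _ _ _ _ _ _ _ hd
    refine ⟨fun i hi => absurd hi (Nat.not_lt_zero i), fun i => ?_⟩
    have hbot : maximalIdeal (S ⧸ (maximalIdeal R).map (algebraMap R S)) = ⊥ :=
      (Submodule.spanFinrank_eq_zero_iff_eq_bot (IsNoetherian.noetherian _)).mp hd
    have h1 := IsLocalRing.map_maximalIdeal_of_surjective
      (Ideal.Quotient.mk ((maximalIdeal R).map (algebraMap R S))) Ideal.Quotient.mk_surjective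
    rw [hbot, Ideal.map_eq_bot_iff_le_ker, Ideal.mk_ker] at h1
    have hm : (maximalIdeal R).map (algebraMap R S) = maximalIdeal S :=
      le_antisymm (IsLocalRing.le_maximalIdeal
        (IsLocalRing.map_maximalIdeal_lt_top (algebraMap R S)).ne) h1
    exact BassBC.bassNumLocal_tensor_of_map_eq R S hm M i
  | succ d ih =>
    intro S _ _ _ _ _ _ hF hd
    set I := (maximalIdeal R).map (algebraMap R S) with hI
    -- choose the element
    have hne : maximalIdeal (S ⧸ I) ≠ ⊥ := by
      intro h0
      rw [h0] at hd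
      simp at hd
    obtain ⟨xb, hxbm, hxb2⟩ := exists_notMem_sq (S ⧸ I) hne
    obtain ⟨x, rfl⟩ := Ideal.Quotient.mk_surjective xb
    have hxm : x ∈ maximalIdeal S := by
      rw [mem_maximalIdeal, mem_nonunits_iff] at hxbm ⊢
      exact fun hu => hxbm (hu.map _)
    haveI : IsDomain (S ⧸ I) := Groth.Agent.H23.isDomain_of_isRegularLocalRing _
    have hxb0 : Ideal.Quotient.mk I x ≠ 0 := by
      intro h0
      apply hxb2
      rw [h0]
      exact Ideal.zero_mem _
    -- regularity on the fibre
    let e0 : (S ⧸ (I • ⊤ : Submodule S S)) ≃ₗ[S] (S ⧸ I) :=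
      Submodule.quotEquivOfEq _ _ (by simp)
    have hregF : IsSMulRegular (S ⧸ I) x := by
      intro a b hab
      have hab' : Ideal.Quotient.mk I x * a = Ideal.Quotient.mk I x * b := hab
      exact mul_left_cancel₀ hxb0 hab'
    have hreg : IsSMulRegular (S ⧸ (I • ⊤ : Submodule S S)) x :=
      (e0.isSMulRegular_congr x).mpr hregF
    obtain ⟨hxS, hflat⟩ := Groth.Agent.H57.isSMulRegular_and_flat_quot (A := R) S x hreg
    haveI := hflat
    -- the quotient ring
    have hxtop : Ideal.span {x} ≠ ⊤ := by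
      intro h
      rw [Ideal.span_singleton_eq_top] at h
      exact hxm h
    haveI : Nontrivial (S ⧸ Ideal.span {x}) := Ideal.Quotient.nontrivial_iff.mpr hxtop
    haveI : IsLocalRing (S ⧸ Ideal.span {x}) :=
      IsLocalRing.of_surjective' (Ideal.Quotient.mk (Ideal.span {x})) Ideal.Quotient.mk_surjective
    haveI : IsLocalHom (Ideal.Quotient.mk (Ideal.span {x})) :=
      .of_surjective _ Ideal.Quotient.mk_surjective
    haveI : IsLocalHom (algebraMap R (S ⧸ Ideal.span {x})) := by
      rw [IsScalarTower.algebraMap_eq R S (S ⧸ Ideal.span {x})]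
      exact RingHom.isLocalHom_comp _ _
    let e1 : (S ⧸ Ideal.span {x}) ≃ₗ[S] (S ⧸ (x • ⊤ : Submodule S S)) :=
      Submodule.quotEquivOfEq _ _ (Groth.Agent.H23.span_singleton_eq_smul_top x)
    haveI : Module.Flat R (S ⧸ Ideal.span {x}) :=
      Module.Flat.of_linearEquiv (e1.restrictScalars R)
    -- the fibre of the quotient
    have hI' : (maximalIdeal R).map (algebraMap R (S ⧸ Ideal.span {x})) =
        I.map (Ideal.Quotient.mk (Ideal.span {x})) := by
      rw [hI, Ideal.map_map]
      rfl
    have hJ : (Ideal.span {x}).map (Ideal.Quotient.mk I) = Ideal.span {Ideal.Quotient.mk I x} := by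
      rw [Ideal.map_span, Set.image_singleton]
    let eF : ((S ⧸ Ideal.span {x}) ⧸ (maximalIdeal R).map (algebraMap R (S ⧸ Ideal.span {x}))) ≃+*
        ((S ⧸ I) ⧸ Ideal.span {Ideal.Quotient.mk I x}) :=
      ((Ideal.quotEquivOfEq hI').trans (DoubleQuot.quotQuotEquivComm (Ideal.span {x}) I)).trans
        (Ideal.quotEquivOfEq hJ)
    obtain ⟨hreg', hsf⟩ := Groth.Agent.H1.CSA.RegDesc.regular_quotient_spanFinrank (S ⧸ I)
      (Ideal.Quotient.mk I x) hxbm hxb2 d hd
    haveI hF' : IsRegularLocalRing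
        ((S ⧸ Ideal.span {x}) ⧸ (maximalIdeal R).map (algebraMap R (S ⧸ Ideal.span {x}))) :=
      IsRegularLocalRing.of_ringEquiv eF.symm
    have hd' : (maximalIdeal ((S ⧸ Ideal.span {x}) ⧸
        (maximalIdeal R).map (algebraMap R (S ⧸ Ideal.span {x})))).spanFinrank = d := by
      rw [← hsf, ← IsLocalRing.map_ringEquiv_maximalIdeal eF.symm,
        Ideal.spanFinrank_map_eq_of_ringEquiv]
    obtain ⟨ih1, ih2⟩ := ih (S ⧸ Ideal.span {x}) hd'
    -- Rees
    have hxT : IsSMulRegular (S ⊗[R] M) x :=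
      Groth.Agent.H29.FlatDepthMod.isSMulRegular_tensor_of_flat_quot S M hxS
    obtain ⟨r0, r1⟩ := BassRees.bassNumLocal_rees S x hxS (reesData R S x M hxT)
    have r0' : GrLC.bassNumLocal S (S ⊗[R] M) 0 = 0 := r0
    have r1' : ∀ i, GrLC.bassNumLocal S (S ⊗[R] M) (i + 1) =
        GrLC.bassNumLocal (S ⧸ Ideal.span {x}) ((S ⧸ Ideal.span {x}) ⊗[R] M) i := r1
    refine ⟨fun i hi => ?_, fun i => ?_⟩
    · cases i with
      | zero => exact r0'
      | succ j => rw [r1' j]; exact ih1 j (by omega)
    · rw [← add_assoc, r1' (i + d)]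
      exact ih2 i

/-- **Bass numbers under a flat local homomorphism with regular closed fibre.** -/
theorem bass_regular_fibre (S : Type u) [CommRing S] [IsLocalRing S]
    [IsNoetherianRing S] [Algebra R S] [IsLocalHom (algebraMap R S)] [Module.Flat R S]
    [hF : IsRegularLocalRing (S ⧸ (maximalIdeal R).map (algebraMap R S))] (d : ℕ)
    (hd : ringKrullDim (S ⧸ (maximalIdeal R).map (algebraMap R S)) = d)
    {M : Type u} [AddCommGroup M] [Module R M] {N : Type u} [AddCommGroup N] [Module S N]
    [Module R N] [IsScalarTower R S N] {g : M →ₗ[R] N} (hg : IsBaseChange S g) :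
    (∀ i < d, GrLC.bassNumLocal S N i = 0) ∧
      ∀ i, GrLC.bassNumLocal S N (i + d) = GrLC.bassNumLocal R M i := by
  have h1 : ((maximalIdeal (S ⧸ (maximalIdeal R).map (algebraMap R S))).spanFinrank :
      WithBot ℕ∞) = ringKrullDim _ := IsRegularLocalRing.spanFinrank_maximalIdeal
  rw [hd] at h1
  have h2 : (maximalIdeal (S ⧸ (maximalIdeal R).map (algebraMap R S))).spanFinrank = d := by
    exact_mod_cast h1
  obtain ⟨a1, a2⟩ := bass_regular_fibre_aux R M d S h2
  have hc : ∀ i, GrLC.bassNumLocal S N i = GrLC.bassNumLocal S (S ⊗[R] M) i := fun i =>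
    BassBC.bassNumLocal_congr hg.equiv.symm i
  exact ⟨fun i hi => by rw [hc]; exact a1 i hi, fun i => by rw [hc]; exact a2 i⟩

end Groth.Agent.H71.BassReg
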