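import Mathlib
import Groth.Prelude.Def_CAlg
import Groth.Agent.H29.FinDimDepth
import Groth.Agent.H29.SkNoEmb

/-!
# Localizations of a module with a semilinear automorphism

Let `σ` be an automorphism of a ring `B`, `W` a `B`-module with a `σ`-semilinear additive
automorphism `E`.  For a prime `Q` of `B` and `Q₁ = σ⁻¹ Q`, the localizations `W_{Q₁}` and `W_Q`
have the same depth and the same dimension.
-/

set_option autoImplicit false
set_option linter.style.haveILetI false
set_option linter.unusedSectionVars false

universe u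

namespace Groth.Agent.H71.Twist

variable {B : Type u} [CommRing B]

/-- `B_Q`, regarded as a `B`-algebra through `σ`. -/
def TwRing (_σ : B ≃+* B) (Q : Ideal B) [Q.IsPrime] : Type u := Localization.AtPrime Q

/-- `W_Q`, regarded as a `B`-module through `σ`. -/
def TwMod (_σ : B ≃+* B) (Q : Ideal B) [Q.IsPrime] (W : Type u) [AddCommGroup W] [Module B W] :
    Type u := LocalizedModule Q.primeCompl W

section Inst

variable (σ : B ≃+* B) (Q : Ideal B) [Q.IsPrime] (W : Type u) [AddCommGroup W] [Module B W]

noncomputable instance : CommRing (TwRing σ Q) :=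
  inferInstanceAs (CommRing (Localization.AtPrime Q))

instance : IsLocalRing (TwRing σ Q) :=
  inferInstanceAs (IsLocalRing (Localization.AtPrime Q))

noncomputable instance : Algebra B (TwRing σ Q) :=
  RingHom.toAlgebra (show B →+* TwRing σ Q from
    (algebraMap B (Localization.AtPrime Q)).comp (σ : B →+* B))

theorem algebraMap_tw (b : B) :
    algebraMap B (TwRing σ Q) b = algebraMap B (Localization.AtPrime Q) (σ b) := rfl

noncomputable instance : AddCommGroup (TwMod σ Q W) :=
  inferInstanceAs (AddCommGroup (LocalizedModule Q.primeCompl W))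

noncomputable instance : Module (TwRing σ Q) (TwMod σ Q W) :=
  inferInstanceAs (Module (Localization.AtPrime Q) (LocalizedModule Q.primeCompl W))

noncomputable instance : Module B (TwMod σ Q W) :=
  Module.compHom _ (algebraMap B (TwRing σ Q))

instance : IsScalarTower B (TwRing σ Q) (TwMod σ Q W) :=
  ⟨fun b a x => by
    show (b • a) • x = algebraMap B (TwRing σ Q) b • (a • x)
    rw [Algebra.smul_def, mul_smul]⟩

instance [Module.Finite B W] : Module.Finite (TwRing σ Q) (TwMod σ Q W) :=
  inferInstanceAs (Module.Finite (Localization.AtPrime Q) (LocalizedModule Q.primeCompl W))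

theorem smul_tw (b : B) (x : TwMod σ Q W) :
    b • x = (show LocalizedModule Q.primeCompl W from
      (σ b) • (show LocalizedModule Q.primeCompl W from x)) := by
  show algebraMap B (Localization.AtPrime Q) (σ b) •
    (show LocalizedModule Q.primeCompl W from x) = _
  rw [algebraMap_smul]

instance isLocalization_tw :
    IsLocalization.AtPrime (TwRing σ Q) (Q.comap (σ : B →+* B)) := by
  refine (isLocalization_iff _ _).mpr ⟨?_, ?_, ?_⟩
  · rintro ⟨y, hy⟩
    exact IsLocalization.map_units (Localization.AtPrime Q) (⟨σ y, hy⟩ : Q.primeCompl)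
  · intro z
    obtain ⟨⟨x, y⟩, h⟩ := IsLocalization.surj Q.primeCompl (show Localization.AtPrime Q from z)
    refine ⟨(σ.symm x, ⟨σ.symm y, ?_⟩), ?_⟩
    · show σ (σ.symm y) ∉ Q
      rw [σ.apply_symm_apply]
      exact y.2
    · show (show Localization.AtPrime Q from z) *
          algebraMap B (Localization.AtPrime Q) (σ (σ.symm y)) =
        algebraMap B (Localization.AtPrime Q) (σ (σ.symm x))
      rw [σ.apply_symm_apply, σ.apply_symm_apply]
      exact h
  · intro x y h
    obtain ⟨c, hc⟩ := IsLocalization.exists_of_eq (M := Q.primeCompl)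
      (S := Localization.AtPrime Q) (x := σ x) (y := σ y) h
    refine ⟨⟨σ.symm c, ?_⟩, ?_⟩
    · show σ (σ.symm c) ∉ Q
      rw [σ.apply_symm_apply]
      exact c.2
    · apply σ.injective
      show σ (σ.symm c * x) = σ (σ.symm c * y)
      rw [map_mul, map_mul, σ.apply_symm_apply]
      exact hc

variable {W}

/-- The localization map `W → W_Q`, `w ↦ E w / 1`, which is `B`-linear for the twisted structure. -/
noncomputable def twMap (E : W ≃+ W) (hE : ∀ (b : B) (w : W), E (b • w) = σ b • E w) :
    W →ₗ[B] TwMod σ Q W where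
  toFun w := (show TwMod σ Q W from LocalizedModule.mkLinearMap Q.primeCompl W (E w))
  map_add' x y := by
    show LocalizedModule.mkLinearMap Q.primeCompl W (E (x + y)) =
      LocalizedModule.mkLinearMap Q.primeCompl W (E x) +
        LocalizedModule.mkLinearMap Q.primeCompl W (E y)
    rw [map_add, map_add]
  map_smul' b w := by
    rw [RingHom.id_apply, smul_tw]
    show LocalizedModule.mkLinearMap Q.primeCompl W (E (b • w)) =
      σ b • LocalizedModule.mkLinearMap Q.primeCompl W (E w)
    rw [hE, map_smul]

theorem twMap_apply (E : W ≃+ W) (hE : ∀ (b : B) (w : W), E (b • w) = σ b • E w) (w : W) :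
    twMap σ Q E hE w = (show TwMod σ Q W from LocalizedModule.mk (E w) 1) := rfl

instance isLocalizedModule_tw (E : W ≃+ W) (hE : ∀ (b : B) (w : W), E (b • w) = σ b • E w) :
    IsLocalizedModule (Q.comap (σ : B →+* B)).primeCompl (twMap σ Q E hE) where
  map_units := by
    rintro ⟨s, hs⟩
    have hs' : σ s ∈ Q.primeCompl := hs
    rw [Module.End.isUnit_iff]
    have hu : IsUnit (algebraMap B (Module.End B (LocalizedModule Q.primeCompl W)) (σ s)) :=
      IsLocalizedModule.map_units (LocalizedModule.mkLinearMap Q.primeCompl W) ⟨σ s, hs'⟩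
    rw [Module.End.isUnit_iff] at hu
    have heq : ∀ x : TwMod σ Q W,
        (algebraMap B (Module.End B (TwMod σ Q W)) s) x =
          (algebraMap B (Module.End B (LocalizedModule Q.primeCompl W)) (σ s))
            (show LocalizedModule Q.primeCompl W from x) := by
      intro x
      rw [Module.algebraMap_end_apply, Module.algebraMap_end_apply, smul_tw]
    constructor
    · intro x y hxy
      rw [heq, heq] at hxy
      exact hu.1 hxy
    · intro y
      obtain ⟨x, hx⟩ := hu.2 (show LocalizedModule Q.primeCompl W from y)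
      exact ⟨x, (heq x).trans hx⟩
  surj := by
    intro y
    induction y using LocalizedModule.induction_on with
    | h w t =>
      have ht : σ.symm (t : B) ∈ (Q.comap (σ : B →+* B)).primeCompl := by
        show σ (σ.symm (t : B)) ∉ Q
        rw [σ.apply_symm_apply]
        exact t.2
      refine ⟨(E.symm w, ⟨σ.symm (t : B), ht⟩), ?_⟩
      show (σ.symm (t : B)) • (show TwMod σ Q W from LocalizedModule.mk w t) = _
      rw [smul_tw, twMap_apply, AddEquiv.apply_symm_apply, σ.apply_symm_apply]
      show (t : B) • LocalizedModule.mk w t = LocalizedModule.mk w 1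
      rw [LocalizedModule.smul'_mk, ← Submonoid.smul_def, LocalizedModule.mk_cancel]
  exists_of_eq := by
    intro x₁ x₂ h
    rw [twMap_apply, twMap_apply] at h
    have h' : (LocalizedModule.mk (E x₁) 1 : LocalizedModule Q.primeCompl W) =
        LocalizedModule.mk (E x₂) 1 := h
    rw [LocalizedModule.mk_eq] at h'
    obtain ⟨c, hc⟩ := h'
    rw [one_smul, one_smul] at hc
    have hcm : σ.symm (c : B) ∈ (Q.comap (σ : B →+* B)).primeCompl := by
      show σ (σ.symm (c : B)) ∉ Q
      rw [σ.apply_symm_apply]
      exact c.2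
    refine ⟨⟨σ.symm (c : B), hcm⟩, ?_⟩
    apply E.injective
    show E (σ.symm (c : B) • x₁) = E (σ.symm (c : B) • x₂)
    rw [hE, hE, σ.apply_symm_apply]
    exact hc

end Inst

section Main

variable (σ : B ≃+* B) (Q : Ideal B) [Q.IsPrime] (Q₁ : Ideal B) [Q₁.IsPrime]
  (hQ₁ : Q₁ = Q.comap (σ : B →+* B))
  {W : Type u} [AddCommGroup W] [Module B W] [Module.Finite B W]
  (E : W ≃+ W) (hE : ∀ (b : B) (w : W), E (b • w) = σ b • E w)

include hQ₁ hE in
/-- The depth of `W_{σ⁻¹ Q}` equals the depth of `W_Q`. -/
theorem depth_twist :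
    LocCoh.depth (Localization.AtPrime Q₁) (LocalizedModule Q₁.primeCompl W) =
      LocCoh.depth (Localization.AtPrime Q) (LocalizedModule Q.primeCompl W) := by
  subst hQ₁
  have h := Groth.Agent.H29.FinDimDepth.depth_eq_of_isLocalizedModule
    (Q.comap (σ : B →+* B)) (TwRing σ Q) (TwMod σ Q W) (twMap σ Q E hE)
  rw [← h]
  rfl

include hQ₁ hE in
/-- The dimension of `W_{σ⁻¹ Q}` equals the dimension of `W_Q`. -/
theorem supportDim_twist :
    Module.supportDim (Localization.AtPrime Q₁) (LocalizedModule Q₁.primeCompl W) =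
      Module.supportDim (Localization.AtPrime Q) (LocalizedModule Q.primeCompl W) := by
  subst hQ₁
  have h := Groth.Agent.H29.SkNoEmb.supportDim_eq_of_isLocalizedModule
    (Q.comap (σ : B →+* B)) (TwRing σ Q) (TwMod σ Q W) (twMap σ Q E hE)
  rw [← h]
  rfl

end Main

end Groth.Agent.H71.Twist
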