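import Mathlib
import Groth.Prelude.Def_GrLC2
import Groth.Prelude.Def_EGA4b
import Groth.Agent.H71.BassBC
import Groth.Agent.H71.BassReg
import Groth.Agent.H71.Twist

/-!
# Bass numbers: invariance under ring isomorphisms, localization models, twists, and flat maps
(helper71)
-/

set_option autoImplicit false
set_option linter.style.haveILetI false
set_option linter.unusedSectionVars false

universe u

open IsLocalRing TensorProduct

namespace Groth.Agent.H71.BassLoc

open Groth.Agent.H71

/-- Bass numbers are invariant under a ring isomorphism and a compatible semilinear isomorphism. -/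
theorem bassNumLocal_of_ringEquiv {A₁ A₂ : Type u} [CommRing A₁] [CommRing A₂] [IsLocalRing A₁]
    [IsLocalRing A₂] [IsNoetherianRing A₁] (e : A₁ ≃+* A₂) {M₁ M₂ : Type u} [AddCommGroup M₁]
    [Module A₁ M₁] [AddCommGroup M₂] [Module A₂ M₂] (ψ : M₁ ≃+ M₂)
    (hψ : ∀ (a : A₁) (m : M₁), ψ (a • m) = e a • ψ m) (i : ℕ) :
    GrLC.bassNumLocal A₂ M₂ i = GrLC.bassNumLocal A₁ M₁ i := by
  letI : Algebra A₁ A₂ := e.toRingHom.toAlgebra
  have halg : ∀ a, algebraMap A₁ A₂ a = e a := fun a => rfl
  letI : Module A₁ M₂ := Module.compHom M₂ (algebraMap A₁ A₂)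
  have hsm : ∀ (a : A₁) (m : M₂), a • m = e a • m := fun a m => rfl
  haveI : IsScalarTower A₁ A₂ M₂ := ⟨fun a b m => by
    rw [hsm, Algebra.smul_def, mul_smul, halg]⟩
  haveI : IsLocalHom (algebraMap A₁ A₂) := by
    show IsLocalHom e.toRingHom
    exact ⟨fun a ha => by
      have := ha.map e.symm
      simpa using this⟩
  haveI : Module.Flat A₁ A₂ := by
    let e' : A₂ ≃ₗ[A₁] A₁ :=
      { e.symm with
        map_smul' := fun a b => by
          show e.symm (a • b) = a • e.symm b
          rw [Algebra.smul_def, halg, map_mul, e.symm_apply_apply, smul_eq_mul] }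
    exact Module.Flat.of_linearEquiv e'
  have hm : (maximalIdeal A₁).map (algebraMap A₁ A₂) = maximalIdeal A₂ :=
    IsLocalRing.map_ringEquiv_maximalIdeal e
  let g : M₁ →ₗ[A₁] M₂ :=
    { toFun := ψ
      map_add' := ψ.map_add
      map_smul' := fun a m => by rw [RingHom.id_apply, hsm]; exact hψ a m }
  have hsymm : ∀ (b : A₂) (m : M₂), ψ.symm (b • m) = e.symm b • ψ.symm m := by
    intro b m
    apply ψ.injective
    rw [hψ, ψ.apply_symm_apply, ψ.apply_symm_apply, e.apply_symm_apply]
  have hg : IsBaseChange A₂ g := by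
    apply IsBaseChange.of_lift_unique
    intro Q _ _ _ _ g'
    refine ⟨{ toFun := fun m => g' (ψ.symm m)
              map_add' := fun a b => by rw [map_add, map_add]
              map_smul' := fun b m => ?_ }, ?_, ?_⟩
    · rw [RingHom.id_apply, hsymm, map_smul, ← algebraMap_smul A₂ (e.symm b) (g' (ψ.symm m)),
        halg, e.apply_symm_apply]
    · apply LinearMap.ext
      intro m
      show g' (ψ.symm (ψ m)) = g' m
      rw [ψ.symm_apply_apply]
    · intro g'' hg''
      apply LinearMap.ext
      intro m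
      show g'' m = g' (ψ.symm m)
      rw [← hg'']
      show g'' m = g'' (ψ (ψ.symm m))
      rw [ψ.apply_symm_apply]
  exact BassBC.bassNumLocal_of_isBaseChange A₁ A₂ hm hg i

/-- Bass numbers can be computed in any model of the localization. -/
theorem bassNumLocal_eq_bassNum {B : Type u} [CommRing B] [IsNoetherianRing B] (p : Ideal B)
    [p.IsPrime] (A' : Type u) [CommRing A'] [IsLocalRing A'] [Algebra B A']
    [IsLocalization.AtPrime A' p] {W : Type u} [AddCommGroup W] [Module B W]
    (M' : Type u) [AddCommGroup M'] [Module B M'] [Module A' M'] [IsScalarTower B A' M']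
    (f : W →ₗ[B] M') [IsLocalizedModule p.primeCompl f] (i : ℕ) :
    GrLC.bassNumLocal A' M' i = GrLC.bassNum p W i := by
  let e : Localization.AtPrime p ≃ₐ[B] A' := IsLocalization.algEquiv p.primeCompl _ _
  let ψ : LocalizedModule p.primeCompl W ≃ₗ[B] M' := IsLocalizedModule.iso p.primeCompl f
  refine bassNumLocal_of_ringEquiv e.toRingEquiv ψ.toAddEquiv ?_ i
  intro a m
  show ψ (a • m) = e a • ψ m
  obtain ⟨b, s, rfl⟩ := IsLocalization.exists_mk'_eq p.primeCompl a
  apply IsLocalizedModule.smul_injective f s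
  show s • ψ (IsLocalization.mk' _ b s • m) = s • (e (IsLocalization.mk' _ b s) • ψ m)
  have h1 : s • (IsLocalization.mk' (Localization.AtPrime p) b s • m) = b • m := by
    rw [Submonoid.smul_def, ← algebraMap_smul (Localization.AtPrime p) (s : B), ← mul_smul,
      IsLocalization.mk'_spec', algebraMap_smul]
  have h2 : s • (e (IsLocalization.mk' (Localization.AtPrime p) b s) • ψ m) = b • ψ m := by
    rw [Submonoid.smul_def, ← algebraMap_smul A' (s : B), ← mul_smul, ← e.commutes, ← map_mul,
      IsLocalization.mk'_spec', e.commutes, algebraMap_smul]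
  rw [h2, Submonoid.smul_def, ← map_smul, ← Submonoid.smul_def, h1, map_smul]

/-- Bass numbers and semilinear automorphisms. -/
theorem bassNum_twist {B : Type u} [CommRing B] [IsNoetherianRing B] (σ : B ≃+* B)
    (Q : Ideal B) [Q.IsPrime] (Q₁ : Ideal B) [Q₁.IsPrime]
    (hQ₁ : Q₁ = Q.comap (σ : B →+* B))
    {W : Type u} [AddCommGroup W] [Module B W]
    (E : W ≃+ W) (hE : ∀ (b : B) (w : W), E (b • w) = σ b • E w) (i : ℕ) :
    GrLC.bassNum Q₁ W i = GrLC.bassNum Q W i := by
  subst hQ₁
  have h := bassNumLocal_eq_bassNum (Q.comap (σ : B →+* B)) (Twist.TwRing σ Q)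
    (Twist.TwMod σ Q W) (Twist.twMap σ Q E hE) i
  rw [← h]
  rfl

end Groth.Agent.H71.BassLoc
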