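import Mathlib
import Groth.Prelude.Def_CAlg
import Groth.Prelude.Def_EGA4b
import Groth.Agent.H29.FlatDepthMod
import Groth.Agent.H29.FlatCM
import Groth.Agent.H29.CM
import Groth.Agent.S5770

/-!
# Depth and dimension of `(B ⊗[A] M)_q` for a flat homomorphism `A → B`

For a flat homomorphism `A → B` of Noetherian rings, a finite `A`-module `M`, a prime `q` of `B`
over `p`:  `depth (B ⊗ M)_q = depth M_p + depth (B_q / p B_q)` and the same for dimensions.
-/

set_option autoImplicit false
set_option linter.style.haveILetI false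
set_option linter.unusedSectionVars false
set_option maxHeartbeats 400000

universe u

open IsLocalRing TensorProduct

namespace Groth.Agent.H71.FlatModLoc

section Support

/-- For a finite module `M` over `A` and a field `K` over `A` with kernel `q`:
`K ⊗ M ≠ 0` iff `q ∈ Supp M`. -/
theorem nontrivial_tensor_field_iff {A : Type*} [CommRing A] (M : Type*) [AddCommGroup M]
    [Module A M] [Module.Finite A M] (K : Type*) [Field K] [Algebra A K] (q : PrimeSpectrum A)
    (hq : q.asIdeal = RingHom.ker (algebraMap A K)) :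
    Nontrivial (K ⊗[A] M) ↔ q ∈ Module.support A M := by
  rw [Module.mem_support_iff_nontrivial_residueField_tensorProduct]
  let φ : q.asIdeal.ResidueField →+* K :=
    Ideal.ResidueField.lift q.asIdeal (algebraMap A K) (by rw [hq]) (by
      intro x hx
      simp only [Submonoid.mem_comap, IsUnit.mem_submonoid_iff, isUnit_iff_ne_zero]
      intro h
      exact hx (by rw [hq]; exact h))
  letI : Algebra q.asIdeal.ResidueField K := φ.toAlgebra
  haveI : IsScalarTower A q.asIdeal.ResidueField K := .of_algebraMap_eq fun x =>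
    (Ideal.ResidueField.lift_algebraMap _ _ _ _ x).symm
  let e : K ⊗[q.asIdeal.ResidueField] (q.asIdeal.ResidueField ⊗[A] M) ≃ₗ[K] K ⊗[A] M :=
    AlgebraTensorModule.cancelBaseChange A q.asIdeal.ResidueField K K M
  rw [← e.nontrivial_congr]
  exact Module.FaithfullyFlat.nontrivial_tensorProduct_iff_right _ _

/-- The support of a base change is the preimage of the support. -/
theorem mem_support_baseChange_iff {A B : Type*} [CommRing A] [CommRing B] [Algebra A B]
    (M : Type*) [AddCommGroup M] [Module A M] [Module.Finite A M] (q' : PrimeSpectrum B) :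
    q' ∈ Module.support B (B ⊗[A] M) ↔
      PrimeSpectrum.comap (algebraMap A B) q' ∈ Module.support A M := by
  rw [Module.mem_support_iff_nontrivial_residueField_tensorProduct]
  let e : q'.asIdeal.ResidueField ⊗[B] (B ⊗[A] M) ≃ₗ[q'.asIdeal.ResidueField]
      q'.asIdeal.ResidueField ⊗[A] M :=
    AlgebraTensorModule.cancelBaseChange A B q'.asIdeal.ResidueField q'.asIdeal.ResidueField M
  rw [e.nontrivial_congr]
  refine nontrivial_tensor_field_iff M q'.asIdeal.ResidueField _ ?_
  ext x
  simp only [PrimeSpectrum.comap_asIdeal, Ideal.mem_comap, RingHom.mem_ker]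
  rw [IsScalarTower.algebraMap_apply A B q'.asIdeal.ResidueField,
    Ideal.algebraMap_residueField_eq_zero]

end Support

section Local

variable {R S : Type u} [CommRing R] [CommRing S] [IsLocalRing R] [IsLocalRing S]
  [IsNoetherianRing R] [IsNoetherianRing S] [Algebra R S] [IsLocalHom (algebraMap R S)]
  (M : Type u) [AddCommGroup M] [Module R M] [Module.Finite R M]

/-- The comparison map on supports. -/
noncomputable def comapSupp :
    ↥(Module.support S (S ⊗[R] M)) → ↥(Module.support R M) :=
  fun y => ⟨PrimeSpectrum.comap (algebraMap R S) y.1, (mem_support_baseChange_iff M y.1).mp y.2⟩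

/-- Going down: heights in the support of `S ⊗ M` dominate heights in the support of `M`. -/
theorem le_height_of_le_height_comap [Module.Flat R S] :
    ∀ (n : ℕ) (y : ↥(Module.support S (S ⊗[R] M))),
      (n : ℕ∞) ≤ Order.height (comapSupp M y) → (n : ℕ∞) ≤ Order.height y := by
  intro n
  induction n with
  | zero => intro y _; simp
  | succ n ih =>
    intro y hy
    have hnot : ¬ Order.height (comapSupp M y) ≤ (n : ℕ∞) := by
      intro hle
      have := hy.trans hle
      have h2 : ((n + 1 : ℕ) : ℕ∞) ≤ (n : ℕ∞) := this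
      rw [Nat.cast_le] at h2
      omega
    rw [Order.height_le_coe_iff] at hnot
    push Not at hnot
    obtain ⟨x', hx'lt, hx'⟩ := hnot
    haveI : y.1.asIdeal.LiesOver (comapSupp M y).1.asIdeal := ⟨rfl⟩
    have hlt : x'.1.asIdeal < (comapSupp M y).1.asIdeal := hx'lt
    obtain ⟨Q, hQlt, hQp, hQlo⟩ := Ideal.exists_ideal_lt_liesOver_of_lt (S := S)
      (p := x'.1.asIdeal) (q := (comapSupp M y).1.asIdeal) y.1.asIdeal hlt
    have hcomap : PrimeSpectrum.comap (algebraMap R S) ⟨Q, hQp⟩ = x'.1 :=
      PrimeSpectrum.ext hQlo.over.symm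
    have hQmem : (⟨Q, hQp⟩ : PrimeSpectrum S) ∈ Module.support S (S ⊗[R] M) := by
      rw [mem_support_baseChange_iff, hcomap]
      exact x'.2
    let y' : ↥(Module.support S (S ⊗[R] M)) := ⟨⟨Q, hQp⟩, hQmem⟩
    have hy'x' : comapSupp M y' = x' := Subtype.ext hcomap
    have h1 : (n : ℕ∞) ≤ Order.height y' := ih y' (by rw [hy'x']; exact hx')
    have hy'y : y' < y := hQlt
    have h2 := Order.height_add_one_le hy'y
    calc ((n + 1 : ℕ) : ℕ∞) = (n : ℕ∞) + 1 := by push_cast; rfl
      _ ≤ Order.height y' + 1 := by gcongr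
      _ ≤ Order.height y := h2

theorem smul_top_eq : (EGA4.mB R S • (⊤ : Submodule S S)) = EGA4.mB R S := by simp

/-- `dim (S ⊗ M) = dim M + dim S/m_R S` for a flat local homomorphism. -/
theorem supportDim_tensor_eq [Module.Flat R S] :
    Module.supportDim S (S ⊗[R] M) = Module.supportDim R M + ringKrullDim (EGA4.FibRing R S) := by
  apply le_antisymm
  · have h1 := Groth.Agent.S5770.result R S M S
    have h2 : Module.supportDim S (S ⧸ ((maximalIdeal R).map (algebraMap R S) •
        (⊤ : Submodule S S))) = ringKrullDim (EGA4.FibRing R S) := by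
      rw [← Module.supportDim_quotient_eq_ringKrullDim]
      exact Module.supportDim_eq_of_equiv (Submodule.quotEquivOfEq _ _ (smul_top_eq (R := R)))
    rwa [h2] at h1
  · by_cases hM : Subsingleton M
    · haveI := hM
      rw [Module.supportDim_eq_bot_of_subsingleton, WithBot.bot_add]
      exact bot_le
    rw [not_subsingleton_iff_nontrivial] at hM
    haveI := hM
    -- numerical values
    have hX1 : Module.supportDim R M ≠ ⊥ := Module.supportDim_ne_bot_of_nontrivial R M
    have hX2 : Module.supportDim R M < ⊤ :=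
      lt_of_le_of_lt (Module.supportDim_le_ringKrullDim R M) ringKrullDim_lt_top
    obtain ⟨n, hn⟩ : ∃ n : ℕ, Module.supportDim R M = n := by
      obtain ⟨a, ha⟩ := WithBot.ne_bot_iff_exists.mp hX1
      rw [← ha] at hX2 ⊢
      have : a ≠ ⊤ := fun h => by rw [h] at hX2; exact lt_irrefl _ hX2
      obtain ⟨m, rfl⟩ := ENat.ne_top_iff_exists.mp this
      exact ⟨m, rfl⟩
    have hF1 : ringKrullDim (EGA4.FibRing R S) ≠ ⊥ := ringKrullDim_ne_bot
    have hF2 : ringKrullDim (EGA4.FibRing R S) < ⊤ := ringKrullDim_lt_top
    obtain ⟨k, hk⟩ : ∃ k : ℕ, ringKrullDim (EGA4.FibRing R S) = k := by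
      obtain ⟨a, ha⟩ := WithBot.ne_bot_iff_exists.mp hF1
      rw [← ha] at hF2 ⊢
      have : a ≠ ⊤ := fun h => by rw [h] at hF2; exact lt_irrefl _ hF2
      obtain ⟨m, rfl⟩ := ENat.ne_top_iff_exists.mp this
      exact ⟨m, rfl⟩
    rw [hn, hk]
    -- a chain in the fibre
    obtain ⟨l', hl'⟩ := Order.le_krullDim_iff.mp (le_of_eq hk.symm)
    have hclosed : IsLocalRing.closedPoint R ∈ Module.support R M :=
      IsLocalRing.closedPoint_mem_support R M
    have hmemY : ∀ z : PrimeSpectrum (EGA4.FibRing R S),
        PrimeSpectrum.comap (algebraMap R S)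
          (PrimeSpectrum.comap (Ideal.Quotient.mk (EGA4.mB R S)) z) =
          IsLocalRing.closedPoint R := by
      intro z
      apply PrimeSpectrum.ext
      show ((z.asIdeal.comap (Ideal.Quotient.mk (EGA4.mB R S))).comap (algebraMap R S)) =
        maximalIdeal R
      apply (IsLocalRing.maximalIdeal.isMaximal R).eq_of_le ?_ ?_ |>.symm
      · exact Ideal.IsPrime.ne_top inferInstance
      · intro r hr
        rw [Ideal.mem_comap, Ideal.mem_comap]
        have : Ideal.Quotient.mk (EGA4.mB R S) (algebraMap R S r) = 0 :=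
          Ideal.Quotient.eq_zero_iff_mem.mpr (Ideal.mem_map_of_mem _ hr)
        rw [this]
        exact z.asIdeal.zero_mem
    let g : PrimeSpectrum (EGA4.FibRing R S) → ↥(Module.support S (S ⊗[R] M)) := fun z =>
      ⟨PrimeSpectrum.comap (Ideal.Quotient.mk (EGA4.mB R S)) z, by
        rw [mem_support_baseChange_iff, hmemY]
        exact hclosed⟩
    have hg : StrictMono g := by
      intro z z' hlt
      have hlt' : z.asIdeal < z'.asIdeal := hlt
      show z.asIdeal.comap (Ideal.Quotient.mk (EGA4.mB R S)) <
        z'.asIdeal.comap (Ideal.Quotient.mk (EGA4.mB R S))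
      refine lt_of_le_of_ne (Ideal.comap_mono hlt'.le) fun heq => hlt'.ne ?_
      exact Ideal.comap_injective_of_surjective _ Ideal.Quotient.mk_surjective heq
    let y := g l'.head
    have hco : (k : ℕ∞) ≤ Order.coheight y := by
      calc (k : ℕ∞) = l'.length := by rw [hl']
        _ ≤ Order.coheight l'.head := Order.length_le_coheight_head
        _ ≤ Order.coheight y := Order.coheight_le_coheight_apply_of_strictMono g hg _
    -- the height of the closed point
    have hcy : comapSupp M y = ⟨IsLocalRing.closedPoint R, hclosed⟩ := Subtype.ext (hmemY _)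
    haveI : Nonempty ↥(Module.support R M) := ⟨⟨_, hclosed⟩⟩
    have hht : (n : ℕ∞) ≤ Order.height (comapSupp M y) := by
      rw [hcy]
      have h1 : Module.supportDim R M =
          ((⨆ a : ↥(Module.support R M), Order.height a : ℕ∞) : WithBot ℕ∞) :=
        Order.krullDim_eq_iSup_height_of_nonempty
      rw [hn] at h1
      have h2 : (n : ℕ∞) = ⨆ a : ↥(Module.support R M), Order.height a := by
        exact_mod_cast h1
      rw [h2]
      apply iSup_le
      intro a
      apply Order.height_mono
      show a.1.asIdeal ≤ maximalIdeal R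
      exact IsLocalRing.le_maximalIdeal (Ideal.IsPrime.ne_top inferInstance)
    have hh := le_height_of_le_height_comap M n y hht
    haveI : Nonempty ↥(Module.support S (S ⊗[R] M)) := ⟨y⟩
    have h3 : Module.supportDim S (S ⊗[R] M) =
        ((⨆ a : ↥(Module.support S (S ⊗[R] M)), Order.height a + Order.coheight a : ℕ∞) :
          WithBot ℕ∞) :=
      Order.krullDim_eq_iSup_height_add_coheight_of_nonempty
    rw [h3]
    have h4 : (n : ℕ∞) + (k : ℕ∞) ≤
        ⨆ a : ↥(Module.support S (S ⊗[R] M)), Order.height a + Order.coheight a :=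
      le_trans (add_le_add hh hco) (le_iSup (fun a : ↥(Module.support S (S ⊗[R] M)) =>
        Order.height a + Order.coheight a) y)
    exact_mod_cast h4

end Local

section AtPrime

variable (A B : Type u) [CommRing A] [CommRing B] [Algebra A B] [IsNoetherianRing A]
  [IsNoetherianRing B] [Module.Flat A B]
  (M : Type u) [AddCommGroup M] [Module A M] [Module.Finite A M]

open Groth.Agent.H15.Depth Groth.Agent.H15.DepthSpread in
/-- Depth and dimension of `(B ⊗ M)_q` for a flat map `A → B` and a prime `q` of `B`. -/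
theorem flat_mod_data (q : Ideal B) [q.IsPrime] [IsLocalRing (EGA4.FibLocRing A B q)] :
    LocCoh.depth (Localization.AtPrime q) (LocalizedModule q.primeCompl (B ⊗[A] M)) =
      LocCoh.depth (Localization.AtPrime (q.comap (algebraMap A B)))
          (LocalizedModule (q.comap (algebraMap A B)).primeCompl M) +
        LocCoh.depth (EGA4.FibLocRing A B q) (EGA4.FibLocRing A B q) ∧
    Module.supportDim (Localization.AtPrime q) (LocalizedModule q.primeCompl (B ⊗[A] M)) =
      Module.supportDim (Localization.AtPrime (q.comap (algebraMap A B)))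
          (LocalizedModule (q.comap (algebraMap A B)).primeCompl M) +
        ringKrullDim (EGA4.FibLocRing A B q) := by
  haveI hlo : q.LiesOver (q.comap (algebraMap A B)) := ⟨rfl⟩
  letI alg := Localization.AtPrime.algebraOfLiesOver (q.comap (algebraMap A B)) q
  haveI : IsLocalHom (algebraMap (Localization.AtPrime (q.comap (algebraMap A B)))
      (Localization.AtPrime q)) := Localization.isLocalHom_localRingHom _ _ _ _
  have hI : EGA4.mB (Localization.AtPrime (q.comap (algebraMap A B))) (Localization.AtPrime q) =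
      (q.comap (algebraMap A B)).map (algebraMap A (Localization.AtPrime q)) := by
    show (maximalIdeal (Localization.AtPrime (q.comap (algebraMap A B)))).map
      (algebraMap _ (Localization.AtPrime q)) = _
    rw [← Localization.AtPrime.map_eq_maximalIdeal, Ideal.map_map,
      ← IsScalarTower.algebraMap_eq A (Localization.AtPrime (q.comap (algebraMap A B)))
        (Localization.AtPrime q)]
  let e : EGA4.FibRing (Localization.AtPrime (q.comap (algebraMap A B))) (Localization.AtPrime q)
      ≃+* EGA4.FibLocRing A B q := Ideal.quotEquivOfEq hI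
  -- notation
  let p := q.comap (algebraMap A B)
  let Ap := Localization.AtPrime p
  let Bq := Localization.AtPrime q
  let Mp := LocalizedModule p.primeCompl M
  let T := B ⊗[A] M
  let Tq := LocalizedModule q.primeCompl T
  -- the two base changes
  let f₁ : M →ₗ[A] Mp := LocalizedModule.mkLinearMap p.primeCompl M
  have h₁ : IsBaseChange Ap f₁ := IsLocalizedModule.isBaseChange p.primeCompl Ap f₁
  let f₂ : Mp →ₗ[Ap] Bq ⊗[Ap] Mp := TensorProduct.mk Ap Bq Mp 1
  have h₂ : IsBaseChange Bq f₂ := TensorProduct.isBaseChange Ap Mp Bq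
  have h₁₂ : IsBaseChange Bq ((f₂.restrictScalars A).comp f₁) := h₁.comp h₂
  let g₁ : M →ₗ[A] T := TensorProduct.mk A B M 1
  have k₁ : IsBaseChange B g₁ := TensorProduct.isBaseChange A M B
  let g₂ : T →ₗ[B] Tq := LocalizedModule.mkLinearMap q.primeCompl T
  have k₂ : IsBaseChange Bq g₂ := IsLocalizedModule.isBaseChange q.primeCompl Bq g₂
  have k₁₂ : IsBaseChange Bq ((g₂.restrictScalars A).comp g₁) := k₁.comp k₂
  let E : Bq ⊗[Ap] Mp ≃ₗ[Bq] Tq := h₁₂.equiv.symm.trans k₁₂.equiv
  refine ⟨?_, ?_⟩
  · have h6 := Groth.Agent.H29.FlatDepthMod.depth_tensor (R := Ap) (S := Bq) Mp Bq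
    have h7 : LocCoh.depth Bq Tq = LocCoh.depth Bq (Bq ⊗[Ap] Mp) :=
      (idealDepth_congr (I := maximalIdeal Bq) E).symm
    have h8 : LocCoh.depth Bq (EGA4.FibMod Ap Bq Bq) = LocCoh.depth Bq (EGA4.FibRing Ap Bq) :=
      idealDepth_congr (I := maximalIdeal Bq) (Submodule.quotEquivOfEq _ _ (smul_top_eq (R := Ap)))
    have hsurj : Function.Surjective (algebraMap Bq (EGA4.FibRing Ap Bq)) :=
      Ideal.Quotient.mk_surjective
    have h9 := Groth.Agent.H29.FlatCM.depth_eq_of_surjective hsurj (EGA4.FibRing Ap Bq)
    have h10 := Groth.Agent.H29.FlatCM.depth_ringEquiv e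
    show LocCoh.depth Bq Tq = LocCoh.depth Ap Mp + _
    rw [h7, h6, h8, ← h9, h10]
  · have h6 := supportDim_tensor_eq (R := Ap) (S := Bq) Mp
    have h7 : Module.supportDim Bq Tq = Module.supportDim Bq (Bq ⊗[Ap] Mp) :=
      (Module.supportDim_eq_of_equiv E).symm
    show Module.supportDim Bq Tq = Module.supportDim Ap Mp + _
    rw [h7, h6, ringKrullDim_eq_of_ringEquiv e]

end AtPrime

end Groth.Agent.H71.FlatModLoc
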