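import Mathlib

/-!
# The coaction `R → R[ι]` of a `ι`-graded ring and the associated automorphism of `R[ι]`

For a `ι`-graded commutative ring `R` (`ι` an abelian group) the map `r ↦ ∑ r_g T^g` is a ring
homomorphism `φ : R → R[ι]`; it extends to an automorphism `σ` of `R[ι]` with
`σ (r T^h) = φ r * T^h`.  For a prime `p` of `R`, the extension `p R[ι]` is prime (when `ι` is
torsion free), `φ⁻¹ (p R[ι])` is the homogeneous core `p*` of `p`.
-/

set_option autoImplicit false
set_option linter.style.haveILetI false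

universe u

open DirectSum

namespace Groth.Agent.H71.GrCoact

section Group

/-- A free abelian group has unique sums. -/
theorem uniqueSums_of_free (ι : Type) [AddCommGroup ι] [Module.Free ℤ ι] : UniqueSums ι :=
  UniqueSums.of_injective_addHom
    ((Module.Free.chooseBasis ℤ ι).repr.toAddEquiv : ι ≃+ _).toAddMonoidHom.toAddHom
    (Module.Free.chooseBasis ℤ ι).repr.injective inferInstance

theorem isNoetherianRing_addMonoidAlgebra (ι : Type) [AddCommGroup ι] [Module.Finite ℤ ι]
    (R : Type u) [CommRing R] [IsNoetherianRing R] : IsNoetherianRing (AddMonoidAlgebra R ι) := by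
  haveI : AddGroup.FG ι := Module.Finite.iff_addGroup_fg.mp inferInstance
  haveI : AddMonoid.FG ι := AddGroup.fg_iff_addMonoid_fg.mp inferInstance
  haveI : Algebra.FiniteType R (AddMonoidAlgebra R ι) := AddMonoidAlgebra.finiteType_of_fg R ι
  exact Algebra.FiniteType.isNoetherianRing R (AddMonoidAlgebra R ι)

end Group

section Coact

variable {ι : Type} [AddCommGroup ι] [DecidableEq ι] {R : Type u} [CommRing R]
  (𝒜 : ι → AddSubgroup R) [GradedRing 𝒜]

/-- The twisted coaction on the direct sum. -/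
noncomputable def coactDS (ε : ι →+ ι) : (⨁ g, 𝒜 g) →+* AddMonoidAlgebra R ι :=
  DirectSum.toSemiring
    (fun g => (AddMonoidAlgebra.singleAddHom (ε g)).comp (𝒜 g).subtype)
    (by
      simp only [AddMonoidHom.comp_apply, AddSubgroup.subtype_apply, SetLike.coe_gOne, map_zero]
      rfl)
    (by
      intro i j ai aj
      simp only [AddMonoidHom.comp_apply, AddSubgroup.subtype_apply, SetLike.coe_gMul, map_add]
      exact (AddMonoidAlgebra.single_mul_single _ _ _ _).symm)

theorem coactDS_of (ε : ι →+ ι) (g : ι) (x : 𝒜 g) :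
    coactDS 𝒜 ε (DirectSum.of (fun i => 𝒜 i) g x) = AddMonoidAlgebra.single (ε g) (x : R) := by
  rw [coactDS, DirectSum.toSemiring_of]
  rfl

/-- The twisted coaction `r ↦ ∑ r_g T^{ε g}`. -/
noncomputable def coact (ε : ι →+ ι) : R →+* AddMonoidAlgebra R ι :=
  (coactDS 𝒜 ε).comp (DirectSum.decomposeRingEquiv 𝒜).toRingHom

theorem coact_of_mem (ε : ι →+ ι) {g : ι} {r : R} (hr : r ∈ 𝒜 g) :
    coact 𝒜 ε r = AddMonoidAlgebra.single (ε g) r := by
  show coactDS 𝒜 ε (DirectSum.decompose 𝒜 r) = _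
  rw [DirectSum.decompose_of_mem 𝒜 hr, coactDS_of]

theorem coact_coe (ε : ι →+ ι) {g : ι} (r : 𝒜 g) :
    coact 𝒜 ε (r : R) = AddMonoidAlgebra.single (ε g) (r : R) :=
  coact_of_mem 𝒜 ε r.2

/-- The coefficients of `φ r` are the homogeneous components of `r`. -/
theorem coeff_coact_id (r : R) (g : ι) :
    (coact 𝒜 (AddMonoidHom.id ι) r).coeff g = (DirectSum.decompose 𝒜 r g : R) := by
  induction r using DirectSum.Decomposition.inductionOn 𝒜 with
  | zero => simp
  | homogeneous m =>
    rename_i i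
    rw [coact_coe, AddMonoidAlgebra.coeff_single, AddMonoidHom.id_apply]
    by_cases h : i = g
    · subst h
      rw [Finsupp.single_eq_same, DirectSum.decompose_coe, DirectSum.of_eq_same]
    · rw [Finsupp.single_eq_of_ne (Ne.symm h), DirectSum.decompose_coe,
        DirectSum.of_eq_of_ne _ _ _ (Ne.symm h)]
      rfl
  | add m m' hm hm' =>
    rw [map_add, AddMonoidAlgebra.coeff_add, Finsupp.add_apply, hm, hm', DirectSum.decompose_add,
      DirectSum.add_apply, AddSubgroup.coe_add]

/-- The twisted endomorphism `σ_ε (r T^h) = φ_ε r * T^h` of `R[ι]`. -/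
noncomputable def sigmaHom (ε : ι →+ ι) : AddMonoidAlgebra R ι →+* AddMonoidAlgebra R ι :=
  AddMonoidAlgebra.liftNCRingHom (coact 𝒜 ε) (AddMonoidAlgebra.of R ι)
    (fun _ _ => Commute.all _ _)

theorem sigmaHom_single (ε : ι →+ ι) (h : ι) (r : R) :
    sigmaHom 𝒜 ε (AddMonoidAlgebra.single h r) =
      coact 𝒜 ε r * AddMonoidAlgebra.single h 1 := by
  rw [sigmaHom, AddMonoidAlgebra.liftNCRingHom_single, AddMonoidAlgebra.of_apply]
  rfl

theorem sigmaHom_single_zero (ε : ι →+ ι) (r : R) :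
    sigmaHom 𝒜 ε (AddMonoidAlgebra.single 0 r) = coact 𝒜 ε r := by
  rw [sigmaHom_single, ← AddMonoidAlgebra.one_def, mul_one]

theorem sigmaHom_comp (ε ε' : ι →+ ι) (hε : ∀ i, ε i + ε' i = 0) :
    (sigmaHom 𝒜 ε).comp (sigmaHom 𝒜 ε') = RingHom.id _ := by
  apply AddMonoidAlgebra.ringHom_ext
  · intro r
    rw [RingHom.comp_apply, sigmaHom_single_zero, RingHom.id_apply]
    induction r using DirectSum.Decomposition.inductionOn 𝒜 with
    | zero => simp
    | homogeneous m =>
      rename_i i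
      rw [coact_coe, sigmaHom_single, coact_coe, AddMonoidAlgebra.single_mul_single, hε, mul_one]
    | add m m' hm hm' =>
      rw [map_add, map_add, hm, hm', AddMonoidAlgebra.single_add]
  · intro m
    rw [RingHom.comp_apply, sigmaHom_single, map_one, one_mul, sigmaHom_single, map_one, one_mul,
      RingHom.id_apply]

/-- The automorphism `σ` of `R[ι]` with `σ (r T^h) = φ r * T^h`. -/
noncomputable def sigma : AddMonoidAlgebra R ι ≃+* AddMonoidAlgebra R ι :=
  RingEquiv.ofRingHom (sigmaHom 𝒜 (AddMonoidHom.id ι)) (sigmaHom 𝒜 (-AddMonoidHom.id ι))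
    (sigmaHom_comp 𝒜 _ _ (fun i => by simp))
    (sigmaHom_comp 𝒜 _ _ (fun i => by simp))

theorem sigma_apply (x : AddMonoidAlgebra R ι) :
    sigma 𝒜 x = sigmaHom 𝒜 (AddMonoidHom.id ι) x := rfl

theorem sigma_symm_apply (x : AddMonoidAlgebra R ι) :
    (sigma 𝒜).symm x = sigmaHom 𝒜 (-AddMonoidHom.id ι) x := rfl

theorem sigma_algebraMap (r : R) :
    sigma 𝒜 (algebraMap R (AddMonoidAlgebra R ι) r) = coact 𝒜 (AddMonoidHom.id ι) r := by
  rw [sigma_apply]
  exact sigmaHom_single_zero 𝒜 _ r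

end Coact

section Ext

variable {ι : Type} [AddCommGroup ι] [DecidableEq ι] {R : Type u} [CommRing R]

/-- The ideal of `R[ι]` of elements with all coefficients in `I`. -/
noncomputable def ext (ι : Type) [AddCommGroup ι] (I : Ideal R) : Ideal (AddMonoidAlgebra R ι) :=
  RingHom.ker (AddMonoidAlgebra.mapRingHom ι (Ideal.Quotient.mk I))

theorem mem_ext (I : Ideal R) (x : AddMonoidAlgebra R ι) :
    x ∈ ext ι I ↔ ∀ g, x.coeff g ∈ I := by
  rw [ext, RingHom.mem_ker, ← AddMonoidAlgebra.coeff_inj, Finsupp.ext_iff]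
  refine forall_congr' fun g => ?_
  rw [AddMonoidAlgebra.coeff_mapRingHom, AddMonoidAlgebra.coeff_zero, Finsupp.zero_apply,
    Ideal.Quotient.eq_zero_iff_mem]

theorem single_mem_ext (I : Ideal R) {r : R} (hr : r ∈ I) (g : ι) :
    AddMonoidAlgebra.single g r ∈ ext ι I := by
  rw [mem_ext]
  intro h
  rw [AddMonoidAlgebra.coeff_single]
  by_cases hgh : g = h
  · subst hgh
    rwa [Finsupp.single_eq_same]
  · rw [Finsupp.single_eq_of_ne (Ne.symm hgh)]
    exact I.zero_mem

theorem algebraMap_eq_single (r : R) :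
    algebraMap R (AddMonoidAlgebra R ι) r = AddMonoidAlgebra.single 0 r := rfl

theorem ext_eq_map (I : Ideal R) :
    ext ι I = I.map (algebraMap R (AddMonoidAlgebra R ι)) := by
  apply le_antisymm
  · intro x hx
    rw [mem_ext] at hx
    rw [← AddMonoidAlgebra.sum_coeff_single x]
    refine Ideal.sum_mem _ fun g _ => ?_
    have h1 : AddMonoidAlgebra.single g (x.coeff g) =
        AddMonoidAlgebra.single g (1 : R) * algebraMap R (AddMonoidAlgebra R ι) (x.coeff g) := by
      rw [algebraMap_eq_single, AddMonoidAlgebra.single_mul_single, add_zero, one_mul]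
    rw [h1]
    exact Ideal.mul_mem_left _ _ (Ideal.mem_map_of_mem _ (hx g))
  · rw [Ideal.map_le_iff_le_comap]
    intro r hr
    exact single_mem_ext I hr 0

theorem comap_algebraMap_ext (I : Ideal R) :
    (ext ι I).comap (algebraMap R (AddMonoidAlgebra R ι)) = I := by
  ext r
  rw [Ideal.mem_comap, mem_ext]
  constructor
  · intro h
    have := h 0
    rwa [algebraMap_eq_single, AddMonoidAlgebra.coeff_single, Finsupp.single_eq_same] at this
  · intro hr
    exact (mem_ext I _).mp (single_mem_ext I hr 0)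

theorem ext_isPrime [UniqueSums ι] (p : Ideal R) [p.IsPrime] : (ext ι p).IsPrime :=
  RingHom.ker_isPrime _

variable (𝒜 : ι → AddSubgroup R) [GradedRing 𝒜]

/-- `φ⁻¹ (p R[ι])` is the homogeneous core of `p`. -/
theorem comap_coact_ext (p : Ideal R) :
    (ext ι p).comap (coact 𝒜 (AddMonoidHom.id ι)) = (p.homogeneousCore 𝒜).toIdeal := by
  classical
  ext r
  rw [Ideal.mem_comap, mem_ext]
  simp only [coeff_coact_id]
  constructor
  · intro h
    rw [← DirectSum.sum_support_decompose 𝒜 r]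
    refine Ideal.sum_mem _ fun g _ => ?_
    exact Ideal.mem_homogeneousCore_of_homogeneous_of_mem ⟨g, (DirectSum.decompose 𝒜 r g).2⟩ (h g)
  · intro h g
    exact Ideal.toIdeal_homogeneousCore_le 𝒜 p ((p.homogeneousCore 𝒜).isHomogeneous g h)

/-- For a homogeneous ideal `I`, the twisted coaction sends `I` into `I R[ι]`. -/
theorem coact_mem_ext (ε : ι →+ ι) (I : Ideal R) (hI : I.IsHomogeneous 𝒜) {r : R} (hr : r ∈ I) :
    coact 𝒜 ε r ∈ ext ι I := by
  classical
  rw [← DirectSum.sum_support_decompose 𝒜 r, map_sum]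
  refine Ideal.sum_mem _ fun g _ => ?_
  rw [coact_coe]
  exact single_mem_ext I (hI g hr) _

theorem sigmaHom_mem_ext (ε : ι →+ ι) (I : Ideal R) (hI : I.IsHomogeneous 𝒜)
    {x : AddMonoidAlgebra R ι} (hx : x ∈ ext ι I) : sigmaHom 𝒜 ε x ∈ ext ι I := by
  have h1 : ext ι I ≤ (ext ι I).comap (sigmaHom 𝒜 ε) := by
    conv_lhs => rw [ext_eq_map]
    rw [Ideal.map_le_iff_le_comap]
    intro r hr
    rw [Ideal.mem_comap, Ideal.mem_comap, algebraMap_eq_single, sigmaHom_single_zero]
    exact coact_mem_ext 𝒜 ε I hI hr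
  exact h1 hx

/-- `σ` preserves `I R[ι]` for a homogeneous ideal `I`. -/
theorem sigma_mem_ext_iff (I : Ideal R) (hI : I.IsHomogeneous 𝒜) (x : AddMonoidAlgebra R ι) :
    sigma 𝒜 x ∈ ext ι I ↔ x ∈ ext ι I := by
  constructor
  · intro h
    have := sigmaHom_mem_ext 𝒜 (-AddMonoidHom.id ι) I hI h
    rwa [← sigma_symm_apply, RingEquiv.symm_apply_apply] at this
  · intro h
    exact sigmaHom_mem_ext 𝒜 _ I hI h

/-- The prime `P₁ = σ⁻¹ (p R[ι])`. -/
noncomputable def primeOne (p : Ideal R) : Ideal (AddMonoidAlgebra R ι) :=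
  (ext ι p).comap (sigma 𝒜 : AddMonoidAlgebra R ι →+* AddMonoidAlgebra R ι)

theorem primeOne_isPrime [UniqueSums ι] (p : Ideal R) [p.IsPrime] : (primeOne 𝒜 p).IsPrime := by
  haveI := ext_isPrime (ι := ι) p
  exact Ideal.comap_isPrime _ _

theorem comap_algebraMap_primeOne (p : Ideal R) :
    (primeOne 𝒜 p).comap (algebraMap R (AddMonoidAlgebra R ι)) =
      (p.homogeneousCore 𝒜).toIdeal := by
  rw [← comap_coact_ext 𝒜 p]
  ext r
  rw [Ideal.mem_comap, Ideal.mem_comap, primeOne, Ideal.mem_comap]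
  show sigma 𝒜 (algebraMap R (AddMonoidAlgebra R ι) r) ∈ _ ↔ _
  rw [sigma_algebraMap]

end Ext

end Groth.Agent.H71.GrCoact
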