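import Mathlib
import Groth.Agent.H71.GrCoact

/-!
# The `σ`-semilinear automorphism of `R[ι] ⊗[R] M` for a graded module `M`
-/

set_option autoImplicit false
set_option linter.style.haveILetI false
set_option linter.unusedSectionVars false

universe u

open DirectSum TensorProduct

namespace Groth.Agent.H71.GrCoact

section Mod

variable {ι : Type} [AddCommGroup ι] [DecidableEq ι] {R : Type u} [CommRing R]
  (𝒜 : ι → AddSubgroup R) [GradedRing 𝒜]
  {M : Type u} [AddCommGroup M] [Module R M] (ℳ : ι → AddSubgroup M)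
  [DirectSum.Decomposition ℳ] [SetLike.GradedSMul 𝒜 ℳ]

/-- The comodule structure map `m ↦ ∑ T^{ε g} ⊗ m_g`. -/
noncomputable def psi (ε : ι →+ ι) : M →+ AddMonoidAlgebra R ι ⊗[R] M :=
  (DirectSum.toAddMonoid (fun g =>
    ((TensorProduct.mk R (AddMonoidAlgebra R ι) M
      (AddMonoidAlgebra.single (ε g) 1)).toAddMonoidHom).comp (ℳ g).subtype)).comp
    (DirectSum.decomposeAddEquiv ℳ).toAddMonoidHom

theorem psi_of_mem (ε : ι →+ ι) {g : ι} {m : M} (hm : m ∈ ℳ g) :
    psi (R := R) ℳ ε m = AddMonoidAlgebra.single (ε g) (1 : R) ⊗ₜ[R] m := by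
  show (DirectSum.toAddMonoid _) (DirectSum.decompose ℳ m) = _
  rw [DirectSum.decompose_of_mem ℳ hm, DirectSum.toAddMonoid_of]
  rfl

theorem psi_coe (ε : ι →+ ι) {g : ι} (m : ℳ g) :
    psi (R := R) ℳ ε (m : M) = AddMonoidAlgebra.single (ε g) (1 : R) ⊗ₜ[R] (m : M) :=
  psi_of_mem ℳ ε m.2

/-- `ψ` is semilinear along the coaction. -/
theorem psi_smul (ε : ι →+ ι) (r : R) (m : M) :
    psi (R := R) ℳ ε (r • m) = coact 𝒜 ε r • psi (R := R) ℳ ε m := by
  induction r using DirectSum.Decomposition.inductionOn 𝒜 with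
  | zero => simp
  | homogeneous r =>
    rename_i i
    induction m using DirectSum.Decomposition.inductionOn ℳ with
    | zero => simp
    | homogeneous m =>
      rename_i j
      have hmem : (r : R) • (m : M) ∈ ℳ (i + j) := SetLike.GradedSMul.smul_mem r.2 m.2
      rw [psi_of_mem ℳ ε hmem, psi_coe, coact_coe, TensorProduct.smul_tmul', smul_eq_mul,
        AddMonoidAlgebra.single_mul_single, mul_one, map_add, ← TensorProduct.smul_tmul]
      congr 1
      rw [AddMonoidAlgebra.smul_single, smul_eq_mul, mul_one]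
    | add m m' hm hm' =>
      rw [smul_add, map_add, map_add, hm, hm', smul_add]
  | add r r' hr hr' =>
    rw [add_smul, map_add, map_add, hr, hr', add_smul]

/-- The additive map `b ⊗ m ↦ σ_ε b • ψ_ε m`. -/
noncomputable def theta (ε : ι →+ ι) :
    AddMonoidAlgebra R ι ⊗[R] M →+ AddMonoidAlgebra R ι ⊗[R] M :=
  TensorProduct.liftAddHom
    (((smulAddHom (AddMonoidAlgebra R ι) (AddMonoidAlgebra R ι ⊗[R] M)).comp
      (sigmaHom 𝒜 ε).toAddMonoidHom).compl₂ (psi (R := R) ℳ ε))
    (by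
      intro r b m
      show sigmaHom 𝒜 ε (r • b) • psi (R := R) ℳ ε m = sigmaHom 𝒜 ε b • psi (R := R) ℳ ε (r • m)
      rw [psi_smul 𝒜 ℳ, Algebra.smul_def, map_mul, algebraMap_eq_single, sigmaHom_single_zero,
        mul_smul, smul_comm])

theorem theta_tmul (ε : ι →+ ι) (b : AddMonoidAlgebra R ι) (m : M) :
    theta 𝒜 ℳ ε (b ⊗ₜ[R] m) = sigmaHom 𝒜 ε b • psi (R := R) ℳ ε m := rfl

theorem theta_smul (ε : ι →+ ι) (c : AddMonoidAlgebra R ι) (w : AddMonoidAlgebra R ι ⊗[R] M) :
    theta 𝒜 ℳ ε (c • w) = sigmaHom 𝒜 ε c • theta 𝒜 ℳ ε w := by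
  induction w using TensorProduct.induction_on with
  | zero => simp
  | tmul b m =>
    rw [TensorProduct.smul_tmul', theta_tmul, theta_tmul, smul_eq_mul, map_mul, mul_smul]
  | add x y hx hy =>
    rw [smul_add, map_add, map_add, hx, hy, smul_add]

theorem sigmaHom_single_one (ε : ι →+ ι) (h : ι) :
    sigmaHom 𝒜 ε (AddMonoidAlgebra.single h 1) = AddMonoidAlgebra.single h 1 := by
  rw [sigmaHom_single, map_one, one_mul]

theorem theta_comp (ε ε' : ι →+ ι) (hε : ∀ i, ε i + ε' i = 0)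
    (w : AddMonoidAlgebra R ι ⊗[R] M) : theta 𝒜 ℳ ε (theta 𝒜 ℳ ε' w) = w := by
  induction w using TensorProduct.induction_on with
  | zero => simp
  | tmul b m =>
    induction m using DirectSum.Decomposition.inductionOn ℳ with
    | zero => simp
    | homogeneous m =>
      rename_i j
      rw [theta_tmul, psi_coe, theta_smul, theta_tmul, psi_coe, sigmaHom_single_one,
        TensorProduct.smul_tmul', TensorProduct.smul_tmul', smul_eq_mul, smul_eq_mul,
        AddMonoidAlgebra.single_mul_single, mul_one, add_comm, hε, ← AddMonoidAlgebra.one_def,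
        mul_one]
      have := congrFun (congrArg DFunLike.coe (sigmaHom_comp 𝒜 ε ε' hε)) b
      rw [RingHom.comp_apply, RingHom.id_apply] at this
      rw [this]
    | add m m' hm hm' =>
      rw [TensorProduct.tmul_add, map_add, map_add, hm, hm']
  | add x y hx hy =>
    rw [map_add, map_add, hx, hy]

/-- The `σ`-semilinear automorphism of `R[ι] ⊗[R] M`. -/
noncomputable def sigmaM : AddMonoidAlgebra R ι ⊗[R] M ≃+ AddMonoidAlgebra R ι ⊗[R] M where
  toFun := theta 𝒜 ℳ (AddMonoidHom.id ι)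
  invFun := theta 𝒜 ℳ (-AddMonoidHom.id ι)
  left_inv := theta_comp 𝒜 ℳ _ _ (fun i => by simp)
  right_inv := theta_comp 𝒜 ℳ _ _ (fun i => by simp)
  map_add' := map_add _

theorem sigmaM_smul (c : AddMonoidAlgebra R ι) (w : AddMonoidAlgebra R ι ⊗[R] M) :
    sigmaM 𝒜 ℳ (c • w) = sigma 𝒜 c • sigmaM 𝒜 ℳ w :=
  theta_smul 𝒜 ℳ _ c w

end Mod

end Groth.Agent.H71.GrCoact
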