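import Mathlib
import Groth.Prelude.Def_CAlg
import Groth.Prelude.Def_EGA4b
import Groth.Agent.H71.CMField
import Groth.Agent.H15.FibreCM
import Groth.Agent.S4744

/-!
# Group algebras of free abelian groups of finite rank over Cohen–Macaulay rings

`F[ι]` is Cohen–Macaulay when `F` is; consequently the fibre local rings of `R → R[ι]` are
Cohen–Macaulay.
-/

set_option autoImplicit false
set_option linter.style.haveILetI false

universe u

open Polynomial

namespace Groth.Agent.H71.LaurentCM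

theorem isCMRing_polynomial (F : Type u) [CommRing F] (hF : LocCoh.IsCohenMacaulayRing F) :
    LocCoh.IsCohenMacaulayRing F[X] :=
  Groth.Agent.S4744.isCMRing_of_ringEquiv (MvPolynomial.uniqueAlgEquiv F PUnit.{u + 1}).toRingEquiv
    (Groth.Agent.H71.CMField.isCMRing_mvPolynomial PUnit.{u + 1} F hF)

theorem isCMRing_laurent (F : Type u) [CommRing F] (hF : LocCoh.IsCohenMacaulayRing F) :
    LocCoh.IsCohenMacaulayRing (LaurentPolynomial F) :=
  Groth.Agent.H71.CMField.isCMRing_of_isLocalization (Submonoid.powers (X : F[X]))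
    (isCMRing_polynomial F hF)

theorem isCMRing_addMonoidAlgebra_fin (n : ℕ) :
    ∀ (F : Type u) [CommRing F], LocCoh.IsCohenMacaulayRing F →
      LocCoh.IsCohenMacaulayRing (AddMonoidAlgebra F (Fin n → ℤ)) := by
  induction n with
  | zero =>
    intro F _ hF
    exact Groth.Agent.S4744.isCMRing_of_ringEquiv
      (AddMonoidAlgebra.uniqueRingEquiv (R := F) (Fin 0 → ℤ)).symm hF
  | succ n ih =>
    intro F _ hF
    have h1 := ih F hF
    have h2 := isCMRing_laurent _ h1
    let e1 : AddMonoidAlgebra F (ℤ × (Fin n → ℤ)) ≃+*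
        AddMonoidAlgebra (AddMonoidAlgebra F (Fin n → ℤ)) ℤ := AddMonoidAlgebra.curryRingEquiv
    let e2 : AddMonoidAlgebra F (ℤ × (Fin n → ℤ)) ≃+* AddMonoidAlgebra F (Fin (n + 1) → ℤ) :=
      (AddMonoidAlgebra.domCongr F F
        (Fin.consLinearEquiv ℤ (fun _ : Fin (n + 1) => ℤ)).toAddEquiv).toRingEquiv
    exact Groth.Agent.S4744.isCMRing_of_ringEquiv (e1.symm.trans e2) h2

theorem isCMRing_addMonoidAlgebra (ι : Type) [AddCommGroup ι] [Module.Free ℤ ι]
    [Module.Finite ℤ ι] (F : Type u) [CommRing F] (hF : LocCoh.IsCohenMacaulayRing F) :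
    LocCoh.IsCohenMacaulayRing (AddMonoidAlgebra F ι) :=
  Groth.Agent.S4744.isCMRing_of_ringEquiv
    (AddMonoidAlgebra.domCongr F F (Module.finBasis ℤ ι).equivFun.toAddEquiv).symm.toRingEquiv
    (isCMRing_addMonoidAlgebra_fin _ F hF)

/-- The fibre local rings of `R → R[ι]` are Cohen–Macaulay. -/
theorem isCM_fibLocRing_addMonoidAlgebra (ι : Type) [AddCommGroup ι] [Module.Free ℤ ι]
    [Module.Finite ℤ ι] (R : Type u) [CommRing R] [IsNoetherianRing (AddMonoidAlgebra R ι)]
    (Q : Ideal (AddMonoidAlgebra R ι)) [Q.IsPrime] :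
    LocCoh.IsCohenMacaulayLocalRing (EGA4.FibLocRing R (AddMonoidAlgebra R ι) Q) := by
  have h1 : LocCoh.IsCohenMacaulayRing
      ((Q.comap (algebraMap R (AddMonoidAlgebra R ι))).Fiber (AddMonoidAlgebra R ι)) :=
    Groth.Agent.S4744.isCMRing_of_ringEquiv
      (AddMonoidAlgebra.scalarTensorEquiv (M := ι) R
        (Q.comap (algebraMap R (AddMonoidAlgebra R ι))).ResidueField).symm.toRingEquiv
      (isCMRing_addMonoidAlgebra ι _ (Groth.Agent.H71.CMField.isCMRing_of_field _))
  exact (Groth.Agent.H15.FibreCM.isCM_fiber_iff R (AddMonoidAlgebra R ι)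
    (Q.comap (algebraMap R (AddMonoidAlgebra R ι)))).mp h1 Q rfl

end Groth.Agent.H71.LaurentCM
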