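import Mathlib
import Groth.Prelude.Def_CAlg
import Groth.Prelude.Def_EGA4b
import Groth.Agent.H71.GrCoact
import Groth.Agent.H71.GrCoactMod
import Groth.Agent.H71.Twist
import Groth.Agent.H71.FlatModLoc
import Groth.Agent.H71.LaurentCM
import Groth.Agent.H15.FlatLoc
import Groth.Agent.H29.FinDimDepth
import Groth.Agent.H29.CM

/-!
# Depth and dimension of `M_p` versus `M_{p*}` for a graded module (Goto–Watanabe, Bruns–Herzog 1.5.8)

`depth M_p = depth M_{p*} + ht (p / p*)` and `dim M_p = dim M_{p*} + ht (p / p*)` for a finitely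
generated graded module over a Noetherian ring graded by a free abelian group of finite rank.
-/

set_option autoImplicit false
set_option linter.style.haveILetI false
set_option linter.unusedSectionVars false
set_option maxHeartbeats 400000

universe u

open TensorProduct IsLocalRing

namespace Groth.Agent.H71.GrCoactMain

open Groth.Agent.H71.GrCoact

section Helpers

theorem depth_congr_prime {R : Type u} [CommRing R] (M : Type u) [AddCommGroup M] [Module R M]
    {q q' : Ideal R} [q.IsPrime] [q'.IsPrime] (h : q = q') :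
    LocCoh.depth (Localization.AtPrime q) (LocalizedModule q.primeCompl M) =
      LocCoh.depth (Localization.AtPrime q') (LocalizedModule q'.primeCompl M) := by
  subst h
  rfl

theorem supportDim_congr_prime {R : Type u} [CommRing R] (M : Type u) [AddCommGroup M]
    [Module R M] {q q' : Ideal R} [q.IsPrime] [q'.IsPrime] (h : q = q') :
    Module.supportDim (Localization.AtPrime q) (LocalizedModule q.primeCompl M) =
      Module.supportDim (Localization.AtPrime q') (LocalizedModule q'.primeCompl M) := by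
  subst h
  rfl

theorem height_subtype_congr {α : Type*} [Preorder α] (s t : Set α) (h : s = t) (x : α)
    (hx : x ∈ s) : Order.height (⟨x, hx⟩ : ↥s) = Order.height (⟨x, h ▸ hx⟩ : ↥t) := by
  subst h
  rfl

/-- The dimension of `(R/I)_q` over `R_q` is the height of `q/I`. -/
theorem supportDim_atPrime_quotient {R : Type u} [CommRing R] (I q : Ideal R) [hq : q.IsPrime]
    (hIq : I ≤ q) [hq' : (q.map (Ideal.Quotient.mk I)).IsPrime] :
    Module.supportDim (Localization.AtPrime q) (LocalizedModule q.primeCompl (R ⧸ I)) =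
      (((q.map (Ideal.Quotient.mk I)).height : ℕ∞) : WithBot ℕ∞) := by
  have hsupp : Module.support R (R ⧸ I) = PrimeSpectrum.zeroLocus (I : Set R) := by
    rw [Module.support_eq_zeroLocus, Ideal.annihilator_quotient]
  have hqm : (⟨q, hq⟩ : PrimeSpectrum R) ∈ Module.support R (R ⧸ I) := by
    rw [hsupp]
    exact hIq
  rw [Groth.Agent.H29.FinDimDepth.supportDim_atPrime_eq_height ⟨q, hq⟩ hqm]
  congr 1
  rw [height_subtype_congr _ _ hsupp]
  let z : PrimeSpectrum (R ⧸ I) := ⟨q.map (Ideal.Quotient.mk I), hq'⟩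
  have hz : I.primeSpectrumQuotientOrderIsoZeroLocus z =
      (⟨⟨q, hq⟩, hsupp ▸ hqm⟩ : ↥(PrimeSpectrum.zeroLocus (I : Set R))) := by
    apply Subtype.ext
    apply PrimeSpectrum.ext
    show (q.map (Ideal.Quotient.mk I)).comap (Ideal.Quotient.mk I) = q
    rw [Ideal.comap_map_of_surjective _ Ideal.Quotient.mk_surjective, ← RingHom.ker_eq_comap_bot,
      Ideal.mk_ker, sup_eq_left.mpr hIq]
  rw [← hz, Order.height_orderIso, ← PrimeSpectrum.height_eq_orderHeight]

end Helpers

section Main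

variable {ι : Type} [AddCommGroup ι] [DecidableEq ι] [Module.Free ℤ ι] [Module.Finite ℤ ι]
  (R : Type u) [CommRing R] [IsNoetherianRing R] (𝒜 : ι → AddSubgroup R) [GradedRing 𝒜]

local notation "B" => AddMonoidAlgebra R ι

/-- The fibre of `R → R[ι]` at `p R[ι]` is a field. -/
theorem fib_ext_data [UniqueSums ι] [IsNoetherianRing B] (p : Ideal R) [p.IsPrime]
    [hP : (ext ι p).IsPrime] [IsLocalRing (EGA4.FibLocRing R B (ext ι p))] :
    LocCoh.depth (EGA4.FibLocRing R B (ext ι p)) (EGA4.FibLocRing R B (ext ι p)) = 0 ∧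
      ringKrullDim (EGA4.FibLocRing R B (ext ι p)) = 0 := by
  have hI : ((ext ι p).comap (algebraMap R B)).map
      (algebraMap R (Localization.AtPrime (ext ι p))) =
      maximalIdeal (Localization.AtPrime (ext ι p)) := by
    rw [comap_algebraMap_ext, IsScalarTower.algebraMap_eq R B (Localization.AtPrime (ext ι p)),
      ← Ideal.map_map, ← ext_eq_map]
    exact Localization.AtPrime.map_eq_maximalIdeal
  have hmax : (((ext ι p).comap (algebraMap R B)).map
      (algebraMap R (Localization.AtPrime (ext ι p)))).IsMaximal := by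
    rw [hI]
    exact maximalIdeal.isMaximal _
  have hfield : IsField (EGA4.FibLocRing R B (ext ι p)) :=
    (Ideal.Quotient.maximal_ideal_iff_isField_quotient _).mp hmax
  have hdim : ringKrullDim (EGA4.FibLocRing R B (ext ι p)) = 0 :=
    ringKrullDim_eq_zero_of_isField hfield
  refine ⟨?_, hdim⟩
  have h1 := Groth.Agent.H29.CM.depth_le_supportDim (A := EGA4.FibLocRing R B (ext ι p))
    (M := EGA4.FibLocRing R B (ext ι p))
  rw [Module.supportDim_self_eq_ringKrullDim, hdim] at h1
  have h2 : LocCoh.depth (EGA4.FibLocRing R B (ext ι p)) (EGA4.FibLocRing R B (ext ι p)) ≤ 0 := by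
    exact_mod_cast h1
  exact le_antisymm h2 (by simp)

variable (p : Ideal R) [hp : p.IsPrime] [hc : (Ideal.homogeneousCore 𝒜 p).toIdeal.IsPrime]

/-- The `σ`-semilinear automorphism of `R[ι] ⊗ R/p*`. -/
theorem exists_semilinear_quotient :
    ∃ E : (B ⊗[R] (R ⧸ (Ideal.homogeneousCore 𝒜 p).toIdeal)) ≃+
        (B ⊗[R] (R ⧸ (Ideal.homogeneousCore 𝒜 p).toIdeal)),
      ∀ (b : B) (w : B ⊗[R] (R ⧸ (Ideal.homogeneousCore 𝒜 p).toIdeal)),
        E (b • w) = sigma 𝒜 b • E w := by
  let I := (Ideal.homogeneousCore 𝒜 p).toIdeal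
  let J := I.map (algebraMap R B)
  have hJ : J = J.map (sigma 𝒜 : B →+* B) := by
    have hIh : I.IsHomogeneous 𝒜 := (Ideal.homogeneousCore 𝒜 p).isHomogeneous
    apply le_antisymm
    · intro x hx
      have hx' : x ∈ ext ι I := by rw [ext_eq_map]; exact hx
      have h1 : (sigma 𝒜).symm x ∈ ext ι I := by
        rw [← sigma_mem_ext_iff 𝒜 I hIh, RingEquiv.apply_symm_apply]
        exact hx'
      rw [ext_eq_map] at h1
      have := Ideal.mem_map_of_mem (sigma 𝒜 : B →+* B) h1
      simpa using this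
    · rw [Ideal.map_le_iff_le_comap]
      intro x hx
      have hx' : x ∈ ext ι I := by rw [ext_eq_map]; exact hx
      rw [Ideal.mem_comap]
      show sigma 𝒜 x ∈ J
      have := (sigma_mem_ext_iff 𝒜 I hIh x).mpr hx'
      rwa [ext_eq_map] at this
  let sb : (B ⧸ J) ≃+* (B ⧸ J) := Ideal.quotientEquiv J J (sigma 𝒜) hJ
  let e : (B ⧸ J) ≃ₗ[B] B ⊗[R] (R ⧸ I) :=
    (Algebra.TensorProduct.quotIdealMapEquivTensorQuot B I).toLinearEquiv
  refine ⟨(e.symm.toAddEquiv.trans sb.toAddEquiv).trans e.toAddEquiv, ?_⟩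
  have key : ∀ (b : B) (x : B ⧸ J), sb (b • x) = sigma 𝒜 b • sb x := by
    intro b x
    obtain ⟨x, rfl⟩ := Ideal.Quotient.mk_surjective x
    show Ideal.quotientEquiv J J (sigma 𝒜) hJ (Ideal.Quotient.mk J (b * x)) =
      sigma 𝒜 b • Ideal.quotientEquiv J J (sigma 𝒜) hJ (Ideal.Quotient.mk J x)
    rw [Ideal.quotientEquiv_mk, Ideal.quotientEquiv_mk, map_mul]
    rfl
  intro b w
  show e (sb (e.symm (b • w))) = sigma 𝒜 b • e (sb (e.symm w))
  rw [map_smul, key, map_smul]

variable (d : ℕ)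
  (hd : (p.map (Ideal.Quotient.mk (Ideal.homogeneousCore 𝒜 p).toIdeal)).height = d)

include hd in
/-- The fibre of `R → R[ι]` at `P₁` is Cohen–Macaulay of dimension `d = ht (p/p*)`. -/
theorem fib_primeOne_data [UniqueSums ι] [IsNoetherianRing B] [hP : (ext ι p).IsPrime]
    [hP₁ : (primeOne 𝒜 p).IsPrime] [IsLocalRing (EGA4.FibLocRing R B (ext ι p))]
    [IsLocalRing (EGA4.FibLocRing R B (primeOne 𝒜 p))] :
    LocCoh.depth (EGA4.FibLocRing R B (primeOne 𝒜 p)) (EGA4.FibLocRing R B (primeOne 𝒜 p)) = d ∧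
      ringKrullDim (EGA4.FibLocRing R B (primeOne 𝒜 p)) = d := by
  let I := (Ideal.homogeneousCore 𝒜 p).toIdeal
  have hIp : I ≤ p := Ideal.toIdeal_homogeneousCore_le 𝒜 p
  haveI hq' : (p.map (Ideal.Quotient.mk I)).IsPrime :=
    Ideal.map_isPrime_of_surjective Ideal.Quotient.mk_surjective (by rw [Ideal.mk_ker]; exact hIp)
  haveI hq'' : (I.map (Ideal.Quotient.mk I)).IsPrime := by
    rw [Ideal.map_quotient_self]
    exact Ideal.isPrime_bot
  -- dimension
  have hdim : ringKrullDim (EGA4.FibLocRing R B (primeOne 𝒜 p)) = d := by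
    obtain ⟨E, hE⟩ := exists_semilinear_quotient R 𝒜 p
    have hA := (Groth.Agent.H71.FlatModLoc.flat_mod_data R B (R ⧸ I) (ext ι p)).2
    have hB := (Groth.Agent.H71.FlatModLoc.flat_mod_data R B (R ⧸ I) (primeOne 𝒜 p)).2
    have hT := Groth.Agent.H71.Twist.supportDim_twist (sigma 𝒜) (ext ι p) (primeOne 𝒜 p) rfl E hE
    rw [supportDim_congr_prime (R ⧸ I) (comap_algebraMap_ext (ι := ι) p),
      (fib_ext_data R p).2, add_zero, supportDim_atPrime_quotient I p hIp, hd] at hA
    rw [supportDim_congr_prime (R ⧸ I) (comap_algebraMap_primeOne 𝒜 p),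
      supportDim_atPrime_quotient I I le_rfl] at hB
    have h0 : (I.map (Ideal.Quotient.mk I)).height = 0 := by
      rw [Ideal.map_quotient_self]
      exact Ideal.height_bot
    rw [h0] at hB
    rw [hT, hA] at hB
    have : ((0 : ℕ∞) : WithBot ℕ∞) = 0 := rfl
    rw [this, zero_add] at hB
    exact hB.symm
  refine ⟨?_, hdim⟩
  have hCM := Groth.Agent.H71.LaurentCM.isCM_fibLocRing_addMonoidAlgebra ι R (primeOne 𝒜 p)
  have h1 := hCM.supportDim_eq_depth
  rw [Module.supportDim_self_eq_ringKrullDim, hdim] at h1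
  exact_mod_cast h1.symm

variable {M : Type u} [AddCommGroup M] [Module R M] (ℳ : ι → AddSubgroup M)
  [DirectSum.Decomposition ℳ] [SetLike.GradedSMul 𝒜 ℳ] [Module.Finite R M]

include hd ℳ in
/-- **Depth and dimension of `M_p` in terms of `M_{p*}`.** -/
theorem depth_and_dim :
    LocCoh.depth (Localization.AtPrime p) (LocalizedModule p.primeCompl M) =
      LocCoh.depth (Localization.AtPrime (Ideal.homogeneousCore 𝒜 p).toIdeal)
        (LocalizedModule (Ideal.homogeneousCore 𝒜 p).toIdeal.primeCompl M) + d ∧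
    Module.supportDim (Localization.AtPrime p) (LocalizedModule p.primeCompl M) =
      Module.supportDim (Localization.AtPrime (Ideal.homogeneousCore 𝒜 p).toIdeal)
        (LocalizedModule (Ideal.homogeneousCore 𝒜 p).toIdeal.primeCompl M) + (d : WithBot ℕ∞) := by
  haveI : UniqueSums ι := uniqueSums_of_free ι
  haveI : IsNoetherianRing B := isNoetherianRing_addMonoidAlgebra ι R
  haveI hP : (ext ι p).IsPrime := ext_isPrime p
  haveI hP₁ : (primeOne 𝒜 p).IsPrime := primeOne_isPrime 𝒜 p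
  haveI := Groth.Agent.H15.FlatLoc.isLocalRing_fibLocRing R B (ext ι p)
  haveI := Groth.Agent.H15.FlatLoc.isLocalRing_fibLocRing R B (primeOne 𝒜 p)
  obtain ⟨hA1, hA2⟩ := Groth.Agent.H71.FlatModLoc.flat_mod_data R B M (ext ι p)
  obtain ⟨hB1, hB2⟩ := Groth.Agent.H71.FlatModLoc.flat_mod_data R B M (primeOne 𝒜 p)
  have hT1 := Groth.Agent.H71.Twist.depth_twist (sigma 𝒜) (ext ι p) (primeOne 𝒜 p) rfl
    (sigmaM 𝒜 ℳ) (sigmaM_smul 𝒜 ℳ)
  have hT2 := Groth.Agent.H71.Twist.supportDim_twist (sigma 𝒜) (ext ι p) (primeOne 𝒜 p) rfl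
    (sigmaM 𝒜 ℳ) (sigmaM_smul 𝒜 ℳ)
  obtain ⟨hF1, hF2⟩ := fib_ext_data R p (ι := ι)
  obtain ⟨hG1, hG2⟩ := fib_primeOne_data R 𝒜 p d hd
  rw [depth_congr_prime M (comap_algebraMap_ext (ι := ι) p), hF1, add_zero] at hA1
  rw [supportDim_congr_prime M (comap_algebraMap_ext (ι := ι) p), hF2, add_zero] at hA2
  rw [depth_congr_prime M (comap_algebraMap_primeOne 𝒜 p), hG1] at hB1
  rw [supportDim_congr_prime M (comap_algebraMap_primeOne 𝒜 p), hG2] at hB2
  exact ⟨by rw [← hA1, ← hT1, hB1], by rw [← hA2, ← hT2, hB2]⟩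

end Main

end Groth.Agent.H71.GrCoactMain
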