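import Mathlib
import Groth.Prelude.Def_GrLC2
import Groth.Prelude.Def_EGA4b
import Groth.Agent.H71.BassLoc
import Groth.Agent.H71.GrCoactMain
import Groth.Agent.H15.FibreSk

/-!
# Bass numbers of a graded module at `p` and at `p*` (helper71)

`μ^i(p, M) = 0` for `i < d` and `μ^{i+d}(p, M) = μ^i(p*, M)`, `d = ht(p/p*)`, for a graded module
over a Noetherian ring graded by a free abelian group of finite rank.
-/

set_option autoImplicit false
set_option linter.style.haveILetI false
set_option linter.unusedSectionVars false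

universe u

open IsLocalRing TensorProduct Polynomial

namespace Groth.Agent.H71.BassGr

open Groth.Agent.H71 Groth.Agent.H71.GrCoact

section Regular

theorem isRegularRing_of_isLocalization {A : Type u} [CommRing A] [IsRegularRing A]
    (T : Submonoid A) (A' : Type u) [CommRing A'] [Algebra A A'] [IsLocalization T A'] :
    IsRegularRing A' := by
  haveI : IsNoetherianRing (Localization T) :=
    IsLocalization.isNoetherianRing T (Localization T) inferInstance
  haveI : IsRegularRing (Localization T) := by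
    rw [isRegularRing_iff]
    intro p hp
    exact IsRegularLocalRing.of_ringEquiv
      (IsLocalization.localizationLocalizationAtPrimeIsoLocalization T p).toRingEquiv
  exact IsRegularRing.of_ringEquiv (IsLocalization.algEquiv T (Localization T) A').toRingEquiv

theorem isRegularRing_laurent (F : Type u) [CommRing F] [IsRegularRing F] :
    IsRegularRing (LaurentPolynomial F) :=
  isRegularRing_of_isLocalization (Submonoid.powers (X : F[X])) _

theorem isRegularRing_addMonoidAlgebra_fin (n : ℕ) :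
    ∀ (F : Type u) [CommRing F] [IsRegularRing F],
      IsRegularRing (AddMonoidAlgebra F (Fin n → ℤ)) := by
  induction n with
  | zero =>
    intro F _ hF
    exact IsRegularRing.of_ringEquiv
      (AddMonoidAlgebra.uniqueRingEquiv (R := F) (Fin 0 → ℤ)).symm
  | succ n ih =>
    intro F _ hF
    haveI h1 := ih F
    haveI h2 := isRegularRing_laurent (AddMonoidAlgebra F (Fin n → ℤ))
    let e1 : AddMonoidAlgebra F (ℤ × (Fin n → ℤ)) ≃+*
        AddMonoidAlgebra (AddMonoidAlgebra F (Fin n → ℤ)) ℤ := AddMonoidAlgebra.curryRingEquiv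
    let e2 : AddMonoidAlgebra F (ℤ × (Fin n → ℤ)) ≃+* AddMonoidAlgebra F (Fin (n + 1) → ℤ) :=
      (AddMonoidAlgebra.domCongr F F
        (Fin.consLinearEquiv ℤ (fun _ : Fin (n + 1) => ℤ)).toAddEquiv).toRingEquiv
    exact IsRegularRing.of_ringEquiv (e1.symm.trans e2)

theorem isRegularRing_addMonoidAlgebra (ι : Type) [AddCommGroup ι] [Module.Free ℤ ι]
    [Module.Finite ℤ ι] (F : Type u) [CommRing F] [IsRegularRing F] :
    IsRegularRing (AddMonoidAlgebra F ι) := by
  haveI := isRegularRing_addMonoidAlgebra_fin (Module.finrank ℤ ι) F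
  exact IsRegularRing.of_ringEquiv
    (AddMonoidAlgebra.domCongr F F (Module.finBasis ℤ ι).equivFun.toAddEquiv).symm.toRingEquiv

/-- The fibre local rings of `R → R[ι]` are regular. -/
theorem isRegular_fibLocRing_addMonoidAlgebra (ι : Type) [AddCommGroup ι] [Module.Free ℤ ι]
    [Module.Finite ℤ ι] (R : Type u) [CommRing R]
    (Q : Ideal (AddMonoidAlgebra R ι)) [hQ : Q.IsPrime] :
    IsRegularLocalRing (EGA4.FibLocRing R (AddMonoidAlgebra R ι) Q) := by
  set p := Q.comap (algebraMap R (AddMonoidAlgebra R ι)) with hp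
  haveI : IsRegularRing (AddMonoidAlgebra p.ResidueField ι) :=
    isRegularRing_addMonoidAlgebra ι p.ResidueField
  haveI h1 : IsRegularRing (p.Fiber (AddMonoidAlgebra R ι)) :=
    IsRegularRing.of_ringEquiv
      (AddMonoidAlgebra.scalarTensorEquiv (M := ι) R p.ResidueField).symm.toRingEquiv
  obtain ⟨q, hq, hqQ⟩ := Groth.Agent.H15.FibreSk.exists_fiber_prime R (AddMonoidAlgebra R ι) p Q rfl
  obtain ⟨-, ⟨e⟩⟩ := Groth.Agent.H15.FibreSk.exists_fiber_equiv R (AddMonoidAlgebra R ι) p q
  have key : ∀ (Q' : Ideal (AddMonoidAlgebra R ι)) [Q'.IsPrime], Q' = Q →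
      IsRegularLocalRing (EGA4.FibLocRing R (AddMonoidAlgebra R ι) Q') →
      IsRegularLocalRing (EGA4.FibLocRing R (AddMonoidAlgebra R ι) Q) := by
    intro Q' _ h hreg
    subst h
    exact hreg
  exact key _ hqQ (IsRegularLocalRing.of_ringEquiv (R := Localization.AtPrime q) e)

end Regular

section AtPrime

variable (A B : Type u) [CommRing A] [CommRing B] [Algebra A B] [IsNoetherianRing A]
  [IsNoetherianRing B] [Module.Flat A B]
  (M : Type u) [AddCommGroup M] [Module A M]

/-- Bass numbers of `(B ⊗ M)_q` for a flat map `A → B` and a prime `q` of `B` with regular fibre. -/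
theorem flat_bass_data (q : Ideal B) [q.IsPrime]
    [hF : IsRegularLocalRing (EGA4.FibLocRing A B q)] (d : ℕ)
    (hd : ringKrullDim (EGA4.FibLocRing A B q) = d) :
    (∀ i < d, GrLC.bassNum q (B ⊗[A] M) i = 0) ∧
      ∀ i, GrLC.bassNum q (B ⊗[A] M) (i + d) = GrLC.bassNum (q.comap (algebraMap A B)) M i := by
  haveI hlo : q.LiesOver (q.comap (algebraMap A B)) := ⟨rfl⟩
  letI alg := Localization.AtPrime.algebraOfLiesOver (q.comap (algebraMap A B)) q
  haveI : IsLocalHom (algebraMap (Localization.AtPrime (q.comap (algebraMap A B)))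
      (Localization.AtPrime q)) := Localization.isLocalHom_localRingHom _ _ _ _
  have hI : EGA4.mB (Localization.AtPrime (q.comap (algebraMap A B))) (Localization.AtPrime q) =
      (q.comap (algebraMap A B)).map (algebraMap A (Localization.AtPrime q)) := by
    show (maximalIdeal (Localization.AtPrime (q.comap (algebraMap A B)))).map
      (algebraMap _ (Localization.AtPrime q)) = _
    rw [← Localization.AtPrime.map_eq_maximalIdeal, Ideal.map_map,
      ← IsScalarTower.algebraMap_eq A (Localization.AtPrime (q.comap (algebraMap A B)))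
        (Localization.AtPrime q)]
  let e : EGA4.FibRing (Localization.AtPrime (q.comap (algebraMap A B))) (Localization.AtPrime q)
      ≃+* EGA4.FibLocRing A B q := Ideal.quotEquivOfEq hI
  -- notation
  let p := q.comap (algebraMap A B)
  let Ap := Localization.AtPrime p
  let Bq := Localization.AtPrime q
  let Mp := LocalizedModule p.primeCompl M
  let T := B ⊗[A] M
  let Tq := LocalizedModule q.primeCompl T
  -- the two base changes
  let f₁ : M →ₗ[A] Mp := LocalizedModule.mkLinearMap p.primeCompl M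
  have h₁ : IsBaseChange Ap f₁ := IsLocalizedModule.isBaseChange p.primeCompl Ap f₁
  let f₂ : Mp →ₗ[Ap] Bq ⊗[Ap] Mp := TensorProduct.mk Ap Bq Mp 1
  have h₂ : IsBaseChange Bq f₂ := TensorProduct.isBaseChange Ap Mp Bq
  have h₁₂ : IsBaseChange Bq ((f₂.restrictScalars A).comp f₁) := h₁.comp h₂
  let g₁ : M →ₗ[A] T := TensorProduct.mk A B M 1
  have k₁ : IsBaseChange B g₁ := TensorProduct.isBaseChange A M B
  let g₂ : T →ₗ[B] Tq := LocalizedModule.mkLinearMap q.primeCompl T
  have k₂ : IsBaseChange Bq g₂ := IsLocalizedModule.isBaseChange q.primeCompl Bq g₂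
  have k₁₂ : IsBaseChange Bq ((g₂.restrictScalars A).comp g₁) := k₁.comp k₂
  let E : Bq ⊗[Ap] Mp ≃ₗ[Bq] Tq := h₁₂.equiv.symm.trans k₁₂.equiv
  haveI hreg : IsRegularLocalRing (Bq ⧸ (maximalIdeal Ap).map (algebraMap Ap Bq)) :=
    IsRegularLocalRing.of_ringEquiv e.symm
  have hd' : ringKrullDim (Bq ⧸ (maximalIdeal Ap).map (algebraMap Ap Bq)) = d :=
    (ringKrullDim_eq_of_ringEquiv e).trans hd
  obtain ⟨a1, a2⟩ := BassReg.bass_regular_fibre Ap Bq d hd' h₂
  have hc : ∀ i, GrLC.bassNumLocal Bq Tq i = GrLC.bassNumLocal Bq (Bq ⊗[Ap] Mp) i := fun i =>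
    BassBC.bassNumLocal_congr E.symm i
  exact ⟨fun i hi => (hc i).trans (a1 i hi), fun i => (hc (i + d)).trans (a2 i)⟩

end AtPrime

section Main

theorem bassNum_congr_prime {R : Type u} [CommRing R] (M : Type u) [AddCommGroup M] [Module R M]
    {p p' : Ideal R} [p.IsPrime] [p'.IsPrime] (h : p = p') (i : ℕ) :
    GrLC.bassNum p M i = GrLC.bassNum p' M i := by
  subst h
  rfl

variable {ι : Type} [AddCommGroup ι] [DecidableEq ι] [Module.Free ℤ ι] [Module.Finite ℤ ι]
  (R : Type u) [CommRing R] [IsNoetherianRing R] (𝒜 : ι → AddSubgroup R) [GradedRing 𝒜]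
  (p : Ideal R) [hp : p.IsPrime] [hc : (Ideal.homogeneousCore 𝒜 p).toIdeal.IsPrime]
  (d : ℕ) (hd : (p.map (Ideal.Quotient.mk (Ideal.homogeneousCore 𝒜 p).toIdeal)).height = d)
  {M : Type u} [AddCommGroup M] [Module R M] (ℳ : ι → AddSubgroup M)
  [DirectSum.Decomposition ℳ] [SetLike.GradedSMul 𝒜 ℳ]

local notation "B" => AddMonoidAlgebra R ι

include hd ℳ in
/-- **Bass numbers of `M` at `p` in terms of those at `p*`.** -/
theorem bass_shift :
    (∀ i < d, GrLC.bassNum p M i = 0) ∧
      ∀ i, GrLC.bassNum p M (i + d) =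
        GrLC.bassNum (Ideal.homogeneousCore 𝒜 p).toIdeal M i := by
  haveI : UniqueSums ι := uniqueSums_of_free ι
  haveI : IsNoetherianRing B := isNoetherianRing_addMonoidAlgebra ι R
  haveI hP : (ext ι p).IsPrime := ext_isPrime p
  haveI hP₁ : (primeOne 𝒜 p).IsPrime := primeOne_isPrime 𝒜 p
  haveI := Groth.Agent.H15.FlatLoc.isLocalRing_fibLocRing R B (ext ι p)
  haveI := Groth.Agent.H15.FlatLoc.isLocalRing_fibLocRing R B (primeOne 𝒜 p)
  haveI hR0 := isRegular_fibLocRing_addMonoidAlgebra ι R (ext ι p)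
  haveI hR1 := isRegular_fibLocRing_addMonoidAlgebra ι R (primeOne 𝒜 p)
  obtain ⟨-, hF2⟩ := GrCoactMain.fib_ext_data R p (ι := ι)
  obtain ⟨-, hG2⟩ := GrCoactMain.fib_primeOne_data R 𝒜 p d hd
  obtain ⟨-, hA⟩ := flat_bass_data R B M (ext ι p) 0 (by exact_mod_cast hF2)
  obtain ⟨hB0, hB⟩ := flat_bass_data R B M (primeOne 𝒜 p) d hG2
  have hT : ∀ i, GrLC.bassNum (primeOne 𝒜 p) (B ⊗[R] M) i = GrLC.bassNum (ext ι p) (B ⊗[R] M) i :=
    fun i => BassLoc.bassNum_twist (sigma 𝒜) (ext ι p) (primeOne 𝒜 p) rfl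
      (sigmaM 𝒜 ℳ) (sigmaM_smul 𝒜 ℳ) i
  have hA' : ∀ i, GrLC.bassNum (ext ι p) (B ⊗[R] M) i = GrLC.bassNum p M i := fun i => by
    have := hA i
    rw [add_zero, bassNum_congr_prime M (comap_algebraMap_ext (ι := ι) p)] at this
    exact this
  refine ⟨fun i hi => ?_, fun i => ?_⟩
  · rw [← hA', ← hT]
    exact hB0 i hi
  · rw [← hA', ← hT, hB, bassNum_congr_prime M (comap_algebraMap_primeOne 𝒜 p)]

end Main

end Groth.Agent.H71.BassGr
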