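import Mathlib
import Groth.Agent.H71.BassGr

/-!
# The `ℤ`-graded case: `ht(p/p*) = 1` for a non-homogeneous prime (helper71)
-/

set_option autoImplicit false
set_option linter.style.haveILetI false
set_option linter.unusedSectionVars false

universe u

open IsLocalRing TensorProduct Polynomial

namespace Groth.Agent.H71.BassGrInt

open Groth.Agent.H71 Groth.Agent.H71.GrCoact

theorem ringKrullDim_le_of_isLocalization {A : Type*} [CommRing A] (T : Submonoid A)
    (A' : Type*) [CommRing A'] [Algebra A A'] [IsLocalization T A'] :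
    ringKrullDim A' ≤ ringKrullDim A := by
  refine Order.krullDim_le_of_strictMono (PrimeSpectrum.comap (algebraMap A A')) ?_
  intro a b hab
  refine lt_of_le_of_ne ?_ ?_
  · exact Ideal.comap_mono hab.le
  · intro h
    exact hab.ne (PrimeSpectrum.localization_comap_injective A' T h)

theorem ringKrullDim_laurent_le (F : Type u) [Field F] :
    ringKrullDim (AddMonoidAlgebra F ℤ) ≤ 1 := by
  have h1 : ringKrullDim (LaurentPolynomial F) ≤ ringKrullDim F[X] :=
    ringKrullDim_le_of_isLocalization (Submonoid.powers (X : F[X])) _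
  have h2 : ringKrullDim F[X] = ringKrullDim F + 1 := Polynomial.ringKrullDim_of_isNoetherianRing
  rw [h2, ringKrullDim_eq_zero_of_field, zero_add] at h1
  exact h1

/-- The fibre local rings of `R → R[ℤ]` have dimension at most one. -/
theorem ringKrullDim_fibLocRing_le (R : Type u) [CommRing R]
    (Q : Ideal (AddMonoidAlgebra R ℤ)) [hQ : Q.IsPrime] :
    ringKrullDim (EGA4.FibLocRing R (AddMonoidAlgebra R ℤ) Q) ≤ 1 := by
  set p := Q.comap (algebraMap R (AddMonoidAlgebra R ℤ)) with hp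
  have h1 : ringKrullDim (p.Fiber (AddMonoidAlgebra R ℤ)) ≤ 1 := by
    rw [ringKrullDim_eq_of_ringEquiv
      (AddMonoidAlgebra.scalarTensorEquiv (M := ℤ) R p.ResidueField).toRingEquiv]
    exact ringKrullDim_laurent_le _
  obtain ⟨q, hq, hqQ⟩ :=
    Groth.Agent.H15.FibreSk.exists_fiber_prime R (AddMonoidAlgebra R ℤ) p Q rfl
  obtain ⟨-, ⟨e⟩⟩ := Groth.Agent.H15.FibreSk.exists_fiber_equiv R (AddMonoidAlgebra R ℤ) p q
  have key : ∀ (Q' : Ideal (AddMonoidAlgebra R ℤ)) [Q'.IsPrime], Q' = Q →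
      ringKrullDim (EGA4.FibLocRing R (AddMonoidAlgebra R ℤ) Q') ≤ 1 →
      ringKrullDim (EGA4.FibLocRing R (AddMonoidAlgebra R ℤ) Q) ≤ 1 := by
    intro Q' _ h hreg
    subst h
    exact hreg
  refine key _ hqQ ?_
  rw [← ringKrullDim_eq_of_ringEquiv e]
  exact (ringKrullDim_le_of_isLocalization q.primeCompl (Localization.AtPrime q)).trans h1

variable (R : Type u) [CommRing R] [IsNoetherianRing R] (𝒜 : ℤ → AddSubgroup R) [GradedRing 𝒜]
  (p : Ideal R) [hp : p.IsPrime] [hc : (Ideal.homogeneousCore 𝒜 p).toIdeal.IsPrime]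

/-- In the `ℤ`-graded case, `ht(p/p*) = 1` for non-homogeneous `p`. -/
theorem height_eq_one (hnh : ¬ Ideal.IsHomogeneous 𝒜 p) :
    (p.map (Ideal.Quotient.mk (Ideal.homogeneousCore 𝒜 p).toIdeal)).height = ((1 : ℕ) : ℕ∞) := by
  set I := (Ideal.homogeneousCore 𝒜 p).toIdeal with hI
  have hIp : I ≤ p := Ideal.toIdeal_homogeneousCore_le 𝒜 p
  haveI hq' : (p.map (Ideal.Quotient.mk I)).IsPrime :=
    Ideal.map_isPrime_of_surjective Ideal.Quotient.mk_surjective (by rw [Ideal.mk_ker]; exact hIp)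
  have hfin : (p.map (Ideal.Quotient.mk I)).height ≠ ⊤ := Ideal.height_ne_top_of_isPrime
  obtain ⟨n, hn⟩ := ENat.ne_top_iff_exists.mp hfin
  haveI : UniqueSums ℤ := uniqueSums_of_free ℤ
  haveI : IsNoetherianRing (AddMonoidAlgebra R ℤ) := isNoetherianRing_addMonoidAlgebra ℤ R
  haveI hP : (ext ℤ p).IsPrime := ext_isPrime p
  haveI hP₁ : (primeOne 𝒜 p).IsPrime := primeOne_isPrime 𝒜 p
  haveI := Groth.Agent.H15.FlatLoc.isLocalRing_fibLocRing R (AddMonoidAlgebra R ℤ) (ext ℤ p)
  haveI := Groth.Agent.H15.FlatLoc.isLocalRing_fibLocRing R (AddMonoidAlgebra R ℤ) (primeOne 𝒜 p)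
  have h1 := (GrCoactMain.fib_primeOne_data R 𝒜 p n hn.symm).2
  have h2 := ringKrullDim_fibLocRing_le R (primeOne 𝒜 p)
  rw [h1] at h2
  have hn1 : n ≤ 1 := by exact_mod_cast h2
  have hn0 : n ≠ 0 := by
    intro h0
    rw [h0] at hn
    have hbot : p.map (Ideal.Quotient.mk I) = ⊥ :=
      Ideal.height_eq_zero_iff_eq_bot.mp (by rw [← hn]; rfl)
    rw [Ideal.map_eq_bot_iff_le_ker, Ideal.mk_ker] at hbot
    have hpI : p = I := le_antisymm hbot hIp
    apply hnh
    rw [hpI]
    exact (Ideal.homogeneousCore 𝒜 p).isHomogeneous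
  have : n = 1 := by omega
  rw [← hn, this]

end Groth.Agent.H71.BassGrInt
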