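import Mathlib
import Groth.Agent.H71.CMOpen
import Groth.Agent.H15.FinFlatCM
import Groth.Agent.H15.FibreCM
import Groth.Agent.H15.PSRegular
import Groth.Agent.H34.ComplQuot
import Groth.Agent.S0580
import Groth.Agent.S0564
import Groth.Agent.Lead.CompleteNoetherian

/-!
# Cohen–Macaulay loci and flat maps with Cohen–Macaulay fibres

* `cmAt_comap_iff`: for a flat map `A → B` of Noetherian rings with CM fibres, `B_q` is CM iff
  `A_{q ∩ A}` is.
* `exists_regular_surjective`: a complete Noetherian local ring is a quotient of a regular ring.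
* `isOpen_CM_of_complete`: the CM locus of a complete Noetherian local ring is open.
* `isOpen_CM_of_faithfullyFlat`: descent of openness of the CM locus along a faithfully flat map
  with CM fibres.
-/

set_option autoImplicit false
set_option linter.style.haveILetI false

universe u

open IsLocalRing Groth.Agent.H15.FinFlatCM

namespace Groth.Agent.H71.CMFormal

attribute [local instance] Groth.Agent.H15.FlatLoc.isLocalRing_fibLocRing

section Flat

variable (A B : Type u) [CommRing A] [CommRing B] [Algebra A B] [IsNoetherianRing A]
  [IsNoetherianRing B] [Module.Flat A B]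

/-- For a flat map with Cohen–Macaulay fibres, `B_q` is CM iff `A_{q ∩ A}` is CM. -/
theorem cmAt_comap_iff
    (hfib : ∀ (p : Ideal A) [p.IsPrime], LocCoh.IsCohenMacaulayRing (p.Fiber B))
    (q : Ideal B) [q.IsPrime] :
    CMat q ↔ CMat (q.comap (algebraMap A B)) := by
  have hF : LocCoh.IsCohenMacaulayLocalRing (EGA4.FibLocRing A B q) :=
    (Groth.Agent.H15.FibreCM.isCM_fiber_iff A B (q.comap (algebraMap A B))).mp (hfib _) q rfl
  constructor
  · intro hq
    obtain ⟨hdim, hdepth, -⟩ := Groth.Agent.H15.FlatLoc.flat_data A B q
    rw [← IsLocalRing.maximalIdeal_height_eq_ringKrullDim] at hdim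
    have hdim' : q.height = (q.comap (algebraMap A B)).height +
        (maximalIdeal (EGA4.FibLocRing A B q)).height := by exact_mod_cast hdim
    have hq' := (cmAt_iff_height_eq_depth _).mp hq
    have hF' := (Groth.Agent.H15.FibreCM.isCM_iff_height_eq_depth _).mp hF
    have hne : (maximalIdeal (EGA4.FibLocRing A B q)).height ≠ ⊤ :=
      Ideal.height_ne_top (Ideal.IsPrime.ne_top inferInstance)
    rw [cmAt_iff_height_eq_depth]
    rw [hdim', hdepth, ← hF'] at hq'
    exact ENat.add_left_injective_of_ne_top hne hq'
  · intro hp
    exact (cmAt_iff_fib A B q hp).mpr hF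

/-- Descent of openness of the CM locus along a faithfully flat map with CM fibres. -/
theorem isOpen_CM_of_faithfullyFlat [Module.FaithfullyFlat A B]
    (hfib : ∀ (p : Ideal A) [p.IsPrime], LocCoh.IsCohenMacaulayRing (p.Fiber B))
    (hB : IsOpen {q : PrimeSpectrum B |
      LocCoh.IsCohenMacaulayLocalRing (Localization.AtPrime q.asIdeal)}) :
    IsOpen {p : PrimeSpectrum A |
      LocCoh.IsCohenMacaulayLocalRing (Localization.AtPrime p.asIdeal)} := by
  have hquot : Topology.IsQuotientMap (PrimeSpectrum.comap (algebraMap A B)) :=
    PrimeSpectrum.isQuotientMap_of_generalizingMap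
      PrimeSpectrum.comap_surjective_of_faithfullyFlat
      (RingHom.Flat.generalizingMap_comap (RingHom.flat_algebraMap_iff.mpr inferInstance))
  rw [← hquot.isOpen_preimage]
  have heq : (PrimeSpectrum.comap (algebraMap A B)) ⁻¹' {p : PrimeSpectrum A |
      LocCoh.IsCohenMacaulayLocalRing (Localization.AtPrime p.asIdeal)} =
      {q : PrimeSpectrum B |
        LocCoh.IsCohenMacaulayLocalRing (Localization.AtPrime q.asIdeal)} := by
    ext q
    exact (cmAt_comap_iff A B hfib q.asIdeal).symm
  rw [heq]
  exact hB

end Flat

section Complete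

/-- A regular local ring is a regular ring. -/
theorem isRegularRing_of_isRegularLocalRing (P : Type u) [CommRing P] [IsRegularLocalRing P] :
    IsRegularRing P :=
  isRegularRing_iff.mpr (fun p _ => Groth.Agent.S0564.result P p)

/-- A complete Noetherian local ring is a quotient of a regular local ring. -/
theorem exists_regular_surjective (R : Type u) [CommRing R] [IsLocalRing R] [IsNoetherianRing R]
    [IsAdicComplete (maximalIdeal R) R] :
    ∃ (P : Type u) (_ : CommRing P) (_ : IsRegularLocalRing P) (f : P →+* R),
      Function.Surjective f := by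
  obtain ⟨Λ, _, n, f, hΛ, hf⟩ :=
    Groth.Agent.S0580.result R (maximalIdeal R).fg_of_isNoetherianRing
  have hreg : IsRegularLocalRing Λ := by
    rcases hΛ with h | h
    · let _ := h.toField
      infer_instance
    · obtain ⟨hdom, hdvr, -⟩ := h
      infer_instance
  haveI := hreg
  haveI := Groth.Agent.H15.PSRegular.isRegularLocalRing_mvPowerSeries (Λ := Λ) n
  exact ⟨MvPowerSeries (Fin n) Λ, inferInstance, inferInstance, f, hf⟩

/-- The CM locus of a quotient of a regular local ring is open. -/
theorem isOpen_CM_of_surjective {P R : Type u} [CommRing P] [IsRegularLocalRing P] [CommRing R]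
    (f : P →+* R) (hf : Function.Surjective f) :
    IsOpen {q : PrimeSpectrum R |
      LocCoh.IsCohenMacaulayLocalRing (Localization.AtPrime q.asIdeal)} := by
  haveI := isRegularRing_of_isRegularLocalRing P
  letI : Algebra P R := f.toAlgebra
  exact Groth.Agent.H71.CMOpen.isOpen_CM (P := P) (S := R) hf

/-- The CM locus of a complete Noetherian local ring is open. -/
theorem isOpen_CM_of_complete (R : Type u) [CommRing R] [IsLocalRing R] [IsNoetherianRing R]
    [IsAdicComplete (maximalIdeal R) R] :
    IsOpen {q : PrimeSpectrum R |
      LocCoh.IsCohenMacaulayLocalRing (Localization.AtPrime q.asIdeal)} := by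
  obtain ⟨P, _, _, f, hf⟩ := exists_regular_surjective R
  exact isOpen_CM_of_surjective f hf

end Complete

end Groth.Agent.H71.CMFormal
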