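import Groth.Agent.H71.SkKernel
import Mathlib.Algebra.Module.FinitePresentation
import Mathlib.LinearAlgebra.Dual.Defs

/-!
# Depth of `Hom(X, T)` and Serre's conditions for reflexive modules
-/

set_option autoImplicit false
universe u

open Groth.Agent.H58 Groth.Agent.H15.Depth Groth.Agent.H71.ZC Groth.Agent.H71.HC
open scoped Pointwise

namespace Groth.Agent.H71.SK

section HomDepth

variable {R : Type u} [CommRing R] {X T : Type u} [AddCommGroup X] [Module R X]
  [AddCommGroup T] [Module R T]

lemma isSMulRegular_quotSMulTop_iff {M : Type*} [AddCommGroup M] [Module R M] (x y : R) :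
    IsSMulRegular (QuotSMulTop x M) y ↔
      ∀ m : M, y • m ∈ x • (⊤ : Submodule R M) → m ∈ x • (⊤ : Submodule R M) := by
  rw [isSMulRegular_iff_right_eq_zero_of_smul]
  constructor
  · intro h m hm
    have h1 := h (Submodule.Quotient.mk m)
      (by rw [← Submodule.Quotient.mk_smul, Submodule.Quotient.mk_eq_zero]; exact hm)
    exact (Submodule.Quotient.mk_eq_zero _).mp h1
  · intro h a ha
    obtain ⟨m, rfl⟩ := Submodule.Quotient.mk_surjective _ a
    rw [← Submodule.Quotient.mk_smul, Submodule.Quotient.mk_eq_zero] at ha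
    exact (Submodule.Quotient.mk_eq_zero _).mpr (h m ha)

lemma isSMulRegular_linearMap {x : R} (hx : IsSMulRegular T x) :
    IsSMulRegular (X →ₗ[R] T) x := by
  intro φ ψ h
  ext n
  apply hx
  exact LinearMap.congr_fun h n

lemma isSMulRegular_quotSMulTop_linearMap {x y : R} (hx : IsSMulRegular T x)
    (hy : IsSMulRegular (QuotSMulTop x T) y) :
    IsSMulRegular (QuotSMulTop x (X →ₗ[R] T)) y := by
  rw [isSMulRegular_quotSMulTop_iff] at hy ⊢
  intro φ hφ
  obtain ⟨ψ, hψ⟩ := (Groth.Agent.H15.DepthOne.mem_smul_top_iff x _).mp hφ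
  have h1 : ∀ n, ∃ t, x • t = φ n := fun n =>
    (Groth.Agent.H15.DepthOne.mem_smul_top_iff x _).mp (hy (φ n)
      ((Groth.Agent.H15.DepthOne.mem_smul_top_iff x _).mpr
        ⟨ψ n, by rw [← LinearMap.smul_apply, hψ, LinearMap.smul_apply]⟩))
  choose θ hθ using h1
  rw [Groth.Agent.H15.DepthOne.mem_smul_top_iff]
  refine ⟨{ toFun := θ, map_add' := ?_, map_smul' := ?_ }, ?_⟩
  · intro a b
    apply hx
    show x • θ (a + b) = x • (θ a + θ b)
    rw [smul_add, hθ, hθ, hθ, map_add]
  · intro r a
    apply hx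
    show x • θ (r • a) = x • (r • θ a)
    rw [smul_comm, hθ, hθ, map_smul]
  · ext n
    exact hθ n

lemma hasSeq_linearMap {I : Ideal R} {n : ℕ} (hn : n ≤ 2) (h : HasSeq I T n) :
    HasSeq I (X →ₗ[R] T) n := by
  interval_cases n
  · exact hasSeq_zero
  · obtain ⟨x, hx, hxr, -⟩ := hasSeq_succ_iff.mp h
    exact hasSeq_succ_iff.mpr ⟨x, hx, isSMulRegular_linearMap hxr, hasSeq_zero⟩
  · obtain ⟨x, hx, hxr, h'⟩ := hasSeq_succ_iff.mp h
    obtain ⟨y, hy, hyr, -⟩ := hasSeq_succ_iff.mp h'
    exact hasSeq_succ_iff.mpr ⟨x, hx, isSMulRegular_linearMap hxr,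
      hasSeq_succ_iff.mpr ⟨y, hy, isSMulRegular_quotSMulTop_linearMap hxr hyr, hasSeq_zero⟩⟩

end HomDepth

section Reflexive

variable (A : Type u) [CommRing A] [IsNoetherianRing A] (G : Type u) [AddCommGroup G]
  [Module A G] [Module.Finite A G] [Module.IsReflexive A G]

/-- the localization of a reflexive module as a module of homomorphisms. -/
noncomputable def reflexiveLocEquiv (P : Ideal A) [P.IsPrime] :
    LocalizedModule P.primeCompl G ≃ₗ[Localization.AtPrime P]
      (LocalizedModule P.primeCompl (Module.Dual A G) →ₗ[Localization.AtPrime P]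
        LocalizedModule P.primeCompl A) :=
  haveI : Module.FinitePresentation A (Module.Dual A G) := Module.finitePresentation_of_finite A _
  (IsLocalizedModule.iso P.primeCompl
    ((LocalizedModule.map P.primeCompl (M := Module.Dual A G) (N := A)) ∘ₗ
      ((Module.evalEquiv A G : G ≃ₗ[A] (Module.Dual A G →ₗ[A] A)) :
        G →ₗ[A] (Module.Dual A G →ₗ[A] A)))).extendScalarsOfIsLocalization
    P.primeCompl (Localization.AtPrime P)

/-- ideal depth of a reflexive module, up to two. -/
theorem reflexive_idealDepth (I : Ideal A) (n : ℕ) (hn : n ≤ 2)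
    (h : (n : ℕ∞) ≤ LocCoh.idealDepth I A) : (n : ℕ∞) ≤ LocCoh.idealDepth I G := by
  by_cases hG : I • (⊤ : Submodule A G) = ⊤
  · rw [idealDepth_eq_top_of_smul_top_eq_top hG]; exact le_top
  · have hI : I • (⊤ : Submodule A A) ≠ ⊤ := by
      intro h1
      apply hG
      have h2 : I = ⊤ := by rwa [smul_eq_mul, Ideal.mul_top] at h1
      rw [h2, Submodule.top_smul]
    have h1 := (le_idealDepth_iff hI n).mp h
    have h2 : HasSeq I (Module.Dual A G →ₗ[A] A) n := hasSeq_linearMap hn h1
    exact (le_idealDepth_iff hG n).mpr (h2.congr (Module.evalEquiv A G).symm)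

/-- local depth of a reflexive module, up to two. -/
theorem reflexive_depth_localized (P : Ideal A) [P.IsPrime] (n : ℕ) (hn : n ≤ 2)
    (h : (n : ℕ∞) ≤ LocCoh.depth (Localization.AtPrime P) (LocalizedModule P.primeCompl A)) :
    (n : ℕ∞) ≤ LocCoh.depth (Localization.AtPrime P) (LocalizedModule P.primeCompl G) := by
  by_cases htop : IsLocalRing.maximalIdeal (Localization.AtPrime P) •
      (⊤ : Submodule (Localization.AtPrime P) (LocalizedModule P.primeCompl G)) = ⊤
  · unfold LocCoh.depth
    rw [idealDepth_eq_top_of_smul_top_eq_top htop]; exact le_top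
  · have hs := (le_idealDepth_iff (AQ.smul_top_localizedModule_self_ne_top P) n).mp h
    exact (le_idealDepth_iff htop n).mpr
      ((hasSeq_linearMap (X := LocalizedModule P.primeCompl (Module.Dual A G)) hn hs).congr
        (reflexiveLocEquiv A G P).symm)

lemma reflexive_key {k : ℕ} (hA : LocCoh.HasSk k A A) (P : Ideal A) [P.IsPrime] (n : ℕ)
    (hn : n ≤ 2) (hnk : n ≤ k)
    (c : (n : WithBot ℕ∞) ≤
      Module.supportDim (Localization.AtPrime P) (LocalizedModule P.primeCompl G)) :
    (n : ℕ∞) ≤ LocCoh.depth (Localization.AtPrime P) (LocalizedModule P.primeCompl G) := by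
  have hdim : Module.supportDim (Localization.AtPrime P) (LocalizedModule P.primeCompl G) ≤
      Module.supportDim (Localization.AtPrime P) (LocalizedModule P.primeCompl A) := by
    rw [supportDim_localizedModule_self]
    refine le_trans (Module.supportDim_le_ringKrullDim _ _) (le_of_eq ?_)
    exact IsLocalization.AtPrime.ringKrullDim_eq_height P (Localization.AtPrime P)
  exact reflexive_depth_localized A G P n hn (le_depth_of_hasSk P hA n hnk (le_trans c hdim))

theorem reflexive_hasSk_two (hA : LocCoh.HasSk 2 A A) : LocCoh.HasSk 2 A G := by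
  intro P hP
  apply hasSk_two_at P
  · exact reflexive_key A G hA P 1 (by norm_num) (by norm_num)
  · exact reflexive_key A G hA P 2 le_rfl le_rfl

theorem reflexive_hasSk_one (hA : LocCoh.HasSk 1 A A) : LocCoh.HasSk 1 A G := by
  intro P hP
  by_cases c1 : ((1 : ℕ) : WithBot ℕ∞) ≤
      Module.supportDim (Localization.AtPrime P) (LocalizedModule P.primeCompl G)
  · refine le_trans (min_le_left _ _) ?_
    rw [← WithBot.coe_natCast, WithBot.coe_le_coe]
    exact reflexive_key A G hA P 1 (by norm_num) le_rfl c1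
  · have hd0 := le_natCast_of_not_succ_le _ 0 c1
    refine le_trans (min_le_right _ _) (le_trans hd0 ?_)
    rw [← WithBot.coe_natCast, WithBot.coe_le_coe, Nat.cast_zero]
    exact zero_le

end Reflexive

end Groth.Agent.H71.SK
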