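import Groth.Agent.H71.SkSupport
import Mathlib.Algebra.Module.LocalizedModule.Exact

/-!
# Serre's conditions for kernels: the depth lemma in length two
-/

set_option autoImplicit false
universe u

open Groth.Agent.H58 Groth.Agent.H15.Depth Groth.Agent.H71.ZC Groth.Agent.H71.HC
open scoped Pointwise

namespace Groth.Agent.H71.SK

/-- exactness of localization, in terms of `LocalizedModule.map`. -/
lemma localizedModule_map_exact {R : Type*} [CommRing R] (S : Submonoid R) {M0 M1 M2 : Type*}
    [AddCommGroup M0] [Module R M0] [AddCommGroup M1] [Module R M1] [AddCommGroup M2]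
    [Module R M2] (g : M0 →ₗ[R] M1) (h : M1 →ₗ[R] M2) (ex : Function.Exact g h) :
    Function.Exact (LocalizedModule.map S g) (LocalizedModule.map S h) := by
  intro y
  exact LocalizedModule.map_exact S g h ex y

/-- depth lemma for kernels, length two. -/
lemma hasSeq_two_of_exact {R : Type u} [CommRing R] [IsNoetherianRing R] {I : Ideal R}
    {G E0 E1 : Type u} [AddCommGroup G] [Module R G] [AddCommGroup E0] [Module R E0]
    [Module.Finite R E0] [AddCommGroup E1] [Module R E1] [Module.Finite R E1]
    (i : G →ₗ[R] E0) (v : E0 →ₗ[R] E1) (hi : Function.Injective i) (hex : Function.Exact i v)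
    (h0 : HasSeq I E0 2) (h1 : ∃ a ∈ I, IsSMulRegular E1 a) : HasSeq I G 2 := by
  obtain ⟨a0, ha0, ha0r, -⟩ := hasSeq_succ_iff.mp h0
  obtain ⟨z, hz, hz0, hz1, -⟩ := exists_common_regular (I := I) E0 E1 E1 ⟨a0, ha0, ha0r⟩ h1 h1
  have hq : HasSeq I (QuotSMulTop z E0) 1 := hasSeq_quot_of_hasSeq_succ hz hz0 h0
  obtain ⟨y, hy, hyr, -⟩ := hasSeq_succ_iff.mp hq
  have hzG : IsSMulRegular G z := IsSMulRegular.of_injective i hi hz0
  have hibar : Function.Injective (QuotSMulTop.map z i) := by
    rw [injective_iff_map_eq_zero]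
    intro a ha
    obtain ⟨g, rfl⟩ := Submodule.Quotient.mk_surjective _ a
    rw [QuotSMulTop.map_apply_mk, Submodule.Quotient.mk_eq_zero,
      Groth.Agent.H15.DepthOne.mem_smul_top_iff] at ha
    obtain ⟨e, he⟩ := ha
    have h2 : z • v e = z • (0 : E1) := by
      rw [smul_zero, ← map_smul, he]
      exact (hex (i g)).mpr ⟨g, rfl⟩
    have h3 : v e = 0 := hz1 h2
    obtain ⟨g', hg'⟩ := (hex e).mp h3
    rw [Submodule.Quotient.mk_eq_zero, Groth.Agent.H15.DepthOne.mem_smul_top_iff]
    refine ⟨g', hi ?_⟩
    rw [map_smul, hg', he]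
  have hyG : IsSMulRegular (QuotSMulTop z G) y :=
    IsSMulRegular.of_injective (QuotSMulTop.map z i) hibar hyr
  exact hasSeq_succ_iff.mpr ⟨z, hz, hzG, hasSeq_succ_iff.mpr ⟨y, hy, hyG, hasSeq_zero⟩⟩

lemma natCast_le_natCast {m n : ℕ} (h : m ≤ n) : ((m : ℕ) : WithBot ℕ∞) ≤ (n : WithBot ℕ∞) := by
  rw [← WithBot.coe_natCast, ← WithBot.coe_natCast, WithBot.coe_le_coe]
  exact Nat.cast_le.mpr h

lemma le_natCast_of_not_succ_le (d : WithBot ℕ∞) (n : ℕ)
    (h : ¬ ((n + 1 : ℕ) : WithBot ℕ∞) ≤ d) : d ≤ (n : WithBot ℕ∞) := by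
  induction d using WithBot.recBotCoe with
  | bot => exact bot_le
  | coe e =>
    rw [← WithBot.coe_natCast, WithBot.coe_le_coe] at h ⊢
    rw [not_le, Nat.cast_add, Nat.cast_one] at h
    exact Order.le_of_lt_add_one h

section

variable {R : Type u} [CommRing R] (M N : Type u) [AddCommGroup M] [Module R M]
  [AddCommGroup N] [Module R N] (P : Ideal R) [P.IsPrime]

lemma supportDim_localized_le_of_support_subset
    (h : Module.support R M ⊆ Module.support R N) :
    Module.supportDim (Localization.AtPrime P) (LocalizedModule P.primeCompl M) ≤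
      Module.supportDim (Localization.AtPrime P) (LocalizedModule P.primeCompl N) := by
  refine Order.krullDim_le_of_strictMono (fun a => ⟨a.1, ?_⟩) (fun {_ _} lt => lt)
  rw [mem_support_localizedModule_iff]
  exact h ((mem_support_localizedModule_iff M P a.1).mp a.2)

variable {M}

/-- how `(S_k)` is used at a prime. -/
lemma le_depth_of_hasSk {k : ℕ} (hS : LocCoh.HasSk k R M) (n : ℕ) (hn : n ≤ k)
    (hd : (n : WithBot ℕ∞) ≤
      Module.supportDim (Localization.AtPrime P) (LocalizedModule P.primeCompl M)) :
    (n : ℕ∞) ≤ LocCoh.depth (Localization.AtPrime P) (LocalizedModule P.primeCompl M) := by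
  have h1 := le_trans (le_min (natCast_le_natCast hn) hd) (hS P)
  rw [← WithBot.coe_natCast, WithBot.coe_le_coe] at h1
  exact h1

end

/-- how `(S_k)` is proved at a prime, `k ≤ 2`. -/
lemma hasSk_two_at {R : Type u} [CommRing R] {M : Type u} [AddCommGroup M] [Module R M]
    (P : Ideal R) [P.IsPrime]
    (h1 : ((1 : ℕ) : WithBot ℕ∞) ≤
      Module.supportDim (Localization.AtPrime P) (LocalizedModule P.primeCompl M) →
      ((1 : ℕ) : ℕ∞) ≤ LocCoh.depth (Localization.AtPrime P) (LocalizedModule P.primeCompl M))
    (h2 : ((2 : ℕ) : WithBot ℕ∞) ≤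
      Module.supportDim (Localization.AtPrime P) (LocalizedModule P.primeCompl M) →
      ((2 : ℕ) : ℕ∞) ≤ LocCoh.depth (Localization.AtPrime P) (LocalizedModule P.primeCompl M)) :
    min ((2 : ℕ) : WithBot ℕ∞)
      (Module.supportDim (Localization.AtPrime P) (LocalizedModule P.primeCompl M)) ≤
      ((LocCoh.depth (Localization.AtPrime P) (LocalizedModule P.primeCompl M) : ℕ∞) :
        WithBot ℕ∞) := by
  by_cases c2 : ((2 : ℕ) : WithBot ℕ∞) ≤
      Module.supportDim (Localization.AtPrime P) (LocalizedModule P.primeCompl M)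
  · refine le_trans (min_le_left _ _) ?_
    rw [← WithBot.coe_natCast, WithBot.coe_le_coe]
    exact h2 c2
  · have hd1 := le_natCast_of_not_succ_le _ 1 c2
    by_cases c1 : ((1 : ℕ) : WithBot ℕ∞) ≤
        Module.supportDim (Localization.AtPrime P) (LocalizedModule P.primeCompl M)
    · refine le_trans (min_le_right _ _) (le_trans hd1 ?_)
      rw [← WithBot.coe_natCast, WithBot.coe_le_coe]
      exact h1 c1
    · have hd0 := le_natCast_of_not_succ_le _ 0 c1
      refine le_trans (min_le_right _ _) (le_trans hd0 ?_)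
      rw [← WithBot.coe_natCast, WithBot.coe_le_coe, Nat.cast_zero]
      exact zero_le

/-- `(S_1)` and `(S_2)` for the kernel of a linear map. -/
theorem hasSk_ker (A : Type u) [CommRing A] [IsNoetherianRing A]
    (E0 E1 : Type u) [AddCommGroup E0] [Module A E0] [Module.Finite A E0] [AddCommGroup E1]
    [Module A E1] [Module.Finite A E1] (u : E0 →ₗ[A] E1) :
    (LocCoh.HasSk 1 A E0 → LocCoh.HasSk 1 A (LinearMap.ker u)) ∧
    (Module.support A (LinearMap.ker u) ⊆ Module.support A E1 → LocCoh.HasSk 1 A E1 →
      LocCoh.HasSk 2 A E0 → LocCoh.HasSk 2 A (LinearMap.ker u)) := by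
  constructor
  · intro h
    have h' := noEmbedded_iff_S1.mpr h
    apply noEmbedded_iff_S1.mp
    intro p hp
    have hp0 : p ∈ associatedPrimes A E0 :=
      associatedPrimes.subset_of_injective (f := (LinearMap.ker u).subtype)
        (Submodule.injective_subtype _) hp
    have hmin := h' p hp0
    have hle : Module.annihilator A E0 ≤ Module.annihilator A (LinearMap.ker u) :=
      LinearMap.annihilator_le_of_injective (LinearMap.ker u).subtype
        (Submodule.injective_subtype _)
    have hann : Module.annihilator A (LinearMap.ker u) ≤ p := by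
      rw [← Submodule.annihilator_top]; exact IsAssociatedPrime.annihilator_le hp
    exact ⟨⟨hmin.1.1, hann⟩, fun q hq hqp => hmin.2 ⟨hq.1, le_trans hle hq.2⟩ hqp⟩
  · intro hsupp hE1 hE0 P hP
    have hiP : Function.Injective (LocalizedModule.map P.primeCompl (LinearMap.ker u).subtype) :=
      LocalizedModule.map_injective _ _ (Submodule.injective_subtype _)
    have hex : Function.Exact (LocalizedModule.map P.primeCompl (LinearMap.ker u).subtype)
        (LocalizedModule.map P.primeCompl u) :=
      localizedModule_map_exact _ _ _ (LinearMap.exact_subtype_ker_map u)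
    by_cases htop : IsLocalRing.maximalIdeal (Localization.AtPrime P) •
        (⊤ : Submodule (Localization.AtPrime P)
          (LocalizedModule P.primeCompl (LinearMap.ker u))) = ⊤
    · unfold LocCoh.depth
      rw [idealDepth_eq_top_of_smul_top_eq_top htop, WithBot.coe_top]
      exact le_top
    have hntG : Nontrivial (LocalizedModule P.primeCompl (LinearMap.ker u)) := by
      by_contra hnt
      rw [not_nontrivial_iff_subsingleton] at hnt
      apply htop
      rw [Submodule.eq_top_iff']
      intro x
      rw [Subsingleton.elim x 0]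
      exact zero_mem _
    have hPG : (⟨P, hP⟩ : PrimeSpectrum A) ∈ Module.support A (LinearMap.ker u) :=
      Module.mem_support_iff.mpr hntG
    have hntE1 : Nontrivial (LocalizedModule P.primeCompl E1) :=
      Module.mem_support_iff.mp (hsupp hPG)
    have hntE0 : Nontrivial (LocalizedModule P.primeCompl E0) := hiP.nontrivial
    have htop0 : IsLocalRing.maximalIdeal (Localization.AtPrime P) •
        (⊤ : Submodule (Localization.AtPrime P) (LocalizedModule P.primeCompl E0)) ≠ ⊤ :=
      fun h => not_subsingleton _ (subsingleton_of_smul_top_eq_top (M := E0) P h)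
    have htop1 : IsLocalRing.maximalIdeal (Localization.AtPrime P) •
        (⊤ : Submodule (Localization.AtPrime P) (LocalizedModule P.primeCompl E1)) ≠ ⊤ :=
      fun h => not_subsingleton _ (subsingleton_of_smul_top_eq_top (M := E1) P h)
    have hd0 : Module.supportDim (Localization.AtPrime P)
        (LocalizedModule P.primeCompl (LinearMap.ker u)) ≤
        Module.supportDim (Localization.AtPrime P) (LocalizedModule P.primeCompl E0) :=
      Module.supportDim_le_of_injective _ hiP
    have hd1 : Module.supportDim (Localization.AtPrime P)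
        (LocalizedModule P.primeCompl (LinearMap.ker u)) ≤
        Module.supportDim (Localization.AtPrime P) (LocalizedModule P.primeCompl E1) :=
      supportDim_localized_le_of_support_subset _ _ P hsupp
    apply hasSk_two_at P
    · intro c1
      have e0 := le_depth_of_hasSk P hE0 1 (by norm_num) (le_trans c1 hd0)
      obtain ⟨x, hx, hxr, -⟩ := hasSeq_succ_iff.mp ((le_idealDepth_iff htop0 1).mp e0)
      exact (le_idealDepth_iff htop 1).mpr (hasSeq_succ_iff.mpr
        ⟨x, hx, IsSMulRegular.of_injective _ hiP hxr, hasSeq_zero⟩)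
    · intro c2
      have e0 := le_depth_of_hasSk P hE0 2 le_rfl (le_trans c2 hd0)
      have e1 := le_depth_of_hasSk P hE1 1 le_rfl
        (le_trans (natCast_le_natCast (by norm_num : 1 ≤ 2)) (le_trans c2 hd1))
      obtain ⟨x, hx, hxr, -⟩ := hasSeq_succ_iff.mp ((le_idealDepth_iff htop1 1).mp e1)
      exact (le_idealDepth_iff htop 2).mpr (hasSeq_two_of_exact _ _ hiP hex
        ((le_idealDepth_iff htop0 2).mp e0) ⟨x, hx, hxr⟩)

end Groth.Agent.H71.SK
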