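import Mathlib
import Groth.Agent.S5782
import Groth.Agent.S5791
import Groth.Agent.S0604
import Groth.Agent.H29.Depth
import Groth.Agent.H71.SerreRegular

/-!
# Vasconcelos' theorem: an ideal of finite projective dimension with projective conormal module
is locally generated by a regular sequence.
-/

set_option autoImplicit false
universe u
open CategoryTheory IsLocalRing

namespace Groth.Agent.H71.VAS

open Groth.Agent.H71.SR

section basic
variable {R : Type u} [CommRing R]

theorem finPD_of_ses_right {M₁ M₂ M₃ : Type u} [AddCommGroup M₁] [Module R M₁] [AddCommGroup M₂]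
    [Module R M₂] [AddCommGroup M₃] [Module R M₃]
    (f : M₁ →ₗ[R] M₂) (g : M₂ →ₗ[R] M₃) (hinj : Function.Injective f)
    (hex : Function.Exact f g) (hsurj : Function.Surjective g)
    (h₁ : FinPD R M₁) (h₂ : FinPD R M₂) : FinPD R M₃ := by
  obtain ⟨a, ha⟩ := h₁
  obtain ⟨b, hb⟩ := h₂
  let S := ModuleCat.shortComplexOfCompEqZero f g hex.linearMap_comp_eq_zero
  have hS : S.ShortExact := ModuleCat.shortComplex_shortExact S hex hinj hsurj
  have ha' : HasProjectiveDimensionLT S.X₁ (max a b) :=
    hasProjectiveDimensionLT_of_ge (ModuleCat.of R M₁) a _ (le_max_left _ _)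
  have hb' : HasProjectiveDimensionLT S.X₂ (max a b + 1) :=
    hasProjectiveDimensionLT_of_ge (ModuleCat.of R M₂) b _ (by omega)
  exact ⟨max a b + 1, hS.hasProjectiveDimensionLT_X₃ (max a b) ha' hb'⟩

end basic

section lemmaA
variable {A : Type u} [CommRing A] [IsNoetherianRing A]

/-- If `I ≤ P` with `P` an associated prime of `A` and `A/I` has finite projective dimension,
then every element of `I` is killed by an element outside `P`. -/
theorem exists_mul_eq_zero_of_le_assPrime (I : Ideal A) (hfin : FinPD A (A ⧸ I))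
    (P : Ideal A) (hP : P ∈ associatedPrimes A A) (hIP : I ≤ P) (w : A) (hw : w ∈ I) :
    ∃ s, s ∉ P ∧ s * w = 0 := by
  haveI hPprime : P.IsPrime := hP.isPrime
  obtain ⟨_, z, hz⟩ := isAssociatedPrime_iff.mp hP
  have hPz : ∀ a, a ∈ P ↔ a * z = 0 := by
    intro a
    rw [hz, Submodule.mem_colon_singleton]
    simp
  have hz0 : z ≠ 0 := by
    rintro rfl
    exact hPprime.ne_top ((Ideal.eq_top_iff_one _).mpr ((hPz 1).mpr (by simp)))
  obtain ⟨n, hn⟩ := hfin
  have hn1 : HasProjectiveDimensionLT (ModuleCat.of A (A ⧸ I)) (n + 1) :=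
    hasProjectiveDimensionLT_of_ge _ n (n + 1) (Nat.le_succ n)
  have hloc := (Groth.Agent.S5791.result A (A ⧸ I) n).mp hn1 ⟨P, hPprime⟩
  haveI : Nontrivial (LocalizedModule P.primeCompl (A ⧸ I)) := by
    have : (⟨P, hPprime⟩ : PrimeSpectrum A) ∈ Module.support A (A ⧸ I) := by
      rw [Module.mem_support_iff_of_finite, Ideal.annihilator_quotient]
      exact hIP
    exact Module.mem_support_iff.mp this
  -- depth zero
  have hzB : algebraMap A (Localization.AtPrime P) z ≠ 0 := by
    intro h0
    obtain ⟨m, hm⟩ := (IsLocalization.map_eq_zero_iff P.primeCompl _ z).mp h0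
    exact m.2 ((hPz m).mpr hm)
  have hdepth : LocCoh.depth (Localization.AtPrime P) (Localization.AtPrime P) = 0 := by
    rw [Groth.Agent.H29.depth_eq_zero_iff]
    refine ⟨Groth.Agent.H29.maximalIdeal_smul_top_ne_top _ _, ?_⟩
    intro r hr hreg
    obtain ⟨a, s, rfl⟩ := IsLocalization.exists_mk'_eq P.primeCompl r
    have ha : a ∈ P := (IsLocalization.AtPrime.mk'_mem_maximal_iff _ P a s).mp hr
    have h1 : (IsLocalization.mk' (Localization.AtPrime P) a s *
        algebraMap A (Localization.AtPrime P) z) *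
        algebraMap A (Localization.AtPrime P) s = 0 := by
      rw [mul_right_comm, IsLocalization.mk'_spec, ← map_mul, (hPz a).mp ha, map_zero]
    have h2 : IsLocalization.mk' (Localization.AtPrime P) a s *
        algebraMap A (Localization.AtPrime P) z = 0 :=
      (IsLocalization.map_units (Localization.AtPrime P) s).mul_left_eq_zero.mp h1
    exact hzB (hreg.right_eq_zero_of_smul h2)
  -- Auslander–Buchsbaum
  have hlt : projectiveDimension (ModuleCat.of (Localization.AtPrime P)
      (LocalizedModule P.primeCompl (A ⧸ I))) < ((n + 1 : ℕ) : WithBot ℕ∞) :=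
    projectiveDimension_lt_iff.mpr hloc
  have hne : projectiveDimension (ModuleCat.of (Localization.AtPrime P)
      (LocalizedModule P.primeCompl (A ⧸ I))) ≠ ⊥ := by
    rw [Ne, projectiveDimension_eq_bot_iff, ModuleCat.isZero_iff_subsingleton]
    exact not_subsingleton _
  obtain ⟨e, he⟩ : ∃ e : ℕ, projectiveDimension (ModuleCat.of (Localization.AtPrime P)
      (LocalizedModule P.primeCompl (A ⧸ I))) = e := by
    generalize projectiveDimension (ModuleCat.of (Localization.AtPrime P)
      (LocalizedModule P.primeCompl (A ⧸ I))) = d at hlt hne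
    induction d with
    | bot => exact absurd rfl hne
    | coe d =>
      induction d with
      | top =>
        exfalso
        have h' : ((⊤ : ℕ∞)) < ((n + 1 : ℕ) : ℕ∞) := by exact_mod_cast hlt
        simp at h'
      | coe e => exact ⟨e, rfl⟩
  have hAB := Groth.Agent.S0604.result (Localization.AtPrime P)
    (LocalizedModule P.primeCompl (A ⧸ I)) e he
  rw [hdepth] at hAB
  have he0 : e = 0 := by
    have h3 := (add_eq_zero.mp hAB.symm).1
    exact_mod_cast h3
  subst he0
  have hproj : Module.Projective (Localization.AtPrime P)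
      (LocalizedModule P.primeCompl (A ⧸ I)) := by
    rw [IsProjective.iff_projective]
    exact ((projectiveDimension_eq_zero_iff _).mp (by exact_mod_cast he)).1
  haveI : Module.Free (Localization.AtPrime P) (LocalizedModule P.primeCompl (A ⧸ I)) :=
    Module.free_of_flat_of_isLocalRing
  have hw0 : algebraMap A (Localization.AtPrime P) w = 0 := by
    apply eq_of_smul_eq_smul (M := Localization.AtPrime P)
      (α := LocalizedModule P.primeCompl (A ⧸ I))
    intro m
    rw [zero_smul, algebraMap_smul]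
    induction m using LocalizedModule.induction_on with
    | h a' s =>
      obtain ⟨a'', rfl⟩ := Ideal.Quotient.mk_surjective a'
      rw [LocalizedModule.smul'_mk]
      have : w • (Ideal.Quotient.mk I a'') = 0 := by
        rw [← Ideal.Quotient.mk_eq_mk, ← Submodule.Quotient.mk_smul,
          Submodule.Quotient.mk_eq_zero]
        exact I.mul_mem_right a'' hw
      rw [this, LocalizedModule.zero_mk]
  obtain ⟨m, hm⟩ := (IsLocalization.map_eq_zero_iff P.primeCompl _ w).mp hw0
  exact ⟨m, m.2, hm⟩

end lemmaA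


section pcs
variable {A : Type u} [CommRing A]

/-- Projective coordinate system for the conormal module of `J`, in elementwise form. -/
def HasPCS (J : Ideal A) : Prop :=
  ∃ (k : ℕ) (y : Fin k → A) (φ : Fin k → (J →ₗ[A] A ⧸ J)), (∀ l, y l ∈ J) ∧
    ∀ (z : J) (a : Fin k → A), (∀ l, Ideal.Quotient.mk J (a l) = φ l z) →
      (z : A) - ∑ l, a l * y l ∈ J ^ 2

theorem exists_functional_eq_one [IsLocalRing A] (J : Ideal A) (hJ : J ≠ ⊤) (h : HasPCS J)
    (z : A) (hz : z ∈ J) (hzm : z ∉ maximalIdeal A * J) :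
    ∃ ψ : J →ₗ[A] A ⧸ J, ψ ⟨z, hz⟩ = 1 := by
  obtain ⟨k, y, φ, hy, hφ⟩ := h
  have hJm : J ≤ maximalIdeal A := le_maximalIdeal hJ
  by_contra hcon
  push Not at hcon
  have hnu : ∀ l, ¬ IsUnit (φ l ⟨z, hz⟩) := by
    intro l hu
    apply hcon ((LinearMap.mulLeft A (↑hu.unit⁻¹ : A ⧸ J)).comp (φ l))
    rw [LinearMap.comp_apply, LinearMap.mulLeft_apply]
    exact hu.val_inv_mul
  choose a ha using fun l => Ideal.Quotient.mk_surjective (φ l ⟨z, hz⟩)
  have ham : ∀ l, a l ∈ maximalIdeal A := by
    intro l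
    by_contra hna
    have hu : IsUnit (a l) := notMem_maximalIdeal.mp hna
    exact hnu l (ha l ▸ hu.map (Ideal.Quotient.mk J))
  have h1 := hφ ⟨z, hz⟩ a ha
  apply hzm
  have h2 : ∑ l, a l * y l ∈ maximalIdeal A * J :=
    Ideal.sum_mem _ (fun l _ => Ideal.mul_mem_mul (ham l) (hy l))
  have h3 : J ^ 2 ≤ maximalIdeal A * J := by
    rw [sq]
    exact Ideal.mul_mono_left hJm
  have h4 : z = (z - ∑ l, a l * y l) + ∑ l, a l * y l := by ring
  rw [h4]
  exact Ideal.add_mem _ (h3 h1) h2

theorem exists_nzd_notMem_mul [IsLocalRing A] [IsNoetherianRing A] (J : Ideal A) (hJ0 : J ≠ ⊥)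
    (hass : ∀ P ∈ associatedPrimes A A, ¬ J ≤ P) :
    ∃ x ∈ J, x ∉ maximalIdeal A * J ∧ x ∈ nonZeroDivisors A := by
  classical
  by_contra hcon
  push Not at hcon
  let s : Finset (Ideal A) :=
    insert (maximalIdeal A * J) (associatedPrimes.finite A A).toFinset
  have hsub : (↑J : Set A) ⊆ ⋃ i ∈ (↑s : Set (Ideal A)), (↑i : Set A) := by
    intro x hx
    by_cases hx2 : x ∈ maximalIdeal A * J
    · exact Set.mem_biUnion (show maximalIdeal A * J ∈ (↑s : Set (Ideal A)) by simp [s]) hx2
    · have hnz := hcon x hx hx2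
      have hmem : x ∈ (↑(nonZeroDivisors A) : Set A)ᶜ := hnz
      rw [← biUnion_associatedPrimes_eq_compl_nonZeroDivisors A] at hmem
      obtain ⟨p, hp, hxp⟩ := Set.mem_iUnion₂.mp hmem
      exact Set.mem_biUnion (show p ∈ (↑s : Set (Ideal A)) by simp [s, hp]) hxp
  have hprime : ∀ i ∈ s, i ≠ maximalIdeal A * J → i ≠ maximalIdeal A * J → i.IsPrime := by
    intro i hi h1 _
    have hi' : i ∈ (associatedPrimes.finite A A).toFinset := by
      rcases Finset.mem_insert.mp hi with h | h
      · exact absurd h h1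
      · exact h
    exact ((Set.Finite.mem_toFinset _).mp hi').isPrime
  obtain ⟨i, hi, hle⟩ := (Ideal.subset_union_prime (f := fun i : Ideal A => i)
    (maximalIdeal A * J) (maximalIdeal A * J) hprime).mp hsub
  rcases Finset.mem_insert.mp hi with h | h
  · subst h
    apply hJ0
    refine Submodule.eq_bot_of_le_smul_of_le_jacobson_bot (maximalIdeal A) J
      (IsNoetherian.noetherian _) ?_ (IsLocalRing.jacobson_eq_maximalIdeal ⊥ bot_ne_top).ge
    rw [smul_eq_mul]
    exact hle
  · have hi' : i ∈ associatedPrimes A A := (Set.Finite.mem_toFinset _).mp h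
    exact hass i hi' hle

/-- elementwise regular sequence on the ring itself -/
def ElemReg (rs : List A) : Prop :=
  ∀ (i : ℕ) (h : i < rs.length) (w : A),
    rs[i] * w ∈ Ideal.ofList (rs.take i) → w ∈ Ideal.ofList (rs.take i)

theorem isWeaklyRegular_of_elemReg (rs : List A) (h : ElemReg rs) :
    RingTheory.Sequence.IsWeaklyRegular A rs := by
  refine ⟨fun i hi => ?_⟩
  rw [isSMulRegular_quotient_iff_mem_of_smul_mem]
  intro w hw
  have hI : (Ideal.ofList (rs.take i) • ⊤ : Submodule A A) = Ideal.ofList (rs.take i) := by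
    simp
  rw [hI] at hw ⊢
  exact h i hi w hw

theorem mem_sup_span_of_mk_mem_map (x : A) (K : Ideal A) (t : A)
    (h : Ideal.Quotient.mk (Ideal.span {x}) t ∈ K.map (Ideal.Quotient.mk (Ideal.span {x}))) :
    t ∈ Ideal.span {x} ⊔ K := by
  obtain ⟨j, hj, hjt⟩ := (Ideal.mem_map_iff_of_surjective _ Ideal.Quotient.mk_surjective).mp h
  have h1 : t - j ∈ Ideal.span {x} := Ideal.Quotient.eq.mp hjt.symm
  have ht : t = (t - j) + j := by ring
  rw [ht]
  exact Submodule.add_mem_sup h1 hj

theorem elemReg_cons (x : A) (hx : x ∈ nonZeroDivisors A) (rs : List A)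
    (h : ElemReg (rs.map (Ideal.Quotient.mk (Ideal.span {x})))) : ElemReg (x :: rs) := by
  intro i hi w hw
  cases i with
  | zero =>
    simp only [List.take_zero, Ideal.ofList_nil, List.getElem_cons_zero, Ideal.mem_bot] at hw ⊢
    exact (mul_comm x w ▸ hw : w * x = 0) |> (mem_nonZeroDivisors_iff_right.mp hx w)
  | succ j =>
    have hj : j < rs.length := by simpa using hi
    simp only [List.getElem_cons_succ, List.take_succ_cons, Ideal.ofList_cons] at hw ⊢
    have hj' : j < (rs.map (Ideal.Quotient.mk (Ideal.span {x}))).length := by simpa using hj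
    have hx0 : Ideal.Quotient.mk (Ideal.span {x}) x = 0 :=
      Ideal.Quotient.eq_zero_iff_mem.mpr (Ideal.mem_span_singleton_self x)
    have htake : Ideal.ofList ((rs.map (Ideal.Quotient.mk (Ideal.span {x}))).take j) =
        (Ideal.ofList (rs.take j)).map (Ideal.Quotient.mk (Ideal.span {x})) := by
      rw [Ideal.map_ofList, List.map_take]
    have h1 : (rs.map (Ideal.Quotient.mk (Ideal.span {x})))[j] *
        Ideal.Quotient.mk (Ideal.span {x}) w ∈
        Ideal.ofList ((rs.map (Ideal.Quotient.mk (Ideal.span {x}))).take j) := by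
      rw [htake, List.getElem_map, ← map_mul]
      have h2 := Ideal.mem_map_of_mem (Ideal.Quotient.mk (Ideal.span {x})) hw
      rw [Ideal.map_sup, Ideal.map_span, Set.image_singleton, hx0] at h2
      simpa using h2
    have h3 := h j hj' _ h1
    rw [htake] at h3
    exact mem_sup_span_of_mk_mem_map x _ w h3

end pcs


section quot
variable {A : Type u} [CommRing A]

theorem smul_quot_quot (x : A) (J' : Ideal (A ⧸ Ideal.span {x})) (a : A)
    (w : (A ⧸ Ideal.span {x}) ⧸ J') :
    a • w = Ideal.Quotient.mk J' (Ideal.Quotient.mk (Ideal.span {x}) a) * w := by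
  obtain ⟨w', rfl⟩ := Ideal.Quotient.mk_surjective w
  obtain ⟨w'', rfl⟩ := Ideal.Quotient.mk_surjective w'
  rfl

/-- the canonical map `A/J → (A/x)/(J/x)` as an `A`-linear map -/
noncomputable def thetaL (J : Ideal A) (x : A) :
    (A ⧸ J) →ₗ[A] ((A ⧸ Ideal.span {x}) ⧸ J.map (Ideal.Quotient.mk (Ideal.span {x}))) :=
  { toFun := Ideal.quotientMap (J.map (Ideal.Quotient.mk (Ideal.span {x})))
      (Ideal.Quotient.mk (Ideal.span {x})) Ideal.le_comap_map
    map_add' := map_add _
    map_smul' := by
      intro a w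
      rw [RingHom.id_apply, smul_quot_quot, Algebra.smul_def, map_mul]
      congr 1 }

theorem thetaL_mk (J : Ideal A) (x : A) (a : A) :
    thetaL J x (Ideal.Quotient.mk J a) =
      Ideal.Quotient.mk _ (Ideal.Quotient.mk (Ideal.span {x}) a) := by
  show Ideal.quotientMap (J.map (Ideal.Quotient.mk (Ideal.span {x})))
      (Ideal.Quotient.mk (Ideal.span {x})) Ideal.le_comap_map (Ideal.Quotient.mk J a) = _
  rw [Ideal.quotientMap_mk]

theorem thetaL_one (J : Ideal A) (x : A) : thetaL J x 1 = 1 := by
  show Ideal.quotientMap (J.map (Ideal.Quotient.mk (Ideal.span {x})))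
      (Ideal.Quotient.mk (Ideal.span {x})) Ideal.le_comap_map (1 : A ⧸ J) = _
  rw [map_one]

end quot

section quotFinPD
variable {A : Type u} [CommRing A] [IsLocalRing A] [IsNoetherianRing A]

theorem finPD_quotient' (J : Ideal A) (x : A) (hxJ : x ∈ J) (hxm : x ∈ maximalIdeal A)
    (hreg : x ∈ nonZeroDivisors A) (ψ : J →ₗ[A] A ⧸ J) (hψ : ψ ⟨x, hxJ⟩ = 1)
    [IsLocalRing (A ⧸ Ideal.span {x})] (hk : FinPD A (A ⧸ J)) :
    FinPD (A ⧸ Ideal.span {x})
      ((A ⧸ Ideal.span {x}) ⧸ J.map (Ideal.Quotient.mk (Ideal.span {x}))) := by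
  classical
  have hm : FinPD A J :=
    FinPD.of_ses_left (Submodule.subtype J) (Submodule.mkQ J)
      (Submodule.injective_subtype _)
      (LinearMap.exact_subtype_mkQ _) (Submodule.mkQ_surjective _) FinPD.self hk
  have hfin : projectiveDimension (ModuleCat.of A J) ≠ ⊤ := by
    obtain ⟨n, hn⟩ := hm
    exact (projectiveDimension_ne_top_iff _).mpr
      ⟨n, hasProjectiveDimensionLT_of_ge _ n (n + 1) (Nat.le_succ n)⟩
  have hA : IsSMulRegular A x := (isRegular_iff_mem_nonZeroDivisors.mpr hreg).left.isSMulRegular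
  have hE : IsSMulRegular J x :=
    IsSMulRegular.of_injective (Submodule.subtype J) (Submodule.injective_subtype _) hA
  have h5782 := Groth.Agent.S5782.result A J hfin x hxm hA hE
  have hE' : FinPD (A ⧸ Ideal.span {x})
      (J ⧸ (Ideal.span {x} • (⊤ : Submodule A J))) := by
    have hne : projectiveDimension (ModuleCat.of (A ⧸ Ideal.span {x})
        (J ⧸ (Ideal.span {x} • (⊤ : Submodule A J)))) ≠ ⊤ := by
      intro htop
      rw [htop] at h5782
      exact hfin (top_le_iff.mp h5782)
    obtain ⟨n, hn⟩ := (projectiveDimension_ne_top_iff _).mp hne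
    exact ⟨n + 1, hn⟩
  -- retraction
  let ψ₀ : J →ₗ[A] ((A ⧸ Ideal.span {x}) ⧸ J.map (Ideal.Quotient.mk (Ideal.span {x}))) :=
    (thetaL J x) ∘ₗ ψ
  have hψ₀ : ψ₀ ⟨x, hxJ⟩ = 1 := by
    show thetaL J x (ψ ⟨x, hxJ⟩) = 1
    rw [hψ, thetaL_one]
  have hker' : (Ideal.span {x} • (⊤ : Submodule A J)) ≤ LinearMap.ker ψ₀ := by
    rw [Submodule.smul_le]
    intro a ha e _
    rw [LinearMap.mem_ker, map_smul, smul_quot_quot,
      Ideal.Quotient.eq_zero_iff_mem.mpr ha, map_zero, zero_mul]
  let ρ₀ : (J ⧸ (Ideal.span {x} • (⊤ : Submodule A J))) →ₗ[A]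
      ((A ⧸ Ideal.span {x}) ⧸ J.map (Ideal.Quotient.mk (Ideal.span {x}))) :=
    Submodule.liftQ _ ψ₀ hker'
  let ρ : (J ⧸ (Ideal.span {x} • (⊤ : Submodule A J))) →ₗ[A ⧸ Ideal.span {x}]
      ((A ⧸ Ideal.span {x}) ⧸ J.map (Ideal.Quotient.mk (Ideal.span {x}))) :=
    LinearMap.extendScalarsOfSurjective
      (Ideal.Quotient.mk_surjective :
        Function.Surjective (algebraMap A (A ⧸ Ideal.span {x}))) ρ₀
  let ξ : J ⧸ (Ideal.span {x} • (⊤ : Submodule A J)) := Submodule.Quotient.mk ⟨x, hxJ⟩
  have hkerξ : J.map (Ideal.Quotient.mk (Ideal.span {x})) ≤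
      LinearMap.ker (LinearMap.toSpanSingleton (A ⧸ Ideal.span {x})
        (J ⧸ (Ideal.span {x} • (⊤ : Submodule A J))) ξ) := by
    intro ā hā
    obtain ⟨a, ha, rfl⟩ := (Ideal.mem_map_iff_of_surjective _ Ideal.Quotient.mk_surjective).mp hā
    rw [LinearMap.mem_ker, LinearMap.toSpanSingleton_apply]
    have h1 : (Ideal.Quotient.mk (Ideal.span {x}) a) • ξ = a • ξ :=
      IsScalarTower.algebraMap_smul (A ⧸ Ideal.span {x}) a ξ
    rw [h1]
    show a • (Submodule.Quotient.mk (⟨x, hxJ⟩ : J) :
      J ⧸ (Ideal.span {x} • (⊤ : Submodule A J))) = 0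
    rw [← Submodule.Quotient.mk_smul, Submodule.Quotient.mk_eq_zero]
    have h2 : a • (⟨x, hxJ⟩ : J) = x • (⟨a, ha⟩ : J) := by
      apply Subtype.ext
      show a * x = x * a
      exact mul_comm a x
    rw [h2]
    exact Submodule.smul_mem_smul (Ideal.mem_span_singleton_self x) Submodule.mem_top
  let i : ((A ⧸ Ideal.span {x}) ⧸ J.map (Ideal.Quotient.mk (Ideal.span {x})))
      →ₗ[A ⧸ Ideal.span {x}] (J ⧸ (Ideal.span {x} • (⊤ : Submodule A J))) :=
    Submodule.liftQ (J.map (Ideal.Quotient.mk (Ideal.span {x})))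
      (LinearMap.toSpanSingleton (A ⧸ Ideal.span {x}) _ ξ) hkerξ
  have hi1 : i 1 = ξ := by
    show Submodule.liftQ (J.map (Ideal.Quotient.mk (Ideal.span {x})))
      (LinearMap.toSpanSingleton (A ⧸ Ideal.span {x}) _ ξ) hkerξ
      (Submodule.Quotient.mk (1 : A ⧸ Ideal.span {x})) = ξ
    rw [Submodule.liftQ_apply, LinearMap.toSpanSingleton_apply, one_smul]
  have hρξ : ρ ξ = 1 := by
    show Submodule.liftQ _ ψ₀ hker' (Submodule.Quotient.mk ⟨x, hxJ⟩) = 1
    rw [Submodule.liftQ_apply]
    exact hψ₀
  have hρi : ρ ∘ₗ i = LinearMap.id := by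
    apply LinearMap.ext
    intro z
    obtain ⟨c, rfl⟩ := Ideal.Quotient.mk_surjective z
    have hc : Ideal.Quotient.mk (J.map (Ideal.Quotient.mk (Ideal.span {x}))) c =
        c • (1 : (A ⧸ Ideal.span {x}) ⧸ J.map (Ideal.Quotient.mk (Ideal.span {x}))) := by
      rw [Algebra.smul_def, mul_one]
      rfl
    rw [hc, LinearMap.comp_apply, map_smul, map_smul, hi1, hρξ, LinearMap.id_apply]
  exact FinPD.of_retract i ρ hρi hE'

end quotFinPD


section quotPCS
variable {A : Type u} [CommRing A]

/-- the surjection `J → J/(x)` -/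
noncomputable def qMap (J : Ideal A) (x : A) :
    J →ₗ[A] (J.map (Ideal.Quotient.mk (Ideal.span {x})) : Ideal (A ⧸ Ideal.span {x})) :=
  { toFun := fun z => ⟨Ideal.Quotient.mk (Ideal.span {x}) z, Ideal.mem_map_of_mem _ z.2⟩
    map_add' := by
      intro z w
      apply Subtype.ext
      show Ideal.Quotient.mk (Ideal.span {x}) ((z : A) + w) = _
      rw [map_add]
      rfl
    map_smul' := by
      intro a z
      apply Subtype.ext
      show Ideal.Quotient.mk (Ideal.span {x}) (a * (z : A)) = _
      rw [map_mul]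
      rfl }

theorem qMap_coe (J : Ideal A) (x : A) (z : J) :
    ((qMap J x z : (J.map (Ideal.Quotient.mk (Ideal.span {x})) : Ideal (A ⧸ Ideal.span {x}))) :
      A ⧸ Ideal.span {x}) = Ideal.Quotient.mk (Ideal.span {x}) z := rfl

theorem qMap_surjective (J : Ideal A) (x : A) : Function.Surjective (qMap J x) := by
  rintro ⟨w, hw⟩
  obtain ⟨z, hz, rfl⟩ := (Ideal.mem_map_iff_of_surjective _ Ideal.Quotient.mk_surjective).mp hw
  exact ⟨⟨z, hz⟩, rfl⟩

theorem hasPCS_quotient (J : Ideal A) (x : A) (hxJ : x ∈ J) (ψ : J →ₗ[A] A ⧸ J)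
    (hψ : ψ ⟨x, hxJ⟩ = 1) (h : HasPCS J) :
    HasPCS (J.map (Ideal.Quotient.mk (Ideal.span {x}))) := by
  obtain ⟨k, y, φ, hy, hφ⟩ := h
  have hspan : Ideal.span {x} ≤ J := (Ideal.span_singleton_le_iff_mem J).mpr hxJ
  let φ' : Fin k → (J →ₗ[A] A ⧸ J) := fun l =>
    φ l - (LinearMap.mulLeft A (φ l ⟨x, hxJ⟩)).comp ψ
  have hφ'x : ∀ l, φ' l ⟨x, hxJ⟩ = 0 := by
    intro l
    show φ l ⟨x, hxJ⟩ - (LinearMap.mulLeft A (φ l ⟨x, hxJ⟩)).comp ψ ⟨x, hxJ⟩ = 0
    rw [LinearMap.comp_apply, LinearMap.mulLeft_apply, hψ, mul_one, sub_self]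
  have hφ' : ∀ l z, φ' l z = φ l z - φ l ⟨x, hxJ⟩ * ψ z := by
    intro l z
    show φ l z - (LinearMap.mulLeft A (φ l ⟨x, hxJ⟩)).comp ψ z = _
    rw [LinearMap.comp_apply, LinearMap.mulLeft_apply]
  have hker : ∀ l, LinearMap.ker (qMap J x) ≤ LinearMap.ker ((thetaL J x) ∘ₗ φ' l) := by
    intro l z hz
    rw [LinearMap.mem_ker] at hz ⊢
    have hz' : Ideal.Quotient.mk (Ideal.span {x}) (z : A) = 0 := by
      have := congrArg Subtype.val hz
      simpa [qMap_coe] using this
    obtain ⟨c, hc⟩ := Ideal.mem_span_singleton'.mp (Ideal.Quotient.eq_zero_iff_mem.mp hz')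
    have hzc : z = c • (⟨x, hxJ⟩ : J) := by
      apply Subtype.ext
      show (z : A) = c * x
      exact hc.symm
    rw [LinearMap.comp_apply, hzc, map_smul, hφ'x, smul_zero, map_zero]
  let φt : Fin k → ((J.map (Ideal.Quotient.mk (Ideal.span {x})) : Ideal (A ⧸ Ideal.span {x}))
      →ₗ[A] ((A ⧸ Ideal.span {x}) ⧸ J.map (Ideal.Quotient.mk (Ideal.span {x})))) := fun l =>
    ((LinearMap.ker (qMap J x)).liftQ ((thetaL J x) ∘ₗ φ' l) (hker l)) ∘ₗ
      ((qMap J x).quotKerEquivOfSurjective (qMap_surjective J x)).symm.toLinearMap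
  have hφt : ∀ l z, φt l (qMap J x z) = thetaL J x (φ' l z) := by
    intro l z
    show ((LinearMap.ker (qMap J x)).liftQ ((thetaL J x) ∘ₗ φ' l) (hker l))
      (((qMap J x).quotKerEquivOfSurjective (qMap_surjective J x)).symm (qMap J x z)) = _
    have h1 : ((qMap J x).quotKerEquivOfSurjective (qMap_surjective J x)).symm (qMap J x z) =
        Submodule.Quotient.mk z := by
      rw [LinearEquiv.symm_apply_eq]
      rfl
    rw [h1, Submodule.liftQ_apply]
    rfl
  let φb : Fin k → ((J.map (Ideal.Quotient.mk (Ideal.span {x})) : Ideal (A ⧸ Ideal.span {x}))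
      →ₗ[A ⧸ Ideal.span {x}]
        ((A ⧸ Ideal.span {x}) ⧸ J.map (Ideal.Quotient.mk (Ideal.span {x})))) := fun l =>
    LinearMap.extendScalarsOfSurjective
      (Ideal.Quotient.mk_surjective :
        Function.Surjective (algebraMap A (A ⧸ Ideal.span {x}))) (φt l)
  refine ⟨k, fun l => Ideal.Quotient.mk (Ideal.span {x}) (y l), φb,
    fun l => Ideal.mem_map_of_mem _ (hy l), ?_⟩
  intro w ab hab
  obtain ⟨z, rfl⟩ := qMap_surjective J x w
  choose a' ha' using fun l => Ideal.Quotient.mk_surjective (ab l)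
  choose a ha using fun l => Ideal.Quotient.mk_surjective (φ l z)
  choose b hb using fun l => Ideal.Quotient.mk_surjective (φ l ⟨x, hxJ⟩)
  obtain ⟨c, hc⟩ := Ideal.Quotient.mk_surjective (ψ z)
  have hx0 : Ideal.Quotient.mk (Ideal.span {x}) x = 0 :=
    Ideal.Quotient.eq_zero_iff_mem.mpr (Ideal.mem_span_singleton_self x)
  have hj : ∀ l, a' l - (a l - b l * c) ∈ J := by
    intro l
    have h1 : Ideal.Quotient.mk (J.map (Ideal.Quotient.mk (Ideal.span {x})))
        (Ideal.Quotient.mk (Ideal.span {x}) (a' l)) =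
        Ideal.Quotient.mk (J.map (Ideal.Quotient.mk (Ideal.span {x})))
        (Ideal.Quotient.mk (Ideal.span {x}) (a l - b l * c)) := by
      rw [ha' l, hab l]
      show φt l (qMap J x z) = _
      rw [hφt, hφ', ← ha l, ← hb l, ← hc, ← map_mul, ← map_sub, thetaL_mk]
    have h2 : Ideal.Quotient.mk (Ideal.span {x}) (a' l - (a l - b l * c)) ∈
        J.map (Ideal.Quotient.mk (Ideal.span {x})) := by
      rw [map_sub]
      exact Ideal.Quotient.eq.mp h1
    have h3 := mem_sup_span_of_mk_mem_map x J _ h2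
    rwa [sup_eq_right.mpr hspan] at h3
  have h1 := hφ z a ha
  have h2 := hφ ⟨x, hxJ⟩ b hb
  have ht : (z : A) - ∑ l, a' l * y l ∈ J ^ 2 ⊔ Ideal.span {x} := by
    have hsum : ∑ l, (a' l - (a l - b l * c)) * y l ∈ J ^ 2 := by
      refine Ideal.sum_mem _ (fun l _ => ?_)
      rw [sq]
      exact Ideal.mul_mem_mul (hj l) (hy l)
    have heq : (z : A) - ∑ l, a' l * y l =
        (((z : A) - ∑ l, a l * y l) - c * (x - ∑ l, b l * y l)
          - ∑ l, (a' l - (a l - b l * c)) * y l) + c * x := by
      have e1 : ∑ l, (a' l - (a l - b l * c)) * y l =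
          ∑ l, a' l * y l - ∑ l, a l * y l + c * ∑ l, b l * y l := by
        rw [Finset.mul_sum, ← Finset.sum_sub_distrib, ← Finset.sum_add_distrib]
        refine Finset.sum_congr rfl (fun l _ => ?_)
        ring
      rw [e1]
      ring
    rw [heq]
    refine Submodule.add_mem_sup ?_ (Ideal.mul_mem_left _ c (Ideal.mem_span_singleton_self x))
    exact Ideal.sub_mem _ (Ideal.sub_mem _ h1 (Ideal.mul_mem_left _ c h2)) hsum
  have h4 := Ideal.mem_map_of_mem (Ideal.Quotient.mk (Ideal.span {x})) ht
  rw [Ideal.map_sup, Ideal.map_span, Set.image_singleton, hx0, Ideal.map_pow] at h4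
  have h5 : Ideal.span {(0 : A ⧸ Ideal.span {x})} = ⊥ := by simp
  rw [h5, sup_bot_eq, map_sub, map_sum] at h4
  have h6 : ∑ l, Ideal.Quotient.mk (Ideal.span {x}) (a' l * y l) =
      ∑ l, ab l * Ideal.Quotient.mk (Ideal.span {x}) (y l) := by
    refine Finset.sum_congr rfl (fun l _ => ?_)
    rw [map_mul, ha' l]
  rw [h6] at h4
  exact h4

end quotPCS

section main
variable {A : Type u} [CommRing A]

theorem exists_elemReg_aux : ∀ (d : ℕ) (A : Type u) [CommRing A] [IsLocalRing A]
    [IsNoetherianRing A] (J : Ideal A), J ≠ ⊤ → ringKrullDim A < (d : WithBot ℕ∞) →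
    FinPD A (A ⧸ J) → HasPCS J → ∃ rs : List A, ElemReg rs ∧ Ideal.ofList rs = J := by
  intro d
  induction d with
  | zero =>
    intro A _ _ _ J _ hd _ _
    exact absurd (lt_of_le_of_lt ringKrullDim_nonneg_of_nontrivial hd) (by simp)
  | succ d ih =>
    intro A _ _ _ J hJ hd hk hpcs
    by_cases hJ0 : J = ⊥
    · refine ⟨[], ?_, by rw [Ideal.ofList_nil, hJ0]⟩
      intro i hi
      simp at hi
    · have hJm : J ≤ maximalIdeal A := le_maximalIdeal hJ
      obtain ⟨z, hzJ, hzm⟩ : ∃ z ∈ J, z ∉ maximalIdeal A * J := by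
        by_contra hcon
        push Not at hcon
        apply hJ0
        refine Submodule.eq_bot_of_le_smul_of_le_jacobson_bot (maximalIdeal A) J
          (IsNoetherian.noetherian _) ?_ (IsLocalRing.jacobson_eq_maximalIdeal ⊥ bot_ne_top).ge
        rw [smul_eq_mul]
        exact fun z hz => hcon z hz
      obtain ⟨ψ₀, hψ₀⟩ := exists_functional_eq_one J hJ hpcs z hzJ hzm
      have hass : ∀ P ∈ associatedPrimes A A, ¬ J ≤ P := by
        intro P hP hle
        obtain ⟨s, hsP, hs⟩ := exists_mul_eq_zero_of_le_assPrime J hk P hP hle z hzJ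
        apply hsP
        apply hle
        have h1 : ψ₀ (s • ⟨z, hzJ⟩) = s • ψ₀ ⟨z, hzJ⟩ := map_smul _ _ _
        have h2 : (s • (⟨z, hzJ⟩ : J)) = 0 := Subtype.ext (by simpa using hs)
        rw [h2, map_zero, hψ₀, Algebra.smul_def, mul_one] at h1
        exact Ideal.Quotient.eq_zero_iff_mem.mp h1.symm
      obtain ⟨x, hxJ, hxm, hreg⟩ := exists_nzd_notMem_mul J hJ0 hass
      obtain ⟨ψ, hψ⟩ := exists_functional_eq_one J hJ hpcs x hxJ hxm
      have hxmax : x ∈ maximalIdeal A := hJm hxJ
      have hne : Ideal.span {x} ≠ (⊤ : Ideal A) := by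
        intro htop
        rw [Ideal.span_singleton_eq_top] at htop
        exact (mem_maximalIdeal x).mp hxmax htop
      haveI : Nontrivial (A ⧸ Ideal.span {x}) := Ideal.Quotient.nontrivial_iff.mpr hne
      haveI : IsLocalRing (A ⧸ Ideal.span {x}) :=
        IsLocalRing.of_surjective' (Ideal.Quotient.mk (Ideal.span {x}))
          Ideal.Quotient.mk_surjective
      have hk' := finPD_quotient' J x hxJ hxmax hreg ψ hψ hk
      have hpcs' := hasPCS_quotient J x hxJ ψ hψ hpcs
      have hdim := ringKrullDim_quotient_succ_le_of_nonZeroDivisor hreg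
      have hd' : ringKrullDim (A ⧸ Ideal.span {x}) < (d : WithBot ℕ∞) :=
        lt_of_add_one_le_of_lt_succ _ _ d hdim hd
      have hspan : Ideal.span {x} ≤ J := (Ideal.span_singleton_le_iff_mem J).mpr hxJ
      have hJ' : J.map (Ideal.Quotient.mk (Ideal.span {x})) ≠ ⊤ := by
        intro htop
        have h1 : Ideal.Quotient.mk (Ideal.span {x}) (1 : A) ∈
            J.map (Ideal.Quotient.mk (Ideal.span {x})) := by
          rw [htop]
          exact Submodule.mem_top
        have h2 := mem_sup_span_of_mk_mem_map x J 1 h1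
        rw [sup_eq_right.mpr hspan] at h2
        exact hJ ((Ideal.eq_top_iff_one J).mpr h2)
      obtain ⟨rs', hreg', hof'⟩ := ih (A ⧸ Ideal.span {x}) _ hJ' hd' hk' hpcs'
      have hmap : (rs'.map (Function.surjInv
          (Ideal.Quotient.mk_surjective (I := Ideal.span {x})))).map
          (Ideal.Quotient.mk (Ideal.span {x})) = rs' := by
        rw [List.map_map]
        conv_rhs => rw [← List.map_id rs']
        refine List.map_congr_left (fun r _ => ?_)
        exact Function.surjInv_eq _ r
      refine ⟨x :: rs'.map (Function.surjInv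
          (Ideal.Quotient.mk_surjective (I := Ideal.span {x}))),
        elemReg_cons x hreg _ (hmap.symm ▸ hreg'), ?_⟩
      rw [Ideal.ofList_cons]
      have hmapI : (Ideal.ofList (rs'.map (Function.surjInv
          (Ideal.Quotient.mk_surjective (I := Ideal.span {x}))))).map
          (Ideal.Quotient.mk (Ideal.span {x})) =
          J.map (Ideal.Quotient.mk (Ideal.span {x})) := by
        rw [Ideal.map_ofList, hmap, hof']
      apply le_antisymm
      · refine sup_le hspan (fun t ht => ?_)
        have h1 := Ideal.mem_map_of_mem (Ideal.Quotient.mk (Ideal.span {x})) ht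
        rw [hmapI] at h1
        have h2 := mem_sup_span_of_mk_mem_map x J t h1
        rwa [sup_eq_right.mpr hspan] at h2
      · intro j hj
        have h1 := Ideal.mem_map_of_mem (Ideal.Quotient.mk (Ideal.span {x})) hj
        rw [← hmapI] at h1
        exact mem_sup_span_of_mk_mem_map x _ j h1

/-- **Vasconcelos, local form.** -/
theorem exists_elemReg (A : Type u) [CommRing A] [IsLocalRing A] [IsNoetherianRing A]
    (J : Ideal A) (hJ : J ≠ ⊤) (hk : FinPD A (A ⧸ J)) (h : HasPCS J) :
    ∃ rs : List A, ElemReg rs ∧ Ideal.ofList rs = J := by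
  obtain ⟨d, hd⟩ := exists_nat_gt_of_lt_top (ringKrullDim A) ringKrullDim_lt_top
  exact exists_elemReg_aux d A J hJ hd hk h

end main


section globalPCS
variable {R : Type u} [CommRing R]

/-- a projective conormal module gives a projective coordinate system -/
theorem hasPCS_of_projective [IsNoetherianRing R] (I : Ideal R)
    [Module.Projective (R ⧸ I) I.Cotangent] : HasPCS I := by
  classical
  haveI : Module.Finite R I.Cotangent :=
    Module.Finite.of_surjective I.toCotangent I.toCotangent_surjective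
  haveI : Module.Finite (R ⧸ I) I.Cotangent := Module.Finite.of_restrictScalars_finite R _ _
  obtain ⟨k, π, hπ⟩ := Module.Finite.exists_fin' (R ⧸ I) I.Cotangent
  obtain ⟨σ, hσ⟩ := Module.projective_lifting_property π LinearMap.id hπ
  choose y hy using fun l : Fin k =>
    Ideal.toCotangent_surjective I (π (fun j => if l = j then 1 else 0))
  let φ : Fin k → (I →ₗ[R] R ⧸ I) := fun l =>
    (((LinearMap.proj l : (Fin k → R ⧸ I) →ₗ[R ⧸ I] R ⧸ I) ∘ₗ σ).restrictScalars R) ∘ₗ
      I.toCotangent
  have hφ : ∀ l z, φ l z = σ (I.toCotangent z) l := fun l z => rfl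
  refine ⟨k, fun l => (y l : R), φ, fun l => (y l).2, ?_⟩
  intro z a ha
  have h1 : I.toCotangent z = ∑ l, (σ (I.toCotangent z) l) • I.toCotangent (y l) := by
    have h2 : π (σ (I.toCotangent z)) = I.toCotangent z := by
      have := LinearMap.congr_fun hσ (I.toCotangent z)
      simpa using this
    calc I.toCotangent z = π (σ (I.toCotangent z)) := h2.symm
      _ = ∑ l, (σ (I.toCotangent z) l) • π (fun j => if l = j then 1 else 0) :=
          LinearMap.pi_apply_eq_sum_univ π (σ (I.toCotangent z))
      _ = ∑ l, (σ (I.toCotangent z) l) • I.toCotangent (y l) := by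
          refine Finset.sum_congr rfl (fun l _ => ?_)
          rw [hy l]
  have h3 : I.toCotangent z = I.toCotangent (∑ l, a l • y l) := by
    rw [h1, map_sum]
    refine Finset.sum_congr rfl (fun l _ => ?_)
    rw [← hφ, ← ha l, map_smul]
    exact algebraMap_smul (R ⧸ I) (a l) (I.toCotangent (y l))
  have h4 := (Ideal.toCotangent_eq I).mp h3
  have h5 : ((∑ l, a l • y l : I) : R) = ∑ l, a l * (y l : R) := by
    rw [Submodule.coe_sum]
    rfl
  rwa [h5] at h4

end globalPCS


section localize
variable {R : Type u} [CommRing R]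

theorem finPD_localization [IsNoetherianRing R] (I : Ideal R) (n : ℕ)
    (hpd : HasProjectiveDimensionLT (ModuleCat.of R I) n) (p : Ideal R) [p.IsPrime] :
    FinPD (Localization.AtPrime p)
      (Localization.AtPrime p ⧸ I.map (algebraMap R (Localization.AtPrime p))) := by
  have hn1 : HasProjectiveDimensionLT (ModuleCat.of R I) (n + 1) :=
    hasProjectiveDimensionLT_of_ge _ n (n + 1) (Nat.le_succ n)
  have hloc := (Groth.Agent.S5791.result R I n).mp hn1 ⟨p, inferInstance⟩
  let e₀ : LocalizedModule p.primeCompl I ≃ₗ[R]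
      (I.localized' (Localization.AtPrime p) p.primeCompl
        (Algebra.linearMap R (Localization.AtPrime p))) :=
    IsLocalizedModule.linearEquiv p.primeCompl (LocalizedModule.mkLinearMap p.primeCompl I)
      (I.toLocalized' (Localization.AtPrime p) p.primeCompl
        (Algebra.linearMap R (Localization.AtPrime p)))
  let e := LinearEquiv.extendScalarsOfIsLocalization p.primeCompl (Localization.AtPrime p) e₀
  have h1 : FinPD (Localization.AtPrime p)
      (I.localized' (Localization.AtPrime p) p.primeCompl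
        (Algebra.linearMap R (Localization.AtPrime p))) :=
    FinPD.of_linearEquiv e ⟨n + 1, hloc⟩
  rw [Ideal.localized'_eq_map] at h1
  exact finPD_of_ses_right (Submodule.subtype _) (Submodule.mkQ _)
    (Submodule.injective_subtype _) (LinearMap.exact_subtype_mkQ _)
    (Submodule.mkQ_surjective _) h1 FinPD.self

theorem hasPCS_localization (I : Ideal R) (h : HasPCS I) (p : Ideal R) [p.IsPrime] :
    HasPCS (I.map (algebraMap R (Localization.AtPrime p))) := by
  obtain ⟨k, y, φ, hy, hφ⟩ := h
  have hJ' : I.localized' (Localization.AtPrime p) p.primeCompl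
      (Algebra.linearMap R (Localization.AtPrime p)) =
      I.map (algebraMap R (Localization.AtPrime p)) := Ideal.localized'_eq_map _ _ I
  rw [← hJ']
  have hle : I ≤ Ideal.comap (Algebra.ofId R (Localization.AtPrime p))
      (I.localized' (Localization.AtPrime p) p.primeCompl
      (Algebra.linearMap R (Localization.AtPrime p)) : Ideal (Localization.AtPrime p)) := by
    rw [hJ']
    exact Ideal.le_comap_map
  let τ : (R ⧸ I) →ₗ[R] (Localization.AtPrime p ⧸
      I.localized' (Localization.AtPrime p) p.primeCompl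
        (Algebra.linearMap R (Localization.AtPrime p))) :=
    (Ideal.quotientMapₐ _ (Algebra.ofId R (Localization.AtPrime p)) hle).toLinearMap
  have hτ : ∀ a : R, τ (Ideal.Quotient.mk I a) =
      Ideal.Quotient.mk _ (algebraMap R (Localization.AtPrime p) a) := fun a => rfl
  let f := I.toLocalized' (Localization.AtPrime p) p.primeCompl
    (Algebra.linearMap R (Localization.AtPrime p))
  have hf : ∀ z : I, ((f z : I.localized' (Localization.AtPrime p) p.primeCompl
      (Algebra.linearMap R (Localization.AtPrime p))) : Localization.AtPrime p) =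
      algebraMap R (Localization.AtPrime p) z := fun z => rfl
  haveI := isLocalizedModule_id p.primeCompl (Localization.AtPrime p ⧸
      I.localized' (Localization.AtPrime p) p.primeCompl
        (Algebra.linearMap R (Localization.AtPrime p))) (Localization.AtPrime p)
  let ℓ : Fin k → ((I.localized' (Localization.AtPrime p) p.primeCompl
      (Algebra.linearMap R (Localization.AtPrime p))) →ₗ[R] (Localization.AtPrime p ⧸
      I.localized' (Localization.AtPrime p) p.primeCompl
        (Algebra.linearMap R (Localization.AtPrime p)))) := fun l =>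
    IsLocalizedModule.lift p.primeCompl f (τ ∘ₗ φ l)
      (fun s => IsLocalizedModule.map_units (LinearMap.id : (Localization.AtPrime p ⧸
        I.localized' (Localization.AtPrime p) p.primeCompl
        (Algebra.linearMap R (Localization.AtPrime p))) →ₗ[R] _) s)
  have hℓ : ∀ l z, ℓ l (f z) = τ (φ l z) := fun l z =>
    IsLocalizedModule.lift_apply p.primeCompl f (τ ∘ₗ φ l) _ z
  refine ⟨k, fun l => algebraMap R (Localization.AtPrime p) (y l),
    fun l => LinearMap.extendScalarsOfIsLocalization p.primeCompl (Localization.AtPrime p) (ℓ l),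
    fun l => hJ' ▸ Ideal.mem_map_of_mem _ (hy l), ?_⟩
  intro z' a' ha'
  obtain ⟨⟨z, s⟩, hzs0⟩ := IsLocalizedModule.surj p.primeCompl f z'
  have hzs : (s : R) • z' = f z := hzs0
  choose a ha using fun l => Ideal.Quotient.mk_surjective (φ l z)
  have h1 := hφ z a ha
  have hz : algebraMap R (Localization.AtPrime p) z =
      algebraMap R (Localization.AtPrime p) s * (z' : Localization.AtPrime p) := by
    have h2 := congrArg Subtype.val hzs
    rw [hf] at h2
    rw [← h2]
    show ((s : R) • z' : I.localized' (Localization.AtPrime p) p.primeCompl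
      (Algebra.linearMap R (Localization.AtPrime p))).1 = _
    rw [Submodule.coe_smul_of_tower, Algebra.smul_def]
  have hkey : ∀ l, algebraMap R (Localization.AtPrime p) s * a' l -
      algebraMap R (Localization.AtPrime p) (a l) ∈
      I.localized' (Localization.AtPrime p) p.primeCompl
        (Algebra.linearMap R (Localization.AtPrime p)) := by
    intro l
    have h2 : ℓ l ((s : R) • z') = (s : R) • ℓ l z' := map_smul _ _ _
    rw [hzs, hℓ, ← ha l, hτ] at h2
    have h3 : ℓ l z' = Ideal.Quotient.mk _ (a' l) := (ha' l).symm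
    rw [h3] at h2
    have h4 : ((s : R) • (Ideal.Quotient.mk (I.localized' (Localization.AtPrime p) p.primeCompl
        (Algebra.linearMap R (Localization.AtPrime p))) (a' l))) =
        Ideal.Quotient.mk _ (algebraMap R (Localization.AtPrime p) s * a' l) := by
      rw [← Ideal.Quotient.mk_eq_mk, ← Submodule.Quotient.mk_smul, Algebra.smul_def]
      rfl
    rw [h4] at h2
    exact Ideal.Quotient.eq.mp h2.symm
  have hu : IsUnit (algebraMap R (Localization.AtPrime p) s) :=
    IsLocalization.map_units _ s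
  have h3 : algebraMap R (Localization.AtPrime p) s *
      ((z' : Localization.AtPrime p) -
        ∑ l, a' l * algebraMap R (Localization.AtPrime p) (y l)) ∈
      (I.localized' (Localization.AtPrime p) p.primeCompl
        (Algebra.linearMap R (Localization.AtPrime p))) ^ 2 := by
    have e : algebraMap R (Localization.AtPrime p) s *
        ((z' : Localization.AtPrime p) -
          ∑ l, a' l * algebraMap R (Localization.AtPrime p) (y l)) =
        algebraMap R (Localization.AtPrime p) ((z : R) - ∑ l, a l * y l) -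
        ∑ l, (algebraMap R (Localization.AtPrime p) s * a' l -
          algebraMap R (Localization.AtPrime p) (a l)) *
            algebraMap R (Localization.AtPrime p) (y l) := by
      rw [map_sub, map_sum, hz, mul_sub, Finset.mul_sum, sub_sub, ← Finset.sum_add_distrib]
      congr 1
      refine Finset.sum_congr rfl (fun l _ => ?_)
      rw [map_mul]
      ring
    rw [e]
    refine Ideal.sub_mem _ ?_ (Ideal.sum_mem _ fun l _ => ?_)
    · rw [hJ', ← Ideal.map_pow]
      exact Ideal.mem_map_of_mem _ h1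
    · rw [sq]
      exact Ideal.mul_mem_mul (hkey l) (hJ' ▸ Ideal.mem_map_of_mem _ (hy l))
  exact (Ideal.unit_mul_mem_iff_mem _ hu).mp h3

end localize


section spread
variable {R : Type u} [CommRing R]

theorem exists_mul_mem_of_forall_exists [IsNoetherianRing R] (p : Ideal R) [p.IsPrime]
    (C K : Ideal R) (h : ∀ a ∈ C, ∃ s, s ∉ p ∧ s * a ∈ K) :
    ∃ g, g ∉ p ∧ ∀ a ∈ C, g * a ∈ K := by
  classical
  obtain ⟨T, hT⟩ := (isNoetherianRing_iff_ideal_fg R).mp inferInstance C
  have hTC : ∀ a ∈ T, a ∈ C := fun a ha => hT ▸ Ideal.subset_span ha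
  choose! s hs using h
  refine ⟨∏ a ∈ T, s a, ?_, ?_⟩
  · intro hmem
    obtain ⟨a, haT, ha⟩ := (Ideal.IsPrime.prod_mem_iff).mp hmem
    exact (hs a (hTC a haT)).1 ha
  · intro a ha
    rw [← hT] at ha
    induction ha using Submodule.span_induction with
    | mem b hb =>
      obtain ⟨c, hc⟩ := Finset.dvd_prod_of_mem s hb
      rw [hc, mul_right_comm]
      exact K.mul_mem_right c (hs b (hTC b hb)).2
    | zero => simp
    | add x y _ _ hx hy =>
      rw [mul_add]
      exact K.add_mem hx hy
    | smul r x _ hx =>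
      rw [smul_eq_mul, mul_left_comm]
      exact K.mul_mem_left r hx

theorem map_le_map_of_mul_mem (S : Type u) [CommRing S] [Algebra R S] (I K : Ideal R) (g : R)
    (hg : IsUnit (algebraMap R S g)) (h : ∀ i ∈ I, g * i ∈ K) :
    I.map (algebraMap R S) ≤ K.map (algebraMap R S) := by
  rw [Ideal.map_le_iff_le_comap]
  intro i hi
  rw [Ideal.mem_comap]
  have h1 : algebraMap R S g * algebraMap R S i ∈ K.map (algebraMap R S) := by
    rw [← map_mul]
    exact Ideal.mem_map_of_mem _ (h i hi)
  exact (Ideal.unit_mul_mem_iff_mem _ hg).mp h1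

theorem mem_map_of_mul_mem_map (M : Submonoid R) (S : Type u) [CommRing S] [Algebra R S]
    [IsLocalization M S] (K : Ideal R) (r g : R) (hg : IsUnit (algebraMap R S g))
    (hC : ∀ a, r * a ∈ K → g * a ∈ K) (w : S)
    (hw : algebraMap R S r * w ∈ K.map (algebraMap R S)) : w ∈ K.map (algebraMap R S) := by
  obtain ⟨a, m, rfl⟩ := IsLocalization.exists_mk'_eq M w
  have h1 : algebraMap R S (r * a) ∈ K.map (algebraMap R S) := by
    have e : algebraMap R S (r * a) =
        algebraMap R S m * (algebraMap R S r * IsLocalization.mk' S a m) := by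
      rw [map_mul, mul_left_comm, IsLocalization.mk'_spec']
    rw [e]
    exact Ideal.mul_mem_left _ _ hw
  obtain ⟨m', hm'M, hm'⟩ :=
    (IsLocalization.algebraMap_mem_map_algebraMap_iff M S K (r * a)).mp h1
  have h2 : g * (m' * a) ∈ K := hC _ (by rw [mul_left_comm]; exact hm')
  have h3 : algebraMap R S g * (algebraMap R S m' * algebraMap R S a) ∈
      K.map (algebraMap R S) := by
    rw [← map_mul, ← map_mul]
    exact Ideal.mem_map_of_mem _ h2
  have hm'u : IsUnit (algebraMap R S m') := IsLocalization.map_units S ⟨m', hm'M⟩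
  have h4 : algebraMap R S a ∈ K.map (algebraMap R S) :=
    (Ideal.unit_mul_mem_iff_mem _ hm'u).mp ((Ideal.unit_mul_mem_iff_mem _ hg).mp h3)
  rw [IsLocalization.mk'_eq_mul_mk'_one]
  exact Ideal.mul_mem_right _ _ h4

theorem ofList_map_mul_unit {A : Type u} [CommRing A] (v : A → A) (rs : List A)
    (hv : ∀ z ∈ rs, IsUnit (v z)) :
    Ideal.ofList (rs.map (fun z => z * v z)) = Ideal.ofList rs := by
  induction rs with
  | nil => rfl
  | cons z rs ih =>
    rw [List.map_cons, Ideal.ofList_cons, Ideal.ofList_cons,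
      ih (fun w hw => hv w (List.mem_cons_of_mem _ hw)),
      Ideal.span_singleton_mul_right_unit (hv z List.mem_cons_self)]

theorem elemReg_map_mul_unit {A : Type u} [CommRing A] (v : A → A) (rs : List A)
    (hv : ∀ z ∈ rs, IsUnit (v z)) (h : ElemReg rs) :
    ElemReg (rs.map (fun z => z * v z)) := by
  intro i hi w hw
  have hi' : i < rs.length := by simpa using hi
  have htake : Ideal.ofList ((rs.map (fun z => z * v z)).take i) = Ideal.ofList (rs.take i) := by
    rw [← List.map_take]
    exact ofList_map_mul_unit v _ (fun z hz => hv z (List.mem_of_mem_take hz))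
  rw [htake] at hw ⊢
  rw [List.getElem_map] at hw
  have hu := hv rs[i] (List.getElem_mem hi')
  have h1 : rs[i] * (v rs[i] * w) ∈ Ideal.ofList (rs.take i) := by rwa [← mul_assoc]
  have h2 := h i hi' _ h1
  exact (Ideal.unit_mul_mem_iff_mem _ hu).mp h2

theorem exists_elemReg_away [IsNoetherianRing R] (p : Ideal R) [p.IsPrime] (rs : List R)
    (h : ElemReg (rs.map (algebraMap R (Localization.AtPrime p)))) :
    ∃ g, g ∉ p ∧ ∀ (M : Submonoid R) (S : Type u) [CommRing S] [Algebra R S]
      [IsLocalization M S], IsUnit (algebraMap R S g) → ElemReg (rs.map (algebraMap R S)) := by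
  classical
  have hstep : ∀ i (hi : i < rs.length), ∃ g, g ∉ p ∧
      ∀ a, rs[i] * a ∈ Ideal.ofList (rs.take i) → g * a ∈ Ideal.ofList (rs.take i) := by
    intro i hi
    let C : Ideal R := Submodule.comap (LinearMap.mulLeft R rs[i]) (Ideal.ofList (rs.take i))
    have hC : ∀ a, a ∈ C ↔ rs[i] * a ∈ Ideal.ofList (rs.take i) := fun a => Iff.rfl
    obtain ⟨g, hg, hgC⟩ := exists_mul_mem_of_forall_exists p C (Ideal.ofList (rs.take i)) (by
      intro a ha
      rw [hC] at ha
      have hi' : i < (rs.map (algebraMap R (Localization.AtPrime p))).length := by simpa using hi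
      have htake : Ideal.ofList ((rs.map (algebraMap R (Localization.AtPrime p))).take i) =
          (Ideal.ofList (rs.take i)).map (algebraMap R (Localization.AtPrime p)) := by
        rw [Ideal.map_ofList, List.map_take]
      have h1 := h i hi' (algebraMap R (Localization.AtPrime p) a) (by
        rw [htake, List.getElem_map, ← map_mul]
        exact Ideal.mem_map_of_mem _ ha)
      rw [htake] at h1
      obtain ⟨m, hm, hma⟩ :=
        (IsLocalization.algebraMap_mem_map_algebraMap_iff p.primeCompl _ _ a).mp h1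
      exact ⟨m, hm, hma⟩)
    exact ⟨g, hg, fun a ha => hgC a ((hC a).mpr ha)⟩
  choose g hg using hstep
  refine ⟨∏ i : Fin rs.length, g i i.2, ?_, ?_⟩
  · intro hmem
    obtain ⟨i, _, hi⟩ := (Ideal.IsPrime.prod_mem_iff).mp hmem
    exact (hg i i.2).1 hi
  · intro M S _ _ _ hu i hi w hw
    have hi' : i < rs.length := by simpa using hi
    have htake : Ideal.ofList ((rs.map (algebraMap R S)).take i) =
        (Ideal.ofList (rs.take i)).map (algebraMap R S) := by
      rw [Ideal.map_ofList, List.map_take]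
    rw [htake] at hw ⊢
    rw [List.getElem_map] at hw
    have hgi : IsUnit (algebraMap R S (g i hi')) := by
      have hdvd : g i hi' ∣ ∏ j : Fin rs.length, g j j.2 :=
        Finset.dvd_prod_of_mem (fun j : Fin rs.length => g j j.2) (Finset.mem_univ ⟨i, hi'⟩)
      exact isUnit_of_dvd_unit (map_dvd (algebraMap R S) hdvd) hu
    exact mem_map_of_mul_mem_map M S _ rs[i] (g i hi') hgi (hg i hi').2 w hw

/-- **Vasconcelos' theorem** (global form with spreading out). -/
theorem vasconcelos [IsNoetherianRing R] (I : Ideal R) (n : ℕ)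
    (hpd : HasProjectiveDimensionLT (ModuleCat.of R I) n)
    [Module.Projective (R ⧸ I) I.Cotangent] (p : Ideal R) [p.IsPrime] (hIp : I ≤ p) :
    ∃ g : R, g ∉ p ∧ ∃ rs : List (Localization.Away g),
      RingTheory.Sequence.IsRegular (Localization.Away g) rs ∧
        Ideal.ofList rs = I.map (algebraMap R (Localization.Away g)) := by
  classical
  have hJ : I.map (algebraMap R (Localization.AtPrime p)) ≠ ⊤ := by
    rw [IsLocalization.map_algebraMap_ne_top_iff_disjoint p.primeCompl, Set.disjoint_left]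
    intro a ha haI
    exact ha (hIp haI)
  obtain ⟨rsA, hregA, hofA⟩ := exists_elemReg (Localization.AtPrime p) _ hJ
    (finPD_localization I n hpd p) (hasPCS_localization I (hasPCS_of_projective I) p)
  have hnum : ∀ z ∈ I.map (algebraMap R (Localization.AtPrime p)), ∃ (i s : R),
      i ∈ I ∧ s ∉ p ∧ z * algebraMap R (Localization.AtPrime p) s =
        algebraMap R (Localization.AtPrime p) i := by
    intro z hz
    obtain ⟨⟨i, s⟩, h⟩ := (IsLocalization.mem_map_algebraMap_iff p.primeCompl _).mp hz
    exact ⟨i.1, s.1, i.2, s.2, h⟩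
  choose! num den hnd using hnum
  have hmemA : ∀ z ∈ rsA, z ∈ I.map (algebraMap R (Localization.AtPrime p)) := by
    intro z hz
    rw [← hofA]
    exact Ideal.subset_span hz
  have hrsR : (rsA.map num).map (algebraMap R (Localization.AtPrime p)) =
      rsA.map (fun z => z * algebraMap R (Localization.AtPrime p) (den z)) := by
    rw [List.map_map]
    refine List.map_congr_left (fun z hz => ?_)
    exact ((hnd z (hmemA z hz)).2.2).symm
  have hunit : ∀ z ∈ rsA, IsUnit (algebraMap R (Localization.AtPrime p) (den z)) :=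
    fun z hz => IsLocalization.map_units _
      (⟨den z, (hnd z (hmemA z hz)).2.1⟩ : p.primeCompl)
  have hregR : ElemReg ((rsA.map num).map (algebraMap R (Localization.AtPrime p))) := by
    rw [hrsR]
    exact elemReg_map_mul_unit _ rsA hunit hregA
  have hofR : (Ideal.ofList (rsA.map num)).map (algebraMap R (Localization.AtPrime p)) =
      I.map (algebraMap R (Localization.AtPrime p)) := by
    rw [Ideal.map_ofList, hrsR, ofList_map_mul_unit _ rsA hunit, hofA]
  have hrsRI : Ideal.ofList (rsA.map num) ≤ I := by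
    rw [Ideal.span_le]
    intro r hr
    obtain ⟨z, hz, rfl⟩ := List.mem_map.mp hr
    exact (hnd z (hmemA z hz)).1
  obtain ⟨g₁, hg₁, hspread⟩ := exists_elemReg_away p (rsA.map num) hregR
  obtain ⟨g₂, hg₂, hgen⟩ := exists_mul_mem_of_forall_exists p I (Ideal.ofList (rsA.map num)) (by
    intro i hi
    have h1 : algebraMap R (Localization.AtPrime p) i ∈
        (Ideal.ofList (rsA.map num)).map (algebraMap R (Localization.AtPrime p)) := by
      rw [hofR]
      exact Ideal.mem_map_of_mem _ hi
    obtain ⟨m, hm, hmi⟩ :=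
      (IsLocalization.algebraMap_mem_map_algebraMap_iff p.primeCompl _ _ i).mp h1
    exact ⟨m, hm, hmi⟩)
  have hgp : g₁ * g₂ ∉ p := fun h => (Ideal.IsPrime.mem_or_mem inferInstance h).elim hg₁ hg₂
  have hu : IsUnit (algebraMap R (Localization.Away (g₁ * g₂)) (g₁ * g₂)) :=
    IsLocalization.Away.algebraMap_isUnit _
  have hu₁ : IsUnit (algebraMap R (Localization.Away (g₁ * g₂)) g₁) := by
    rw [map_mul] at hu
    exact isUnit_of_mul_isUnit_left hu
  have hu₂ : IsUnit (algebraMap R (Localization.Away (g₁ * g₂)) g₂) := by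
    rw [map_mul] at hu
    exact isUnit_of_mul_isUnit_right hu
  have hof : Ideal.ofList ((rsA.map num).map (algebraMap R (Localization.Away (g₁ * g₂)))) =
      I.map (algebraMap R (Localization.Away (g₁ * g₂))) := by
    rw [← Ideal.map_ofList]
    exact le_antisymm (Ideal.map_mono hrsRI) (map_le_map_of_mul_mem _ I _ g₂ hu₂ hgen)
  refine ⟨g₁ * g₂, hgp, (rsA.map num).map (algebraMap R (Localization.Away (g₁ * g₂))), ?_, hof⟩
  refine ⟨isWeaklyRegular_of_elemReg _ (hspread (Submonoid.powers (g₁ * g₂)) _ hu₁), ?_⟩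
  rw [hof]
  have hne : I.map (algebraMap R (Localization.Away (g₁ * g₂))) ≠ ⊤ := by
    rw [IsLocalization.map_algebraMap_ne_top_iff_disjoint (Submonoid.powers (g₁ * g₂)),
      Set.disjoint_left]
    rintro a ⟨k, rfl⟩ haI
    exact hgp (Ideal.IsPrime.mem_of_pow_mem inferInstance k (hIp haI))
  intro htop
  apply hne
  have h1 : (I.map (algebraMap R (Localization.Away (g₁ * g₂))) •
      (⊤ : Submodule (Localization.Away (g₁ * g₂)) (Localization.Away (g₁ * g₂)))) =
      I.map (algebraMap R (Localization.Away (g₁ * g₂))) := by simp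
  rw [h1] at htop
  exact htop.symm

end spread


section coset

/-- Prime avoidance for a coset `x + I`. -/
theorem exists_add_notMem_of_not_le {R : Type*} [CommRing R] (I : Ideal R) :
    ∀ (s : Finset (Ideal R)), (∀ P ∈ s, P.IsPrime) → (∀ P ∈ s, ¬ I ≤ P) → ∀ x : R,
      ∃ y ∈ I, ∀ P ∈ s, x + y ∉ P := by
  classical
  intro s
  induction s using Finset.strongInduction with
  | H s ih =>
    intro hs hI x
    by_cases hne : s.Nonempty
    · obtain ⟨Q, hQs, hQmin⟩ := s.exists_minimal hne
      obtain ⟨y, hyI, hy⟩ := ih (s.erase Q) (Finset.erase_ssubset hQs)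
        (fun P hP => hs P (Finset.mem_of_mem_erase hP))
        (fun P hP => hI P (Finset.mem_of_mem_erase hP)) x
      by_cases hxQ : x + y ∈ Q
      · haveI := hs Q hQs
        have hnot : ¬ (I ⊓ (s.erase Q).inf id ≤ Q) := by
          intro hle
          rcases (Ideal.IsPrime.inf_le inferInstance).mp hle with h | h
          · exact hI Q hQs h
          · obtain ⟨P, hP, hPQ⟩ := (Ideal.IsPrime.inf_le' inferInstance).mp h
            have hPs := Finset.mem_of_mem_erase hP
            have hPne := Finset.ne_of_mem_erase hP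
            exact hPne (le_antisymm hPQ (hQmin hPs hPQ))
        obtain ⟨t, ht, htQ⟩ := SetLike.not_le_iff_exists.mp hnot
        refine ⟨y + t, I.add_mem hyI ht.1, ?_⟩
        intro P hP
        by_cases hPQ : P = Q
        · subst hPQ
          intro h
          apply htQ
          have e : t = (x + (y + t)) - (x + y) := by ring
          rw [e]
          exact P.sub_mem h hxQ
        · have hP' : P ∈ s.erase Q := Finset.mem_erase.mpr ⟨hPQ, hP⟩
          have htP : t ∈ P := (Finset.inf_le hP' : (s.erase Q).inf id ≤ id P) ht.2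
          intro h
          apply hy P hP'
          have e : x + y = (x + (y + t)) - t := by ring
          rw [e]
          exact P.sub_mem h htP
      · refine ⟨y, hyI, fun P hP => ?_⟩
        by_cases hPQ : P = Q
        · subst hPQ
          exact hxQ
        · exact hy P (Finset.mem_erase.mpr ⟨hPQ, hP⟩)
    · rw [Finset.not_nonempty_iff_eq_empty] at hne
      subst hne
      exact ⟨0, I.zero_mem, fun P hP => absurd hP (Finset.notMem_empty P)⟩

/-- A nonzerodivisor in the coset `x₀ + I²`, when `x₀` splits off a free rank one summand of the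
conormal module. -/
theorem exists_nzd_add_sq {A : Type u} [CommRing A] [IsNoetherianRing A] (I : Ideal A)
    (hk : FinPD A (A ⧸ I)) (x₀ : I) (ψ : I →ₗ[A] A ⧸ I) (hψ : ψ x₀ = 1) :
    ∃ y ∈ I ^ 2, (x₀ : A) + y ∈ nonZeroDivisors A := by
  classical
  have hass : ∀ P ∈ associatedPrimes A A, ¬ I ≤ P := by
    intro P hP hle
    obtain ⟨s, hsP, hs⟩ := exists_mul_eq_zero_of_le_assPrime I hk P hP hle x₀.1 x₀.2
    apply hsP
    apply hle
    have h1 : ψ (s • x₀) = s • ψ x₀ := map_smul _ _ _
    have h2 : s • x₀ = 0 := Subtype.ext (by simpa using hs)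
    rw [h2, map_zero, hψ, Algebra.smul_def, mul_one] at h1
    exact Ideal.Quotient.eq_zero_iff_mem.mp h1.symm
  obtain ⟨y, hy, hav⟩ := exists_add_notMem_of_not_le (I ^ 2)
    (associatedPrimes.finite A A).toFinset
    (fun P hP => ((Set.Finite.mem_toFinset _).mp hP).isPrime)
    (fun P hP hle => by
      haveI := ((Set.Finite.mem_toFinset _).mp hP).isPrime
      exact hass P ((Set.Finite.mem_toFinset _).mp hP)
        ((Ideal.IsPrime.pow_le_iff two_ne_zero).mp hle)) (x₀ : A)
  refine ⟨y, hy, ?_⟩
  by_contra hnz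
  have hmem : (x₀ : A) + y ∈ (↑(nonZeroDivisors A) : Set A)ᶜ := hnz
  rw [← biUnion_associatedPrimes_eq_compl_nonZeroDivisors A] at hmem
  obtain ⟨P, hP, hxP⟩ := Set.mem_iUnion₂.mp hmem
  exact hav P ((Set.Finite.mem_toFinset _).mpr hP) hxP

end coset

end Groth.Agent.H71.VAS
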