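import Mathlib
import Groth.Agent.H34.TameLoc

/-!
# (P3), (P5) of the S1849 squad
-/

set_option autoImplicit false
universe u

namespace Groth.Agent.H71.TameP35

open IsLocalRing Groth.Agent.H34.TameLoc

theorem ringKrullDim_le_of_isIntegral {R S : Type*} [CommRing R] [CommRing S] [Algebra R S]
    [Algebra.IsIntegral R S] : ringKrullDim S ≤ ringKrullDim R := by
  refine Order.krullDim_le_of_strictMono (PrimeSpectrum.comap (algebraMap R S)) ?_
  intro P Q hPQ
  have h1 : P.asIdeal < Q.asIdeal := hPQ
  exact Ideal.IsIntegral.comap_lt_comap (R := R) h1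

/-- (P3) -/
theorem ringKrullDim_localization_eq_one {A B : Type u} [CommRing A] [IsLocalRing A]
    [IsNoetherianRing A] (hA : ringKrullDim A = 1) [CommRing B] [Algebra A B] [Module.Finite A B]
    (x : A) (hx : x ∈ maximalIdeal A) (hxB : algebraMap A B x ∈ nonZeroDivisors B)
    (q : MaximalSpectrum B) : ringKrullDim (Localization.AtPrime q.asIdeal) = 1 := by
  haveI : Algebra.IsIntegral A B := Algebra.IsIntegral.of_finite A B
  haveI := q.isMaximal
  apply le_antisymm
  · rw [IsLocalization.AtPrime.ringKrullDim_eq_height q.asIdeal (Localization.AtPrime q.asIdeal)]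
    calc (q.asIdeal.height : WithBot ℕ∞) ≤ ringKrullDim B :=
          Ideal.height_le_ringKrullDim_of_ne_top Ideal.IsPrime.ne_top'
      _ ≤ ringKrullDim A := ringKrullDim_le_of_isIntegral
      _ = 1 := hA
  · by_contra hlt
    have h0 : Ring.KrullDimLE 0 (Localization.AtPrime q.asIdeal) := by
      rw [Ring.krullDimLE_iff]
      rw [not_le] at hlt
      generalize ringKrullDim (Localization.AtPrime q.asIdeal) = d at hlt
      induction d using WithBot.recBotCoe with
      | bot => exact bot_le
      | coe e =>
        have h1 : e < 1 := by exact_mod_cast hlt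
        have h2 : e = 0 := Order.lt_one_iff.mp h1
        rw [h2]
        exact le_rfl
    have hxq : algebraMap A B x ∈ q.asIdeal := by
      have hcomap : (q.asIdeal.comap (algebraMap A B)).IsMaximal :=
        Ideal.isMaximal_comap_of_isIntegral_of_isMaximal q.asIdeal
      have h1 : q.asIdeal.comap (algebraMap A B) = maximalIdeal A :=
        IsLocalRing.eq_maximalIdeal hcomap
      have h2 : x ∈ q.asIdeal.comap (algebraMap A B) := h1 ▸ hx
      exact h2
    have hm : algebraMap B (Localization.AtPrime q.asIdeal) (algebraMap A B x) ∈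
        maximalIdeal (Localization.AtPrime q.asIdeal) :=
      (IsLocalization.AtPrime.to_map_mem_maximal_iff _ q.asIdeal _).mpr hxq
    have hnzd : algebraMap B (Localization.AtPrime q.asIdeal) (algebraMap A B x) ∈
        nonZeroDivisors (Localization.AtPrime q.asIdeal) :=
      IsLocalization.map_nonZeroDivisors_le q.asIdeal.primeCompl _
        (Submonoid.mem_map_of_mem _ hxB)
    have hmin : maximalIdeal (Localization.AtPrime q.asIdeal) ∈
        minimalPrimes (Localization.AtPrime q.asIdeal) := by
      rw [Ring.KrullDimLE.minimalPrimes_eq_setOfPred_isPrime]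
      exact (inferInstance : (maximalIdeal (Localization.AtPrime q.asIdeal)).IsPrime)
    exact Set.disjoint_left.mp (Ideal.disjoint_nonZeroDivisors_of_mem_minimalPrimes hmin) hm hnzd

/-- (P5) -/
theorem nzd_of_not_mem_associatedPrimes {A B : Type u} [CommRing A] [IsLocalRing A]
    [IsNoetherianRing A] (hA : ringKrullDim A = 1) [CommRing B] [Algebra A B] [Module.Finite A B]
    (hass : maximalIdeal A ∉ associatedPrimes A B) (a : A) (ha : a ∈ nonZeroDivisors A) :
    algebraMap A B a ∈ nonZeroDivisors B := by
  haveI : Ring.KrullDimLE 1 A := Ring.krullDimLE_iff.mpr (by rw [hA]; exact le_rfl)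
  rw [mem_nonZeroDivisors_iff_right]
  intro b0 hb0
  by_contra hne
  obtain ⟨P, hP, hle⟩ := exists_le_isAssociatedPrime_of_isNoetherianRing A b0 hne
  have haP : a ∈ P := by
    apply hle
    rw [Submodule.mem_colon_singleton, Submodule.mem_bot, Algebra.smul_def, mul_comm]
    exact hb0
  haveI := hP.isPrime
  rcases (Ring.krullDimLE_one_iff.mp inferInstance) P hP.isPrime with hmin | hmax
  · exact Set.disjoint_left.mp (Ideal.disjoint_nonZeroDivisors_of_mem_minimalPrimes hmin) haP ha
  · have hPm : P = maximalIdeal A := IsLocalRing.eq_maximalIdeal hmax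
    exact hass (hPm ▸ hP)

end Groth.Agent.H71.TameP35
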