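import Mathlib
import Groth.Prelude.Def_Wider
import Groth.Agent.H60.InjLoc
import Groth.Agent.H82.ExtBC

/-!
# Dualizing modules and Cohen–Macaulayness (helper71)

* `local_cm`: a Noetherian local ring admitting a nonzero finite module `W` of finite injective
  dimension with `Ext^i(W, W) = 0` for `i > 0` is Cohen–Macaulay.
* translation of `Dual.IsDualizing A (inD A W)` into module terms, and localization.
-/

set_option autoImplicit false
set_option linter.style.haveILetI false
set_option linter.unusedSectionVars false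

universe u

open CategoryTheory Abelian IsLocalRing RingTheory.Sequence

namespace Groth.Agent.H71.DualMod

open Groth.Agent.H72.AB (kk E)
open Groth.Agent.H60

section Local

variable {A : Type u} [CommRing A] [IsNoetherianRing A] [IsLocalRing A]

/-- A Noetherian local ring with a nonzero finite module of finite injective dimension and no
higher self-extensions is Cohen–Macaulay. -/
theorem local_cm (W : ModuleCat.{u} A) [Module.Finite A W] [Nontrivial W]
    (h1 : ∃ n : ℕ, HasInjectiveDimensionLT W n)
    (h2 : ∀ i : ℕ, 1 ≤ i → ∀ z : Ext W W i, z = 0) :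
    Module.supportDim A A = ((LocCoh.depth A A : ℕ∞) : WithBot ℕ∞) := by
  classical
  obtain ⟨r, hr1, hr2⟩ := Bass.exists_r W h1
  -- depth A = r
  have hdepthA : LocCoh.depth A A = (r : ℕ∞) := by
    obtain ⟨t, ht⟩ := Groth.Agent.H29.CM.exists_nat_depth (A := A) (M := A)
    obtain ⟨htr, hex, -⟩ := Bass.F2 W r hr1 hr2 t A ht
    haveI hproj : Projective (ModuleCat.of A A) :=
      (IsProjective.iff_projective (R := A) _).mp inferInstance
    generalize hk : r - t = k at hex
    obtain ⟨z, hz⟩ := hex
    cases k with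
    | zero =>
      have htr' : t = r := by omega
      rw [ht, htr']
    | succ k => exact absurd (Ext.eq_zero_of_projective z) hz
  -- depth W = r
  have hdepthW : LocCoh.depth A W = (r : ℕ∞) := by
    obtain ⟨s, hs⟩ := Groth.Agent.H29.CM.exists_nat_depth (A := A) (M := W)
    obtain ⟨hsr, hex, -⟩ := Bass.F2 W r hr1 hr2 s W hs
    generalize hk : r - s = k at hex
    obtain ⟨z, hz⟩ := hex
    cases k with
    | zero =>
      have hsr' : s = r := by omega
      rw [hs, hsr']
    | succ k => exact absurd (h2 (k + 1) (by omega) z) hz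
  -- a maximal `W`-regular sequence
  obtain ⟨rs, hlen, hW, hmem⟩ := Groth.Agent.H26.DepthLib.exists_of_le_idealDepth
    (maximalIdeal A) (M := W) r (by
      have h0 : LocCoh.idealDepth (maximalIdeal A) W = (r : ℕ∞) := hdepthW
      rw [h0])
    (Groth.Agent.H29.maximalIdeal_smul_top_ne_top A W)
  have hIm : Ideal.ofList rs ≤ maximalIdeal A := Ideal.span_le.mpr (fun x hx => hmem x hx)
  have hreg : IsRegular W rs := IsRegular.of_isWeaklyRegular_of_mem_maximalIdeal W hmem hW
  have hq : ∀ q : PrimeSpectrum A, Ideal.ofList rs ≤ q.asIdeal →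
      q.asIdeal = maximalIdeal A := by
    intro q hIq
    by_contra hqm
    have hlt : q.asIdeal < maximalIdeal A :=
      lt_of_le_of_ne (IsLocalRing.le_maximalIdeal q.2.ne_top) hqm
    obtain ⟨x, hxm, hxq⟩ := SetLike.exists_of_lt hlt
    have hregx : IsSMulRegular (A ⧸ q.asIdeal) x := by
      rw [isSMulRegular_quotient_iff_mem_of_smul_mem]
      intro y hy
      exact (q.2.mem_or_mem hy).resolve_left hxq
    haveI : Nontrivial (A ⧸ q.asIdeal) := Ideal.Quotient.nontrivial_iff.mpr q.2.ne_top
    obtain ⟨t', ht'⟩ := Groth.Agent.H29.CM.exists_nat_depth (A := A) (M := A ⧸ q.asIdeal)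
    have ht1 : 1 ≤ t' := by
      have h1 := Groth.Agent.H26.DepthLib.length_le_idealDepth (maximalIdeal A)
        (M := A ⧸ q.asIdeal) (rs := [x]) ((isWeaklyRegular_singleton_iff _ x).mpr hregx)
        (by simpa using hxm)
      have h2 : LocCoh.idealDepth (maximalIdeal A) (A ⧸ q.asIdeal) = t' := ht'
      rw [h2] at h1
      exact_mod_cast h1
    obtain ⟨htr, ⟨z, hz⟩, -⟩ := Bass.F2 W r hr1 hr2 t' (A ⧸ q.asIdeal) ht'
    have hsupp : Module.support A (A ⧸ q.asIdeal) ⊆
        PrimeSpectrum.zeroLocus (Ideal.ofList rs : Set A) := by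
      rw [Module.support_eq_zeroLocus, Ideal.annihilator_quotient]
      exact PrimeSpectrum.zeroLocus_anti_mono (SetLike.coe_subset_coe.mpr hIq)
    have hlt' : Ideal.ofList rs • (⊤ : Submodule A W) < ⊤ :=
      lt_of_le_of_ne le_top hreg.top_ne_smul.symm
    have hsub := ModuleCat.subsingleton_ext_of_exists_isRegular (Ideal.ofList rs)
      (ModuleCat.of A (A ⧸ q.asIdeal)) hsupp W hlt' rs
      (fun x hx => Ideal.subset_span hx) hreg (r - t') (by rw [hlen]; omega)
    exact hz (Subsingleton.elim _ _)
  have hdim0 : ringKrullDim (A ⧸ Ideal.ofList rs) ≤ 0 := by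
    rw [ringKrullDim_quotient]
    haveI : Subsingleton (PrimeSpectrum.zeroLocus (R := A) (Ideal.ofList rs : Set A)) :=
      ⟨fun a b => Subtype.ext (PrimeSpectrum.ext
        ((hq a.1 (fun x hx => (PrimeSpectrum.mem_zeroLocus _ _).mp a.2 hx)).trans
          (hq b.1 (fun x hx => (PrimeSpectrum.mem_zeroLocus _ _).mp b.2 hx)).symm))⟩
    exact Order.krullDim_nonpos_of_subsingleton
  have hspan : (Ideal.ofList rs).spanFinrank ≤ r := by
    have hset : {x | x ∈ rs} = (rs.toFinset : Set A) := by ext; simp
    have hI' : Ideal.ofList rs = Ideal.span (rs.toFinset : Set A) := by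
      show Ideal.span {x | x ∈ rs} = _
      rw [hset]
    rw [hI']
    refine (Submodule.spanFinrank_span_le_ncard_of_finite rs.toFinset.finite_toSet).trans ?_
    rw [Set.ncard_coe_finset, ← hlen]
    exact List.toFinset_card_le rs
  have hkrull := ringKrullDim_le_ringKrullDim_quotient_add_spanFinrank (Ideal.ofList rs)
    (by rw [IsLocalRing.ringJacobson_eq_maximalIdeal]; exact hIm)
  have h1 : ringKrullDim A ≤ (r : WithBot ℕ∞) := by
    calc ringKrullDim A
        ≤ ringKrullDim (A ⧸ Ideal.ofList rs) + (Ideal.ofList rs).spanFinrank := hkrull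
      _ ≤ 0 + (r : WithBot ℕ∞) := add_le_add hdim0 (by exact_mod_cast hspan)
      _ = r := zero_add _
  apply le_antisymm
  · rw [Module.supportDim_self_eq_ringKrullDim, hdepthA]
    exact_mod_cast h1
  · exact Groth.Agent.H29.CM.depth_le_supportDim

end Local

section Translate

attribute [local instance] HasDerivedCategory.standard

open DerivedCategory

variable {A : Type u} [CommRing A]

theorem subsingleton_ext_of_subsingleton_hom (X Y : ModuleCat.{u} A) (n : ℕ)
    (h : Subsingleton ((singleFunctor (ModuleCat.{u} A) 0).obj X ⟶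
      ((singleFunctor (ModuleCat.{u} A) 0).obj Y)⟦(n : ℤ)⟧)) : Subsingleton (Ext X Y n) := by
  haveI : Subsingleton (ShiftedHom ((singleFunctor (ModuleCat.{u} A) 0).obj X)
      ((singleFunctor (ModuleCat.{u} A) 0).obj Y) ((n : ℕ) : ℤ)) := h
  exact (Ext.homEquiv (X := X) (Y := Y) (n := n)).subsingleton

variable (W : Type u) [AddCommGroup W] [Module A W]

theorem hasInjectiveDimensionLT_of_isDualizing (h : Dual.IsDualizing A (Dual.inD A W)) :
    ∃ n : ℕ, HasInjectiveDimensionLT (ModuleCat.of A W) n := by
  obtain ⟨a, b, hab⟩ := h.finite_injective_dimension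
  refine ⟨b.toNat + 1, HasInjectiveDimensionLT.mk (fun i hi Y e => ?_)⟩
  have hsub := hab Y (i : ℤ) (Or.inr (by omega))
  haveI := subsingleton_ext_of_subsingleton_hom Y (ModuleCat.of A W) i hsub
  exact Subsingleton.elim _ _

theorem ext_self_eq_zero_of_isDualizing (h : Dual.IsDualizing A (Dual.inD A W)) (i : ℕ)
    (hi : 1 ≤ i) (z : Ext (ModuleCat.of A W) (ModuleCat.of A W) i) : z = 0 := by
  have hsub := h.ext_self_subsingleton (i : ℤ) (by omega)
  haveI := subsingleton_ext_of_subsingleton_hom (ModuleCat.of A W) (ModuleCat.of A W) i hsub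
  exact Subsingleton.elim _ _

theorem faithful_of_isDualizing (h : Dual.IsDualizing A (Dual.inD A W)) (a : A)
    (ha : ∀ w : W, a • w = 0) : a = 0 := by
  apply h.toEnd_bijective.1
  show a • 𝟙 (Dual.inD A W) = (0 : A) • 𝟙 (Dual.inD A W)
  rw [zero_smul]
  have h4 : a • 𝟙 (ModuleCat.of A W) = 0 := by
    apply ModuleCat.hom_ext
    apply LinearMap.ext
    intro w
    exact ha w
  have h5 : a • 𝟙 (Dual.inD A W) =
      (singleFunctor (ModuleCat.{u} A) 0).map (a • 𝟙 (ModuleCat.of A W)) := by
    rw [CategoryTheory.Functor.map_smul, CategoryTheory.Functor.map_id]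
  rw [h5, h4, Functor.map_zero]

end Translate

section Global

open Groth.Agent.H82 Groth.Agent.H82.TorBC

attribute [local instance] Groth.Agent.H82.ExtBC.extModule

variable {A : Type u} [CommRing A] [IsNoetherianRing A]

/-- extension of scalars to a localization is the localized module. -/
noncomputable def locIso (S : Submonoid A) (X : ModuleCat.{u} A) :
    (TorBC.E A (Localization S)).obj X ≅ (ModuleCat.localizedModuleFunctor S).obj X :=
  ((bcEquiv A (Localization S) X).symm ≪≫ₗ
    (IsLocalizedModule.isBaseChange S (Localization S)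
      (X.localizedModuleMkLinearMap S)).equiv).toModuleIso

/-- vanishing of `Ext` of a finite module is preserved by flat base change. -/
theorem ext_E_eq_zero (B : Type u) [CommRing B] [Algebra A B] [Module.Flat A B]
    (M N : Type u) [AddCommGroup M] [Module A M] [Module.Finite A M] [AddCommGroup N]
    [Module A N] (r : ℕ)
    (h : ∀ z : Ext (ModuleCat.of A M) (ModuleCat.of A N) r, z = 0)
    (x : Ext ((TorBC.E A B).obj (ModuleCat.of A M)) ((TorBC.E A B).obj (ModuleCat.of A N)) r) :
    x = 0 := by
  have hbc := ExtBC.isBaseChange_l A B N r M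
  refine hbc.inductionOn x (fun y => y = 0) rfl ?_ ?_ ?_
  · intro m
    rw [h m, map_zero]
  · intro s y hy
    rw [hy, smul_zero]
  · intro y₁ y₂ h₁ h₂
    rw [h₁, h₂, add_zero]

/-- A Noetherian ring with a faithful finite module of finite injective dimension without higher
self-extensions is Cohen–Macaulay. -/
theorem cm_of_dualizing_module (W : Type u) [AddCommGroup W] [Module A W] [Module.Finite A W]
    (h1 : ∃ n : ℕ, HasInjectiveDimensionLT (ModuleCat.of A W) n)
    (h2 : ∀ i : ℕ, 1 ≤ i → ∀ z : Ext (ModuleCat.of A W) (ModuleCat.of A W) i, z = 0)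
    (h3 : ∀ a : A, (∀ w : W, a • w = 0) → a = 0) :
    LocCoh.IsCohenMacaulayRing A := by
  refine { toIsNoetherian := inferInstance,
           isCohenMacaulayLocalRing_localization := fun p _ => ?_ }
  haveI hnB : IsNoetherianRing (Localization.AtPrime p) :=
    IsLocalization.isNoetherianRing p.primeCompl _ inferInstance
  refine { toIsNoetherian := hnB, toIsLocalRing := inferInstance, supportDim_eq_depth := ?_ }
  haveI : Module.Finite (Localization.AtPrime p)
      ((TorBC.E A (Localization.AtPrime p)).obj (ModuleCat.of A W)) :=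
    Module.Finite.equiv (bcEquiv A (Localization.AtPrime p) W)
  haveI : Nontrivial ((TorBC.E A (Localization.AtPrime p)).obj (ModuleCat.of A W)) := by
    have hsupp : (⟨p, inferInstance⟩ : PrimeSpectrum A) ∈ Module.support A W := by
      rw [Module.support_eq_zeroLocus]
      have hann : Module.annihilator A W = ⊥ := by
        rw [eq_bot_iff]
        intro a ha
        exact h3 a (fun w => Module.mem_annihilator.mp ha w)
      rw [hann]
      simp
    rw [Module.mem_support_iff] at hsupp
    have e1 := (IsLocalizedModule.isBaseChange p.primeCompl (Localization.AtPrime p)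
      (LocalizedModule.mkLinearMap p.primeCompl W)).equiv
    exact ((bcEquiv A (Localization.AtPrime p) W).symm.trans e1).toEquiv.nontrivial
  apply local_cm ((TorBC.E A (Localization.AtPrime p)).obj (ModuleCat.of A W))
  · obtain ⟨n, hn⟩ := h1
    haveI := hn
    have h' : HasInjectiveDimensionLT (ModuleCat.of A W) (n + 1) :=
      hasInjectiveDimensionLT_of_ge _ n (n + 1) (by omega)
    haveI h'' := InjLoc.loc_injdim p.primeCompl n (ModuleCat.of A W) h'
    exact ⟨n + 1, hasInjectiveDimensionLT_of_iso
      (locIso p.primeCompl (ModuleCat.of A W)).symm (n + 1)⟩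
  · intro i hi z
    exact ext_E_eq_zero (Localization.AtPrime p) W W i (h2 i hi) z

end Global

end Groth.Agent.H71.DualMod
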