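import Mathlib
import Groth.Prelude.Def_Wider
import Groth.Agent.H71.DualMod
import Groth.Agent.H72.PdExt

/-!
# `A[0]` as a dualizing complex (helper71)

For a module `W` (placed in degree 0): the conditions of `Dual.IsDualizing A (inD A W)` in module
terms (`isDualizing_inD_of`), and the Gorenstein case `W = A`.
-/

set_option autoImplicit false
set_option linter.style.haveILetI false
set_option linter.unusedSectionVars false

universe u

open CategoryTheory Abelian DerivedCategory

namespace Groth.Agent.H71.DualSelf

attribute [local instance] HasDerivedCategory.standard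

variable {A : Type u} [CommRing A]

theorem hom_single_shift_neg (X Y : ModuleCat.{u} A) (i : ℤ) (hi : i < 0)
    (f : (singleFunctor (ModuleCat.{u} A) 0).obj X ⟶
      ((singleFunctor (ModuleCat.{u} A) 0).obj Y)⟦i⟧) : f = 0 := by
  haveI : DerivedCategory.TStructure.t.IsGE
      (((singleFunctor (ModuleCat.{u} A) 0).obj Y)⟦i⟧) (-i) :=
    DerivedCategory.TStructure.t.isGE_shift _ 0 i (-i) (by omega)
  exact DerivedCategory.TStructure.t.zero f 0 (-i) (by omega)

theorem subsingleton_hom_of_subsingleton_ext (X Y : ModuleCat.{u} A) (n : ℕ)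
    (h : Subsingleton (Ext X Y n)) :
    Subsingleton ((singleFunctor (ModuleCat.{u} A) 0).obj X ⟶
      ((singleFunctor (ModuleCat.{u} A) 0).obj Y)⟦(n : ℤ)⟧) := by
  have h' : Subsingleton (ShiftedHom ((singleFunctor (ModuleCat.{u} A) 0).obj X)
      ((singleFunctor (ModuleCat.{u} A) 0).obj Y) ((n : ℕ) : ℤ)) :=
    (Ext.homEquiv (X := X) (Y := Y) (n := n)).symm.subsingleton
  exact h'

theorem finite_HD_inD (M : Type u) [AddCommGroup M] [Module A M] [Module.Finite A M] (i : ℤ) :
    Module.Finite A (Dual.HD A (Dual.inD A M) i) := by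
  by_cases hi : i = 0
  · subst hi
    let e := (singleFunctorCompHomologyFunctorIso (ModuleCat.{u} A) 0).app (ModuleCat.of A M)
    haveI : Module.Finite A ((𝟭 (ModuleCat.{u} A)).obj (ModuleCat.of A M)) :=
      inferInstanceAs (Module.Finite A M)
    exact Module.Finite.equiv e.symm.toLinearEquiv
  · have hz : Limits.IsZero ((homologyFunctor (ModuleCat.{u} A) i).obj (Dual.inD A M)) := by
      rcases lt_or_gt_of_ne hi with h | h
      · exact isZero_of_isGE _ 0 i h
      · exact isZero_of_isLE _ 0 i h
    haveI : Subsingleton (Dual.HD A (Dual.inD A M) i) := ModuleCat.subsingleton_of_isZero hz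
    infer_instance

theorem smul_id_inD (M : Type u) [AddCommGroup M] [Module A M] (c : A) :
    c • 𝟙 (Dual.inD A M) =
      (singleFunctor (ModuleCat.{u} A) 0).map (c • 𝟙 (ModuleCat.of A M)) := by
  rw [CategoryTheory.Functor.map_smul, CategoryTheory.Functor.map_id]

theorem toEnd_bijective_self : Function.Bijective (fun a : A => a • 𝟙 (Dual.inD A A)) := by
  constructor
  · intro a b hab
    have hab' : a • 𝟙 (Dual.inD A A) = b • 𝟙 (Dual.inD A A) := hab
    rw [smul_id_inD, smul_id_inD] at hab'
    have h1 := (singleFunctor (ModuleCat.{u} A) 0).map_injective hab'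
    have h6 := congrArg (fun χ : ModuleCat.of A A ⟶ ModuleCat.of A A => χ.hom (1 : A)) h1
    simpa using h6
  · intro f
    obtain ⟨g, rfl⟩ := (singleFunctor (ModuleCat.{u} A) 0).map_surjective f
    refine ⟨g.hom (1 : A), ?_⟩
    show g.hom (1 : A) • 𝟙 (Dual.inD A A) = _
    rw [smul_id_inD]
    congr 1
    apply ModuleCat.hom_ext
    apply LinearMap.ext_ring
    simp

/-- For a Gorenstein-type module datum on `A` itself: `A[0]` is dualizing. -/
theorem isDualizing_self [IsNoetherianRing A]
    (h : ∃ n : ℕ, HasInjectiveDimensionLT (ModuleCat.of A A) n) :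
    Dual.IsDualizing A (Dual.inD A A) := by
  obtain ⟨n, hn⟩ := h
  haveI hproj : Projective (ModuleCat.of A A) :=
    (IsProjective.iff_projective (R := A) _).mp inferInstance
  refine ⟨inferInstance, ⟨0, n, ?_⟩, finite_HD_inD A, toEnd_bijective_self, ?_⟩
  · intro M _ _ i hi
    rcases hi with hi | hi
    · exact ⟨fun f g => (hom_single_shift_neg _ _ i hi f).trans
        (hom_single_shift_neg _ _ i hi g).symm⟩
    · obtain ⟨k, rfl⟩ := Int.eq_ofNat_of_zero_le (by omega : 0 ≤ i)
      apply subsingleton_hom_of_subsingleton_ext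
      exact HasInjectiveDimensionLT.subsingleton (ModuleCat.of A A) n k (by omega) _
  · intro i hi
    rcases lt_or_gt_of_ne hi with hi | hi
    · exact ⟨fun f g => (hom_single_shift_neg _ _ i hi f).trans
        (hom_single_shift_neg _ _ i hi g).symm⟩
    · obtain ⟨k, rfl⟩ := Int.eq_ofNat_of_zero_le (by omega : 0 ≤ i)
      apply subsingleton_hom_of_subsingleton_ext
      obtain ⟨k', rfl⟩ : ∃ k', k = k' + 1 := ⟨k - 1, by omega⟩
      exact ⟨fun f g => (Ext.eq_zero_of_projective f).trans (Ext.eq_zero_of_projective g).symm⟩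

/-- A regular Noetherian ring of finite Krull dimension has finite injective dimension. -/
theorem hasInjDim_self_of_regular [IsNoetherianRing A]
    (hreg : ∀ p : PrimeSpectrum A, IsRegularLocalRing (Localization.AtPrime p.asIdeal))
    (hdim : ringKrullDim A < ⊤) :
    ∃ n : ℕ, HasInjectiveDimensionLT (ModuleCat.of A A) n := by
  obtain ⟨d, hd⟩ : ∃ d : ℕ, ringKrullDim A ≤ (d : WithBot ℕ∞) := by
    rcases h : ringKrullDim A with _ | x
    · exact ⟨0, bot_le⟩
    · rcases hx : x with _ | d
      · exfalso
        rw [h, hx] at hdim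
        exact lt_irrefl _ hdim
      · exact ⟨d, le_rfl⟩
  refine ⟨d + 1, Groth.Agent.H60.InjLoc.glob_injdim d (ModuleCat.of A A) (fun m hm => ?_)⟩
  haveI := hreg ⟨m, hm.isPrime⟩
  have hk : (IsLocalRing.maximalIdeal (Localization.AtPrime m)).spanFinrank ≤ d := by
    have h1 := IsRegularLocalRing.spanFinrank_maximalIdeal (R := Localization.AtPrime m)
    have h2 : ringKrullDim (Localization.AtPrime m) ≤ ringKrullDim A := by
      refine Order.krullDim_le_of_strictMono
        (PrimeSpectrum.comap (algebraMap A (Localization.AtPrime m))) ?_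
      intro a b hab
      refine lt_of_le_of_ne (Ideal.comap_mono hab.le) ?_
      intro h
      exact hab.ne (PrimeSpectrum.localization_comap_injective (Localization.AtPrime m)
        m.primeCompl h)
    have h3 : (((IsLocalRing.maximalIdeal (Localization.AtPrime m)).spanFinrank : ℕ) :
        WithBot ℕ∞) ≤ (d : WithBot ℕ∞) := by
      rw [h1]
      exact h2.trans hd
    exact_mod_cast h3
  haveI h1 : HasInjectiveDimensionLT
      (ModuleCat.of (Localization.AtPrime m) (Localization.AtPrime m)) (d + 1) := by
    refine HasInjectiveDimensionLT.mk (fun i hi Y e => ?_)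
    have hpd : HasProjectiveDimensionLT (ModuleCat.of (Localization.AtPrime m) Y)
        ((IsLocalRing.maximalIdeal (Localization.AtPrime m)).spanFinrank + 1) :=
      Groth.Agent.H72.PdExt.pdLT_of_isRegularLocalRing (Localization.AtPrime m) Y
    haveI : HasProjectiveDimensionLT Y
        ((IsLocalRing.maximalIdeal (Localization.AtPrime m)).spanFinrank + 1) := hpd
    exact e.eq_zero_of_hasProjectiveDimensionLT
      ((IsLocalRing.maximalIdeal (Localization.AtPrime m)).spanFinrank + 1) (by omega)
  exact hasInjectiveDimensionLT_of_iso (Groth.Agent.H60.InjLoc.isoSelf m.primeCompl).symm (d + 1)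

end Groth.Agent.H71.DualSelf
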