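import Mathlib

/-!
# `Ext¹` via presentations (contravariant) and via short exact sequences (covariant)
-/

namespace Groth.Agent.H71.GD

open CategoryTheory Abelian

universe u w

variable {A : Type u} [CommRing A] [HasExt.{w} (ModuleCat.{u} A)]

section contra

variable {K F M N : Type u} [AddCommGroup K] [AddCommGroup F] [AddCommGroup M] [AddCommGroup N]
  [Module A K] [Module A F] [Module A M] [Module A N]

/-- `Ext¹(M, N) ≃ Hom(K, N) / Hom(F, N)` for a presentation `0 → K → F → M → 0`, `F` projective -/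
theorem ext_one_equiv_contra (f : K →ₗ[A] F) (g : F →ₗ[A] M) (hf : Function.Injective f)
    (hg : Function.Surjective g) (hfg : Function.Exact f g) [Module.Projective A F] :
    Nonempty (Ext (ModuleCat.of A M) (ModuleCat.of A N) 1 ≃ₗ[A]
      ((K →ₗ[A] N) ⧸ LinearMap.range (LinearMap.lcomp A N f))) := by
  let S : ShortComplex (ModuleCat.{u} A) :=
    ShortComplex.mk (ModuleCat.ofHom f) (ModuleCat.ofHom g)
      (by ext x; exact hfg.apply_apply_eq_zero x)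
  have hS : S.ShortExact := ModuleCat.shortComplex_shortExact S hfg hf hg
  haveI : Projective S.X₂ :=
    ModuleCat.projective_of_categoryTheory_projective (ModuleCat.of A F)
  let Y : ModuleCat.{u} A := ModuleCat.of A N
  let D : Ext S.X₁ Y 0 →ₗ[A] Ext S.X₃ Y 1 :=
    Ext.bilinearCompOfLinear A S.X₃ S.X₁ Y 1 0 1 (add_zero 1) hS.extClass
  have hD : ∀ x, D x = hS.extClass.comp x (add_zero 1) := fun x => rfl
  let e₁ : (K →ₗ[A] N) ≃ₗ[A] Ext S.X₁ Y 0 :=
    (ModuleCat.homLinearEquiv (S := A) (M := S.X₁) (N := Y)).symm.trans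
      (Ext.linearEquiv₀ (R := A) (X := S.X₁) (Y := Y)).symm
  have he₁ : ∀ φ, e₁ φ = Ext.mk₀ (ModuleCat.ofHom φ) := fun φ => rfl
  let Θ : (K →ₗ[A] N) →ₗ[A] Ext S.X₃ Y 1 := D.comp e₁.toLinearMap
  have hΘ : ∀ φ, Θ φ = hS.extClass.comp (Ext.mk₀ (ModuleCat.ofHom φ)) (add_zero 1) :=
    fun φ => rfl
  have hΘsurj : Function.Surjective Θ := by
    intro x₃
    have h0 : (Ext.mk₀ S.g).comp x₃ (zero_add 1) = 0 := Ext.eq_zero_of_projective _
    obtain ⟨x₁, hx₁⟩ := Ext.contravariant_sequence_exact₃ hS Y x₃ h0 (add_zero 1)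
    refine ⟨e₁.symm x₁, ?_⟩
    show D (e₁ (e₁.symm x₁)) = x₃
    rw [LinearEquiv.apply_symm_apply, hD]; exact hx₁
  have hker : LinearMap.ker Θ = LinearMap.range (LinearMap.lcomp A N f) := by
    ext φ
    rw [LinearMap.mem_ker, LinearMap.mem_range, hΘ]
    constructor
    · intro h
      obtain ⟨x₂, hx₂⟩ := Ext.contravariant_sequence_exact₁ hS Y _ (add_zero 1) h
      obtain ⟨ψ', rfl⟩ := (Ext.mk₀_bijective S.X₂ Y).2 x₂
      rw [Ext.mk₀_comp_mk₀] at hx₂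
      have h2 := (Ext.mk₀_bijective S.X₁ Y).1 hx₂
      exact ⟨ψ'.hom, congrArg ModuleCat.Hom.hom h2⟩
    · rintro ⟨ψ, rfl⟩
      have h1 : ModuleCat.ofHom (LinearMap.lcomp A N f ψ) = S.f ≫ ModuleCat.ofHom ψ := rfl
      rw [h1, ← Ext.mk₀_comp_mk₀]
      exact hS.extClass_comp_assoc _
  have e := LinearMap.quotKerEquivOfSurjective Θ hΘsurj
  exact ⟨e.symm.trans (Submodule.quotEquivOfEq _ _ hker)⟩

/-- extension of maps along an injection with `Ext¹`-acyclic cokernel -/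
theorem exists_extension (f : K →ₗ[A] F) (g : F →ₗ[A] M) (hf : Function.Injective f)
    (hg : Function.Surjective g) (hfg : Function.Exact f g)
    (hvan : Subsingleton (Ext (ModuleCat.of A M) (ModuleCat.of A N) 1)) (φ : K →ₗ[A] N) :
    ∃ ψ : F →ₗ[A] N, ψ ∘ₗ f = φ := by
  let S : ShortComplex (ModuleCat.{u} A) :=
    ShortComplex.mk (ModuleCat.ofHom f) (ModuleCat.ofHom g)
      (by ext x; exact hfg.apply_apply_eq_zero x)
  have hS : S.ShortExact := ModuleCat.shortComplex_shortExact S hfg hf hg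
  let Y : ModuleCat.{u} A := ModuleCat.of A N
  obtain ⟨x₂, hx₂⟩ := Ext.contravariant_sequence_exact₁ hS Y (Ext.mk₀ (ModuleCat.ofHom φ))
    (add_zero 1) (Subsingleton.elim _ _)
  obtain ⟨ψ', rfl⟩ := (Ext.mk₀_bijective S.X₂ Y).2 x₂
  rw [Ext.mk₀_comp_mk₀] at hx₂
  have h2 := (Ext.mk₀_bijective S.X₁ Y).1 hx₂
  exact ⟨ψ'.hom, congrArg ModuleCat.Hom.hom h2⟩

end contra

section cov

variable {N₁ N₂ N₃ X : Type u} [AddCommGroup N₁] [AddCommGroup N₂] [AddCommGroup N₃]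
  [AddCommGroup X] [Module A N₁] [Module A N₂] [Module A N₃] [Module A X]

/-- `Ext¹(X, N₁) ≃ Hom(X, N₃) / Hom(X, N₂)` for `0 → N₁ → N₂ → N₃ → 0` with `Ext¹(X, N₂) = 0` -/
theorem ext_one_equiv_cov (i : N₁ →ₗ[A] N₂) (p : N₂ →ₗ[A] N₃) (hi : Function.Injective i)
    (hp : Function.Surjective p) (hip : Function.Exact i p)
    (hvan : Subsingleton (Ext (ModuleCat.of A X) (ModuleCat.of A N₂) 1)) :
    Nonempty (Ext (ModuleCat.of A X) (ModuleCat.of A N₁) 1 ≃ₗ[A]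
      ((X →ₗ[A] N₃) ⧸ LinearMap.range (LinearMap.compRight A p : (X →ₗ[A] N₂) →ₗ[A] _))) := by
  let S : ShortComplex (ModuleCat.{u} A) :=
    ShortComplex.mk (ModuleCat.ofHom i) (ModuleCat.ofHom p)
      (by ext x; exact hip.apply_apply_eq_zero x)
  have hS : S.ShortExact := ModuleCat.shortComplex_shortExact S hip hi hp
  let Z : ModuleCat.{u} A := ModuleCat.of A X
  let D : Ext Z S.X₃ 0 →ₗ[A] Ext Z S.X₁ 1 :=
    (Ext.bilinearCompOfLinear A Z S.X₃ S.X₁ 0 1 1 (zero_add 1)).flip hS.extClass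
  have hD : ∀ x, D x = x.comp hS.extClass (zero_add 1) := fun x => rfl
  let e₁ : (X →ₗ[A] N₃) ≃ₗ[A] Ext Z S.X₃ 0 :=
    (ModuleCat.homLinearEquiv (S := A) (M := Z) (N := S.X₃)).symm.trans
      (Ext.linearEquiv₀ (R := A) (X := Z) (Y := S.X₃)).symm
  have he₁ : ∀ φ, e₁ φ = Ext.mk₀ (ModuleCat.ofHom φ) := fun φ => rfl
  let Θ : (X →ₗ[A] N₃) →ₗ[A] Ext Z S.X₁ 1 := D.comp e₁.toLinearMap
  have hΘ : ∀ φ, Θ φ = (Ext.mk₀ (ModuleCat.ofHom φ)).comp hS.extClass (zero_add 1) :=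
    fun φ => rfl
  have hΘsurj : Function.Surjective Θ := by
    intro x₁
    obtain ⟨x₃, hx₃⟩ := Ext.covariant_sequence_exact₁ Z hS x₁ (Subsingleton.elim _ _)
      (zero_add 1)
    refine ⟨e₁.symm x₃, ?_⟩
    show D (e₁ (e₁.symm x₃)) = x₁
    rw [LinearEquiv.apply_symm_apply, hD]; exact hx₃
  have hker : LinearMap.ker Θ =
      LinearMap.range (LinearMap.compRight A p : (X →ₗ[A] N₂) →ₗ[A] _) := by
    ext φ
    rw [LinearMap.mem_ker, LinearMap.mem_range, hΘ]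
    constructor
    · intro h
      obtain ⟨x₂, hx₂⟩ := Ext.covariant_sequence_exact₃ Z hS _ (zero_add 1) h
      obtain ⟨ψ', rfl⟩ := (Ext.mk₀_bijective Z S.X₂).2 x₂
      rw [Ext.mk₀_comp_mk₀] at hx₂
      have h2 := (Ext.mk₀_bijective Z S.X₃).1 hx₂
      exact ⟨ψ'.hom, congrArg ModuleCat.Hom.hom h2⟩
    · rintro ⟨ψ, rfl⟩
      have h1 : ModuleCat.ofHom (LinearMap.compRight A p ψ) = ModuleCat.ofHom ψ ≫ S.g := rfl
      rw [h1, ← Ext.mk₀_comp_mk₀, Ext.comp_assoc_of_second_deg_zero, hS.comp_extClass,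
        Ext.comp_zero]
  have e := LinearMap.quotKerEquivOfSurjective Θ hΘsurj
  exact ⟨e.symm.trans (Submodule.quotEquivOfEq _ _ hker)⟩

end cov

section decomp

/-- vanishing of `Ext(X, P)` when `P` is a finite "sum" of copies of `B` -/
theorem subsingleton_ext_of_decomp {X P B : ModuleCat.{u} A} {n : ℕ} {ι : Type} [Fintype ι]
    (π : ι → (P ⟶ B)) (inc : ι → (B ⟶ P)) (htot : ∑ j, π j ≫ inc j = 𝟙 P)
    (hB : Subsingleton (Ext X B n)) : Subsingleton (Ext X P n) := by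
  refine ⟨fun a b => ?_⟩
  have hz : ∀ x : Ext X P n, x = 0 := by
    intro x
    have h1 : x = x.comp (Ext.mk₀ (𝟙 P)) (add_zero n) := (Ext.comp_mk₀_id x).symm
    rw [h1, ← htot, Ext.mk₀_sum, Ext.comp_sum]
    refine Finset.sum_eq_zero fun j _ => ?_
    rw [← Ext.mk₀_comp_mk₀, ← Ext.comp_assoc_of_second_deg_zero,
      Subsingleton.elim (x.comp (Ext.mk₀ (π j)) (add_zero n)) 0, Ext.zero_comp]
  rw [hz a, hz b]

end decomp

end Groth.Agent.H71.GD
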