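import Mathlib
import Groth.Agent.H60.Bass
import Groth.Agent.H60.InjLoc
import Groth.Agent.H26.DepthLib
import Groth.Agent.H29.CM
import Groth.Agent.S15013

/-!
# `Ext^i(X, O) = 0` for torsion-free modules over a one-dimensional Gorenstein local domain
-/

set_option autoImplicit false
universe u

namespace Groth.Agent.H71.GD

open CategoryTheory

theorem ext_van (O : Type u) [CommRing O] [IsDomain O] [LocCoh.IsGorensteinLocalRing O]
    (hdim : ringKrullDim O = 1) (X : Type u) [AddCommGroup X] [Module O X] [Module.Finite O X]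
    [NoZeroSMulDivisors O X] (i : ℕ) (hi : 1 ≤ i) :
    Subsingleton (Abelian.Ext (ModuleCat.of O X) (ModuleCat.of O O) i) := by
  classical
  have hG : LocCoh.IsGorensteinLocalRing O := inferInstance
  obtain ⟨r₀, hr₀1, hr₀2, -⟩ := Groth.Agent.H60.InjLoc.gor_data O hG.exists_hasInjectiveDimensionLT
  have hr₀ : r₀ = 1 := by
    rw [hdim] at hr₀1
    have : ((r₀ : ℕ∞) : WithBot ℕ∞) = 1 := hr₀1.symm
    exact_mod_cast this
  subst hr₀
  have hinj : HasInjectiveDimensionLT (ModuleCat.of O O) 2 := hr₀2
  haveI : Nontrivial (ModuleCat.of O O) := inferInstanceAs (Nontrivial O)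
  obtain ⟨r, hr1, hr2⟩ := Groth.Agent.H60.Bass.exists_r (ModuleCat.of O O) ⟨2, hinj⟩
  have hr : r ≤ 1 := by
    by_contra hlt
    obtain ⟨z, hz⟩ := hr2
    exact hz (z.eq_zero_of_hasInjectiveDimensionLT 2 (by omega))
  by_cases hM : Subsingleton X
  · exact ⟨fun a b => by
      rw [Groth.Agent.S0339.ext_eq_zero_of_isZero_src (ModuleCat.isZero_of_subsingleton _) a,
        Groth.Agent.S0339.ext_eq_zero_of_isZero_src (ModuleCat.isZero_of_subsingleton _) b]⟩
  · haveI : Nontrivial X := not_subsingleton_iff_nontrivial.mp hM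
    obtain ⟨t, ht⟩ := Groth.Agent.H29.CM.exists_nat_depth (A := O) (M := X)
    obtain ⟨htr, -, hvan⟩ := Groth.Agent.H60.Bass.F2 (ModuleCat.of O O) r hr1 hr2 t X ht
    have ht1 : 1 ≤ t := by
      have hm : IsLocalRing.maximalIdeal O ≠ ⊥ := by
        intro h
        have hF : IsField O := IsLocalRing.isField_iff_maximalIdeal_eq.mpr h
        have h0 := ringKrullDim_eq_zero_of_isField hF
        rw [hdim] at h0
        exact one_ne_zero h0
      obtain ⟨x, hxm, hx0⟩ := Submodule.exists_mem_ne_zero_of_ne_bot hm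
      have hreg : IsSMulRegular X x := smul_right_injective X hx0
      have hW : RingTheory.Sequence.IsWeaklyRegular X [x] :=
        (RingTheory.Sequence.isWeaklyRegular_cons_iff X x []).2
          ⟨hreg, RingTheory.Sequence.IsWeaklyRegular.nil O _⟩
      have h1 := Groth.Agent.H26.DepthLib.length_le_idealDepth (IsLocalRing.maximalIdeal O) hW
        (fun r hr => by rw [List.mem_singleton] at hr; rw [hr]; exact hxm)
      rw [show LocCoh.idealDepth (IsLocalRing.maximalIdeal O) X = (t : ℕ∞) from ht] at h1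
      exact_mod_cast h1
    refine ⟨fun a b => ?_⟩
    rw [hvan i (by omega) a, hvan i (by omega) b]

end Groth.Agent.H71.GD
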