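import Mathlib
import Groth.Agent.H71.GD1
import Groth.Agent.H71.GD2

/-!
# Duality for maximal Cohen–Macaulay algebras over a one-dimensional Gorenstein local domain
-/

set_option autoImplicit false
universe u

namespace Groth.Agent.H71.GD

open CategoryTheory

/-- the dual of any module over a domain is torsion-free -/
theorem noZeroSMulDivisors_dual (O : Type u) [CommRing O] [IsDomain O] (X : Type u)
    [AddCommGroup X] [Module O X] : NoZeroSMulDivisors O (X →ₗ[O] O) := by
  refine ⟨fun {c φ} h => ?_⟩
  by_cases hc : c = 0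
  · exact Or.inl hc
  · right
    refine LinearMap.ext fun x => ?_
    have h1 := LinearMap.congr_fun h x
    rw [LinearMap.smul_apply, LinearMap.zero_apply, smul_eq_mul, mul_eq_zero] at h1
    rcases h1 with h1 | h1
    · exact absurd h1 hc
    · exact h1

section abstract

variable (O : Type u) [CommRing O] [IsDomain O] [LocCoh.IsGorensteinLocalRing O]
  (hdim : ringKrullDim O = 1)

variable (M : Type u) [AddCommGroup M] [Module O M] [Module.Finite O M] [NoZeroSMulDivisors O M]

include hdim in
/-- reflexivity: every functional on the dual is an evaluation -/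
theorem exists_eval (ξ : (M →ₗ[O] O) →ₗ[O] O) : ∃ y : M, ∀ φ : M →ₗ[O] O, ξ φ = φ y := by
  classical
  obtain ⟨r, g, hg⟩ := Module.Finite.exists_fin' O M
  set f := (LinearMap.ker g).subtype with hf
  have hfinj : Function.Injective f := Submodule.injective_subtype _
  have hfg : Function.Exact f g := LinearMap.exact_subtype_ker_map g
  -- the dual sequence
  set Dg : (M →ₗ[O] O) →ₗ[O] ((Fin r → O) →ₗ[O] O) := LinearMap.lcomp O O g with hDg
  set Df : ((Fin r → O) →ₗ[O] O) →ₗ[O] (LinearMap.ker g →ₗ[O] O) := LinearMap.lcomp O O f with hDf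
  have hDginj : Function.Injective Dg := by
    intro φ φ' h
    refine LinearMap.ext fun y => ?_
    obtain ⟨v, rfl⟩ := hg y
    exact LinearMap.congr_fun h v
  have hDfsurj : Function.Surjective Df := by
    intro φ
    obtain ⟨ψ, hψ⟩ := exists_extension f g hfinj hg hfg (ext_van O hdim M 1 le_rfl) φ
    exact ⟨ψ, hψ⟩
  have hDex : Function.Exact Dg Df := by
    intro ψ
    constructor
    · intro h
      have hle : LinearMap.ker g ≤ LinearMap.ker ψ := by
        intro v hv
        have := LinearMap.congr_fun h ⟨v, hv⟩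
        exact this
      refine ⟨(LinearMap.ker g).liftQ ψ hle ∘ₗ (g.quotKerEquivOfSurjective hg).symm.toLinearMap, ?_⟩
      refine LinearMap.ext fun v => ?_
      show (LinearMap.ker g).liftQ ψ hle ((g.quotKerEquivOfSurjective hg).symm (g v)) = ψ v
      have : (g.quotKerEquivOfSurjective hg).symm (g v) = Submodule.Quotient.mk v := by
        rw [LinearEquiv.symm_apply_eq]
        rfl
      rw [this]
      rfl
    · rintro ⟨φ, rfl⟩
      refine LinearMap.ext fun v => ?_
      show φ (g (v : Fin r → O)) = 0
      have : g (v : Fin r → O) = 0 := v.2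
      rw [this, map_zero]
  haveI : NoZeroSMulDivisors O (LinearMap.ker g →ₗ[O] O) := noZeroSMulDivisors_dual O _
  haveI : Module.Finite O (LinearMap.ker g →ₗ[O] O) := inferInstance
  obtain ⟨Ξ, hΞ⟩ := exists_extension Dg Df hDginj hDfsurj hDex
    (ext_van O hdim (LinearMap.ker g →ₗ[O] O) 1 le_rfl) ξ
  set v := (Module.evalEquiv O (Fin r → O)).symm Ξ with hv
  have hv' : ∀ ψ : (Fin r → O) →ₗ[O] O, Ξ ψ = ψ v := by
    intro ψ
    have h1 : Module.evalEquiv O (Fin r → O) v = Ξ := by rw [hv, LinearEquiv.apply_symm_apply]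
    rw [← h1]
    rfl
  refine ⟨g v, fun φ => ?_⟩
  have h2 := LinearMap.congr_fun hΞ φ
  rw [← h2]
  show Ξ (Dg φ) = φ (g v)
  rw [hv']
  rfl

end abstract

end Groth.Agent.H71.GD
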