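import Groth.Agent.H58.CDL.Defs
import Groth.Agent.H46.LatMain

/-!
# (P10) of the S1853 squad: localisation-level lemmas
-/

set_option autoImplicit false
universe u v

namespace Groth.Agent.H71.CDLP10

open CycDet IsLocalRing Groth.Agent.H46.CD Groth.Agent.H46.LatDist Groth.Agent.H58.CDL

variable {R : Type u} [CommRing R] [IsLocalRing R] (q : Ideal R) [q.IsPrime] {V : Type u}
  [AddCommGroup V] [Module R V] [Module (Localization.AtPrime q) V]
  [IsScalarTower R (Localization.AtPrime q) V] {l : ℕ}

theorem exists_smul_mem_span (T : Set V) (v : V)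
    (hv : v ∈ Submodule.span (Localization.AtPrime q) T) :
    ∃ s : R, s ∉ q ∧ s • v ∈ Submodule.span R T := by
  have h1 : (1 : R) ∉ q := fun h => (Ideal.IsPrime.ne_top inferInstance)
    ((Ideal.eq_top_iff_one q).mpr h)
  induction hv using Submodule.span_induction with
  | mem x hx => exact ⟨1, h1, by rw [one_smul]; exact Submodule.subset_span hx⟩
  | zero => exact ⟨1, h1, by rw [smul_zero]; exact Submodule.zero_mem _⟩
  | add x y _ _ hx hy =>
    obtain ⟨s₁, hs₁, h₁⟩ := hx
    obtain ⟨s₂, hs₂, h₂⟩ := hy
    refine ⟨s₁ * s₂, fun h => (Ideal.IsPrime.mem_or_mem inferInstance h).elim hs₁ hs₂, ?_⟩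
    rw [smul_add]
    refine Submodule.add_mem _ ?_ ?_
    · rw [mul_comm, mul_smul]
      exact Submodule.smul_mem _ _ h₁
    · rw [mul_smul]
      exact Submodule.smul_mem _ _ h₂
  | smul c x _ hx =>
    obtain ⟨s, hs, h⟩ := hx
    obtain ⟨⟨r, t⟩, hrt⟩ := IsLocalization.surj q.primeCompl c
    refine ⟨t * s, fun h' => (Ideal.IsPrime.mem_or_mem inferInstance h').elim t.2 hs, ?_⟩
    have h2 : ((t : R) * s) • (c • x) = r • (s • x) := by
      rw [← algebraMap_smul (Localization.AtPrime q) ((t : R) * s) (c • x), smul_smul,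
        ← algebraMap_smul (Localization.AtPrime q) r (s • x),
        ← algebraMap_smul (Localization.AtPrime q) s x, smul_smul]
      congr 1
      simp only at hrt
      rw [map_mul, ← hrt]
      ring
    rw [h2]
    exact Submodule.smul_mem _ _ h

theorem spanBefore_le_restrictScalars (y : Fin l → V) (i : ℕ) :
    (spanBefore R V y i : Set V) ⊆ spanBefore (Localization.AtPrime q) V y i := by
  intro v hv
  have hv' : v ∈ Submodule.span R (y '' {j : Fin l | (j : ℕ) < i}) := hv
  show v ∈ Submodule.span (Localization.AtPrime q) (y '' {j : Fin l | (j : ℕ) < i})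
  exact Submodule.span_subset_span R (Localization.AtPrime q) _ hv'

theorem isAdmissible_of_goodR {y : Fin l → V} (hy : GoodR q y) :
    IsAdmissible (Localization.AtPrime q) V y := by
  intro i c hc
  obtain ⟨⟨r, t⟩, hrt⟩ := IsLocalization.surj q.primeCompl c
  simp only at hrt
  have hr : r ∈ q := by
    rw [← IsLocalization.AtPrime.to_map_mem_maximal_iff (Localization.AtPrime q) q r, ← hrt]
    exact Ideal.mul_mem_right _ _ hc
  have h1 : r • y i ∈ spanBefore R V y i := (hy i r).mpr hr
  have h2 : r • y i ∈ spanBefore (Localization.AtPrime q) V y i :=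
    spanBefore_le_restrictScalars q y i h1
  have hu : IsUnit (algebraMap R (Localization.AtPrime q) t) :=
    IsLocalization.map_units (Localization.AtPrime q) t
  obtain ⟨w, hw⟩ := hu.exists_left_inv
  have h3 : c • y i = w • (r • y i) := by
    rw [← algebraMap_smul (Localization.AtPrime q) r (y i), smul_smul, ← hrt]
    congr 1
    rw [mul_comm c, ← mul_assoc, hw, one_mul]
  rw [h3]
  exact Submodule.smul_mem _ _ h2

theorem not_mem_spanBefore_of_goodR {y : Fin l → V} (hy : GoodR q y) (i : Fin l) :
    y i ∉ spanBefore (Localization.AtPrime q) V y i := by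
  intro h
  have h' : y i ∈ Submodule.span (Localization.AtPrime q) (y '' {j : Fin l | (j : ℕ) < (i : ℕ)}) := h
  obtain ⟨s, hs, hsv⟩ := exists_smul_mem_span q _ _ h'
  exact hs ((hy i s).mp hsv)

end Groth.Agent.H71.CDLP10
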