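import Groth.Agent.H58.CDL.Defs
import Groth.Agent.H46.LatMain

/-!
# (P5) of the S1853 squad: `CycAlg.ordFrac` lemmas for `R ⧸ q` in its residue field
-/

set_option autoImplicit false
universe u v

namespace Groth.Agent.H71.CDLP5

open CycDet IsLocalRing Groth.Agent.H46.CD Groth.Agent.H46.LatDist Groth.Agent.H58.CDL

section general
variable {A : Type u} [CommRing A] [IsDomain A] {K : Type u} [Field K] [Algebra A K]
  [IsFractionRing A K] [IsNoetherianRing A] [Ring.KrullDimLE 1 A]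

/-- unfolding of `CycAlg.ordFrac` on nonzero elements -/
theorem ordFrac_spec (f : K) (hf : f ≠ 0) :
    ∃ z : Multiplicative ℤ, Ring.ordFrac A f = (z : WithZero (Multiplicative ℤ)) ∧
      CycAlg.ordFrac A K f = Multiplicative.toAdd z := by
  have hcond : IsNoetherianRing A ∧ Ring.KrullDimLE 1 A ∧ Nontrivial A ∧ IsFractionRing A K :=
    ⟨inferInstance, inferInstance, inferInstance, inferInstance⟩
  have hne : Ring.ordFrac A f ≠ 0 := (map_ne_zero _).mpr hf
  obtain ⟨z, hz⟩ := WithZero.ne_zero_iff_exists.mp hne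
  refine ⟨z, hz.symm, ?_⟩
  unfold CycAlg.ordFrac
  rw [dif_pos hcond, ← hz, WithZero.recZeroCoe_coe]

theorem ordFrac_mul_gen (f g : K) (hf : f ≠ 0) (hg : g ≠ 0) :
    CycAlg.ordFrac A K (f * g) = CycAlg.ordFrac A K f + CycAlg.ordFrac A K g := by
  obtain ⟨zf, hzf, hf'⟩ := ordFrac_spec (A := A) f hf
  obtain ⟨zg, hzg, hg'⟩ := ordFrac_spec (A := A) g hg
  obtain ⟨z, hz, hfg'⟩ := ordFrac_spec (A := A) (f * g) (mul_ne_zero hf hg)
  rw [map_mul, hzf, hzg, ← WithZero.coe_mul] at hz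
  have h : z = zf * zg := (WithZero.coe_injective hz).symm
  rw [hfg', hf', hg', h, toAdd_mul]

theorem ordFrac_one_gen : CycAlg.ordFrac A K (1 : K) = 0 := by
  obtain ⟨z, hz, h'⟩ := ordFrac_spec (A := A) (1 : K) one_ne_zero
  rw [map_one] at hz
  have h : z = 1 := (WithZero.coe_injective (hz.symm.trans WithZero.coe_one.symm))
  rw [h', h, toAdd_one]

theorem ordFrac_neg_one_gen : CycAlg.ordFrac A K (-1 : K) = 0 := by
  have h1 := ordFrac_mul_gen (A := A) (-1 : K) (-1) (neg_ne_zero.mpr one_ne_zero)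
    (neg_ne_zero.mpr one_ne_zero)
  rw [neg_mul_neg, one_mul, ordFrac_one_gen] at h1
  omega

theorem ordFrac_algebraMap (x : A) (hx : x ≠ 0) :
    CycAlg.ordFrac A K (algebraMap A K x) = ((Ring.ord A x).toNat : ℤ) := by
  have h := ordFrac_div (A := A) (K := K) x 1 hx one_ne_zero
  rw [map_one, div_one, Ring.ord_one] at h
  rw [h]
  simp

end general

section P5
variable {R : Type u} [CommRing R] [IsNoetherianRing R] (q : Ideal R) [q.IsPrime]
  (hq : ringKrullDim (R ⧸ q) = 1)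

include hq in
theorem krullDimLE : Ring.KrullDimLE 1 (R ⧸ q) := by
  rw [Ring.krullDimLE_iff, hq]
  exact le_rfl

include hq in
theorem ordFrac_mul (f g : q.ResidueField) (hf : f ≠ 0) (hg : g ≠ 0) :
    CycAlg.ordFrac (R ⧸ q) q.ResidueField (f * g) =
      CycAlg.ordFrac (R ⧸ q) q.ResidueField f + CycAlg.ordFrac (R ⧸ q) q.ResidueField g := by
  haveI := krullDimLE q hq
  exact ordFrac_mul_gen f g hf hg

include hq in
theorem ordFrac_neg_one : CycAlg.ordFrac (R ⧸ q) q.ResidueField (-1) = 0 := by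
  haveI := krullDimLE q hq
  exact ordFrac_neg_one_gen

include hq in
theorem ordFrac_one : CycAlg.ordFrac (R ⧸ q) q.ResidueField 1 = 0 := by
  haveI := krullDimLE q hq
  exact ordFrac_one_gen

include hq in
theorem length_quot_eq_ordFrac (a : R) (ha : a ∉ q) :
    ∃ c : ℕ, Module.length R (R ⧸ (q ⊔ Ideal.span {a})) = c ∧
      (c : ℤ) = CycAlg.ordFrac (R ⧸ q) q.ResidueField (algebraMap R q.ResidueField a) := by
  haveI := krullDimLE q hq
  have hā : (Ideal.Quotient.mk q a) ≠ 0 := by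
    rw [Ne, Ideal.Quotient.eq_zero_iff_mem]
    exact ha
  have hnt : Ring.ord (R ⧸ q) (Ideal.Quotient.mk q a) ≠ ⊤ :=
    Ring.ord_ne_top (mem_nonZeroDivisors_of_ne_zero hā)
  refine ⟨(Ring.ord (R ⧸ q) (Ideal.Quotient.mk q a)).toNat, ?_, ?_⟩
  · rw [ENat.coe_toNat hnt]
    have e1 := (DoubleQuot.quotQuotEquivQuotSupₐ R q (Ideal.span {a})).toLinearEquiv
    rw [← e1.length_eq]
    have hJ : (Ideal.span {a}).map (Ideal.Quotient.mkₐ R q) =
        Ideal.span {Ideal.Quotient.mk q a} := by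
      rw [Ideal.map_span, Set.image_singleton]
      rfl
    rw [Module.length_eq_of_surjective (S := R) (R := R ⧸ q)
      (M := (R ⧸ q) ⧸ (Ideal.span {a}).map (Ideal.Quotient.mkₐ R q))
      Ideal.Quotient.mk_surjective]
    exact (Submodule.quotEquivOfEq _ _ hJ).length_eq
  · rw [IsScalarTower.algebraMap_apply R (R ⧸ q) q.ResidueField a]
    exact (ordFrac_algebraMap (A := R ⧸ q) (K := q.ResidueField) _ hā).symm

end P5

end Groth.Agent.H71.CDLP5
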