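import Groth.Agent.H71.HConnLocal

/-!
# Associated primes of `R/(a)` and depth of `R_P`
-/

set_option autoImplicit false
universe u

open Groth.Agent.H58 Groth.Agent.H15.Depth Groth.Agent.H71.ZC Groth.Agent.H71.HC
open scoped Pointwise

namespace Groth.Agent.H71.AQ

variable {R : Type u} [CommRing R]

section

variable (P : Ideal R) [P.IsPrime] (a : R)

/-- elementary description of the socle of `M_P / a M_P` for `M = R`. -/
lemma hasSocle_quot_iff :
    HasSocle (IsLocalRing.maximalIdeal (Localization.AtPrime P))
        (QuotSMulTop (algebraMap R (Localization.AtPrime P) a)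
          (LocalizedModule P.primeCompl R)) ↔
      ∃ w : LocalizedModule P.primeCompl R,
        (∀ f ∈ P, ∃ y : LocalizedModule P.primeCompl R, f • w = a • y) ∧
          ¬ ∃ y : LocalizedModule P.primeCompl R, w = a • y := by
  rw [hasSocle_quotSMulTop_iff]
  have hmem : ∀ x : LocalizedModule P.primeCompl R,
      x ∈ (algebraMap R (Localization.AtPrime P) a) •
        (⊤ : Submodule (Localization.AtPrime P) (LocalizedModule P.primeCompl R)) ↔
        ∃ y, x = a • y := by
    intro x
    rw [Submodule.mem_smul_pointwise_iff_exists]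
    constructor
    · rintro ⟨y, -, rfl⟩; exact ⟨y, algebraMap_smul _ a y⟩
    · rintro ⟨y, rfl⟩; exact ⟨y, Submodule.mem_top, algebraMap_smul _ a y⟩
  constructor
  · rintro ⟨w, hw1, hw2⟩
    refine ⟨w, fun f hf => ?_, fun h => hw1 ((hmem w).mpr h)⟩
    have h1 := hw2 _
      ((IsLocalization.AtPrime.to_map_mem_maximal_iff (Localization.AtPrime P) P f).mpr hf)
    rw [algebraMap_smul] at h1
    exact (hmem _).mp h1
  · rintro ⟨w, hw1, hw2⟩
    refine ⟨w, fun h => hw2 ((hmem w).mp h), fun c hc => ?_⟩
    obtain ⟨⟨f, s⟩, hfs⟩ := IsLocalization.surj P.primeCompl c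
    dsimp only at hfs
    have hf : f ∈ P := by
      rw [← IsLocalization.AtPrime.to_map_mem_maximal_iff (Localization.AtPrime P) P f, ← hfs]
      exact Ideal.mul_mem_right _ _ hc
    obtain ⟨y, hy⟩ := hw1 f hf
    obtain ⟨y', hy'⟩ := exists_smul_eq P s.2 y
    rw [hmem]
    refine ⟨y', ?_⟩
    apply smul_inj P s.2
    rw [smul_comm' P c, ← algebraMap_smul (Localization.AtPrime P) (s : R) w, smul_smul, hfs,
      algebraMap_smul, hy, ← hy']
    exact smul_comm _ _ _

lemma smul_mk_quot (m r : R) :
    r • (Ideal.Quotient.mk (Ideal.span {a}) m) = Ideal.Quotient.mk (Ideal.span {a}) (r * m) := by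
  rw [Algebra.smul_def, Ideal.Quotient.algebraMap_eq, ← map_mul]

lemma mem_colon_quot_iff (m r : R) :
    r ∈ (⊥ : Submodule R (R ⧸ Ideal.span {a})).colon {Ideal.Quotient.mk (Ideal.span {a}) m} ↔
      ∃ n, a * n = r * m := by
  rw [Submodule.mem_colon_singleton, Submodule.mem_bot, smul_mk_quot,
    Ideal.Quotient.eq_zero_iff_mem, Ideal.mem_span_singleton]
  constructor
  · rintro ⟨n, hn⟩; exact ⟨n, hn.symm⟩
  · rintro ⟨n, hn⟩; exact ⟨n, hn.symm⟩

/-- associated primes of `R/(a)` via socles in the localization. -/
lemma isAssociatedPrime_quot_iff [IsNoetherianRing R] :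
    IsAssociatedPrime P (R ⧸ Ideal.span {a}) ↔
      ∃ w : LocalizedModule P.primeCompl R,
        (∀ f ∈ P, ∃ y : LocalizedModule P.primeCompl R, f • w = a • y) ∧
          ¬ ∃ y : LocalizedModule P.primeCompl R, w = a • y := by
  constructor
  · intro h
    obtain ⟨-, x, hx⟩ := isAssociatedPrime_iff.mp h
    obtain ⟨m, rfl⟩ := Ideal.Quotient.mk_surjective x
    have hP : ∀ r, r ∈ P ↔ ∃ n, a * n = r * m := fun r => by
      conv_lhs => rw [hx]
      exact mem_colon_quot_iff a m r
    refine ⟨LocalizedModule.mkLinearMap P.primeCompl R m, fun f hf => ?_, ?_⟩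
    · obtain ⟨n, hn⟩ := (hP f).mp hf
      refine ⟨LocalizedModule.mkLinearMap P.primeCompl R n, ?_⟩
      rw [← map_smul, ← map_smul, smul_eq_mul, smul_eq_mul, hn]
    · rintro ⟨y, hy⟩
      obtain ⟨s, n, hs, hsn⟩ := exists_smul_eq_mk P y
      have h1 : LocalizedModule.mkLinearMap P.primeCompl R (s * m - a * n) = 0 := by
        rw [map_sub, ← smul_eq_mul, ← smul_eq_mul a n, map_smul, map_smul, hy, ← hsn,
          smul_comm, sub_self]
      obtain ⟨t, ht, htz⟩ := (mk_eq_zero_iff P _).mp h1
      have h2 : t * s ∈ P := (hP _).mpr ⟨t * n, by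
        rw [smul_eq_mul, mul_sub, sub_eq_zero] at htz
        rw [mul_assoc, htz]; ring⟩
      rcases (inferInstance : P.IsPrime).mem_or_mem h2 with h3 | h3
      · exact ht h3
      · exact hs h3
  · rintro ⟨w, hw1, hw2⟩
    obtain ⟨mstar, h1, h2⟩ := descend_socle P (IsNoetherian.noetherian P) a w hw1 hw2
    refine isAssociatedPrime_iff.mpr ⟨inferInstance, Ideal.Quotient.mk _ mstar, ?_⟩
    ext r
    rw [mem_colon_quot_iff]
    constructor
    · intro hr; exact h1 r hr
    · rintro ⟨n, hn⟩
      by_contra hr
      apply h2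
      obtain ⟨y, hy⟩ := exists_smul_eq P (s := r) hr
        (LocalizedModule.mkLinearMap P.primeCompl R n)
      refine ⟨y, ?_⟩
      apply smul_inj P (s := r) hr
      rw [← map_smul, smul_eq_mul, ← hn, ← smul_eq_mul, map_smul, ← hy]
      exact smul_comm _ _ _

lemma mem_of_isAssociatedPrime_quot (h : IsAssociatedPrime P (R ⧸ Ideal.span {a})) : a ∈ P := by
  apply h.annihilator_le
  rw [Submodule.mem_annihilator]
  intro x _
  obtain ⟨m, rfl⟩ := Ideal.Quotient.mk_surjective x
  rw [smul_mk_quot, Ideal.Quotient.eq_zero_iff_mem, Ideal.mem_span_singleton]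
  exact dvd_mul_right a m

lemma smul_top_localizedModule_self_ne_top [IsNoetherianRing R] :
    IsLocalRing.maximalIdeal (Localization.AtPrime P) •
      (⊤ : Submodule (Localization.AtPrime P) (LocalizedModule P.primeCompl R)) ≠ ⊤ := by
  intro htop
  have hs := subsingleton_of_smul_top_eq_top (M := R) P htop
  have : Subsingleton (Localization.AtPrime P) := (locSelfEquiv P).symm.injective.subsingleton
  exact not_subsingleton (Localization.AtPrime P) this

lemma isSMulRegular_algebraMap_of_ne_zero [IsDomain R] {a : R} (ha : a ≠ 0) :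
    IsSMulRegular (LocalizedModule P.primeCompl R)
      (algebraMap R (Localization.AtPrime P) a) := by
  rw [isSMulRegular_iff_right_eq_zero_of_smul]
  intro x hx
  rw [algebraMap_smul] at hx
  obtain ⟨s, r, hs, hsr⟩ := exists_smul_eq_mk P x
  have h1 : LocalizedModule.mkLinearMap P.primeCompl R (a * r) = 0 := by
    rw [← smul_eq_mul, map_smul, ← hsr, smul_comm, hx, smul_zero]
  obtain ⟨t, ht, htr⟩ := (mk_eq_zero_iff P _).mp h1
  have hr0 : r = 0 := by
    rw [smul_eq_mul] at htr
    rcases mul_eq_zero.mp htr with h | h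
    · exact absurd (h ▸ P.zero_mem) ht
    · rcases mul_eq_zero.mp h with h | h
      · exact absurd h ha
      · exact h
  apply smul_inj P hs
  rw [hsr, hr0, map_zero, smul_zero]

end

/-- `(S_2)` for a Noetherian domain: associated primes of principal ideals have height one. -/
theorem hasSk_two_iff_ass_height_one (R : Type u) [CommRing R] [IsDomain R]
    [IsNoetherianRing R] :
    LocCoh.HasSk 2 R R ↔
      ∀ a : R, a ≠ 0 → ∀ P : Ideal R, P ∈ associatedPrimes R (R ⧸ Ideal.span {a}) →
        P.height = 1 := by
  constructor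
  · intro hS a ha P hP
    have hPprime : P.IsPrime := IsAssociatedPrime.isPrime hP
    have haP : a ∈ P := mem_of_isAssociatedPrime_quot P a hP
    have hsoc := (hasSocle_quot_iff P a).mpr ((isAssociatedPrime_quot_iff P a).mp hP)
    have hreg := isSMulRegular_algebraMap_of_ne_zero P ha
    have ham : algebraMap R (Localization.AtPrime P) a ∈
        IsLocalRing.maximalIdeal (Localization.AtPrime P) :=
      (IsLocalization.AtPrime.to_map_mem_maximal_iff (Localization.AtPrime P) P a).mpr haP
    have hne0 : P.height ≠ 0 := by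
      rw [Ne, Ideal.height_eq_zero_iff_eq_bot]
      intro h0
      rw [h0, Ideal.mem_bot] at haP
      exact ha haP
    have hle1 : P.height ≤ 1 := by
      by_contra hgt
      rw [not_le] at hgt
      have h2le : (2 : ℕ∞) ≤ P.height := by
        have h3 := Order.add_one_le_of_lt hgt
        rwa [one_add_one_eq_two] at h3
      have hd := min_le_depth_of_hasSk 2 hS P
      rw [Nat.cast_ofNat, min_eq_left h2le] at hd
      have hseq2 := (le_idealDepth_iff (smul_top_localizedModule_self_ne_top P) 2).mp
        (by rw [Nat.cast_ofNat]; exact hd)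
      obtain ⟨y, hy, hyreg, -⟩ := hasSeq_succ_iff.mp (hasSeq_quot_of_hasSeq_succ ham hreg hseq2)
      exact hsoc.not_regular hy hyreg
    exact le_antisymm hle1 (Order.one_le_iff_ne_zero.mpr hne0)
  · intro h P hPprime
    rw [supportDim_localizedModule_self, ← WithBot.coe_natCast, ← WithBot.coe_min,
      WithBot.coe_le_coe]
    by_cases hP0 : P = ⊥
    · rw [Ideal.height_eq_zero_iff_eq_bot.mpr hP0]
      exact le_trans (min_le_right _ _) zero_le
    · obtain ⟨a, haP, ha⟩ := Submodule.exists_mem_ne_zero_of_ne_bot hP0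
      have hreg := isSMulRegular_algebraMap_of_ne_zero P ha
      have ham : algebraMap R (Localization.AtPrime P) a ∈
          IsLocalRing.maximalIdeal (Localization.AtPrime P) :=
        (IsLocalization.AtPrime.to_map_mem_maximal_iff (Localization.AtPrime P) P a).mpr haP
      have htop := smul_top_localizedModule_self_ne_top P
      rcases exists_regular_or_hasSocle
          (I := IsLocalRing.maximalIdeal (Localization.AtPrime P))
          (QuotSMulTop (algebraMap R (Localization.AtPrime P) a)
            (LocalizedModule P.primeCompl R)) with ⟨b, hb, hbreg⟩ | hsoc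
      · have hseq2 : HasSeq (IsLocalRing.maximalIdeal (Localization.AtPrime P))
            (LocalizedModule P.primeCompl R) 2 :=
          hasSeq_succ_iff.mpr ⟨_, ham, hreg, hasSeq_succ_iff.mpr ⟨b, hb, hbreg, hasSeq_zero⟩⟩
        exact le_trans (min_le_left _ _) ((le_idealDepth_iff htop 2).mpr hseq2)
      · have hass := (isAssociatedPrime_quot_iff P a).mpr ((hasSocle_quot_iff P a).mp hsoc)
        have hseq1 : HasSeq (IsLocalRing.maximalIdeal (Localization.AtPrime P))
            (LocalizedModule P.primeCompl R) 1 :=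
          hasSeq_succ_iff.mpr ⟨_, ham, hreg, hasSeq_zero⟩
        rw [h a ha P hass]
        refine le_trans (min_le_right _ _) ?_
        have h1 := (le_idealDepth_iff htop 1).mpr hseq1
        rwa [Nat.cast_one] at h1

/-- a Noetherian domain is the intersection of its localizations at primes of depth one. -/
theorem mem_range_of_forall_depth_one {A : Type u} [CommRing A] [IsDomain A]
    [IsNoetherianRing A] (x : FractionRing A)
    (hx : ∀ (p : Ideal A) [p.IsPrime],
      LocCoh.depth (Localization.AtPrime p) (Localization.AtPrime p) = 1 →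
        x ∈ Set.range (algebraMap (Localization.AtPrime p) (FractionRing A))) :
    x ∈ Set.range (algebraMap A (FractionRing A)) := by
  obtain ⟨⟨u, ⟨v, hv⟩⟩, huv⟩ := IsLocalization.surj (nonZeroDivisors A) x
  dsimp only at huv
  have hv0 : v ≠ 0 := nonZeroDivisors.ne_zero hv
  have hvK : algebraMap A (FractionRing A) v ≠ 0 :=
    (map_ne_zero_iff _ (IsFractionRing.injective A (FractionRing A))).mpr hv0
  by_cases hdiv : v ∣ u
  · obtain ⟨w, rfl⟩ := hdiv
    refine ⟨w, ?_⟩
    apply mul_right_cancel₀ hvK
    rw [huv, map_mul, mul_comm]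
  · exfalso
    have hu0 : (Ideal.Quotient.mk (Ideal.span {v}) u) ≠ 0 := by
      rw [Ne, Ideal.Quotient.eq_zero_iff_mem, Ideal.mem_span_singleton]; exact hdiv
    obtain ⟨P, hP, hle⟩ := exists_le_isAssociatedPrime_of_isNoetherianRing A _ hu0
    have hPprime : P.IsPrime := hP.isPrime
    have hvP : v ∈ P := mem_of_isAssociatedPrime_quot P v hP
    have hsoc := (hasSocle_quot_iff P v).mpr ((isAssociatedPrime_quot_iff P v).mp hP)
    have hreg := isSMulRegular_algebraMap_of_ne_zero P hv0
    have hvm : algebraMap A (Localization.AtPrime P) v ∈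
        IsLocalRing.maximalIdeal (Localization.AtPrime P) :=
      (IsLocalization.AtPrime.to_map_mem_maximal_iff (Localization.AtPrime P) P v).mpr hvP
    have htop := smul_top_localizedModule_self_ne_top P
    have hseq1 : HasSeq (IsLocalRing.maximalIdeal (Localization.AtPrime P))
        (LocalizedModule P.primeCompl A) 1 := hasSeq_succ_iff.mpr ⟨_, hvm, hreg, hasSeq_zero⟩
    have hnot2 : ¬ HasSeq (IsLocalRing.maximalIdeal (Localization.AtPrime P))
        (LocalizedModule P.primeCompl A) 2 := fun h2 => by
      obtain ⟨y, hy, hyreg, -⟩ := hasSeq_succ_iff.mp (hasSeq_quot_of_hasSeq_succ hvm hreg h2)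
      exact hsoc.not_regular hy hyreg
    have hdepth : LocCoh.depth (Localization.AtPrime P) (Localization.AtPrime P) = 1 := by
      apply le_antisymm
      · by_contra hgt
        rw [not_le] at hgt
        have h2 : ((2 : ℕ) : ℕ∞) ≤
            LocCoh.depth (Localization.AtPrime P) (Localization.AtPrime P) := by
          have h3 := Order.add_one_le_of_lt hgt
          rw [one_add_one_eq_two] at h3
          rw [Nat.cast_ofNat]; exact h3
        exact hnot2 ((le_idealDepth_iff htop 2).mp (le_depth_localizedModule_self P 2 h2))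
      · have h1 := (le_idealDepth_iff htop 1).mpr hseq1
        have h2 := hasSeq_self_of_le_depth_localizedModule P 1 h1
        have h3 := (le_idealDepth_iff smul_top_self_ne_top 1).mpr h2
        rwa [Nat.cast_one] at h3
    obtain ⟨y, hy⟩ := hx P hdepth
    obtain ⟨⟨w, s⟩, hws⟩ := IsLocalization.surj P.primeCompl y
    dsimp only at hws
    have hxs : x * algebraMap A (FractionRing A) (s : A) = algebraMap A (FractionRing A) w := by
      rw [IsScalarTower.algebraMap_apply A (Localization.AtPrime P) (FractionRing A) (s : A),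
        IsScalarTower.algebraMap_apply A (Localization.AtPrime P) (FractionRing A) w, ← hws,
        map_mul, hy]
    have hK : algebraMap A (FractionRing A) ((s : A) * u) =
        algebraMap A (FractionRing A) (w * v) := by
      rw [map_mul, map_mul, ← huv, ← hxs]; ring
    have hsu : (s : A) * u = w * v := IsFractionRing.injective A (FractionRing A) hK
    have hsP : (s : A) ∈ P := hle ((mem_colon_quot_iff v u s).mpr ⟨w, by rw [hsu, mul_comm]⟩)
    exact s.2 hsP

end Groth.Agent.H71.AQ
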