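import Mathlib
import Groth.Prelude.Def_GrLC2
import Groth.Agent.H71.InjDimBass

/-!
# `μ^0(q, M) ≠ 0` iff `q ∈ Ass M`; injectivity via Bass numbers (helper71)
-/

set_option autoImplicit false
set_option linter.style.haveILetI false
set_option linter.unusedSectionVars false

universe u

open CategoryTheory Abelian IsLocalRing TensorProduct

namespace Groth.Agent.H71.BassAss

open Groth.Agent.H71

variable {R : Type u} [CommRing R] [IsNoetherianRing R]

/-- `μ^0(q, M) ≠ 0` iff `q` is an associated prime of `M`. -/
theorem bassNum_zero_ne_zero_iff (q : Ideal R) [hq : q.IsPrime] (M : Type u) [AddCommGroup M]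
    [Module R M] : GrLC.bassNum q M 0 ≠ 0 ↔ q ∈ associatedPrimes R M := by
  constructor
  · intro h
    rw [InjDimBass.bassNum_eq_length_tensor, Ne, Module.length_eq_zero_iff] at h
    -- an element not killed by any `s ∉ q`
    have hex : ∃ w : Ext.{u} (ModuleCat.of R (R ⧸ q)) (ModuleCat.of R M) 0,
        ∀ s : q.primeCompl, s • w ≠ 0 := by
      by_contra hcon
      push Not at hcon
      apply h
      haveI : IsLocalizedModule q.primeCompl
          (TensorProduct.mk R (Localization.AtPrime q)
            (Ext.{u} (ModuleCat.of R (R ⧸ q)) (ModuleCat.of R M) 0) 1) :=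
        (isLocalizedModule_iff_isBaseChange q.primeCompl (Localization.AtPrime q) _).mpr
          (TensorProduct.isBaseChange R _ (Localization.AtPrime q))
      have h1 : ∀ w : Ext.{u} (ModuleCat.of R (R ⧸ q)) (ModuleCat.of R M) 0,
          (1 : Localization.AtPrime q) ⊗ₜ[R] w = 0 := fun w =>
        (IsLocalizedModule.eq_zero_iff q.primeCompl
          (TensorProduct.mk R (Localization.AtPrime q)
            (Ext.{u} (ModuleCat.of R (R ⧸ q)) (ModuleCat.of R M) 0) 1)).mpr (hcon w)
      refine ⟨fun a b => ?_⟩
      have h2 : ∀ t : (Localization.AtPrime q) ⊗[R]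
          Ext.{u} (ModuleCat.of R (R ⧸ q)) (ModuleCat.of R M) 0, t = 0 := by
        intro t
        induction t using TensorProduct.induction_on with
        | zero => rfl
        | tmul a w =>
          have : a ⊗ₜ[R] w = a • ((1 : Localization.AtPrime q) ⊗ₜ[R] w) := by
            rw [TensorProduct.smul_tmul', smul_eq_mul, mul_one]
          rw [this, h1, smul_zero]
        | add x y hx hy => rw [hx, hy, add_zero]
      rw [h2 a, h2 b]
    obtain ⟨w, hw⟩ := hex
    obtain ⟨ψ, rfl⟩ := (Ext.mk₀_bijective _ _).2 w
    rw [AssociatedPrimes.mem_iff, isAssociatedPrime_iff]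
    refine ⟨hq, ψ.hom (1 : R ⧸ q), ?_⟩
    ext r
    rw [Submodule.mem_colon_singleton, Submodule.mem_bot]
    constructor
    · intro hr
      rw [← map_smul]
      have : r • (1 : R ⧸ q) = 0 := by
        show Ideal.Quotient.mk q r * 1 = 0
        rw [mul_one, Ideal.Quotient.eq_zero_iff_mem]
        exact hr
      rw [this, map_zero]
    · intro hr
      by_contra hrq
      apply hw ⟨r, hrq⟩
      show r • Ext.mk₀ ψ = 0
      rw [← Ext.mk₀_smul]
      have : r • ψ = 0 := by
        refine ModuleCat.hom_ext (LinearMap.ext fun a => ?_)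
        obtain ⟨a, rfl⟩ := Ideal.Quotient.mk_surjective a
        show r • ψ.hom (Ideal.Quotient.mk q a) = 0
        have h3 : Ideal.Quotient.mk q a = a • (1 : R ⧸ q) := by
          show _ = Ideal.Quotient.mk q a * 1
          rw [mul_one]
        rw [h3, map_smul, smul_comm, hr, smul_zero]
      rw [this, Ext.mk₀_zero]
  · intro h
    rw [AssociatedPrimes.mem_iff, isAssociatedPrime_iff] at h
    obtain ⟨-, x, hx⟩ := h
    have hle : q ≤ LinearMap.ker (LinearMap.toSpanSingleton R M x) := by
      intro r hr
      rw [hx, Submodule.mem_colon_singleton, Submodule.mem_bot] at hr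
      rw [LinearMap.mem_ker, LinearMap.toSpanSingleton_apply]
      exact hr
    let φ : (R ⧸ q) →ₗ[R] M := Submodule.liftQ q (LinearMap.toSpanSingleton R M x) hle
    have hφ1 : φ (1 : R ⧸ q) = x := by
      show Submodule.liftQ q (LinearMap.toSpanSingleton R M x) hle (Submodule.Quotient.mk 1) = x
      rw [Submodule.liftQ_apply, LinearMap.toSpanSingleton_apply, one_smul]
    intro h0
    obtain ⟨s, hs⟩ := InjDimBass.exists_smul_eq_zero_of_bassNum_eq_zero q M 0 h0
      (Ext.mk₀ (ModuleCat.ofHom φ))
    have hs' : (s : R) • Ext.mk₀ (ModuleCat.ofHom φ) = 0 := hs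
    rw [← Ext.mk₀_smul, ← Ext.mk₀_zero] at hs'
    have h1 := (Ext.mk₀_bijective _ _).1 hs'
    have h2 : (s : R) • φ (1 : R ⧸ q) = 0 := by
      have := congrArg (fun t => t.hom (1 : R ⧸ q)) h1
      exact this
    rw [hφ1] at h2
    have h3 : (s : R) ∈ q := by
      have h4 : (s : R) ∈ (⊥ : Submodule R M).colon {x} := by
        rw [Submodule.mem_colon_singleton, Submodule.mem_bot]
        exact h2
      exact hx ▸ h4
    exact s.2 h3

/-- A module over a Noetherian ring is injective iff its higher Bass numbers vanish. -/
theorem injective_iff_bassNum (M : Type u) [AddCommGroup M] [Module R M] :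
    Module.Injective R M ↔
      ∀ (p : Ideal R) [p.IsPrime] (i : ℕ), 0 < i → GrLC.bassNum p M i = 0 := by
  constructor
  · intro h p _ i hi
    haveI : Injective (ModuleCat.of R M) := Module.injective_object_of_injective_module R M
    rw [InjDimBass.bassNum_eq_length_tensor, Module.length_eq_zero_iff]
    haveI : Subsingleton (Ext.{u} (ModuleCat.of R (R ⧸ p)) (ModuleCat.of R M) i) := by
      obtain _ | j := i
      · omega
      · exact ⟨fun a b => by rw [a.eq_zero_of_injective, b.eq_zero_of_injective]⟩
    infer_instance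
  · intro h
    haveI := InjDimBass.hasInjectiveDimensionLT_of_bassNum M 0 (fun p _ i hi => h p i hi)
    haveI : Injective (ModuleCat.of R M) := injective_iff_hasInjectiveDimensionLT_one.mpr this
    exact Module.injective_module_of_injective_object R M

end Groth.Agent.H71.BassAss
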