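import Mathlib

/-!
# Generating ideals of local rings by successively avoiding `previous + 𝔪 I` (helper71)
-/

set_option autoImplicit false

namespace Groth.Agent.H71.LocalGen

open IsLocalRing

variable {R : Type*} [CommRing R]

lemma ofList_le {I : Ideal R} {l : List R} (hl : ∀ x ∈ l, x ∈ I) : Ideal.ofList l ≤ I :=
  Ideal.span_le.mpr hl

lemma mem_ofList {l : List R} {x : R} (hx : x ∈ l) : x ∈ Ideal.ofList l :=
  Ideal.subset_span hx

lemma spanFinrank_ofList_le (l : List R) : (Ideal.ofList l).spanFinrank ≤ l.length := by
  classical
  have h1 : {x | x ∈ l} = (↑l.toFinset : Set R) := by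
    ext x
    simp
  have h2 : (Ideal.ofList l).spanFinrank ≤ ({x | x ∈ l} : Set R).ncard :=
    Submodule.spanFinrank_span_le_ncard_of_finite (by rw [h1]; exact Finset.finite_toSet _)
  rw [h1, Set.ncard_coe_finset] at h2
  exact h2.trans (List.toFinset_card_le l)

lemma ofList_take_succ (l : List R) (j : ℕ) (hj : j < l.length) :
    Ideal.ofList (l.take (j + 1)) = Ideal.ofList (l.take j) ⊔ Ideal.span {l[j]} := by
  rw [List.take_succ_eq_append_getElem hj, Ideal.ofList_append, Ideal.ofList_singleton]

lemma ofList_take_mono (l : List R) {i j : ℕ} (hij : i ≤ j) :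
    Ideal.ofList (l.take i) ≤ Ideal.ofList (l.take j) := by
  apply Ideal.span_mono
  intro x hx
  exact (List.take_sublist_take_left hij).subset hx  -- may need fix

variable [IsLocalRing R]

lemma not_le_of_length_lt {I : Ideal R} (hI : I.FG) (l : List R) (hl : ∀ x ∈ l, x ∈ I)
    (hlen : l.length < I.spanFinrank) : ¬ (I ≤ Ideal.ofList l ⊔ maximalIdeal R * I) := by
  intro hle
  have h1 : I ≤ Ideal.ofList l :=
    Submodule.le_of_le_smul_of_le_jacobson_bot hI
      (by rw [jacobson_eq_maximalIdeal]; exact bot_ne_top) hle
  have h2 : I = Ideal.ofList l := le_antisymm h1 (ofList_le hl)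
  have h3 := spanFinrank_ofList_le l
  rw [← h2] at h3
  omega

/-- Exchange argument: a list of `μ(I)` elements of `I`, each avoiding `previous + 𝔪 I`,
generates `I`. -/
theorem ofList_eq_of_avoid {I : Ideal R} (hI : I.FG) (l : List R) (hl : ∀ x ∈ l, x ∈ I)
    (hlen : l.length = I.spanFinrank)
    (hav : ∀ j (hj : j < l.length), l[j] ∉ Ideal.ofList (l.take j) ⊔ maximalIdeal R * I) :
    Ideal.ofList l = I := by
  classical
  obtain ⟨S, hScard, hSspan⟩ := Submodule.FG.exists_span_finset_card_eq_spanFinrank hI
  have key : ∀ j, j ≤ l.length → ∃ S' : Finset R, (∀ s ∈ S', s ∈ I) ∧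
      S'.card + j ≤ I.spanFinrank ∧ I = Ideal.ofList (l.take j) ⊔ Ideal.span (S' : Set R) := by
    intro j
    induction j with
    | zero =>
      intro _
      refine ⟨S, fun s hs => ?_, by omega, ?_⟩
      · rw [← hSspan]
        exact Submodule.subset_span hs
      · rw [List.take_zero, Ideal.ofList_nil, bot_sup_eq]
        exact hSspan.symm
    | succ j ih =>
      intro hj
      have hj' : j < l.length := by omega
      obtain ⟨S', hS'I, hS'card, hS'⟩ := ih (by omega)
      have hx : l[j] ∈ Ideal.ofList (l.take j) ⊔ Ideal.span (S' : Set R) := by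
        rw [← hS']
        exact hl _ (List.getElem_mem hj')
      obtain ⟨a, ha, b, hb, hab⟩ := Submodule.mem_sup.mp hx
      obtain ⟨f, -, hf⟩ := Submodule.mem_span_finset.mp hb
      have hex : ∃ s0 ∈ S', IsUnit (f s0) := by
        by_contra hne
        push Not at hne
        apply hav j hj'
        rw [← hab]
        refine Submodule.add_mem _ (Ideal.mem_sup_left ha) (Ideal.mem_sup_right ?_)
        rw [← hf]
        refine Ideal.sum_mem _ (fun s hs => ?_)
        rw [smul_eq_mul]
        exact Ideal.mul_mem_mul ((mem_maximalIdeal _).mpr (hne s hs)) (hS'I s hs)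
      obtain ⟨s0, hs0, hu⟩ := hex
      refine ⟨S'.erase s0, fun s hs => hS'I s (Finset.mem_of_mem_erase hs), ?_, ?_⟩
      · rw [Finset.card_erase_of_mem hs0]
        have : 0 < S'.card := Finset.card_pos.mpr ⟨s0, hs0⟩
        omega
      · apply le_antisymm
        · rw [hS']
          apply sup_le
          · exact le_sup_of_le_left (ofList_take_mono l (Nat.le_succ j))
          · rw [Ideal.span_le]
            intro s hs
            by_cases hss : s = s0
            · subst hss
              have h1 : f s • s ∈ Ideal.ofList (l.take (j + 1)) ⊔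
                  Ideal.span ((S'.erase s : Finset R) : Set R) := by
                have h2 : f s • s = l[j] - a - ∑ t ∈ S'.erase s, f t • t := by
                  rw [← hab, ← hf, ← Finset.add_sum_erase S' (fun t => f t • t) hs0]
                  ring
                rw [h2]
                refine Submodule.sub_mem _ (Submodule.sub_mem _ ?_ ?_) ?_
                · apply Ideal.mem_sup_left
                  rw [ofList_take_succ l j hj']
                  exact Ideal.mem_sup_right (Ideal.mem_span_singleton_self _)
                · exact Ideal.mem_sup_left (ofList_take_mono l (Nat.le_succ j) ha)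
                · apply Ideal.mem_sup_right
                  refine Ideal.sum_mem _ (fun t ht => ?_)
                  rw [smul_eq_mul]
                  exact Ideal.mul_mem_left _ _ (Ideal.subset_span ht)
              obtain ⟨u, hu'⟩ := hu
              have h3 : s = (↑u⁻¹ : R) • (f s • s) := by
                rw [← hu', smul_smul, Units.inv_mul, one_smul]
              have h4 := Submodule.smul_mem _ (↑u⁻¹ : R) h1
              rwa [← h3] at h4
            · exact Ideal.mem_sup_right (Ideal.subset_span (Finset.mem_erase.mpr ⟨hss, hs⟩))
        · apply sup_le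
          · exact ofList_le (fun x hx => hl x (List.mem_of_mem_take hx))
          · rw [Ideal.span_le]
            intro s hs
            exact hS'I s (Finset.mem_of_mem_erase hs)
  obtain ⟨S', _, hcard, hS'⟩ := key l.length le_rfl
  have hS'0 : S' = ∅ := by
    rw [← Finset.card_eq_zero]
    omega
  rw [hS', hS'0, Finset.coe_empty, Ideal.span_empty, sup_bot_eq, List.take_length]

end Groth.Agent.H71.LocalGen
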