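import Mathlib
import Groth.Agent.H71.LocalGen
import Groth.Agent.H34.CMChain
import Groth.Agent.H29.CM2
import Groth.Prelude.Def_W4c5grrsingularflatDSeq

/-!
# A d-sequence generating an almost complete intersection prime of a CM local ring (helper71)
-/

set_option autoImplicit false

namespace Groth.Agent.H71.DSeq

open IsLocalRing RingTheory.Sequence Groth.Agent.H71.LocalGen

universe u

variable {T : Type u} [CommRing T] (p : Ideal T) [p.IsPrime]

/-- The contraction of `J T_p + (p T_p)^2`. -/
noncomputable def Qid (J : Ideal T) : Ideal T :=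
  Ideal.comap (algebraMap T (Localization.AtPrime p))
    (J.map (algebraMap T (Localization.AtPrime p)) ⊔
      maximalIdeal (Localization.AtPrime p) * maximalIdeal (Localization.AtPrime p))

variable [IsLocalRing T]

/-- The condition on the `j`-th element `x`, with `J` the ideal of the previous ones. -/
def Good (hh : ℕ) (j : ℕ) (J : Ideal T) (x : T) : Prop :=
  x ∈ p ∧ x ∉ J ⊔ maximalIdeal T * p ∧
  (j < hh → IsSMulRegular (T ⧸ (J • ⊤ : Submodule T T)) x ∧ x ∉ Qid p J) ∧
  (j = hh → ∀ P ∈ associatedPrimes T (T ⧸ (J • ⊤ : Submodule T T)), P ≠ p → x ∉ P)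

def AllGood (hh : ℕ) (l : List T) : Prop :=
  ∀ j (hj : j < l.length), Good p hh j (Ideal.ofList (l.take j)) l[j]

lemma allGood_nil (hh : ℕ) : AllGood p hh ([] : List T) := fun j hj => absurd hj (by simp)

lemma allGood_append (hh : ℕ) (l : List T) (x : T) (hl : AllGood p hh l)
    (hx : Good p hh l.length (Ideal.ofList l) x) : AllGood p hh (l ++ [x]) := by
  intro j hj
  rw [List.length_append, List.length_singleton] at hj
  by_cases hjl : j < l.length
  · rw [List.take_append_of_le_length hjl.le, List.getElem_append_left hjl]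
    exact hl j hjl
  · have hjeq : j = l.length := by omega
    subst hjeq
    rw [List.take_left' rfl, List.getElem_append_right le_rfl]
    simpa using hx

lemma mem_of_allGood (hh : ℕ) (l : List T) (hl : AllGood p hh l) : ∀ x ∈ l, x ∈ p := by
  intro x hx
  obtain ⟨i, hi, rfl⟩ := List.mem_iff_getElem.mp hx
  exact (hl i hi).1

lemma isWeaklyRegular_of_allGood (hh : ℕ) (l : List T) (hl : AllGood p hh l)
    (hlen : l.length ≤ hh) : IsWeaklyRegular T l := by
  refine ⟨fun i hi => ?_⟩
  exact ((hl i hi).2.2.1 (by omega)).1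


section CM

variable [hT : LocCoh.IsCohenMacaulayLocalRing T]

lemma cm_fact (hh : ℕ) (hht : p.height = hh) (l : List T) (hl : AllGood p hh l)
    (hlen : l.length ≤ hh) (P : Ideal T)
    (hP : P ∈ associatedPrimes T (T ⧸ (Ideal.ofList l • ⊤ : Submodule T T))) :
    (l.length < hh → ¬ p ≤ P) ∧ (l.length = hh → p ≤ P → P = p) := by
  have hCM : LocCoh.IsCohenMacaulayModule T T := hT.supportDim_eq_depth
  have hreg := isWeaklyRegular_of_allGood p hh l hl hlen
  have hpm : p ≤ maximalIdeal T := IsLocalRing.le_maximalIdeal (Ideal.IsPrime.ne_top inferInstance)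
  have hlm : ∀ x ∈ l, x ∈ maximalIdeal T := fun x hx => hpm (mem_of_allGood p hh l hl x hx)
  obtain ⟨h1, h2⟩ := Groth.Agent.H29.CM.isWeaklyRegular_iff_of_isCM l T hCM hlm
  have hdim := h1.mp hreg
  have hQ := h2 hreg
  have hP1 := Groth.Agent.H29.CM.ringKrullDim_quotient_eq_supportDim_of_isCM hQ hP
  have hsupp : Module.support T T = Set.univ := by
    rw [Module.support_of_algebra]
    have hk : RingHom.ker (algebraMap T T) = ⊥ := by
      rw [RingHom.ker_eq_bot_iff_eq_zero]
      intro x hx
      exact hx
    rw [hk]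
    simp
  have hp1 := Groth.Agent.H34.CMChain.height_add_dim hCM hsupp p
  haveI := Groth.Agent.H29.CM.nontrivial_of_isCM hQ
  haveI hPprime : P.IsPrime := hP.isPrime
  obtain ⟨d, hd⟩ := Groth.Agent.H29.CM.exists_nat_supportDim (A := T) (M := T)
  obtain ⟨e, he⟩ := Groth.Agent.H29.CM.exists_nat_supportDim (A := T)
    (M := T ⧸ (Ideal.ofList l • ⊤ : Submodule T T))
  obtain ⟨c, hc⟩ := Groth.Agent.H29.CM.exists_nat_ringKrullDim_quotient p
  rw [he, hd] at hdim
  rw [he] at hP1
  rw [hc, hht, ← Module.supportDim_self_eq_ringKrullDim, hd] at hp1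
  have e1 : e + l.length = d := by exact_mod_cast hdim
  have e2 : c + hh = d := by exact_mod_cast hp1
  have hle : p ≤ P → e ≤ c := by
    intro hpP
    have h3 : ringKrullDim (T ⧸ P) ≤ ringKrullDim (T ⧸ p) :=
      ringKrullDim_le_of_surjective (Ideal.Quotient.factor hpP)
        (Ideal.Quotient.factor_surjective hpP)
    rw [hP1, hc] at h3
    exact_mod_cast h3
  refine ⟨fun hlt hpP => ?_, fun heq hpP => ?_⟩
  · have := hle hpP
    omega
  · have h4 : ringKrullDim (T ⧸ p) ≤ ringKrullDim (T ⧸ P) := by
      rw [hP1, hc]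
      have : c = e := by omega
      rw [this]
    exact (Groth.Agent.H29.CM.eq_of_le_of_ringKrullDim_quotient_le hpP h4).symm

lemma spanFinrank_maximalIdeal_atPrime (hh : ℕ) (hht : p.height = hh)
    [hreg : IsRegularLocalRing (Localization.AtPrime p)] :
    (maximalIdeal (Localization.AtPrime p)).spanFinrank = hh := by
  have h1 := hreg.spanFinrank_maximalIdeal
  rw [IsLocalization.AtPrime.ringKrullDim_eq_height p (Localization.AtPrime p), hht] at h1
  exact_mod_cast h1

lemma map_mem_maximalIdeal (x : T) (hx : x ∈ p) :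
    algebraMap T (Localization.AtPrime p) x ∈ maximalIdeal (Localization.AtPrime p) := by
  rw [← IsLocalization.AtPrime.map_eq_maximalIdeal p (Localization.AtPrime p)]
  exact Ideal.mem_map_of_mem _ hx

lemma not_le_Qid (hh : ℕ) (hht : p.height = hh) [IsRegularLocalRing (Localization.AtPrime p)]
    (l : List T) (hl : ∀ x ∈ l, x ∈ p) (hlen : l.length < hh) :
    ¬ p ≤ Qid p (Ideal.ofList l) := by
  intro hle
  have h1 : Ideal.map (algebraMap T (Localization.AtPrime p)) p ≤
      (Ideal.ofList l).map (algebraMap T (Localization.AtPrime p)) ⊔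
        maximalIdeal (Localization.AtPrime p) * maximalIdeal (Localization.AtPrime p) :=
    Ideal.map_le_iff_le_comap.mpr hle
  rw [IsLocalization.AtPrime.map_eq_maximalIdeal p (Localization.AtPrime p),
    Ideal.map_ofList] at h1
  refine not_le_of_length_lt (I := maximalIdeal (Localization.AtPrime p))
    (IsNoetherian.noetherian _) (l.map (algebraMap T (Localization.AtPrime p))) ?_ ?_ h1
  · intro y hy
    obtain ⟨x, hx, rfl⟩ := List.mem_map.mp hy
    exact map_mem_maximalIdeal p x (hl x hx)
  · rw [List.length_map, spanFinrank_maximalIdeal_atPrime p hh hht]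
    exact hlen

lemma exists_good (hh : ℕ) (hht : p.height = hh) [IsRegularLocalRing (Localization.AtPrime p)]
    (l : List T) (hl : AllGood p hh l) (hlen1 : l.length < p.spanFinrank)
    (hlen2 : l.length ≤ hh) : ∃ x, Good p hh l.length (Ideal.ofList l) x := by
  classical
  have hlp := mem_of_allGood p hh l hl
  have hfin : (associatedPrimes T (T ⧸ (Ideal.ofList l • ⊤ : Submodule T T))).Finite :=
    associatedPrimes.finite T _
  let PP : Finset (Ideal T) := hfin.toFinset.filter (fun P => ¬ p ≤ P)
  have hPP : ∀ P, P ∈ PP ↔ P ∈ associatedPrimes T (T ⧸ (Ideal.ofList l • ⊤ : Submodule T T)) ∧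
      ¬ p ≤ P := by
    intro P
    simp only [PP, Finset.mem_filter, Set.Finite.mem_toFinset]
  let a : Ideal T := Ideal.ofList l ⊔ maximalIdeal T * p
  let b : Ideal T := if l.length < hh then Qid p (Ideal.ofList l) else a
  have hna : ¬ p ≤ a := not_le_of_length_lt (IsNoetherian.noetherian p) l hlp hlen1
  have hnb : ¬ p ≤ b := by
    by_cases hlt : l.length < hh
    · simp only [b, if_pos hlt]
      exact not_le_Qid p hh hht l hlp hlt
    · simp only [b, if_neg hlt]
      exact hna
  have key : ¬ ((p : Set T) ⊆ (a : Set T) ∪ (b : Set T) ∪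
      ⋃ P ∈ (PP : Set (Ideal T)), (P : Set T)) := by
    intro hsub
    have hprime : ∀ P ∈ PP, (P : Ideal T).IsPrime := fun P hP => ((hPP P).mp hP).1.isPrime
    rcases (Ideal.subset_union_prime' (s := PP) (f := fun P => P) (a := a) (b := b)
      hprime).mp hsub with h | h | ⟨P, hP, h⟩
    · exact hna h
    · exact hnb h
    · exact ((hPP P).mp hP).2 h
  obtain ⟨x, hxp, hx⟩ := Set.not_subset.mp key
  simp only [Set.mem_union, Set.mem_iUnion, not_or, not_exists, SetLike.mem_coe,
    Finset.mem_coe] at hx
  obtain ⟨⟨hxa, hxb⟩, hxP⟩ := hx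
  refine ⟨x, hxp, hxa, ?_, ?_⟩
  · intro hlt
    constructor
    · by_contra hreg
      have hx' : x ∈ ({r : T | IsSMulRegular (T ⧸ (Ideal.ofList l • ⊤ : Submodule T T)) r}ᶜ :
          Set T) := hreg
      rw [← biUnion_associatedPrimes_eq_compl_regular T] at hx'
      obtain ⟨P, hP, hxP'⟩ := Set.mem_iUnion₂.1 hx'
      exact hxP P ((hPP P).mpr ⟨hP, (cm_fact p hh hht l hl hlen2 P hP).1 hlt⟩) hxP'
    · simpa only [b, if_pos hlt] using hxb
  · intro heq P hP hPne
    refine hxP P ((hPP P).mpr ⟨hP, fun hpP => hPne ?_⟩)
    exact (cm_fact p hh hht l hl hlen2 P hP).2 heq hpP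

lemma map_take_eq (hh : ℕ) (hht : p.height = hh) [IsRegularLocalRing (Localization.AtPrime p)]
    (l : List T) (hl : AllGood p hh l) (hlen : hh ≤ l.length) :
    (Ideal.ofList (l.take hh)).map (algebraMap T (Localization.AtPrime p)) =
      maximalIdeal (Localization.AtPrime p) := by
  have hlp := mem_of_allGood p hh l hl
  rw [Ideal.map_ofList]
  have hlen' : ((l.take hh).map (algebraMap T (Localization.AtPrime p))).length = hh := by
    rw [List.length_map, List.length_take, min_eq_left hlen]
  apply ofList_eq_of_avoid (IsNoetherian.noetherian _)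
  · intro y hy
    obtain ⟨x, hx, rfl⟩ := List.mem_map.mp hy
    exact map_mem_maximalIdeal p x (hlp x (List.mem_of_mem_take hx))
  · rw [hlen', spanFinrank_maximalIdeal_atPrime p hh hht]
  · intro j hj
    have hj' : j < hh := by rw [hlen'] at hj; exact hj
    have hjl : j < l.length := by omega
    have h1 : ((l.take hh).map (algebraMap T (Localization.AtPrime p)))[j] =
        algebraMap T (Localization.AtPrime p) l[j] := by
      rw [List.getElem_map, List.getElem_take]
    have h2 : ((l.take hh).map (algebraMap T (Localization.AtPrime p))).take j =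
        (l.take j).map (algebraMap T (Localization.AtPrime p)) := by
      rw [← List.map_take, List.take_take, min_eq_left hj'.le]
    rw [h1, h2, ← Ideal.map_ofList]
    have h3 := ((hl j hjl).2.2.1 hj').2
    unfold Qid at h3
    rwa [Ideal.mem_comap] at h3

theorem exists_dseq [IsRegularLocalRing (Localization.AtPrime p)]
    (hgen : (Submodule.spanFinrank p : ℕ∞) ≤ p.height + 1) :
    ∃ ts : List T, Ideal.ofList ts = p ∧ W4c5grrsingularflat.IsDSeq ts := by
  have hpne : p ≠ ⊤ := Ideal.IsPrime.ne_top inferInstance
  obtain ⟨hh, hht⟩ : ∃ hh : ℕ, p.height = hh := by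
    have := Ideal.height_ne_top hpne
    obtain ⟨k, hk⟩ := ENat.ne_top_iff_exists.mp this
    exact ⟨k, hk.symm⟩
  have hn1 : hh ≤ p.spanFinrank := by
    have := Ideal.height_le_spanFinrank p hpne
    rw [hht] at this
    exact_mod_cast this
  have hn2 : p.spanFinrank ≤ hh + 1 := by
    rw [hht] at hgen
    exact_mod_cast hgen
  have hcons : ∀ i, i ≤ p.spanFinrank → ∃ l : List T, l.length = i ∧ AllGood p hh l := by
    intro i
    induction i with
    | zero => exact fun _ => ⟨[], rfl, allGood_nil p hh⟩
    | succ i ih =>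
      intro hi
      obtain ⟨l, hli, hl⟩ := ih (by omega)
      obtain ⟨x, hx⟩ := exists_good p hh hht l hl (by omega) (by omega)
      exact ⟨l ++ [x], by rw [List.length_append, List.length_singleton, hli],
        allGood_append p hh l x hl hx⟩
  obtain ⟨l, hlen, hl⟩ := hcons p.spanFinrank le_rfl
  have hlp := mem_of_allGood p hh l hl
  have hV1 : Ideal.ofList l = p :=
    ofList_eq_of_avoid (IsNoetherian.noetherian p) l hlp hlen (fun j hj => (hl j hj).2.1)
  refine ⟨l, hV1, ?_, ?_⟩
  · -- minimality
    intro i hmem
    have hK1 : Ideal.span (Set.range fun j : {j : Fin l.length // j ≠ i} =>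
        l[(j : Fin l.length)]) ≤ Ideal.ofList (l.eraseIdx i) := by
      rw [Ideal.span_le]
      rintro _ ⟨⟨j, hj⟩, rfl⟩
      apply mem_ofList
      rw [List.mem_eraseIdx_iff_getElem]
      exact ⟨j, j.2, fun h => hj (Fin.ext h), rfl⟩
    have hK2 : p ≤ Ideal.span (Set.range fun j : {j : Fin l.length // j ≠ i} =>
        l[(j : Fin l.length)]) := by
      rw [← hV1]
      apply Ideal.span_le.mpr
      intro x hx
      obtain ⟨j', hj', rfl⟩ := List.mem_iff_getElem.mp hx
      by_cases hji : (⟨j', hj'⟩ : Fin l.length) = i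
      · subst hji
        exact hmem
      · exact Ideal.subset_span ⟨⟨⟨j', hj'⟩, hji⟩, rfl⟩
    have hE : Ideal.ofList (l.eraseIdx i) ≤ p :=
      ofList_le (fun x hx => hlp x (List.mem_of_mem_eraseIdx hx))
    have hpe : p = Ideal.ofList (l.eraseIdx i) := le_antisymm (hK2.trans hK1) hE
    have h3 := spanFinrank_ofList_le (l.eraseIdx i)
    rw [← hpe, List.length_eraseIdx, if_pos i.2] at h3
    have := i.2
    omega
  · intro i k hk hik
    have hi : i < l.length := Nat.lt_of_le_of_lt hik hk
    ext a
    rw [Submodule.mem_colon_singleton, Submodule.mem_colon_singleton, smul_eq_mul, smul_eq_mul]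
    constructor
    · intro ha
      have htop : (Ideal.ofList (l.take i) • ⊤ : Submodule T T) = Ideal.ofList (l.take i) := by
        rw [smul_eq_mul, Ideal.mul_top]
      by_cases hih : i < hh
      · have hreg := ((hl i hi).2.2.1 hih).1
        have h0 : l[i] • (Submodule.Quotient.mk (a * l[k]) :
            T ⧸ (Ideal.ofList (l.take i) • ⊤ : Submodule T T)) = 0 := by
          rw [← Submodule.Quotient.mk_smul, Submodule.Quotient.mk_eq_zero, htop, smul_eq_mul]
          have : l[i] * (a * l[k]) = a * (l[k] * l[i]) := by ring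
          rw [this]
          exact ha
        have h1 := hreg.right_eq_zero_of_smul h0
        rw [Submodule.Quotient.mk_eq_zero, htop] at h1
        exact h1
      · have hki : i = k := by omega
        subst hki
        have hieq : i = hh := by omega
        subst hieq
        by_contra hb
        have hne : (Submodule.Quotient.mk (a * l[i]) :
            T ⧸ (Ideal.ofList (l.take i) • ⊤ : Submodule T T)) ≠ 0 := by
          rw [Ne, Submodule.Quotient.mk_eq_zero, htop]
          exact hb
        obtain ⟨P, hPass, hPle⟩ := exists_le_isAssociatedPrime_of_isNoetherianRing T _ hne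
        have hxP : l[i] ∈ P := by
          apply hPle
          rw [Submodule.mem_colon_singleton, ← Submodule.Quotient.mk_smul, Submodule.mem_bot,
            Submodule.Quotient.mk_eq_zero, htop, smul_eq_mul]
          have : l[i] * (a * l[i]) = a * (l[i] * l[i]) := by ring
          rw [this]
          exact ha
        have hPp : P = p := by
          by_contra hPne
          exact (hl i hi).2.2.2 rfl P hPass hPne hxP
        have hmap := map_take_eq p i hht l hl hi.le
        have haxp : a * l[i] ∈ p := Ideal.mul_mem_left _ _ (hlp _ (List.getElem_mem hi))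
        have h2 : algebraMap T (Localization.AtPrime p) (a * l[i]) ∈
            (Ideal.ofList (l.take i)).map (algebraMap T (Localization.AtPrime p)) := by
          rw [hmap]
          exact map_mem_maximalIdeal p _ haxp
        obtain ⟨⟨y, s⟩, hys⟩ :=
          (IsLocalization.mem_map_algebraMap_iff p.primeCompl (Localization.AtPrime p)).mp h2
        rw [← map_mul] at hys
        obtain ⟨t, ht⟩ := (IsLocalization.eq_iff_exists p.primeCompl (Localization.AtPrime p)).mp hys
        have h3 : ((t : T) * (s : T)) ∈ P := by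
          apply hPle
          rw [Submodule.mem_colon_singleton, ← Submodule.Quotient.mk_smul, Submodule.mem_bot,
            Submodule.Quotient.mk_eq_zero, htop, smul_eq_mul]
          have : (t : T) * (s : T) * (a * l[i]) = (t : T) * (a * l[i] * (s : T)) := by ring
          rw [this, ht]
          exact Ideal.mul_mem_left _ _ y.2
        rw [hPp] at h3
        rcases Ideal.IsPrime.mem_or_mem inferInstance h3 with h4 | h4
        · exact t.2 h4
        · exact s.2 h4
    · intro ha
      have : a * (l[k] * l[i]) = l[i] * (a * l[k]) := by ring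
      rw [this]
      exact Ideal.mul_mem_left _ _ ha

end CM

end Groth.Agent.H71.DSeq
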