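import Groth.Agent.H71.SkKernel
import Mathlib.RingTheory.Regular.Flat
import Mathlib.RingTheory.KrullDimension.Regular
import Mathlib.Algebra.Module.LocalizedModule.Submodule

/-!
# Depth and localization: `depth_I M = inf_{P ⊇ I} depth M_P`, `depth ≤ dim`, quotients by regular
sequences
-/

set_option autoImplicit false
universe u

open Groth.Agent.H58 Groth.Agent.H15.Depth Groth.Agent.H71.ZC Groth.Agent.H71.HC
  Groth.Agent.H71.SK
open scoped Pointwise
open RingTheory.Sequence

namespace Groth.Agent.H71.DL

section Loc

variable {R : Type u} [CommRing R] (M : Type u) [AddCommGroup M] [Module R M]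
  (P : Ideal R) [P.IsPrime]

/-- regular sequences localize. -/
lemma hasSeq_localized {I : Ideal R} (hIP : I ≤ P) {n : ℕ} (h : HasSeq I M n) :
    HasSeq (IsLocalRing.maximalIdeal (Localization.AtPrime P))
      (LocalizedModule P.primeCompl M) n := by
  obtain ⟨rs, hw, hI, hl⟩ := h
  refine ⟨rs.map (algebraMap R (Localization.AtPrime P)),
    hw.of_isLocalizedModule (Localization.AtPrime P) P.primeCompl
      (LocalizedModule.mkLinearMap P.primeCompl M), ?_, by rw [List.length_map, hl]⟩
  intro r hr
  obtain ⟨r', hr', rfl⟩ := List.mem_map.mp hr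
  exact (IsLocalization.AtPrime.to_map_mem_maximal_iff (Localization.AtPrime P) P r').mpr
    (hIP (hI r' hr'))

lemma isSMulRegular_localized {x : R} (hx : IsSMulRegular M x) :
    IsSMulRegular (LocalizedModule P.primeCompl M)
      (algebraMap R (Localization.AtPrime P) x) := by
  have h1 : IsWeaklyRegular M [x] := by
    rw [isWeaklyRegular_cons_iff]; exact ⟨hx, IsWeaklyRegular.nil R _⟩
  have h2 := h1.of_isLocalizedModule (Localization.AtPrime P) P.primeCompl
    (LocalizedModule.mkLinearMap P.primeCompl M)
  rw [List.map_cons, List.map_nil, isWeaklyRegular_cons_iff] at h2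
  exact h2.1

lemma localized_ideal_smul_top (I : Ideal R) :
    (I • (⊤ : Submodule R M)).localized P.primeCompl =
      (I.map (algebraMap R (Localization.AtPrime P))) •
        (⊤ : Submodule (Localization.AtPrime P) (LocalizedModule P.primeCompl M)) := by
  rw [Submodule.localized, Submodule.localized'_smul, Submodule.localized'_top,
    Submodule.localized'_eq_span]
  rfl

/-- localization commutes with `M/IM`. -/
noncomputable def locQuotIdealEquiv (I : Ideal R) :
    LocalizedModule P.primeCompl (M ⧸ (I • (⊤ : Submodule R M))) ≃ₗ[Localization.AtPrime P]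
      (LocalizedModule P.primeCompl M ⧸ ((I.map (algebraMap R (Localization.AtPrime P))) •
        (⊤ : Submodule (Localization.AtPrime P) (LocalizedModule P.primeCompl M)))) :=
  (localizedQuotientEquiv P.primeCompl (I • (⊤ : Submodule R M))).symm ≪≫ₗ
    Submodule.quotEquivOfEq _ _ (localized_ideal_smul_top M P I)

/-- localization commutes with `M/xM`. -/
noncomputable def locQuotEquiv (x : R) :
    LocalizedModule P.primeCompl (QuotSMulTop x M) ≃ₗ[Localization.AtPrime P]
      QuotSMulTop (algebraMap R (Localization.AtPrime P) x) (LocalizedModule P.primeCompl M) :=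
  (localizedQuotientEquiv P.primeCompl (x • (⊤ : Submodule R M))).symm ≪≫ₗ
    Submodule.quotEquivOfEq _ _ (by
      rw [← Submodule.ideal_span_singleton_smul, localized_ideal_smul_top, Ideal.map_span,
        Set.image_singleton, Submodule.ideal_span_singleton_smul])

end Loc


section Main

variable {R : Type u} [CommRing R] [IsNoetherianRing R]

/-- depth at a prime in `HasSeq` form. -/
lemma le_depth_iff (M : Type u) [AddCommGroup M] [Module R M] [Module.Finite R M]
    (P : Ideal R) [P.IsPrime] (n : ℕ) :
    (n : ℕ∞) ≤ LocCoh.depth (Localization.AtPrime P) (LocalizedModule P.primeCompl M) ↔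
      Subsingleton (LocalizedModule P.primeCompl M) ∨
        HasSeq (IsLocalRing.maximalIdeal (Localization.AtPrime P))
          (LocalizedModule P.primeCompl M) n := by
  by_cases htop : IsLocalRing.maximalIdeal (Localization.AtPrime P) •
      (⊤ : Submodule (Localization.AtPrime P) (LocalizedModule P.primeCompl M)) = ⊤
  · have hs := subsingleton_of_smul_top_eq_top (M := M) P htop
    unfold LocCoh.depth
    rw [idealDepth_eq_top_of_smul_top_eq_top htop]
    exact ⟨fun _ => Or.inl hs, fun _ => le_top⟩
  · unfold LocCoh.depth
    rw [le_idealDepth_iff htop n]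
    constructor
    · exact Or.inr
    · rintro (hs | h)
      · exfalso
        apply htop
        rw [Submodule.eq_top_iff']
        intro x
        rw [Subsingleton.elim x 0]
        exact zero_mem _
      · exact h

/-- `depth_I M ≥ n` as soon as `depth M_P ≥ n` for all primes `P ⊇ I`. -/
theorem hasSeq_of_forall_localized (I : Ideal R) :
    ∀ (n : ℕ) (M : Type u) [AddCommGroup M] [Module R M] [Module.Finite R M],
      (∀ (P : Ideal R) [P.IsPrime], I ≤ P → Subsingleton (LocalizedModule P.primeCompl M) ∨
        HasSeq (IsLocalRing.maximalIdeal (Localization.AtPrime P))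
          (LocalizedModule P.primeCompl M) n) → HasSeq I M n := by
  intro n
  induction n with
  | zero => intro M _ _ _ _; exact hasSeq_zero
  | succ n ih =>
    intro M _ _ _ h
    rcases exists_regular_or_hasSocle (I := I) M with ⟨x, hxI, hxreg⟩ | ⟨m, hm0, hIm⟩
    · refine hasSeq_succ_iff.mpr ⟨x, hxI, hxreg, ih (QuotSMulTop x M) ?_⟩
      intro P hP hIP
      rcases h P hIP with hsub | hseq
      · left
        have := hsub
        have : Subsingleton (QuotSMulTop (algebraMap R (Localization.AtPrime P) x)
            (LocalizedModule P.primeCompl M)) := (Submodule.mkQ_surjective _).subsingleton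
        exact (locQuotEquiv M P x).injective.subsingleton
      · right
        have hxm : algebraMap R (Localization.AtPrime P) x ∈
            IsLocalRing.maximalIdeal (Localization.AtPrime P) :=
          (IsLocalization.AtPrime.to_map_mem_maximal_iff (Localization.AtPrime P) P x).mpr
            (hIP hxI)
        exact (hasSeq_quot_of_hasSeq_succ hxm (isSMulRegular_localized M P hxreg) hseq).congr
          (locQuotEquiv M P x).symm
    · exfalso
      obtain ⟨Q, hQass, hle⟩ := exists_le_isAssociatedPrime_of_isNoetherianRing R m hm0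
      have hQ : Q.IsPrime := hQass.isPrime
      have hIQ : I ≤ Q := fun a ha => hle (by
        rw [Submodule.mem_colon_singleton, Submodule.mem_bot]; exact hIm a ha)
      have h1 : ((1 : ℕ) : ℕ∞) ≤ LocCoh.depth (Localization.AtPrime Q)
          (LocalizedModule Q.primeCompl M) := by
        rw [le_depth_iff]
        rcases h Q hIQ with hs | hs
        · exact Or.inl hs
        · exact Or.inr (hs.mono (Nat.succ_le_succ (Nat.zero_le n)))
      rw [Nat.cast_one] at h1
      exact not_one_le_depth_of_isAssociatedPrime M Q hQass h1

lemma zero_le_of_ne_bot {d : WithBot ℕ∞} (h : d ≠ ⊥) : 0 ≤ d := by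
  induction d using WithBot.recBotCoe with
  | bot => exact absurd rfl h
  | coe e => rw [← WithBot.coe_zero, WithBot.coe_le_coe]; exact zero_le

/-- depth is at most the dimension. -/
theorem le_supportDim_of_hasSeq [IsLocalRing R] (M : Type u) [AddCommGroup M] [Module R M]
    [Module.Finite R M] [Nontrivial M] {n : ℕ}
    (h : HasSeq (IsLocalRing.maximalIdeal R) M n) :
    (n : WithBot ℕ∞) ≤ Module.supportDim R M := by
  obtain ⟨rs, hw, hI, hl⟩ := h
  have hreg : IsRegular M rs :=
    (IsLocalRing.isRegular_iff_isWeaklyRegular_of_subset_maximalIdeal hI).mpr hw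
  have hdim := Module.supportDim_add_length_eq_supportDim_of_isRegular rs hreg
  rw [← hdim, hl]
  have hnt : Nontrivial (M ⧸ Ideal.ofList rs • (⊤ : Submodule R M)) :=
    Submodule.Quotient.nontrivial_iff.mpr hreg.top_ne_smul.symm
  have h0 := zero_le_of_ne_bot (Module.supportDim_ne_bot_of_nontrivial R
    (M ⧸ Ideal.ofList rs • (⊤ : Submodule R M)))
  calc (n : WithBot ℕ∞) = 0 + n := (zero_add _).symm
    _ ≤ _ := add_le_add h0 le_rfl

/-- quotient by a regular sequence drops the depth by its length. -/
theorem hasSeq_quot_ofList {I : Ideal R} :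
    ∀ (rs : List R) (M : Type u) [AddCommGroup M] [Module R M] [Module.Finite R M] (n : ℕ),
      IsWeaklyRegular M rs → (∀ r ∈ rs, r ∈ I) → HasSeq I M (n + rs.length) →
        HasSeq I (M ⧸ (Ideal.ofList rs • (⊤ : Submodule R M))) n := by
  intro rs
  induction rs with
  | nil =>
    intro M _ _ _ n _ _ h
    have e : (M ⧸ (Ideal.ofList ([] : List R) • (⊤ : Submodule R M))) ≃ₗ[R] M :=
      Submodule.quotEquivOfEqBot _ (by rw [Ideal.ofList_nil, Submodule.bot_smul])
    exact h.congr e.symm
  | cons x rs ih =>
    intro M _ _ _ n hw hI h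
    rw [isWeaklyRegular_cons_iff] at hw
    have hx : x ∈ I := hI x (List.mem_cons_self ..)
    have h' : HasSeq I M ((n + rs.length) + 1) := h
    have h1 := hasSeq_quot_of_hasSeq_succ hx hw.1 h'
    have h2 := ih (QuotSMulTop x M) n hw.2 (fun r hr => hI r (List.mem_cons_of_mem _ hr)) h1
    exact h2.congr (Submodule.quotOfListConsSMulTopEquivQuotSMulTopInner M x rs).symm

lemma min_le_of_forall_nat {k : ℕ} {d : WithBot ℕ∞} {δ : ℕ∞}
    (h : ∀ j : ℕ, j ≤ k → (j : WithBot ℕ∞) ≤ d → (j : ℕ∞) ≤ δ) :
    min (k : WithBot ℕ∞) d ≤ (δ : WithBot ℕ∞) := by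
  induction d using WithBot.recBotCoe with
  | bot => rw [min_eq_right bot_le]; exact bot_le
  | coe e =>
    induction e using ENat.recTopCoe with
    | top =>
      refine le_trans (min_le_left _ _) ?_
      rw [← WithBot.coe_natCast, WithBot.coe_le_coe]
      exact h k le_rfl (by rw [← WithBot.coe_natCast, WithBot.coe_le_coe]; exact le_top)
    | coe n =>
      rcases le_total k n with hkn | hnk
      · refine le_trans (min_le_left _ _) ?_
        rw [← WithBot.coe_natCast, WithBot.coe_le_coe]
        exact h k le_rfl (by
          rw [← WithBot.coe_natCast, WithBot.coe_le_coe]; exact_mod_cast hkn)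
      · refine le_trans (min_le_right _ _) ?_
        rw [WithBot.coe_le_coe]
        exact h n hnk (WithBot.coe_natCast n).ge

end Main

end Groth.Agent.H71.DL
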