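import Groth.Agent.H71.DetRelations
import Mathlib.RingTheory.Spectrum.Prime.FreeLocus
import Mathlib.RingTheory.LocalProperties.Basic
import Mathlib.RingTheory.Localization.Module
import Mathlib.LinearAlgebra.Dimension.Free

set_option autoImplicit false

namespace Groth.Agent.H71

open Matrix

/-- If `y₁, …, yₙ` generate a finite projective module of constant rank `k`, and the first `m`
rows of an `n × n` matrix `a` are relations among the `yᵢ`, where `m + k > n`,
then `det a = 0`. -/
theorem det_eq_zero_of_relations_of_projective {A : Type*} [CommRing A] {Q : Type*}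
    [AddCommGroup Q] [Module A Q] [Module.Finite A Q] [Module.Projective A Q] (k : ℕ)
    (hk : ∀ p, Module.rankAtStalk (R := A) Q p = k) {n : ℕ} (y : Fin n → Q)
    (hy : Submodule.span A (Set.range y) = ⊤) (a : Matrix (Fin n) (Fin n) A) (m : ℕ)
    (hmn : m ≤ n) (hm : n < m + k)
    (hrel : ∀ i : Fin n, (i : ℕ) < m → ∑ l, a i l • y l = 0) : a.det = 0 := by
  refine eq_zero_of_localization _ fun p hp => ?_
  have hpp : p.IsPrime := hp.isPrime
  have hfree : Module.Free (Localization.AtPrime p) (LocalizedModule p.primeCompl Q) :=
    Module.free_of_flat_of_isLocalRing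
  have hrank : Module.finrank (Localization.AtPrime p) (LocalizedModule p.primeCompl Q) = k :=
    hk ⟨p, hpp⟩
  let b : Module.Basis (Fin k) (Localization.AtPrime p) (LocalizedModule p.primeCompl Q) :=
    Module.finBasisOfFinrankEq (Localization.AtPrime p) (LocalizedModule p.primeCompl Q) hrank
  let f : Q →ₗ[A] LocalizedModule p.primeCompl Q := LocalizedModule.mkLinearMap p.primeCompl Q
  let z : Fin n → LocalizedModule p.primeCompl Q := fun l => f (y l)
  have hz : Submodule.span (Localization.AtPrime p) (Set.range z) = ⊤ := by
    have : Set.range z = f '' Set.range y := by rw [← Set.range_comp]; rfl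
    rw [this]
    exact span_eq_top_of_isLocalizedModule (Localization.AtPrime p) p.primeCompl f hy
  let c : Matrix (Fin n) (Fin k) (Localization.AtPrime p) := fun l t => b.repr (z l) t
  have hU : ∀ t : Fin k, ∃ u : Fin n → Localization.AtPrime p, ∑ l, u l • z l = b t := by
    intro t
    have : b t ∈ Submodule.span (Localization.AtPrime p) (Set.range z) := by rw [hz]; trivial
    exact (Submodule.mem_span_range_iff_exists_fun (Localization.AtPrime p)).mp this
  choose U hU using hU
  let Um : Matrix (Fin k) (Fin n) (Localization.AtPrime p) := fun t l => U t l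
  have hUc : Um * c = 1 := by
    ext t t'
    rw [Matrix.mul_apply, Matrix.one_apply]
    have h2 := congrArg (fun q => (b.repr q) t') (hU t)
    simp only [map_sum, map_smul, Finsupp.finsetSum_apply, Finsupp.smul_apply, smul_eq_mul,
      Module.Basis.repr_self, Finsupp.single_apply] at h2
    exact h2
  let a' : Matrix (Fin n) (Fin n) (Localization.AtPrime p) :=
    a.map (algebraMap A (Localization.AtPrime p))
  have hrel' : ∀ i : Fin n, (i : ℕ) < m → ∀ t, (a' * c) i t = 0 := by
    intro i hi t
    have h1 : ∑ l, (algebraMap A (Localization.AtPrime p) (a i l)) • z l = 0 := by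
      have h0 : ∑ l, (algebraMap A (Localization.AtPrime p) (a i l)) • z l =
          f (∑ l, a i l • y l) := by
        rw [map_sum]
        refine Finset.sum_congr rfl fun l _ => ?_
        rw [algebraMap_smul, map_smul]
      rw [h0, hrel i hi, map_zero]
    have h2 := congrArg (fun q => (b.repr q) t) h1
    simp only [map_sum, map_smul, map_zero, Finsupp.finsetSum_apply, Finsupp.smul_apply,
      smul_eq_mul, Finsupp.zero_apply] at h2
    rw [Matrix.mul_apply]
    exact h2
  have hdet := det_eq_zero_of_relations a' c Um hUc hrel' hmn hm
  rw [RingHom.map_det, RingHom.mapMatrix_apply]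
  exact hdet

end Groth.Agent.H71
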