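import Mathlib.LinearAlgebra.Matrix.SchurComplement
import Mathlib.LinearAlgebra.Matrix.Determinant.Basic
import Mathlib.Algebra.Polynomial.BigOperators
import Mathlib.Algebra.Polynomial.Degree.Lemmas
import Mathlib.Tactic.Ring
import Mathlib.Tactic.Abel

set_option autoImplicit false

namespace Groth.Agent.H71

open Matrix Polynomial

lemma sum_range_ite_lt (m : ℕ) : ∀ n : ℕ,
    ∑ i ∈ Finset.range n, (if i < m then 0 else 1) = n - m := by
  intro n
  induction n with
  | zero => simp
  | succ n ih =>
    rw [Finset.sum_range_succ, ih]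
    split_ifs with h <;> omega

lemma sum_fin_ite_lt (n m : ℕ) :
    ∑ i : Fin n, (if (i : ℕ) < m then 0 else 1) = n - m := by
  rw [Fin.sum_univ_eq_sum_range (fun i => if i < m then 0 else 1) n, sum_range_ite_lt]

/-- If a polynomial matrix has its first `m` rows constant and the other rows of degree `≤ 1`,
its determinant has degree at most `n - m`. -/
lemma natDegree_det_le_of_rows {B : Type*} [CommRing B] {n m : ℕ}
    (N : Matrix (Fin n) (Fin n) B[X])
    (hN : ∀ i l : Fin n, (N i l).natDegree ≤ if (i : ℕ) < m then 0 else 1) :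
    N.det.natDegree ≤ n - m := by
  rw [Matrix.det_apply']
  refine natDegree_sum_le_of_forall_le _ _ (fun σ _ => ?_)
  refine (natDegree_mul_le).trans ?_
  have h1 : (((Equiv.Perm.sign σ : ℤˣ) : ℤ) : B[X]).natDegree = 0 := natDegree_intCast _
  rw [h1, zero_add]
  refine (natDegree_prod_le _ _).trans ?_
  calc ∑ i, (N (σ i) i).natDegree
      ≤ ∑ i : Fin n, (if ((σ i : Fin n) : ℕ) < m then 0 else 1) :=
        Finset.sum_le_sum fun i _ => hN (σ i) i
    _ = ∑ i : Fin n, (if (i : ℕ) < m then 0 else 1) :=
        Equiv.sum_comp σ (fun i : Fin n => if (i : ℕ) < m then 0 else 1)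
    _ = n - m := sum_fin_ite_lt n m

/-- Key determinant vanishing: if `z = c` are coordinates of `n` generators of a free module of
rank `k` (witnessed by `U * c = 1`), and the first `m` rows of `a` are relations among the
generators, with `m + k > n`, then `det a = 0`. -/
theorem det_eq_zero_of_relations {B : Type*} [CommRing B] {n k m : ℕ}
    (a : Matrix (Fin n) (Fin n) B) (c : Matrix (Fin n) (Fin k) B) (U : Matrix (Fin k) (Fin n) B)
    (hUc : U * c = 1) (hrel : ∀ i : Fin n, (i : ℕ) < m → ∀ t, (a * c) i t = 0)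
    (hmn : m ≤ n) (hm : n < m + k) : a.det = 0 := by
  let Cr : B →+* B[X] := Polynomial.C
  let a'' : Matrix (Fin n) (Fin n) B[X] := a.map Cr
  let c'' : Matrix (Fin n) (Fin k) B[X] := c.map Cr
  let U'' : Matrix (Fin k) (Fin n) B[X] := U.map Cr
  let N : Matrix (Fin n) (Fin n) B[X] := a'' * (1 + ((X - 1 : B[X]) • c'') * U'')
  have hUc'' : U'' * c'' = 1 := by
    change U.map Cr * c.map Cr = 1
    rw [← Matrix.map_mul, hUc, Matrix.map_one _ (map_zero Cr) (map_one Cr)]
  have hdeta : a''.det = Polynomial.C a.det := by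
    change (a.map Cr).det = Cr a.det
    rw [RingHom.map_det, RingHom.mapMatrix_apply]
  have hk1 : (1 : Matrix (Fin k) (Fin k) B[X]) + (X - 1 : B[X]) • (1 : Matrix (Fin k) (Fin k) B[X])
      = (X : B[X]) • (1 : Matrix (Fin k) (Fin k) B[X]) := by
    rw [sub_smul, one_smul]; abel
  have hdet1 : N.det = Polynomial.C a.det * X ^ k := by
    change (a'' * (1 + ((X - 1 : B[X]) • c'') * U'')).det = _
    rw [Matrix.det_mul, Matrix.det_one_add_mul_comm, Matrix.mul_smul, hUc'', hk1, Matrix.det_smul,
      Matrix.det_one, mul_one, Fintype.card_fin, hdeta]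
  -- entries of N
  have hNentry : ∀ i l : Fin n, N i l =
      Polynomial.C (a i l) + (X - 1 : B[X]) * Polynomial.C ((a * c * U) i l) := by
    intro i l
    have h1 : N = a'' + (X - 1 : B[X]) • (a * c * U).map Cr := by
      change a'' * (1 + ((X - 1 : B[X]) • c'') * U'') = _
      rw [Matrix.mul_add, Matrix.mul_one, Matrix.smul_mul, Matrix.mul_smul, Matrix.map_mul,
        Matrix.map_mul, Matrix.mul_assoc]
    rw [h1]
    rfl
  have hdeg : ∀ i l : Fin n, (N i l).natDegree ≤ if (i : ℕ) < m then 0 else 1 := by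
    intro i l
    rw [hNentry]
    split_ifs with h
    · have h0 : (a * c * U) i l = 0 := by
        rw [Matrix.mul_apply]
        exact Finset.sum_eq_zero fun t _ => by rw [hrel i h t, zero_mul]
      rw [h0, map_zero, mul_zero, add_zero, natDegree_C]
    · refine (natDegree_add_le _ _).trans (max_le ?_ ?_)
      · rw [natDegree_C]; exact Nat.zero_le _
      · refine (natDegree_mul_C_le _ _).trans ?_
        refine (natDegree_sub_le _ _).trans (max_le natDegree_X_le ?_)
        rw [natDegree_one]; exact Nat.zero_le _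
  have hdetdeg := natDegree_det_le_of_rows N hdeg
  have hcoeff : N.det.coeff k = 0 := coeff_eq_zero_of_natDegree_lt (by omega)
  rw [hdet1, coeff_C_mul, coeff_X_pow_self, mul_one] at hcoeff
  exact hcoeff

end Groth.Agent.H71
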