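import Mathlib.Algebra.BigOperators.Group.Finset.Powerset
import Mathlib.Algebra.BigOperators.Group.Finset.Basic
import Mathlib.Data.Fintype.Basic
import Mathlib.Data.Fin.Tuple.Basic
import Mathlib.Algebra.Module.Defs
import Mathlib.Tactic.Abel
import Mathlib.Tactic.Ring
import Mathlib.Tactic.NormNum

set_option autoImplicit false

namespace Groth.Agent.H71

open Finset

variable {A : Type*} {G : Type*} [AddCommGroup A] [AddCommGroup G]

/-- full signed sum over all subsets, with a shift `c`. -/
def devFull (f : A → G) (n : ℕ) (x : Fin n → A) (c : A) : G :=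
  ∑ T ∈ (univ : Finset (Fin n)).powerset, ((-1 : ℤ) ^ (n + T.card)) • f (c + ∑ i ∈ T, x i)

/-- signed sum over all subsets avoiding `j`, with a shift `c`. -/
def devPart (f : A → G) (n : ℕ) (j : Fin n) (y : Fin n → A) (c : A) : G :=
  ∑ T ∈ ((univ : Finset (Fin n)).erase j).powerset,
    ((-1 : ℤ) ^ (n + T.card)) • f (c + ∑ i ∈ T, y i)

lemma dev_eq (f : A → G) (n : ℕ) (x : Fin n → A) :
    ∑ I ∈ (univ : Finset (Fin n)).powerset.erase ∅, ((-1 : ℤ) ^ (n + I.card)) • f (∑ i ∈ I, x i)
      = devFull f n x 0 - ((-1 : ℤ) ^ n) • f 0 := by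
  rw [Finset.sum_erase_eq_sub (Finset.empty_mem_powerset _)]
  unfold devFull
  simp only [zero_add, Finset.card_empty, add_zero, Finset.sum_empty]

lemma devFull_update (f : A → G) (n : ℕ) (j : Fin n) (y : Fin n → A) (c' c : A) :
    devFull f n (Function.update y j c') c = devPart f n j y c - devPart f n j y (c' + c) := by
  unfold devFull devPart
  have hu : (univ : Finset (Fin n)) = insert j (univ.erase j) :=
    (Finset.insert_erase (Finset.mem_univ j)).symm
  conv_lhs => rw [hu]
  rw [Finset.sum_powerset_insert (Finset.notMem_erase j _), sub_eq_add_neg,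
    ← Finset.sum_neg_distrib]
  congr 1
  · refine Finset.sum_congr rfl fun T hT => ?_
    have hjT : j ∉ T := fun h => Finset.notMem_erase j _ (Finset.mem_powerset.1 hT h)
    have hs : ∑ i ∈ T, Function.update y j c' i = ∑ i ∈ T, y i :=
      Finset.sum_congr rfl fun i hi => Function.update_of_ne (fun h : i = j => hjT (h ▸ hi)) _ _
    rw [hs]
  · refine Finset.sum_congr rfl fun T hT => ?_
    have hjT : j ∉ T := fun h => Finset.notMem_erase j _ (Finset.mem_powerset.1 hT h)
    have hs : ∑ i ∈ T, Function.update y j c' i = ∑ i ∈ T, y i :=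
      Finset.sum_congr rfl fun i hi => Function.update_of_ne (fun h : i = j => hjT (h ▸ hi)) _ _
    have e1 : (-1 : ℤ) ^ (n + (T.card + 1)) = -((-1 : ℤ) ^ (n + T.card)) := by
      rw [← add_assoc, pow_succ, mul_neg_one]
    have e2 : c + (c' + ∑ i ∈ T, y i) = c' + c + ∑ i ∈ T, y i := by abel
    rw [Finset.card_insert_of_notMem hjT, Finset.sum_insert hjT, Function.update_self, hs, e1, e2,
      neg_zsmul]

lemma devFull_cons (f : A → G) (n : ℕ) (z : Fin n → A) (b c : A) :
    devFull f (n + 1) (Fin.cons b z : Fin (n + 1) → A) c =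
      - devFull f n z c + devFull f n z (c + b) := by
  unfold devFull
  have huniv : (univ : Finset (Fin (n + 1))) =
      insert 0 ((univ : Finset (Fin n)).image Fin.succ) := by
    rw [Fin.image_succ_univ]
    ext i
    by_cases hi : i = 0 <;> simp [hi]
  have h0 : (0 : Fin (n + 1)) ∉ (univ : Finset (Fin n)).image Fin.succ := by
    simp
  have hinj : Set.InjOn (fun T : Finset (Fin n) => T.image Fin.succ)
      ↑((univ : Finset (Fin n)).powerset) :=
    (Finset.image_injective (Fin.succ_injective n)).injOn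
  conv_lhs => rw [huniv]
  rw [Finset.sum_powerset_insert h0, Finset.powerset_image, Finset.sum_image hinj,
    Finset.sum_image hinj, ← Finset.sum_neg_distrib]
  congr 1
  · refine Finset.sum_congr rfl fun T _ => ?_
    have hs : ∑ i ∈ T.image Fin.succ, (Fin.cons b z : Fin (n + 1) → A) i = ∑ i ∈ T, z i := by
      rw [Finset.sum_image (Fin.succ_injective n).injOn]
      exact Finset.sum_congr rfl fun i _ => Fin.cons_succ _ _ _
    have e1 : (-1 : ℤ) ^ (n + 1 + T.card) = -((-1 : ℤ) ^ (n + T.card)) := by
      rw [add_right_comm, pow_succ, mul_neg_one]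
    rw [Finset.card_image_of_injective _ (Fin.succ_injective n), hs, e1, neg_zsmul]
  · refine Finset.sum_congr rfl fun T _ => ?_
    have h0T : (0 : Fin (n + 1)) ∉ T.image Fin.succ := by simp [Fin.succ_ne_zero]
    have hs : ∑ i ∈ T.image Fin.succ, (Fin.cons b z : Fin (n + 1) → A) i = ∑ i ∈ T, z i := by
      rw [Finset.sum_image (Fin.succ_injective n).injOn]
      exact Finset.sum_congr rfl fun i _ => Fin.cons_succ _ _ _
    have e2 : (-1 : ℤ) ^ (n + 1 + (T.card + 1)) = (-1 : ℤ) ^ (n + T.card) := by
      have : n + 1 + (T.card + 1) = n + T.card + 2 := by ring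
      rw [this, pow_add]
      norm_num
    have e3 : c + (b + ∑ i ∈ T, z i) = c + b + ∑ i ∈ T, z i := (add_assoc _ _ _).symm
    rw [Finset.card_insert_of_notMem h0T, Finset.sum_insert h0T, Fin.cons_zero,
      Finset.card_image_of_injective _ (Fin.succ_injective n), hs, e2, e3]

/-- The key identity: the `(n+1)`-st deviation at `(b, y[j ↦ a])` is the failure of additivity of
the `n`-th deviation in the `j`-th slot. -/
theorem deviation_key (f : A → G) (n : ℕ) (j : Fin n) (y : Fin n → A) (a b : A) :
    ∑ I ∈ (univ : Finset (Fin (n + 1))).powerset.erase ∅, ((-1 : ℤ) ^ (n + 1 + I.card)) •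
        f (∑ i ∈ I, (Fin.cons b (Function.update y j a) : Fin (n + 1) → A) i)
    = ∑ I ∈ (univ : Finset (Fin n)).powerset.erase ∅, ((-1 : ℤ) ^ (n + I.card)) •
        f (∑ i ∈ I, (Function.update y j (a + b)) i)
      - ∑ I ∈ (univ : Finset (Fin n)).powerset.erase ∅, ((-1 : ℤ) ^ (n + I.card)) •
        f (∑ i ∈ I, (Function.update y j a) i)
      - ∑ I ∈ (univ : Finset (Fin n)).powerset.erase ∅, ((-1 : ℤ) ^ (n + I.card)) •
        f (∑ i ∈ I, (Function.update y j b) i) := by
  rw [dev_eq f (n + 1) (Fin.cons b (Function.update y j a)),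
    dev_eq f n (Function.update y j (a + b)), dev_eq f n (Function.update y j a),
    dev_eq f n (Function.update y j b), devFull_cons]
  simp only [devFull_update, zero_add, add_zero, pow_succ, mul_neg_one, neg_zsmul]
  abel

end Groth.Agent.H71
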