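import Mathlib.RingTheory.PowerSeries.Exp
import Mathlib.RingTheory.PowerSeries.Substitution
import Mathlib.RingTheory.PowerSeries.Derivative
import Mathlib.Tactic.Ring
import Mathlib.Tactic.LinearCombination

set_option autoImplicit false

namespace Groth.Agent.H71

open PowerSeries

variable {A : Type*} [CommRing A]

/-- `f` has logarithmic derivative `d`, i.e. `f' = f * d`. -/
def HasLogDeriv (f d : A⟦X⟧) : Prop := PowerSeries.derivative A f = f * d

lemma HasLogDeriv.mul {f g d e : A⟦X⟧} (hf : HasLogDeriv f d) (hg : HasLogDeriv g e) :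
    HasLogDeriv (f * g) (d + e) := by
  unfold HasLogDeriv at *
  rw [Derivation.leibniz, hf, hg, smul_eq_mul, smul_eq_mul]
  ring

lemma HasLogDeriv.one : HasLogDeriv (1 : A⟦X⟧) 0 := by
  unfold HasLogDeriv
  rw [PowerSeries.derivative_one, mul_zero]

lemma HasLogDeriv.pow {f d : A⟦X⟧} (hf : HasLogDeriv f d) (k : ℕ) :
    HasLogDeriv (f ^ k) (k • d) := by
  induction k with
  | zero => simpa using HasLogDeriv.one
  | succ k ih =>
    rw [pow_succ, succ_nsmul]
    exact ih.mul hf

lemma HasLogDeriv.prod {ι : Type*} (S : Finset ι) (f d : ι → A⟦X⟧)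
    (h : ∀ i ∈ S, HasLogDeriv (f i) (d i)) :
    HasLogDeriv (∏ i ∈ S, f i) (∑ i ∈ S, d i) := by
  classical
  induction S using Finset.induction_on with
  | empty => simpa using HasLogDeriv.one
  | insert a S ha ih =>
    rw [Finset.prod_insert ha, Finset.sum_insert ha]
    exact (h a (Finset.mem_insert_self a S)).mul
      (ih fun i hi => h i (Finset.mem_insert_of_mem hi))

lemma HasLogDeriv.eq_one [IsAddTorsionFree A] {f : A⟦X⟧} (h : HasLogDeriv f 0)
    (hc : constantCoeff f = 1) : f = 1 := by
  apply PowerSeries.derivative.ext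
  · unfold HasLogDeriv at h
    rw [h, mul_zero, PowerSeries.derivative_one]
  · rw [hc, map_one]

lemma constantCoeff_exp_subst [Algebra ℚ A] {g : A⟦X⟧} (hg : constantCoeff g = 0) :
    constantCoeff ((exp A).subst g) = 1 := by
  have hs : HasSubst g := HasSubst.of_constantCoeff_zero' hg
  have h1 : exp A = 1 + (exp A - 1) := by ring
  rw [h1, subst_add hs, map_add]
  have h2 : constantCoeff ((exp A - 1 : A⟦X⟧).subst g) = 0 :=
    constantCoeff_subst_eq_zero hg _ (by simp [constantCoeff_exp])
  have h3 : (1 : A⟦X⟧).subst g = 1 := by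
    have := map_one (substAlgHom (R := A) hs)
    rwa [coe_substAlgHom] at this
  rw [h2, h3, map_one, add_zero]

lemma hasLogDeriv_exp_subst [Algebra ℚ A] {g : A⟦X⟧} (hg : constantCoeff g = 0) :
    HasLogDeriv ((exp A).subst g) (PowerSeries.derivative A g) := by
  have hs : HasSubst g := HasSubst.of_constantCoeff_zero' hg
  unfold HasLogDeriv
  rw [derivative_subst hs, derivative_exp]

/-- the geometric series `∑ a^v X^v`. -/
noncomputable def geom (a : A) : A⟦X⟧ := PowerSeries.mk fun v => a ^ v

lemma one_sub_mul_geom (a : A) : (1 - C a * X) * geom a = 1 := by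
  ext n
  rw [sub_mul, one_mul, mul_assoc, map_sub, coeff_C_mul]
  cases n with
  | zero => simp [geom]
  | succ n =>
    rw [coeff_succ_X_mul]
    simp [geom, pow_succ']

lemma constantCoeff_geom (a : A) : constantCoeff (geom a) = 1 := by
  simp [geom]

lemma constantCoeff_one_sub (a : A) : constantCoeff (1 - C a * X : A⟦X⟧) = 1 := by
  simp

lemma hasLogDeriv_one_sub (a : A) : HasLogDeriv (1 - C a * X : A⟦X⟧) (-(C a * geom a)) := by
  unfold HasLogDeriv
  have h := one_sub_mul_geom a
  have hd : PowerSeries.derivative A (1 - C a * X : A⟦X⟧) = - C a := by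
    rw [map_sub, PowerSeries.derivative_one, Derivation.leibniz, PowerSeries.derivative_C,
      PowerSeries.derivative_X]
    simp
  rw [hd]
  linear_combination (C a) * h

lemma hasLogDeriv_geom (a : A) : HasLogDeriv (geom a) (C a * geom a) := by
  unfold HasLogDeriv
  have h := one_sub_mul_geom a
  have h' := congrArg (PowerSeries.derivative A) h
  have hu := hasLogDeriv_one_sub a
  unfold HasLogDeriv at hu
  rw [Derivation.leibniz, hu, PowerSeries.derivative_one, smul_eq_mul, smul_eq_mul] at h'
  -- h' : (1 - C a X) * G' + G * ((1 - C a X) * -(C a G)) = 0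
  linear_combination (geom a) * h' - (PowerSeries.derivative A (geom a) - C a * geom a * geom a) * h

end Groth.Agent.H71
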