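import Mathlib
import Groth.Prelude.Def_W4c2filtblowupsingRees

/-!
# The extended Rees algebra of a filtration (helper71)

Basic structure: `u = T⁻¹` is a non-zero-divisor, `A[T;T⁻¹]` is the localization of the extended
Rees algebra at `u`, the extended Rees algebra is Noetherian when the Rees algebra is of finite
type over a Noetherian ring.
-/

set_option autoImplicit false
set_option linter.style.haveILetI false
set_option linter.unusedSectionVars false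

universe u

open LaurentPolynomial

namespace Groth.Agent.H71.ExtRees

variable {A : Type u} [CommRing A] (𝓕 : FiltBl.IdealFiltration A)

theorem mem_extRees_iff (f : A[T;T⁻¹]) :
    f ∈ 𝓕.extRees ↔ ∀ n : ℤ, f.coeff n ∈ 𝓕.F n.toNat := Iff.rfl

theorem coe_u : ((𝓕.u : 𝓕.extRees) : A[T;T⁻¹]) = T (-1) := rfl

theorem coeff_mul_T (f : A[T;T⁻¹]) (m n : ℤ) : (f * T m).coeff n = f.coeff (n - m) := by
  show (f * AddMonoidAlgebra.single m 1).coeff n = _
  rw [AddMonoidAlgebra.coeff_mul_single_apply, mul_one, sub_eq_add_neg]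

theorem coeff_C_mul_T (a : A) (m n : ℤ) : (C a * T m).coeff n = if n = m then a else 0 := by
  rw [coeff_mul_T, C_apply]
  by_cases h : n = m
  · rw [if_pos h, if_pos (by omega)]
  · rw [if_neg h, if_neg (by omega)]

theorem C_mul_T_mem {a : A} {m : ℤ} (ha : a ∈ 𝓕.F m.toNat) : C a * T m ∈ 𝓕.extRees := by
  intro n
  rw [coeff_C_mul_T]
  split_ifs with h
  · subst h; exact ha
  · exact Ideal.zero_mem _

theorem C_mul_T_mem_of_nonpos (a : A) {m : ℤ} (hm : m ≤ 0) : C a * T m ∈ 𝓕.extRees := by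
  apply C_mul_T_mem
  rw [Int.toNat_of_nonpos hm, 𝓕.zero_eq]
  exact Submodule.mem_top

theorem algebraMap_eq (x : 𝓕.extRees) : algebraMap 𝓕.extRees A[T;T⁻¹] x = (x : A[T;T⁻¹]) := rfl

theorem coe_u_pow (n : ℕ) : ((𝓕.u ^ n : 𝓕.extRees) : A[T;T⁻¹]) = T (-(n : ℤ)) := by
  rw [SubmonoidClass.coe_pow, coe_u, T_pow, mul_neg, mul_one]

theorem u_mem_nonZeroDivisors : 𝓕.u ∈ nonZeroDivisors 𝓕.extRees := by
  rw [mem_nonZeroDivisors_iff_right]
  intro x hx
  apply Subtype.ext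
  have h1 : (x : A[T;T⁻¹]) * T (-1) = 0 := congrArg Subtype.val hx
  have h2 : (x : A[T;T⁻¹]) * T (-1) * T 1 = 0 := by rw [h1, zero_mul]
  rw [mul_T_assoc, neg_add_cancel, T_zero, mul_one] at h2
  exact h2

instance isLocalization_away : IsLocalization.Away 𝓕.u A[T;T⁻¹] where
  map_units := by
    rintro ⟨_, n, rfl⟩
    rw [algebraMap_eq, coe_u_pow]
    exact isUnit_T _
  surj := by
    intro z
    induction z using LaurentPolynomial.induction_on' with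
    | add p q hp hq =>
      obtain ⟨⟨x1, ⟨_, n1, rfl⟩⟩, h1⟩ := hp
      obtain ⟨⟨x2, ⟨_, n2, rfl⟩⟩, h2⟩ := hq
      refine ⟨⟨x1 * 𝓕.u ^ n2 + x2 * 𝓕.u ^ n1, ⟨𝓕.u ^ (n1 + n2), n1 + n2, rfl⟩⟩, ?_⟩
      simp only [algebraMap_eq] at h1 h2 ⊢
      have e1 : ((x1 * 𝓕.u ^ n2 + x2 * 𝓕.u ^ n1 : 𝓕.extRees) : A[T;T⁻¹]) =
          (x1 : A[T;T⁻¹]) * ((𝓕.u ^ n2 : 𝓕.extRees) : A[T;T⁻¹]) +
            (x2 : A[T;T⁻¹]) * ((𝓕.u ^ n1 : 𝓕.extRees) : A[T;T⁻¹]) := rfl
      have e2 : ((𝓕.u ^ (n1 + n2) : 𝓕.extRees) : A[T;T⁻¹]) =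
          ((𝓕.u ^ n1 : 𝓕.extRees) : A[T;T⁻¹]) * ((𝓕.u ^ n2 : 𝓕.extRees) : A[T;T⁻¹]) := by
        rw [pow_add]; rfl
      rw [e1, e2, ← h1, ← h2]
      ring
    | C_mul_T n a =>
      refine ⟨⟨⟨C a * T (n - n.toNat), C_mul_T_mem_of_nonpos 𝓕 a (by omega)⟩,
        ⟨𝓕.u ^ n.toNat, n.toNat, rfl⟩⟩, ?_⟩
      simp only [algebraMap_eq]
      rw [coe_u_pow, mul_T_assoc, sub_eq_add_neg]
  exists_of_eq := by
    intro x y h
    exact ⟨1, by rw [Subtype.ext h]⟩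

section Noeth

theorem toLaurent_mem (f : 𝓕.rees) : Polynomial.toLaurent (f : Polynomial A) ∈ 𝓕.extRees := by
  rw [Polynomial.as_sum_support (f : Polynomial A), map_sum]
  refine Subalgebra.sum_mem _ (fun i _ => ?_)
  rw [Polynomial.toLaurent_C_mul_T]
  apply C_mul_T_mem
  rw [Int.toNat_natCast]
  exact f.2 i

/-- the map from the Rees algebra to the extended Rees algebra -/
noncomputable def ofRees : 𝓕.rees →ₐ[A] 𝓕.extRees :=
  (Polynomial.toLaurentAlg.comp 𝓕.rees.val).codRestrict 𝓕.extRees (fun f => toLaurent_mem 𝓕 f)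

theorem coe_ofRees (f : 𝓕.rees) :
    ((ofRees 𝓕 f : 𝓕.extRees) : A[T;T⁻¹]) = Polynomial.toLaurent (f : Polynomial A) := rfl

theorem monomial_mem_rees {k : ℕ} {a : A} (ha : a ∈ 𝓕.F k) : Polynomial.monomial k a ∈ 𝓕.rees := by
  intro n
  rw [Polynomial.coeff_monomial]
  split_ifs with h
  · subst h; exact ha
  · exact Ideal.zero_mem _

theorem finiteType_extRees (hfg : Algebra.FiniteType A 𝓕.rees) :
    Algebra.FiniteType A 𝓕.extRees := by
  classical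
  obtain ⟨s, hs⟩ := hfg.1
  refine ⟨⟨s.image (ofRees 𝓕) ∪ {𝓕.u}, ?_⟩⟩
  rw [eq_top_iff]
  rintro x -
  have key : ∀ (n : ℤ) (a : A) (ha : a ∈ 𝓕.F n.toNat),
      (⟨C a * T n, C_mul_T_mem 𝓕 ha⟩ : 𝓕.extRees) ∈
        Algebra.adjoin A ((s.image (ofRees 𝓕) ∪ {𝓕.u} : Finset 𝓕.extRees) : Set 𝓕.extRees) := by
    intro n a ha
    rcases le_or_gt 0 n with hn | hn
    · obtain ⟨k, rfl⟩ := Int.eq_ofNat_of_zero_le hn
      rw [Int.toNat_natCast] at ha
      have h1 : (⟨C a * T (k : ℤ), C_mul_T_mem 𝓕 (by rwa [Int.toNat_natCast])⟩ : 𝓕.extRees) =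
          ofRees 𝓕 ⟨Polynomial.monomial k a, monomial_mem_rees 𝓕 ha⟩ := by
        apply Subtype.ext
        rw [coe_ofRees]
        exact (Polynomial.toLaurent_C_mul_T k a).symm
      rw [h1]
      have h2 : (⟨Polynomial.monomial k a, monomial_mem_rees 𝓕 ha⟩ : 𝓕.rees) ∈
          Algebra.adjoin A (s : Set 𝓕.rees) := by rw [hs]; exact Algebra.mem_top
      have h3 : ofRees 𝓕 ⟨Polynomial.monomial k a, monomial_mem_rees 𝓕 ha⟩ ∈
          (Algebra.adjoin A (s : Set 𝓕.rees)).map (ofRees 𝓕) := ⟨_, h2, rfl⟩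
      rw [AlgHom.map_adjoin] at h3
      refine Algebra.adjoin_mono ?_ h3
      intro y hy
      rw [Finset.coe_union, Finset.coe_image]
      exact Or.inl hy
    · obtain ⟨k, hk⟩ : ∃ k : ℕ, n = -(k : ℤ) := ⟨(-n).toNat, by omega⟩
      subst hk
      have h1 : (⟨C a * T (-(k : ℤ)), C_mul_T_mem 𝓕 ha⟩ : 𝓕.extRees) = a • 𝓕.u ^ k := by
        apply Subtype.ext
        show C a * T (-(k : ℤ)) = a • ((𝓕.u ^ k : 𝓕.extRees) : A[T;T⁻¹])
        rw [coe_u_pow, smul_eq_C_mul]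
      rw [h1]
      refine Subalgebra.smul_mem _ (Subalgebra.pow_mem _ (Algebra.subset_adjoin ?_) _) _
      rw [Finset.coe_union]
      exact Or.inr (by simp)
  have hx : x = ∑ n ∈ (x : A[T;T⁻¹]).coeff.support,
      (⟨C ((x : A[T;T⁻¹]).coeff n) * T n, C_mul_T_mem 𝓕 (x.2 n)⟩ : 𝓕.extRees) := by
    apply Subtype.ext
    rw [AddSubmonoidClass.coe_finsetSum]
    conv_lhs => rw [← AddMonoidAlgebra.sum_coeff_single (x : A[T;T⁻¹])]
    rw [Finsupp.sum]
    refine Finset.sum_congr rfl (fun n _ => ?_)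
    exact single_eq_C_mul_T _ _
  rw [hx]
  exact Subalgebra.sum_mem _ (fun n _ => key n _ (x.2 n))

theorem isNoetherianRing_extRees [IsNoetherianRing A] (hfg : Algebra.FiniteType A 𝓕.rees) :
    IsNoetherianRing 𝓕.extRees := by
  haveI := finiteType_extRees 𝓕 hfg
  exact Algebra.FiniteType.isNoetherianRing A 𝓕.extRees

end Noeth

end Groth.Agent.H71.ExtRees
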