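import Mathlib
import Groth.Agent.H15.FlatLoc
import Groth.Agent.H71.LaurentCM
import Groth.Agent.H71.StalkLoc

/-!
# Cohen–Macaulayness along a flat map with CM fibres, at a prime (helper71)
-/

set_option autoImplicit false
set_option linter.style.haveILetI false
set_option linter.unusedSectionVars false

universe u

open IsLocalRing

namespace Groth.Agent.H71.FlatCMPrime

open Groth.Agent.H71

/-- For `A → B` flat (Noetherian rings), `Q` a prime of `B` over `q` with CM fibre local ring:
`B_Q` is CM iff `A_q` is. -/
theorem isCM_iff_of_flat_of_isCM_fib (A B : Type u) [CommRing A] [CommRing B] [Algebra A B]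
    [IsNoetherianRing A] [IsNoetherianRing B] [Module.Flat A B] (Q : Ideal B) [Q.IsPrime]
    (hF : LocCoh.IsCohenMacaulayLocalRing (EGA4.FibLocRing A B Q)) (q : Ideal A) [q.IsPrime]
    (hq : q = Q.comap (algebraMap A B)) :
    LocCoh.IsCohenMacaulayLocalRing (Localization.AtPrime Q) ↔
      LocCoh.IsCohenMacaulayLocalRing (Localization.AtPrime q) := by
  subst hq
  haveI hlo : Q.LiesOver (Q.comap (algebraMap A B)) := ⟨rfl⟩
  letI alg := Localization.AtPrime.algebraOfLiesOver (Q.comap (algebraMap A B)) Q
  haveI : IsLocalHom (algebraMap (Localization.AtPrime (Q.comap (algebraMap A B)))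
      (Localization.AtPrime Q)) := Localization.isLocalHom_localRingHom _ _ _ _
  have hI : EGA4.mB (Localization.AtPrime (Q.comap (algebraMap A B))) (Localization.AtPrime Q) =
      (Q.comap (algebraMap A B)).map (algebraMap A (Localization.AtPrime Q)) := by
    show (maximalIdeal (Localization.AtPrime (Q.comap (algebraMap A B)))).map
      (algebraMap _ (Localization.AtPrime Q)) = _
    rw [← Localization.AtPrime.map_eq_maximalIdeal, Ideal.map_map,
      ← IsScalarTower.algebraMap_eq A (Localization.AtPrime (Q.comap (algebraMap A B)))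
        (Localization.AtPrime Q)]
  let e : EGA4.FibRing (Localization.AtPrime (Q.comap (algebraMap A B))) (Localization.AtPrime Q)
      ≃+* EGA4.FibLocRing A B Q := Ideal.quotEquivOfEq hI
  constructor
  · intro h
    exact (Groth.Agent.H29.FlatCM.isCM_of_flat_of_isCM
      (A := Localization.AtPrime (Q.comap (algebraMap A B))) (B := Localization.AtPrime Q) h).1
  · intro h
    exact Groth.Agent.H29.FlatCM.isCM_of_flat_of_isCM_of_isCM
      (A := Localization.AtPrime (Q.comap (algebraMap A B))) (B := Localization.AtPrime Q) h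
      (StalkLoc.isCM_of_ringEquiv e hF)

/-- For the Laurent polynomial ring: `A[T;T⁻¹]_Q` is CM iff `A_q` is, `q = Q ∩ A`. -/
theorem isCM_laurent_iff (A : Type u) [CommRing A] [IsNoetherianRing A]
    [IsNoetherianRing (LaurentPolynomial A)]
    (Q : Ideal (LaurentPolynomial A)) [Q.IsPrime] (q : Ideal A) [q.IsPrime]
    (hq : q = Q.comap (algebraMap A (LaurentPolynomial A))) :
    LocCoh.IsCohenMacaulayLocalRing (Localization.AtPrime Q) ↔
      LocCoh.IsCohenMacaulayLocalRing (Localization.AtPrime q) :=
  isCM_iff_of_flat_of_isCM_fib A (LaurentPolynomial A) Q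
    (LaurentCM.isCM_fibLocRing_addMonoidAlgebra ℤ A Q) q hq

end Groth.Agent.H71.FlatCMPrime
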