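import Mathlib
import Groth.Agent.H71.ExtRees
import Groth.Agent.H71.CMQuot
import Groth.Agent.H71.FlatCMPrime
import Groth.Agent.H71.GrCoact

/-!
# Cohen–Macaulayness of the extended Rees algebra (helper71)
-/

set_option autoImplicit false
set_option linter.style.haveILetI false
set_option linter.unusedSectionVars false

universe u

open LaurentPolynomial IsLocalRing

namespace Groth.Agent.H71.ExtReesCM

open Groth.Agent.H71 Groth.Agent.H71.ExtRees

variable {A : Type u} [CommRing A] [IsNoetherianRing A] (𝓕 : FiltBl.IdealFiltration A)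

instance : IsNoetherianRing A[T;T⁻¹] := GrCoact.isNoetherianRing_addMonoidAlgebra ℤ A

/-- primes of the extended Rees algebra containing `u`: CM iff CM in `G = R'/(u)` -/
theorem isCM_iff_of_u_mem [IsNoetherianRing 𝓕.extRees] {G : Type u} [CommRing G]
    (φ : 𝓕.extRees →+* G) (hφ : Function.Surjective φ)
    (hker : RingHom.ker φ = Ideal.span {𝓕.u}) (p : Ideal G) [p.IsPrime] (P : Ideal 𝓕.extRees)
    [P.IsPrime] (hP : P = p.comap φ) :
    LocCoh.IsCohenMacaulayLocalRing (Localization.AtPrime P) ↔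
      LocCoh.IsCohenMacaulayLocalRing (Localization.AtPrime p) :=
  CMQuot.isCM_atPrime_iff_of_surjective φ hφ 𝓕.u (u_mem_nonZeroDivisors 𝓕) hker p P hP

/-- primes of the extended Rees algebra not containing `u`: CM iff CM of `A` at the contraction -/
theorem isCM_iff_of_u_notMem (Q : Ideal A[T;T⁻¹]) [Q.IsPrime] (P : Ideal 𝓕.extRees) [P.IsPrime]
    (hP : P = Q.comap (algebraMap 𝓕.extRees A[T;T⁻¹])) (q : Ideal A) [q.IsPrime]
    (hq : q = Q.comap (algebraMap A A[T;T⁻¹])) :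
    LocCoh.IsCohenMacaulayLocalRing (Localization.AtPrime P) ↔
      LocCoh.IsCohenMacaulayLocalRing (Localization.AtPrime q) := by
  rw [CMQuot.isCM_atPrime_iff_of_isLocalization (Submonoid.powers 𝓕.u) Q P hP]
  exact FlatCMPrime.isCM_laurent_iff A Q q hq

/-- **CM off `V(R_+R')`.** -/
theorem cm_off_positive [IsLocalRing A] (hfg : Algebra.FiniteType A 𝓕.rees)
    (G : Type u) [CommRing G] (φ : 𝓕.extRees →+* G) (hφ : Function.Surjective φ)
    (hker : RingHom.ker φ = Ideal.span {𝓕.u}) (Rp : Ideal 𝓕.extRees)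
    (hRp : Rp = Ideal.span {x : 𝓕.extRees | ∃ n : ℕ, 0 < n ∧ ∃ a ∈ 𝓕.F n,
      (x : LaurentPolynomial A) = LaurentPolynomial.C a * LaurentPolynomial.T (n : ℤ)}) :
    (∀ (P : Ideal 𝓕.extRees) [P.IsPrime], ¬ Rp ≤ P →
        LocCoh.IsCohenMacaulayLocalRing (Localization.AtPrime P)) ↔
      ((∀ (p : Ideal G) [p.IsPrime], ¬ Ideal.map φ Rp ≤ p →
          LocCoh.IsCohenMacaulayLocalRing (Localization.AtPrime p)) ∧
        (∀ (q : Ideal A) [q.IsPrime], ¬ 𝓕.F 1 ≤ q →
            LocCoh.IsCohenMacaulayLocalRing (Localization.AtPrime q))) := by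
  classical
  haveI : IsNoetherianRing 𝓕.extRees := isNoetherianRing_extRees 𝓕 hfg
  haveI : UniqueSums ℤ := GrCoact.uniqueSums_of_free ℤ
  constructor
  · intro H
    refine ⟨?_, ?_⟩
    · intro p _ hp
      haveI : (p.comap φ).IsPrime := Ideal.comap_isPrime φ p
      have hP : ¬ Rp ≤ p.comap φ := fun h => hp (Ideal.map_le_iff_le_comap.mpr h)
      exact (isCM_iff_of_u_mem 𝓕 φ hφ hker p (p.comap φ) rfl).mp (H _ hP)
    · intro q _ hq
      haveI : (GrCoact.ext ℤ q).IsPrime := GrCoact.ext_isPrime q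
      haveI : ((GrCoact.ext ℤ q).comap (algebraMap 𝓕.extRees A[T;T⁻¹])).IsPrime :=
        Ideal.comap_isPrime _ _
      obtain ⟨a, ha1, haq⟩ := SetLike.not_le_iff_exists.mp hq
      have hmem : C a * T ((1 : ℕ) : ℤ) ∈ 𝓕.extRees := C_mul_T_mem 𝓕 (by
        rw [Int.toNat_natCast]; exact ha1)
      have hP : ¬ Rp ≤ (GrCoact.ext ℤ q).comap (algebraMap 𝓕.extRees A[T;T⁻¹]) := by
        intro h
        have h1 : (⟨C a * T ((1 : ℕ) : ℤ), hmem⟩ : 𝓕.extRees) ∈ Rp := by
          rw [hRp]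
          exact Ideal.subset_span ⟨1, Nat.one_pos, a, ha1, rfl⟩
        have h2 := h h1
        rw [Ideal.mem_comap, algebraMap_eq, GrCoact.mem_ext] at h2
        have h3 := h2 ((1 : ℕ) : ℤ)
        rw [coeff_C_mul_T, if_pos rfl] at h3
        exact haq h3
      exact (isCM_iff_of_u_notMem 𝓕 (GrCoact.ext ℤ q) _ rfl q
        (GrCoact.comap_algebraMap_ext q).symm).mp (H _ hP)
  · rintro ⟨HG, HA⟩ P _ hP
    by_cases hu : 𝓕.u ∈ P
    · have hkerP : RingHom.ker φ ≤ P := by
        rw [hker]; exact (Ideal.span_singleton_le_iff_mem _).mpr hu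
      haveI : (P.map φ).IsPrime := Ideal.map_isPrime_of_surjective hφ hkerP
      have hcomap : (P.map φ).comap φ = P := by
        rw [Ideal.comap_map_of_surjective φ hφ, ← RingHom.ker_eq_comap_bot, sup_eq_left]
        exact hkerP
      have hp : ¬ Ideal.map φ Rp ≤ P.map φ := by
        intro h
        apply hP
        rw [← hcomap]
        exact Ideal.map_le_iff_le_comap.mp h
      exact (isCM_iff_of_u_mem 𝓕 φ hφ hker (P.map φ) P hcomap.symm).mpr (HG _ hp)
    · have hdisj : Disjoint (Submonoid.powers 𝓕.u : Set 𝓕.extRees) (P : Set 𝓕.extRees) := by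
        rw [Set.disjoint_left]
        rintro _ ⟨n, rfl⟩ hn
        exact hu (Ideal.IsPrime.mem_of_pow_mem ‹_› n hn)
      haveI hQ : (P.map (algebraMap 𝓕.extRees A[T;T⁻¹])).IsPrime :=
        IsLocalization.isPrime_of_isPrime_disjoint (Submonoid.powers 𝓕.u) A[T;T⁻¹] P ‹_› hdisj
      have hcomap : (P.map (algebraMap 𝓕.extRees A[T;T⁻¹])).comap
          (algebraMap 𝓕.extRees A[T;T⁻¹]) = P :=
        IsLocalization.comap_map_of_isPrime_disjoint (Submonoid.powers 𝓕.u) A[T;T⁻¹] ‹_› hdisj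
      haveI : ((P.map (algebraMap 𝓕.extRees A[T;T⁻¹])).comap (algebraMap A A[T;T⁻¹])).IsPrime :=
        Ideal.comap_isPrime _ _
      have hq : ¬ 𝓕.F 1 ≤ (P.map (algebraMap 𝓕.extRees A[T;T⁻¹])).comap
          (algebraMap A A[T;T⁻¹]) := by
        intro h
        apply hP
        rw [hRp, Ideal.span_le]
        rintro x ⟨n, hn, a, ha, hx⟩
        have ha1 : a ∈ 𝓕.F 1 := 𝓕.antitone hn ha
        have h1 : algebraMap A A[T;T⁻¹] a ∈ P.map (algebraMap 𝓕.extRees A[T;T⁻¹]) := h ha1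
        have h2 : (x : A[T;T⁻¹]) ∈ P.map (algebraMap 𝓕.extRees A[T;T⁻¹]) := by
          rw [hx]
          exact Ideal.mul_mem_right _ _ h1
        have h3 : x ∈ (P.map (algebraMap 𝓕.extRees A[T;T⁻¹])).comap
            (algebraMap 𝓕.extRees A[T;T⁻¹]) := h2
        rw [hcomap] at h3
        exact h3
      exact (isCM_iff_of_u_notMem 𝓕 (P.map (algebraMap 𝓕.extRees A[T;T⁻¹])) P hcomap.symm _
        rfl).mpr (HA _ hq)

end Groth.Agent.H71.ExtReesCM
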