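import Mathlib
import Groth.Agent.H71.ExtRees

/-!
# The `ℤ`-grading of the extended Rees algebra (helper71)
-/

set_option autoImplicit false
set_option linter.style.haveILetI false
set_option linter.unusedSectionVars false

universe u

open LaurentPolynomial

namespace Groth.Agent.H71.ExtRees

variable {A : Type u} [CommRing A] (𝓕 : FiltBl.IdealFiltration A)

/-- the degree-`n` piece of the extended Rees algebra -/
def piece (n : ℤ) : AddSubgroup 𝓕.extRees where
  carrier := {x | ∀ m, m ≠ n → (x : A[T;T⁻¹]).coeff m = 0}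
  zero_mem' := fun m _ => rfl
  add_mem' := by
    intro x y hx hy m hm
    show ((x : A[T;T⁻¹]) + (y : A[T;T⁻¹])).coeff m = 0
    rw [AddMonoidAlgebra.coeff_add, Finsupp.add_apply, hx m hm, hy m hm, add_zero]
  neg_mem' := by
    intro x hx m hm
    show (-(x : A[T;T⁻¹])).coeff m = 0
    rw [AddMonoidAlgebra.coeff_neg, Finsupp.neg_apply, hx m hm, neg_zero]

theorem mem_piece_iff (n : ℤ) (x : 𝓕.extRees) :
    x ∈ piece 𝓕 n ↔ ∀ m, m ≠ n → (x : A[T;T⁻¹]).coeff m = 0 := Iff.rfl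

theorem coe_eq_of_mem_piece {n : ℤ} {x : 𝓕.extRees} (hx : x ∈ piece 𝓕 n) :
    (x : A[T;T⁻¹]) = C ((x : A[T;T⁻¹]).coeff n) * T n := by
  apply LaurentPolynomial.ext
  intro m
  rw [coeff_C_mul_T]
  by_cases h : m = n
  · rw [if_pos h, h]
  · rw [if_neg h, hx m h]

/-- the `m`-th homogeneous component -/
noncomputable def comp (m : ℤ) : 𝓕.extRees →+ 𝓕.extRees where
  toFun x := ⟨C ((x : A[T;T⁻¹]).coeff m) * T m, C_mul_T_mem 𝓕 (x.2 m)⟩
  map_zero' := by
    apply Subtype.ext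
    show C ((0 : A[T;T⁻¹]).coeff m) * T m = 0
    rw [AddMonoidAlgebra.coeff_zero, Finsupp.zero_apply, map_zero, zero_mul]
  map_add' x y := by
    apply Subtype.ext
    show C (((x : A[T;T⁻¹]) + (y : A[T;T⁻¹])).coeff m) * T m =
      C ((x : A[T;T⁻¹]).coeff m) * T m + C ((y : A[T;T⁻¹]).coeff m) * T m
    rw [AddMonoidAlgebra.coeff_add, Finsupp.add_apply, map_add, add_mul]

theorem coe_comp (m : ℤ) (x : 𝓕.extRees) :
    ((comp 𝓕 m x : 𝓕.extRees) : A[T;T⁻¹]) = C ((x : A[T;T⁻¹]).coeff m) * T m := rfl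

theorem comp_mem (m : ℤ) (x : 𝓕.extRees) : comp 𝓕 m x ∈ piece 𝓕 m := by
  intro k hk
  rw [coe_comp, coeff_C_mul_T, if_neg hk]

theorem comp_of_mem_same {m : ℤ} {x : 𝓕.extRees} (hx : x ∈ piece 𝓕 m) : comp 𝓕 m x = x := by
  apply Subtype.ext
  rw [coe_comp]
  exact (coe_eq_of_mem_piece 𝓕 hx).symm

theorem comp_of_mem_ne {m n : ℤ} {x : 𝓕.extRees} (hx : x ∈ piece 𝓕 n) (h : m ≠ n) :
    comp 𝓕 m x = 0 := by
  apply Subtype.ext
  rw [coe_comp, hx m h, map_zero, zero_mul]
  rfl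

theorem sum_comp (x : 𝓕.extRees) :
    x = ∑ m ∈ (x : A[T;T⁻¹]).coeff.support, comp 𝓕 m x := by
  apply Subtype.ext
  rw [AddSubmonoidClass.coe_finsetSum]
  conv_lhs => rw [← AddMonoidAlgebra.sum_coeff_single (x : A[T;T⁻¹])]
  rw [Finsupp.sum]
  refine Finset.sum_congr rfl (fun n _ => ?_)
  rw [coe_comp]
  exact single_eq_C_mul_T _ _

theorem comp_coe (m : ℤ) (y : DirectSum ℤ fun n => piece 𝓕 n) :
    comp 𝓕 m (DirectSum.coeAddMonoidHom (piece 𝓕) y) = (y m : 𝓕.extRees) := by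
  induction y using DirectSum.induction_on with
  | zero => rw [map_zero, map_zero]; rfl
  | of n z =>
    rw [DirectSum.coeAddMonoidHom_of, DirectSum.coe_of_apply]
    by_cases h : n = m
    · subst h
      rw [if_pos rfl, comp_of_mem_same 𝓕 z.2]
    · rw [if_neg h, comp_of_mem_ne 𝓕 z.2 (Ne.symm h)]
      rfl
  | add y z hy hz =>
    rw [map_add, map_add, hy, hz, DirectSum.add_apply]
    rfl

theorem isInternal : DirectSum.IsInternal (piece 𝓕) := by
  classical
  constructor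
  · rw [injective_iff_map_eq_zero]
    intro y hy
    apply DFinsupp.ext
    intro m
    apply Subtype.ext
    rw [← comp_coe, hy, map_zero]
    rfl
  · intro x
    refine ⟨∑ m ∈ (x : A[T;T⁻¹]).coeff.support,
      DirectSum.of (fun n => piece 𝓕 n) m ⟨comp 𝓕 m x, comp_mem 𝓕 m x⟩, ?_⟩
    rw [map_sum]
    conv_rhs => rw [sum_comp 𝓕 x]
    refine Finset.sum_congr rfl (fun m _ => ?_)
    rw [DirectSum.coeAddMonoidHom_of]

instance gradedMonoid : SetLike.GradedMonoid (piece 𝓕) where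
  one_mem := by
    intro m hm
    show (1 : A[T;T⁻¹]).coeff m = 0
    rw [← T_zero, T_apply, if_neg (Ne.symm hm)]
  mul_mem := by
    intro i j x y hx hy m hm
    show ((x : A[T;T⁻¹]) * (y : A[T;T⁻¹])).coeff m = 0
    rw [coe_eq_of_mem_piece 𝓕 hx, coe_eq_of_mem_piece 𝓕 hy]
    have : C ((x : A[T;T⁻¹]).coeff i) * T i * (C ((y : A[T;T⁻¹]).coeff j) * T j) =
        C ((x : A[T;T⁻¹]).coeff i * (y : A[T;T⁻¹]).coeff j) * T (i + j) := by
      rw [map_mul, T_add]; ring
    rw [this, coeff_C_mul_T, if_neg hm]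

/-- the grading of the extended Rees algebra -/
@[instance_reducible]
noncomputable def gradedRing : GradedRing (piece 𝓕) :=
  { gradedMonoid 𝓕 with
    toDecomposition := (isInternal 𝓕).chooseDecomposition }

end Groth.Agent.H71.ExtRees
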