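import Mathlib
import Groth.Agent.H71.GrCoactMain
import Groth.Agent.H29.DepthFinite
import Groth.Agent.H29.CM2

/-!
# Cohen–Macaulayness at a prime and at its homogeneous core (helper71)
-/

set_option autoImplicit false
set_option linter.style.haveILetI false
set_option linter.unusedSectionVars false

universe u

open IsLocalRing

namespace Groth.Agent.H71.GrCMCore

open Groth.Agent.H71 Groth.Agent.H29

/-- CM local ring in terms of the localized module -/
theorem isCM_atPrime_iff_module {R : Type u} [CommRing R] [IsNoetherianRing R] (p : Ideal R)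
    [p.IsPrime] :
    LocCoh.IsCohenMacaulayLocalRing (Localization.AtPrime p) ↔
      Module.supportDim (Localization.AtPrime p) (LocalizedModule p.primeCompl R) =
        ((LocCoh.depth (Localization.AtPrime p) (LocalizedModule p.primeCompl R) : ℕ∞) :
          WithBot ℕ∞) := by
  have e := DepthFinite.selfEquiv (R := R) p.primeCompl
  have h1 : LocCoh.depth (Localization.AtPrime p) (LocalizedModule p.primeCompl R) =
      LocCoh.depth (Localization.AtPrime p) (Localization.AtPrime p) := CM.idealDepth_congr e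
  rw [Module.supportDim_eq_of_equiv e, h1]
  exact ⟨fun h => h.supportDim_eq_depth, fun h => ⟨h⟩⟩

variable {ι : Type} [AddCommGroup ι] [DecidableEq ι] [Module.Free ℤ ι] [Module.Finite ℤ ι]
  (R : Type u) [CommRing R] [IsNoetherianRing R] (𝒜 : ι → AddSubgroup R) [GradedRing 𝒜]

/-- `R_p` is CM iff `R_{p*}` is CM. -/
theorem isCM_iff_core (p : Ideal R) [p.IsPrime] [(Ideal.homogeneousCore 𝒜 p).toIdeal.IsPrime] :
    LocCoh.IsCohenMacaulayLocalRing (Localization.AtPrime p) ↔
      LocCoh.IsCohenMacaulayLocalRing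
        (Localization.AtPrime (Ideal.homogeneousCore 𝒜 p).toIdeal) := by
  have hle : (Ideal.homogeneousCore 𝒜 p).toIdeal ≤ p := Ideal.toIdeal_homogeneousCore_le 𝒜 p
  haveI : (p.map (Ideal.Quotient.mk (Ideal.homogeneousCore 𝒜 p).toIdeal)).IsPrime :=
    Ideal.map_isPrime_of_surjective Ideal.Quotient.mk_surjective (by rw [Ideal.mk_ker]; exact hle)
  have hfin : (p.map (Ideal.Quotient.mk (Ideal.homogeneousCore 𝒜 p).toIdeal)).height ≠ ⊤ :=
    Ideal.height_ne_top_of_isPrime
  obtain ⟨d, hd⟩ := ENat.ne_top_iff_exists.mp hfin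
  obtain ⟨h1, h2⟩ := GrCoactMain.depth_and_dim R 𝒜 p d hd.symm 𝒜
  rw [isCM_atPrime_iff_module, isCM_atPrime_iff_module, h1, h2]
  have hne : Module.supportDim (Localization.AtPrime (Ideal.homogeneousCore 𝒜 p).toIdeal)
      (LocalizedModule (Ideal.homogeneousCore 𝒜 p).toIdeal.primeCompl R) ≠ ⊥ := by
    rw [Module.supportDim_ne_bot_iff_nontrivial]
    exact (DepthFinite.selfEquiv (R := R)
      (Ideal.homogeneousCore 𝒜 p).toIdeal.primeCompl).toEquiv.nontrivial
  obtain ⟨k, hk⟩ := WithBot.ne_bot_iff_exists.mp hne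
  rw [← hk]
  constructor
  · intro h
    have h3 : k + (d : ℕ∞) = LocCoh.depth (Localization.AtPrime (Ideal.homogeneousCore 𝒜 p).toIdeal)
        (LocalizedModule (Ideal.homogeneousCore 𝒜 p).toIdeal.primeCompl R) + d := by
      exact_mod_cast h
    have h4 := (WithTop.add_right_inj (ENat.natCast_ne_top d)).mp h3
    rw [h4]
  · intro h
    have h3 : k = LocCoh.depth (Localization.AtPrime (Ideal.homogeneousCore 𝒜 p).toIdeal)
        (LocalizedModule (Ideal.homogeneousCore 𝒜 p).toIdeal.primeCompl R) := by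
      exact_mod_cast h
    rw [← h3]
    rfl

end Groth.Agent.H71.GrCMCore
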