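import Mathlib
import Groth.Agent.H71.ExtReesCM
import Groth.Agent.H71.ExtReesGr
import Groth.Agent.H71.GrCMCore

/-!
# The extended Rees algebra is CM iff the associated graded ring is (helper71)
-/

set_option autoImplicit false
set_option linter.style.haveILetI false
set_option linter.unusedSectionVars false

universe u

open LaurentPolynomial IsLocalRing

namespace Groth.Agent.H71.ExtReesCM

open Groth.Agent.H71 Groth.Agent.H71.ExtRees

variable {A : Type u} [CommRing A] (𝓕 : FiltBl.IdealFiltration A)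

theorem decompose_eq_comp (x : 𝓕.extRees) (i : ℤ) :
    letI := gradedRing 𝓕
    ((DirectSum.decompose (piece 𝓕) x i : piece 𝓕 i) : 𝓕.extRees) = comp 𝓕 i x := by
  letI := gradedRing 𝓕
  classical
  conv_rhs => rw [← DirectSum.sum_support_decompose (piece 𝓕) x]
  rw [map_sum, Finset.sum_eq_single i]
  · exact (comp_of_mem_same 𝓕 (SetLike.coe_mem _)).symm
  · intro j _ hj
    exact comp_of_mem_ne 𝓕 (SetLike.coe_mem _) (Ne.symm hj)
  · intro hi
    rw [DFinsupp.notMem_support_iff.mp hi, ZeroMemClass.coe_zero, map_zero]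

theorem F_one_ne_top [Nontrivial A] (hsep : ⨅ n, 𝓕.F n = ⊥) : 𝓕.F 1 ≠ ⊤ := by
  intro h1
  have hall : ∀ n, 𝓕.F n = ⊤ := by
    intro n
    induction n with
    | zero => exact 𝓕.zero_eq
    | succ n ih =>
      have := 𝓕.mul_le n 1
      rw [ih, h1, Ideal.top_mul] at this
      exact top_le_iff.mp this
  have : (⨅ n, 𝓕.F n) = ⊤ := by
    rw [iInf_eq_top]
    exact hall
  rw [hsep] at this
  exact bot_ne_top this

theorem core_sup_u_ne_top [IsLocalRing A] (hF1 : 𝓕.F 1 ≠ ⊤) (P : Ideal 𝓕.extRees) [P.IsPrime] :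
    letI := gradedRing 𝓕
    (Ideal.homogeneousCore (piece 𝓕) P).toIdeal ⊔ Ideal.span {𝓕.u} ≠ ⊤ := by
  letI := gradedRing 𝓕
  intro htop
  have h1 : (1 : 𝓕.extRees) ∈
      (Ideal.homogeneousCore (piece 𝓕) P).toIdeal ⊔ Ideal.span {𝓕.u} := by
    rw [htop]; exact Submodule.mem_top
  obtain ⟨a, ha, b', hb', hab⟩ := Submodule.mem_sup.mp h1
  obtain ⟨b, rfl⟩ := Ideal.mem_span_singleton'.mp hb'
  have hcore_le : (Ideal.homogeneousCore (piece 𝓕) P).toIdeal ≤ P :=
    Ideal.toIdeal_homogeneousCore_le _ P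
  have h2 : comp 𝓕 0 a ∈ (Ideal.homogeneousCore (piece 𝓕) P).toIdeal := by
    rw [← decompose_eq_comp]
    exact (Ideal.homogeneousCore (piece 𝓕) P).isHomogeneous 0 ha
  have h3 : (1 : A) = (a : A[T;T⁻¹]).coeff 0 + (b : A[T;T⁻¹]).coeff 1 := by
    have h := congrArg (fun x : 𝓕.extRees => (x : A[T;T⁻¹]).coeff 0) hab
    have e1 : ((a + b * 𝓕.u : 𝓕.extRees) : A[T;T⁻¹]) =
        (a : A[T;T⁻¹]) + (b : A[T;T⁻¹]) * T (-1) := rfl
    have e2 : ((1 : 𝓕.extRees) : A[T;T⁻¹]) = T 0 := by rw [T_zero]; rfl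
    simp only [e1, e2] at h
    rw [AddMonoidAlgebra.coeff_add, Finsupp.add_apply, coeff_mul_T, T_apply, if_pos rfl] at h
    rw [← h]
    norm_num
  have hle : 𝓕.F 1 ≤ maximalIdeal A := IsLocalRing.le_maximalIdeal hF1
  have h4 : (b : A[T;T⁻¹]).coeff 1 ∈ maximalIdeal A := hle (b.2 1)
  have h5 : (a : A[T;T⁻¹]).coeff 0 ∈ maximalIdeal A := by
    by_contra hnot
    have hunit : IsUnit ((a : A[T;T⁻¹]).coeff 0) := by
      rwa [mem_maximalIdeal, mem_nonunits_iff, not_not] at hnot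
    have hc : comp 𝓕 0 a = algebraMap A 𝓕.extRees ((a : A[T;T⁻¹]).coeff 0) := by
      apply Subtype.ext
      rw [coe_comp, T_zero, mul_one]
      rfl
    have hu2 : IsUnit (comp 𝓕 0 a) := by rw [hc]; exact hunit.map _
    exact ‹P.IsPrime›.ne_top (Ideal.eq_top_of_isUnit_mem _ (hcore_le h2) hu2)
  have h6 : (1 : A) ∈ maximalIdeal A := by
    rw [h3]
    exact Ideal.add_mem _ h5 h4
  exact (maximalIdeal.isMaximal A).ne_top ((Ideal.eq_top_iff_one _).mpr h6)

variable [IsNoetherianRing A]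

/-- `R'` is CM iff `G` is CM, for any surjection `φ : R' → G` with kernel `(u)`. -/
theorem isCMRing_extRees_iff_aux [IsLocalRing A] (hsep : ⨅ n, 𝓕.F n = ⊥)
    (hfg : Algebra.FiniteType A 𝓕.rees) (G : Type u) [CommRing G] (φ : 𝓕.extRees →+* G)
    (hφ : Function.Surjective φ) (hker : RingHom.ker φ = Ideal.span {𝓕.u}) :
    LocCoh.IsCohenMacaulayRing 𝓕.extRees ↔ LocCoh.IsCohenMacaulayRing G := by
  classical
  haveI : IsNoetherianRing 𝓕.extRees := isNoetherianRing_extRees 𝓕 hfg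
  haveI : IsNoetherianRing G := isNoetherianRing_of_surjective 𝓕.extRees G φ hφ
  have hkey : ∀ (Q : Ideal G) [Q.IsPrime] (P : Ideal 𝓕.extRees) [P.IsPrime],
      P = Q.comap φ →
      (LocCoh.IsCohenMacaulayLocalRing (Localization.AtPrime P) ↔
        LocCoh.IsCohenMacaulayLocalRing (Localization.AtPrime Q)) := fun Q _ P _ hP =>
    isCM_iff_of_u_mem 𝓕 φ hφ hker Q P hP
  constructor
  · intro h
    refine { isCohenMacaulayLocalRing_localization := ?_ }
    intro Q _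
    haveI : (Q.comap φ).IsPrime := Ideal.comap_isPrime _ _
    exact (hkey Q _ rfl).mp (h.isCohenMacaulayLocalRing_localization _)
  · intro h
    have hmem : ∀ (P : Ideal 𝓕.extRees) [P.IsPrime], 𝓕.u ∈ P →
        LocCoh.IsCohenMacaulayLocalRing (Localization.AtPrime P) := by
      intro P _ hu
      have hkerP : RingHom.ker φ ≤ P := by
        rw [hker]; exact (Ideal.span_singleton_le_iff_mem _).mpr hu
      haveI : (P.map φ).IsPrime := Ideal.map_isPrime_of_surjective hφ hkerP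
      have hcomap : (P.map φ).comap φ = P := by
        rw [Ideal.comap_map_of_surjective φ hφ, ← RingHom.ker_eq_comap_bot, sup_eq_left]
        exact hkerP
      exact (hkey _ P hcomap.symm).mpr (h.isCohenMacaulayLocalRing_localization _)
    refine { isCohenMacaulayLocalRing_localization := ?_ }
    intro P _
    by_cases hu : 𝓕.u ∈ P
    · exact hmem P hu
    · letI := gradedRing 𝓕
      haveI hcp : (Ideal.homogeneousCore (piece 𝓕) P).toIdeal.IsPrime :=
        Ideal.IsPrime.homogeneousCore ‹_›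
      rw [GrCMCore.isCM_iff_core 𝓕.extRees (piece 𝓕) P]
      obtain ⟨𝔐, h𝔐, hle⟩ := Ideal.exists_le_maximal _
        (core_sup_u_ne_top 𝓕 (F_one_ne_top 𝓕 hsep) P)
      haveI : 𝔐.IsPrime := h𝔐.isPrime
      have hu𝔐 : 𝓕.u ∈ 𝔐 := hle (Ideal.mem_sup_right (Ideal.mem_span_singleton_self _))
      exact StalkLoc.isCM_of_le _ 𝔐 (le_trans le_sup_left hle) (hmem 𝔐 hu𝔐)

/-- **`R'` is CM iff `G = R'/(u)` is CM.** -/
theorem isCMRing_extRees_iff [IsLocalRing A] (hsep : ⨅ n, 𝓕.F n = ⊥)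
    (hfg : Algebra.FiniteType A 𝓕.rees) :
    LocCoh.IsCohenMacaulayRing 𝓕.extRees ↔ LocCoh.IsCohenMacaulayRing 𝓕.Gr :=
  isCMRing_extRees_iff_aux 𝓕 hsep hfg 𝓕.Gr (Ideal.Quotient.mk (Ideal.span {𝓕.u}))
    Ideal.Quotient.mk_surjective Ideal.mk_ker

end Groth.Agent.H71.ExtReesCM
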