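import Mathlib
import Groth.Agent.H71.ExtReesCM2
import Groth.Agent.H59.Goren3
import Groth.Agent.S0343
import Groth.Agent.S0345

/-!
# The extended Rees algebra is Gorenstein iff the associated graded ring is (helper71)
-/

set_option autoImplicit false
set_option linter.style.haveILetI false
set_option linter.unusedSectionVars false

universe u

open LaurentPolynomial IsLocalRing Polynomial

namespace Groth.Agent.H71.ExtReesGor

open Groth.Agent.H71 Groth.Agent.H71.ExtRees Groth.Agent.H59.Goren1 Groth.Agent.H59.Goren3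
  Groth.Agent.H60.GorTransfer

section Laurent

theorem isGorRing_polynomial (F : Type u) [CommRing F] [LocCoh.IsGorensteinRing F] :
    LocCoh.IsGorensteinRing F[X] := by
  haveI : Algebra.Smooth F F[X] := ⟨inferInstance, inferInstance⟩
  exact gorRing_of_smooth F F[X]

theorem isGorRing_laurent (F : Type u) [CommRing F] [LocCoh.IsGorensteinRing F] :
    LocCoh.IsGorensteinRing (LaurentPolynomial F) := by
  haveI := isGorRing_polynomial F
  exact gorRing_of_isLocalization (Submonoid.powers (X : F[X])) (LaurentPolynomial F)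

theorem isGorRing_addMonoidAlgebra_fin (n : ℕ) :
    ∀ (F : Type u) [CommRing F], LocCoh.IsGorensteinRing F →
      LocCoh.IsGorensteinRing (AddMonoidAlgebra F (Fin n → ℤ)) := by
  induction n with
  | zero =>
    intro F _ hF
    haveI := hF
    exact gorRing_of_ringEquiv (AddMonoidAlgebra.uniqueRingEquiv (R := F) (Fin 0 → ℤ)).symm
  | succ n ih =>
    intro F _ hF
    haveI := ih F hF
    haveI := isGorRing_laurent (AddMonoidAlgebra F (Fin n → ℤ))
    let e1 : AddMonoidAlgebra F (ℤ × (Fin n → ℤ)) ≃+*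
        AddMonoidAlgebra (AddMonoidAlgebra F (Fin n → ℤ)) ℤ := AddMonoidAlgebra.curryRingEquiv
    let e2 : AddMonoidAlgebra F (ℤ × (Fin n → ℤ)) ≃+* AddMonoidAlgebra F (Fin (n + 1) → ℤ) :=
      (AddMonoidAlgebra.domCongr F F
        (Fin.consLinearEquiv ℤ (fun _ : Fin (n + 1) => ℤ)).toAddEquiv).toRingEquiv
    exact gorRing_of_ringEquiv (e1.symm.trans e2)

theorem isGorRing_addMonoidAlgebra (ι : Type) [AddCommGroup ι] [Module.Free ℤ ι]
    [Module.Finite ℤ ι] (F : Type u) [CommRing F] [hF : LocCoh.IsGorensteinRing F] :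
    LocCoh.IsGorensteinRing (AddMonoidAlgebra F ι) := by
  haveI := isGorRing_addMonoidAlgebra_fin (Module.finrank ℤ ι) F hF
  exact gorRing_of_ringEquiv
    (AddMonoidAlgebra.domCongr F F (Module.finBasis ℤ ι).equivFun.toAddEquiv).symm.toRingEquiv

/-- The fibre local rings of `R → R[ι]` are Gorenstein. -/
theorem isGor_fibLocRing_addMonoidAlgebra (ι : Type) [AddCommGroup ι] [Module.Free ℤ ι]
    [Module.Finite ℤ ι] (R : Type u) [CommRing R]
    (Q : Ideal (AddMonoidAlgebra R ι)) [Q.IsPrime] :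
    LocCoh.IsGorensteinLocalRing (EGA4.FibLocRing R (AddMonoidAlgebra R ι) Q) := by
  haveI := gorRing_field (Q.comap (algebraMap R (AddMonoidAlgebra R ι))).ResidueField
  haveI := isGorRing_addMonoidAlgebra ι
    (Q.comap (algebraMap R (AddMonoidAlgebra R ι))).ResidueField
  have h1 : LocCoh.IsGorensteinRing
      ((Q.comap (algebraMap R (AddMonoidAlgebra R ι))).Fiber (AddMonoidAlgebra R ι)) :=
    gorRing_of_ringEquiv
      (AddMonoidAlgebra.scalarTensorEquiv (M := ι) R
        (Q.comap (algebraMap R (AddMonoidAlgebra R ι))).ResidueField).symm.toRingEquiv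
  exact gor_fibLocRing_of_fiber R (AddMonoidAlgebra R ι) Q h1

end Laurent

section General

theorem isGor_congr_prime {R : Type u} [CommRing R] {q q' : Ideal R} [q.IsPrime] [q'.IsPrime]
    (h : q = q') :
    LocCoh.IsGorensteinLocalRing (Localization.AtPrime q) ↔
      LocCoh.IsGorensteinLocalRing (Localization.AtPrime q') := by
  subst h
  rfl

/-- the Gorenstein property of local rings passes to smaller primes (generization). -/
theorem isGor_of_le {Γ : Type u} [CommRing Γ] (P P' : Ideal Γ) [hP : P.IsPrime]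
    [P'.IsPrime] (hPP' : P ≤ P') (h : LocCoh.IsGorensteinLocalRing (Localization.AtPrime P')) :
    LocCoh.IsGorensteinLocalRing (Localization.AtPrime P) := by
  haveI : IsNoetherianRing (Localization.AtPrime P') := h.toIsNoetherian
  obtain ⟨Q, hQ, -, ⟨e⟩⟩ := Groth.Agent.H15.FlatLoc.exists_locLoc P' P hPP'
  haveI := hQ
  have hG : LocCoh.IsGorensteinRing (Localization.AtPrime P') :=
    ((Groth.Agent.S0345.result (Localization.AtPrime P')).mp
      h.exists_hasInjectiveDimensionLT).1
  exact gor_of_ringEquiv e.symm (hG.isGorensteinLocalRing_localization Q)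

theorem isGor_atPrime_of_ringEquiv {B G : Type u} [CommRing B] [CommRing G] (e : B ≃+* G)
    (I : Ideal B) [I.IsPrime] (J : Ideal G) [J.IsPrime] (hIJ : I = J.comap e) :
    LocCoh.IsGorensteinLocalRing (Localization.AtPrime I) ↔
      LocCoh.IsGorensteinLocalRing (Localization.AtPrime J) :=
  ⟨fun h => gor_of_ringEquiv (Localization.localRingEquiv I J e hIJ) h,
    fun h => gor_of_ringEquiv (Localization.localRingEquiv I J e hIJ).symm h⟩

variable {A : Type u} [CommRing A] [IsNoetherianRing A]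

/-- `A_P` is Gorenstein iff `(A/t)_{P/t}` is, for a non-zero-divisor `t ∈ P`. -/
theorem isGor_atPrime_iff_quot (t : A) (hreg : t ∈ nonZeroDivisors A) (P : Ideal A) [P.IsPrime]
    (htP : t ∈ P) [(P.map (Ideal.Quotient.mk (Ideal.span {t}))).IsPrime] :
    LocCoh.IsGorensteinLocalRing (Localization.AtPrime P) ↔
      LocCoh.IsGorensteinLocalRing
        (Localization.AtPrime (P.map (Ideal.Quotient.mk (Ideal.span {t})))) := by
  obtain ⟨e⟩ := QR.locQuot_equiv t P htP
  have hm := QR.algebraMap_mem_maximalIdeal htP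
  have hnzd := QR.algebraMap_mem_nonZeroDivisors hreg P
  have hreg' : IsSMulRegular (Localization.AtPrime P) (algebraMap A (Localization.AtPrime P) t) :=
    Groth.Agent.H60.FlatGor.reg_of_mem_nzd hnzd
  rw [Groth.Agent.S0343.result _ _ hm hreg']
  exact ⟨fun h => gor_of_ringEquiv e.symm h, fun h => gor_of_ringEquiv e h⟩

theorem isGor_atPrime_iff_of_surjective {G : Type u} [CommRing G] (φ : A →+* G)
    (hφ : Function.Surjective φ) (t : A) (hreg : t ∈ nonZeroDivisors A)
    (hker : RingHom.ker φ = Ideal.span {t}) (p : Ideal G) [p.IsPrime] (P : Ideal A) [P.IsPrime]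
    (hP : P = p.comap φ) :
    LocCoh.IsGorensteinLocalRing (Localization.AtPrime P) ↔
      LocCoh.IsGorensteinLocalRing (Localization.AtPrime p) := by
  have htP : t ∈ P := by
    rw [hP, Ideal.mem_comap]
    have : t ∈ RingHom.ker φ := by rw [hker]; exact Ideal.mem_span_singleton_self t
    rw [RingHom.mem_ker.mp this]
    exact Ideal.zero_mem _
  haveI : (P.map (Ideal.Quotient.mk (Ideal.span {t}))).IsPrime := QR.map_mk_isPrime htP
  rw [isGor_atPrime_iff_quot t hreg P htP]
  let e : (A ⧸ Ideal.span {t}) ≃+* G :=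
    (Ideal.quotEquivOfEq hker.symm).trans (RingHom.quotientKerEquivOfSurjective hφ)
  have he : ∀ a : A, e (Ideal.Quotient.mk _ a) = φ a := fun a => rfl
  refine isGor_atPrime_of_ringEquiv e _ p ?_
  ext x
  obtain ⟨a, rfl⟩ := Ideal.Quotient.mk_surjective x
  rw [Ideal.mem_comap, he]
  constructor
  · intro h
    have h1 : a ∈ (P.map (Ideal.Quotient.mk (Ideal.span {t}))).comap
        (Ideal.Quotient.mk (Ideal.span {t})) := h
    rw [QR.comap_map_mk htP, hP] at h1
    exact h1
  · intro h
    have h1 : a ∈ P := by rw [hP]; exact h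
    exact Ideal.mem_map_of_mem _ h1

end General

section Core

open Groth.Agent.H71.GrCoact

variable {ι : Type} [AddCommGroup ι] [DecidableEq ι] [Module.Free ℤ ι] [Module.Finite ℤ ι]
  (R : Type u) [CommRing R] [IsNoetherianRing R] (𝒜 : ι → AddSubgroup R) [GradedRing 𝒜]

/-- `R_p` is Gorenstein iff `R_{p*}` is Gorenstein. -/
theorem isGor_iff_core (p : Ideal R) [p.IsPrime] [(Ideal.homogeneousCore 𝒜 p).toIdeal.IsPrime] :
    LocCoh.IsGorensteinLocalRing (Localization.AtPrime p) ↔
      LocCoh.IsGorensteinLocalRing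
        (Localization.AtPrime (Ideal.homogeneousCore 𝒜 p).toIdeal) := by
  haveI : UniqueSums ι := uniqueSums_of_free ι
  haveI : IsNoetherianRing (AddMonoidAlgebra R ι) := isNoetherianRing_addMonoidAlgebra ι R
  haveI hP : (ext ι p).IsPrime := ext_isPrime p
  haveI hP₁ : (primeOne 𝒜 p).IsPrime := primeOne_isPrime 𝒜 p
  have h1 := gor_loc_iff R (AddMonoidAlgebra R ι) (ext ι p)
  have h2 := gor_loc_iff R (AddMonoidAlgebra R ι) (primeOne 𝒜 p)
  have h3 : LocCoh.IsGorensteinLocalRing (Localization.AtPrime (primeOne 𝒜 p)) ↔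
      LocCoh.IsGorensteinLocalRing (Localization.AtPrime (ext ι p)) :=
    isGor_atPrime_of_ringEquiv (sigma 𝒜) (primeOne 𝒜 p) (ext ι p) rfl
  rw [isGor_congr_prime (comap_algebraMap_ext (ι := ι) p)] at h1
  rw [isGor_congr_prime (comap_algebraMap_primeOne 𝒜 p)] at h2
  constructor
  · intro h
    exact (h2.mp (h3.mpr (h1.mpr ⟨h, isGor_fibLocRing_addMonoidAlgebra ι R _⟩))).1
  · intro h
    exact (h1.mp (h3.mp (h2.mpr ⟨h, isGor_fibLocRing_addMonoidAlgebra ι R _⟩))).1

end Core

section Main

open Groth.Agent.H71.ExtReesCM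

variable {A : Type u} [CommRing A] [IsNoetherianRing A] (𝓕 : FiltBl.IdealFiltration A)

/-- `R'` is Gorenstein iff `G` is Gorenstein, for any surjection `φ : R' → G` with kernel `(u)`. -/
theorem isGorRing_extRees_iff_aux [IsLocalRing A] (hsep : ⨅ n, 𝓕.F n = ⊥)
    (hfg : Algebra.FiniteType A 𝓕.rees) (G : Type u) [CommRing G] (φ : 𝓕.extRees →+* G)
    (hφ : Function.Surjective φ) (hker : RingHom.ker φ = Ideal.span {𝓕.u}) :
    LocCoh.IsGorensteinRing 𝓕.extRees ↔ LocCoh.IsGorensteinRing G := by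
  classical
  haveI : IsNoetherianRing 𝓕.extRees := isNoetherianRing_extRees 𝓕 hfg
  haveI : IsNoetherianRing G := isNoetherianRing_of_surjective 𝓕.extRees G φ hφ
  have hkey : ∀ (Q : Ideal G) [Q.IsPrime] (P : Ideal 𝓕.extRees) [P.IsPrime],
      P = Q.comap φ →
      (LocCoh.IsGorensteinLocalRing (Localization.AtPrime P) ↔
        LocCoh.IsGorensteinLocalRing (Localization.AtPrime Q)) := fun Q _ P _ hP =>
    isGor_atPrime_iff_of_surjective φ hφ 𝓕.u (u_mem_nonZeroDivisors 𝓕) hker Q P hP
  constructor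
  · intro h
    refine { isGorensteinLocalRing_localization := ?_ }
    intro Q _
    haveI : (Q.comap φ).IsPrime := Ideal.comap_isPrime _ _
    exact (hkey Q _ rfl).mp (h.isGorensteinLocalRing_localization _)
  · intro h
    have hmem : ∀ (P : Ideal 𝓕.extRees) [P.IsPrime], 𝓕.u ∈ P →
        LocCoh.IsGorensteinLocalRing (Localization.AtPrime P) := by
      intro P _ hu
      have hkerP : RingHom.ker φ ≤ P := by
        rw [hker]; exact (Ideal.span_singleton_le_iff_mem _).mpr hu
      haveI : (P.map φ).IsPrime := Ideal.map_isPrime_of_surjective hφ hkerP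
      have hcomap : (P.map φ).comap φ = P := by
        rw [Ideal.comap_map_of_surjective φ hφ, ← RingHom.ker_eq_comap_bot, sup_eq_left]
        exact hkerP
      exact (hkey _ P hcomap.symm).mpr (h.isGorensteinLocalRing_localization _)
    refine { isGorensteinLocalRing_localization := ?_ }
    intro P _
    by_cases hu : 𝓕.u ∈ P
    · exact hmem P hu
    · letI := gradedRing 𝓕
      haveI hcp : (Ideal.homogeneousCore (piece 𝓕) P).toIdeal.IsPrime :=
        Ideal.IsPrime.homogeneousCore ‹_›
      rw [isGor_iff_core 𝓕.extRees (piece 𝓕) P]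
      obtain ⟨𝔐, h𝔐, hle⟩ := Ideal.exists_le_maximal _
        (core_sup_u_ne_top 𝓕 (F_one_ne_top 𝓕 hsep) P)
      haveI : 𝔐.IsPrime := h𝔐.isPrime
      have hu𝔐 : 𝓕.u ∈ 𝔐 := hle (Ideal.mem_sup_right (Ideal.mem_span_singleton_self _))
      exact isGor_of_le _ 𝔐 (le_trans le_sup_left hle) (hmem 𝔐 hu𝔐)

/-- **`R'` is Gorenstein iff `G = R'/(u)` is Gorenstein.** -/
theorem isGorRing_extRees_iff [IsLocalRing A] (hsep : ⨅ n, 𝓕.F n = ⊥)
    (hfg : Algebra.FiniteType A 𝓕.rees) :
    LocCoh.IsGorensteinRing 𝓕.extRees ↔ LocCoh.IsGorensteinRing 𝓕.Gr :=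
  isGorRing_extRees_iff_aux 𝓕 hsep hfg 𝓕.Gr (Ideal.Quotient.mk (Ideal.span {𝓕.u}))
    Ideal.Quotient.mk_surjective Ideal.mk_ker

end Main

end Groth.Agent.H71.ExtReesGor
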