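import Mathlib
import Groth.Agent.H71.ExtReesCM

/-!
# Serre's condition `(S_2)` for the extended Rees algebra (helper71)
-/

set_option autoImplicit false
set_option linter.style.haveILetI false
set_option linter.unusedSectionVars false

universe u

open LaurentPolynomial IsLocalRing

namespace Groth.Agent.H71.ExtReesSk

open Groth.Agent.H29 Groth.Agent.H71 Groth.Agent.H71.ExtRees

/-- the local form of Serre's condition `(S_k)` -/
def SkLoc (k : ℕ) (B : Type u) [CommRing B] [IsLocalRing B] : Prop :=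
  min (k : WithBot ℕ∞) (Module.supportDim B B) ≤ ((LocCoh.depth B B : ℕ∞) : WithBot ℕ∞)

theorem skLoc_iff_nat {k : ℕ} {B : Type u} [CommRing B] [IsLocalRing B] {d e : ℕ}
    (hd : Module.supportDim B B = ((d : ℕ∞) : WithBot ℕ∞)) (he : LocCoh.depth B B = (e : ℕ∞)) :
    SkLoc k B ↔ min k d ≤ e := by
  unfold SkLoc
  rw [hd, he]
  have h1 : (k : WithBot ℕ∞) = ((k : ℕ∞) : WithBot ℕ∞) := rfl
  have h2 : min (k : ℕ∞) (d : ℕ∞) = ((min k d : ℕ) : ℕ∞) :=
    ((Nat.mono_cast (α := ℕ∞)).map_min).symm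
  rw [h1, ← WithBot.coe_min, WithBot.coe_le_coe, h2, Nat.cast_le]

theorem hasSk_iff (k : ℕ) (R : Type u) [CommRing R] :
    LocCoh.HasSk k R R ↔ ∀ (P : Ideal R) [P.IsPrime], SkLoc k (Localization.AtPrime P) := by
  unfold LocCoh.HasSk SkLoc
  refine forall_congr' fun P => forall_congr' fun hP => ?_
  rw [Module.supportDim_eq_of_equiv (DepthFinite.selfEquiv P.primeCompl)]

theorem skLoc_of_ringEquiv {k : ℕ} {B C : Type u} [CommRing B] [CommRing C] [IsLocalRing B]
    [IsLocalRing C] (e : B ≃+* C) (h : SkLoc k B) : SkLoc k C := by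
  unfold SkLoc at *
  rw [Module.supportDim_self_eq_ringKrullDim] at h ⊢
  rw [← ringKrullDim_eq_of_ringEquiv e, ← FlatCM.depth_ringEquiv e]
  exact h

section Quot

variable {A : Type u} [CommRing A] [IsLocalRing A] [IsNoetherianRing A]

theorem skLoc_quot_iff (k : ℕ) (x : A) (hx : x ∈ maximalIdeal A) (hreg : IsSMulRegular A x)
    [IsLocalRing (A ⧸ Ideal.span {x})] :
    SkLoc (k + 1) A ↔ SkLoc k (A ⧸ Ideal.span {x}) := by
  have hs : Function.Surjective (algebraMap A (A ⧸ Ideal.span {x})) :=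
    Ideal.Quotient.mk_surjective
  haveI : IsNoetherianRing (A ⧸ Ideal.span {x}) := inferInstance
  have e : (A ⧸ Ideal.span {x}) ≃ₗ[A] QuotSMulTop x A :=
    Submodule.quotEquivOfEq _ _ (Groth.Agent.H23.span_singleton_eq_smul_top x)
  have h1 := Module.supportDim_quotSMulTop_succ_eq_supportDim hreg hx
  have h2 := CM.depth_quotSMulTop_add_one (M := A) hx hreg
  have hdepth : LocCoh.depth (A ⧸ Ideal.span {x}) (A ⧸ Ideal.span {x}) =
      LocCoh.depth A (QuotSMulTop x A) := by
    rw [FlatCM.depth_eq_of_surjective hs (A ⧸ Ideal.span {x})]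
    exact CM.idealDepth_congr e
  have hdim : Module.supportDim (A ⧸ Ideal.span {x}) (A ⧸ Ideal.span {x}) =
      Module.supportDim A (QuotSMulTop x A) := by
    rw [← Module.supportDim_eq_of_equiv e, Module.supportDim_self_eq_ringKrullDim,
      Module.supportDim_eq_ringKrullDim_quotient_annihilator, CMOpen.annihilator_eq_ker]
    exact (ringKrullDim_eq_of_ringEquiv (RingHom.quotientKerEquivOfSurjective hs)).symm
  obtain ⟨d, hd⟩ := CM.exists_nat_supportDim (A := A ⧸ Ideal.span {x}) (M := A ⧸ Ideal.span {x})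
  obtain ⟨c, hc⟩ := CM.exists_nat_depth (A := A ⧸ Ideal.span {x}) (M := A ⧸ Ideal.span {x})
  have hd' : Module.supportDim A A = (((d + 1 : ℕ) : ℕ∞) : WithBot ℕ∞) := by
    rw [← h1, ← hdim, hd]
    push_cast
    rfl
  have hc' : LocCoh.depth A A = ((c + 1 : ℕ) : ℕ∞) := by
    rw [← h2, ← hdepth, hc]
    push_cast
    rfl
  rw [skLoc_iff_nat hd hc, skLoc_iff_nat hd' hc']
  omega

end Quot

section AtPrime

variable {A : Type u} [CommRing A] [IsNoetherianRing A]

theorem skLoc_atPrime_iff_quot (k : ℕ) (t : A) (hreg : t ∈ nonZeroDivisors A) (P : Ideal A)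
    [P.IsPrime] (htP : t ∈ P) [(P.map (Ideal.Quotient.mk (Ideal.span {t}))).IsPrime] :
    SkLoc (k + 1) (Localization.AtPrime P) ↔
      SkLoc k (Localization.AtPrime (P.map (Ideal.Quotient.mk (Ideal.span {t})))) := by
  obtain ⟨e⟩ := QR.locQuot_equiv t P htP
  have hm := QR.algebraMap_mem_maximalIdeal htP
  have hnzd := QR.algebraMap_mem_nonZeroDivisors hreg P
  have hreg' : IsSMulRegular (Localization.AtPrime P) (algebraMap A (Localization.AtPrime P) t) :=
    Groth.Agent.H60.FlatGor.reg_of_mem_nzd hnzd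
  haveI : IsLocalRing (Localization.AtPrime P ⧸
      Ideal.span {algebraMap A (Localization.AtPrime P) t}) := e.isLocalRing
  rw [skLoc_quot_iff k _ hm hreg']
  exact ⟨fun h => skLoc_of_ringEquiv e.symm h, fun h => skLoc_of_ringEquiv e h⟩

theorem skLoc_atPrime_of_ringEquiv {k : ℕ} {B G : Type u} [CommRing B] [CommRing G] (e : B ≃+* G)
    (I : Ideal B) [I.IsPrime] (J : Ideal G) [J.IsPrime] (hIJ : I = J.comap e) :
    SkLoc k (Localization.AtPrime I) ↔ SkLoc k (Localization.AtPrime J) :=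
  ⟨fun h => skLoc_of_ringEquiv (Localization.localRingEquiv I J e hIJ) h,
    fun h => skLoc_of_ringEquiv (Localization.localRingEquiv I J e hIJ).symm h⟩

theorem skLoc_atPrime_iff_of_surjective (k : ℕ) {G : Type u} [CommRing G] (φ : A →+* G)
    (hφ : Function.Surjective φ) (t : A) (hreg : t ∈ nonZeroDivisors A)
    (hker : RingHom.ker φ = Ideal.span {t}) (p : Ideal G) [p.IsPrime] (P : Ideal A) [P.IsPrime]
    (hP : P = p.comap φ) :
    SkLoc (k + 1) (Localization.AtPrime P) ↔ SkLoc k (Localization.AtPrime p) := by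
  have htP : t ∈ P := by
    rw [hP, Ideal.mem_comap]
    have : t ∈ RingHom.ker φ := by rw [hker]; exact Ideal.mem_span_singleton_self t
    rw [RingHom.mem_ker.mp this]
    exact Ideal.zero_mem _
  haveI : (P.map (Ideal.Quotient.mk (Ideal.span {t}))).IsPrime := QR.map_mk_isPrime htP
  rw [skLoc_atPrime_iff_quot k t hreg P htP]
  let e : (A ⧸ Ideal.span {t}) ≃+* G :=
    (Ideal.quotEquivOfEq hker.symm).trans (RingHom.quotientKerEquivOfSurjective hφ)
  have he : ∀ a : A, e (Ideal.Quotient.mk _ a) = φ a := fun a => rfl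
  refine skLoc_atPrime_of_ringEquiv e _ p ?_
  ext x
  obtain ⟨a, rfl⟩ := Ideal.Quotient.mk_surjective x
  rw [Ideal.mem_comap, he]
  constructor
  · intro h
    have h1 : a ∈ (P.map (Ideal.Quotient.mk (Ideal.span {t}))).comap
        (Ideal.Quotient.mk (Ideal.span {t})) := h
    rw [QR.comap_map_mk htP, hP] at h1
    exact h1
  · intro h
    have h1 : a ∈ P := by rw [hP]; exact h
    exact Ideal.mem_map_of_mem _ h1

theorem skLoc_atPrime_iff_of_isLocalization {k : ℕ} {R S : Type u} [CommRing R] [CommRing S]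
    [Algebra R S] (M : Submonoid R) [IsLocalization M S] (P' : Ideal S) [P'.IsPrime]
    (P : Ideal R) [P.IsPrime] (hP : P = P'.comap (algebraMap R S)) :
    SkLoc k (Localization.AtPrime P) ↔ SkLoc k (Localization.AtPrime P') := by
  obtain ⟨e⟩ := CMQuot.atPrime_equiv_of_isLocalization M P' P hP
  exact ⟨fun h => skLoc_of_ringEquiv e h, fun h => skLoc_of_ringEquiv e.symm h⟩

end AtPrime

section Flat

/-- numerical data for `A_q → B_Q`, `A → B` flat -/
theorem exists_nat_data_atPrime (A B : Type u) [CommRing A] [CommRing B] [Algebra A B]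
    [IsNoetherianRing A] [IsNoetherianRing B] [Module.Flat A B] (Q : Ideal B) [Q.IsPrime]
    [IsLocalRing (EGA4.FibLocRing A B Q)] (q : Ideal A) [q.IsPrime]
    (hq : q = Q.comap (algebraMap A B)) :
    ∃ a c da dc : ℕ, LocCoh.depth (Localization.AtPrime q) (Localization.AtPrime q) = a ∧
      LocCoh.depth (EGA4.FibLocRing A B Q) (EGA4.FibLocRing A B Q) = c ∧
      Module.supportDim (Localization.AtPrime q) (Localization.AtPrime q) =
        ((da : ℕ∞) : WithBot ℕ∞) ∧
      Module.supportDim (EGA4.FibLocRing A B Q) (EGA4.FibLocRing A B Q) =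
        ((dc : ℕ∞) : WithBot ℕ∞) ∧
      LocCoh.depth (Localization.AtPrime Q) (Localization.AtPrime Q) = ((a + c : ℕ) : ℕ∞) ∧
      Module.supportDim (Localization.AtPrime Q) (Localization.AtPrime Q) =
        (((da + dc : ℕ) : ℕ∞) : WithBot ℕ∞) ∧ a ≤ da ∧ c ≤ dc := by
  subst hq
  haveI hlo : Q.LiesOver (Q.comap (algebraMap A B)) := ⟨rfl⟩
  letI alg := Localization.AtPrime.algebraOfLiesOver (Q.comap (algebraMap A B)) Q
  haveI : IsLocalHom (algebraMap (Localization.AtPrime (Q.comap (algebraMap A B)))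
      (Localization.AtPrime Q)) := Localization.isLocalHom_localRingHom _ _ _ _
  have hI : EGA4.mB (Localization.AtPrime (Q.comap (algebraMap A B))) (Localization.AtPrime Q) =
      (Q.comap (algebraMap A B)).map (algebraMap A (Localization.AtPrime Q)) := by
    show (maximalIdeal (Localization.AtPrime (Q.comap (algebraMap A B)))).map
      (algebraMap _ (Localization.AtPrime Q)) = _
    rw [← Localization.AtPrime.map_eq_maximalIdeal, Ideal.map_map,
      ← IsScalarTower.algebraMap_eq A (Localization.AtPrime (Q.comap (algebraMap A B)))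
        (Localization.AtPrime Q)]
  let e : EGA4.FibRing (Localization.AtPrime (Q.comap (algebraMap A B))) (Localization.AtPrime Q)
      ≃+* EGA4.FibLocRing A B Q := Ideal.quotEquivOfEq hI
  haveI : IsLocalRing (EGA4.FibRing (Localization.AtPrime (Q.comap (algebraMap A B)))
      (Localization.AtPrime Q)) := e.symm.isLocalRing
  obtain ⟨a, c, da, dc, ha, hc, hda, hdc, hb, hdb, hle1, hle2⟩ := FlatCM.exists_nat_data
    (A := Localization.AtPrime (Q.comap (algebraMap A B))) (B := Localization.AtPrime Q)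
  refine ⟨a, c, da, dc, ha, ?_, hda, ?_, hb, hdb, hle1, hle2⟩
  · rw [← FlatCM.depth_ringEquiv e]
    exact hc
  · rw [Module.supportDim_self_eq_ringKrullDim] at hdc ⊢
    rw [← ringKrullDim_eq_of_ringEquiv e]
    exact hdc

/-- ascent of `(S_k)` at a prime along a flat map with CM fibre -/
theorem skLoc_of_flat_of_isCM_fib (k : ℕ) (A B : Type u) [CommRing A] [CommRing B] [Algebra A B]
    [IsNoetherianRing A] [IsNoetherianRing B] [Module.Flat A B] (Q : Ideal B) [Q.IsPrime]
    (hF : LocCoh.IsCohenMacaulayLocalRing (EGA4.FibLocRing A B Q)) (q : Ideal A) [q.IsPrime]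
    (hq : q = Q.comap (algebraMap A B)) (h : SkLoc k (Localization.AtPrime q)) :
    SkLoc k (Localization.AtPrime Q) := by
  haveI := hF.toIsLocalRing
  obtain ⟨a, c, da, dc, ha, hc, hda, hdc, hb, hdb, hle1, hle2⟩ :=
    exists_nat_data_atPrime A B Q q hq
  have h2 := hF.supportDim_eq_depth
  rw [hc, hdc] at h2
  have h2' : dc = c := by exact_mod_cast h2
  rw [skLoc_iff_nat hda ha] at h
  rw [skLoc_iff_nat hdb hb]
  omega

/-- descent of `(S_k)` at a prime along a flat map with zero-dimensional fibre -/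
theorem skLoc_of_flat_of_dim_zero (k : ℕ) (A B : Type u) [CommRing A] [CommRing B] [Algebra A B]
    [IsNoetherianRing A] [IsNoetherianRing B] [Module.Flat A B] (Q : Ideal B) [Q.IsPrime]
    [IsLocalRing (EGA4.FibLocRing A B Q)]
    (hF : ringKrullDim (EGA4.FibLocRing A B Q) = 0) (q : Ideal A) [q.IsPrime]
    (hq : q = Q.comap (algebraMap A B)) (h : SkLoc k (Localization.AtPrime Q)) :
    SkLoc k (Localization.AtPrime q) := by
  obtain ⟨a, c, da, dc, ha, hc, hda, hdc, hb, hdb, hle1, hle2⟩ :=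
    exists_nat_data_atPrime A B Q q hq
  rw [Module.supportDim_self_eq_ringKrullDim, hF] at hdc
  have h2' : dc = 0 := by
    have : ((0 : ℕ∞) : WithBot ℕ∞) = ((dc : ℕ∞) : WithBot ℕ∞) := by rw [← hdc]; rfl
    exact_mod_cast this.symm
  rw [skLoc_iff_nat hdb hb] at h
  rw [skLoc_iff_nat hda ha]
  omega

end Flat

section Main

open Groth.Agent.H71.ExtReesCM

variable {A : Type u} [CommRing A] [IsNoetherianRing A] (𝓕 : FiltBl.IdealFiltration A)

theorem fibLocRing_ext_dim_zero (q : Ideal A) [q.IsPrime] [(GrCoact.ext ℤ q).IsPrime] :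
    ∃ _ : IsLocalRing (EGA4.FibLocRing A A[T;T⁻¹] (GrCoact.ext ℤ q)),
      ringKrullDim (EGA4.FibLocRing A A[T;T⁻¹] (GrCoact.ext ℤ q)) = 0 := by
  classical
  have hI : ((GrCoact.ext ℤ q).comap (algebraMap A A[T;T⁻¹])).map
      (algebraMap A (Localization.AtPrime (GrCoact.ext ℤ q))) =
      maximalIdeal (Localization.AtPrime (GrCoact.ext ℤ q)) := by
    rw [GrCoact.comap_algebraMap_ext,
      IsScalarTower.algebraMap_eq A A[T;T⁻¹] (Localization.AtPrime (GrCoact.ext ℤ q)),
      ← Ideal.map_map, ← GrCoact.ext_eq_map, Localization.AtPrime.map_eq_maximalIdeal]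
  have hmax : (((GrCoact.ext ℤ q).comap (algebraMap A A[T;T⁻¹])).map
      (algebraMap A (Localization.AtPrime (GrCoact.ext ℤ q)))).IsMaximal := by
    rw [hI]; exact maximalIdeal.isMaximal _
  have hfield : IsField (EGA4.FibLocRing A A[T;T⁻¹] (GrCoact.ext ℤ q)) :=
    (Ideal.Quotient.maximal_ideal_iff_isField_quotient _).mp hmax
  exact ⟨Groth.Agent.H15.FlatLoc.isLocalRing_fibLocRing A _ _,
    ringKrullDim_eq_zero_of_isField hfield⟩

/-- `R'` is `(S_2)` iff `G` is `(S_1)` and `A` is `(S_2)`, for any surjection `φ : R' → G` with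
kernel `(u)`. -/
theorem hasS2_extRees_iff_aux (hfg : Algebra.FiniteType A 𝓕.rees) (G : Type u) [CommRing G]
    (φ : 𝓕.extRees →+* G) (hφ : Function.Surjective φ)
    (hker : RingHom.ker φ = Ideal.span {𝓕.u}) :
    LocCoh.HasSk 2 𝓕.extRees 𝓕.extRees ↔ (LocCoh.HasSk 1 G G ∧ LocCoh.HasSk 2 A A) := by
  classical
  haveI : IsNoetherianRing 𝓕.extRees := isNoetherianRing_extRees 𝓕 hfg
  haveI : UniqueSums ℤ := GrCoact.uniqueSums_of_free ℤ
  rw [hasSk_iff, hasSk_iff, hasSk_iff]
  constructor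
  · intro H
    refine ⟨?_, ?_⟩
    · intro p _
      haveI : (p.comap φ).IsPrime := Ideal.comap_isPrime φ p
      exact (skLoc_atPrime_iff_of_surjective 1 φ hφ 𝓕.u (u_mem_nonZeroDivisors 𝓕) hker p
        (p.comap φ) rfl).mp (H _)
    · intro q _
      haveI : (GrCoact.ext ℤ q).IsPrime := GrCoact.ext_isPrime q
      haveI : ((GrCoact.ext ℤ q).comap (algebraMap 𝓕.extRees A[T;T⁻¹])).IsPrime :=
        Ideal.comap_isPrime _ _
      have h1 := (skLoc_atPrime_iff_of_isLocalization (k := 2) (Submonoid.powers 𝓕.u)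
        (GrCoact.ext ℤ q) _ rfl).mp (H _)
      obtain ⟨hloc, hdim⟩ := fibLocRing_ext_dim_zero q
      exact skLoc_of_flat_of_dim_zero 2 A A[T;T⁻¹] (GrCoact.ext ℤ q) hdim q
        (GrCoact.comap_algebraMap_ext q).symm h1
  · rintro ⟨HG, HA⟩ P _
    by_cases hu : 𝓕.u ∈ P
    · have hkerP : RingHom.ker φ ≤ P := by
        rw [hker]; exact (Ideal.span_singleton_le_iff_mem _).mpr hu
      haveI : (P.map φ).IsPrime := Ideal.map_isPrime_of_surjective hφ hkerP
      have hcomap : (P.map φ).comap φ = P := by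
        rw [Ideal.comap_map_of_surjective φ hφ, ← RingHom.ker_eq_comap_bot, sup_eq_left]
        exact hkerP
      exact (skLoc_atPrime_iff_of_surjective 1 φ hφ 𝓕.u (u_mem_nonZeroDivisors 𝓕) hker
        (P.map φ) P hcomap.symm).mpr (HG _)
    · have hdisj : Disjoint (Submonoid.powers 𝓕.u : Set 𝓕.extRees) (P : Set 𝓕.extRees) := by
        rw [Set.disjoint_left]
        rintro _ ⟨n, rfl⟩ hn
        exact hu (Ideal.IsPrime.mem_of_pow_mem ‹_› n hn)
      haveI hQ : (P.map (algebraMap 𝓕.extRees A[T;T⁻¹])).IsPrime :=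
        IsLocalization.isPrime_of_isPrime_disjoint (Submonoid.powers 𝓕.u) A[T;T⁻¹] P ‹_› hdisj
      have hcomap : (P.map (algebraMap 𝓕.extRees A[T;T⁻¹])).comap
          (algebraMap 𝓕.extRees A[T;T⁻¹]) = P :=
        IsLocalization.under_map_of_isPrime_disjoint (Submonoid.powers 𝓕.u) A[T;T⁻¹] ‹_› hdisj
      haveI : ((P.map (algebraMap 𝓕.extRees A[T;T⁻¹])).comap (algebraMap A A[T;T⁻¹])).IsPrime :=
        Ideal.comap_isPrime _ _
      rw [skLoc_atPrime_iff_of_isLocalization (Submonoid.powers 𝓕.u)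
        (P.map (algebraMap 𝓕.extRees A[T;T⁻¹])) P hcomap.symm]
      exact skLoc_of_flat_of_isCM_fib 2 A A[T;T⁻¹] _
        (LaurentCM.isCM_fibLocRing_addMonoidAlgebra ℤ A _) _ rfl (HA _)

/-- **`R'` is `(S_2)` iff `G = R'/(u)` is `(S_1)` and `A` is `(S_2)`.** -/
theorem hasS2_extRees_iff (hfg : Algebra.FiniteType A 𝓕.rees) :
    LocCoh.HasSk 2 𝓕.extRees 𝓕.extRees ↔ (LocCoh.HasSk 1 𝓕.Gr 𝓕.Gr ∧ LocCoh.HasSk 2 A A) :=
  hasS2_extRees_iff_aux 𝓕 hfg 𝓕.Gr (Ideal.Quotient.mk (Ideal.span {𝓕.u}))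
    Ideal.Quotient.mk_surjective Ideal.mk_ker

end Main

end Groth.Agent.H71.ExtReesSk
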