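import Mathlib
import Groth.Agent.H71.ExtReesCM2

/-!
# The extended Rees algebra is a UFD iff `A` is and the associated graded ring is a domain
(helper71)
-/

set_option autoImplicit false
set_option linter.style.haveILetI false
set_option linter.unusedSectionVars false

universe u

open LaurentPolynomial IsLocalRing

namespace Groth.Agent.H71.ExtReesUFD

open Groth.Agent.H71 Groth.Agent.H71.ExtRees

section Poly

variable {A : Type u} [CommRing A] [IsDomain A]

/-- a polynomial with `natTrailingDegree = natDegree` is a monomial -/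
theorem eq_monomial_of_natTrailingDegree_eq (F : Polynomial A)
    (h : F.natTrailingDegree = F.natDegree) :
    F = Polynomial.monomial F.natDegree F.leadingCoeff := by
  ext n
  rw [Polynomial.coeff_monomial]
  by_cases hn : F.natDegree = n
  · rw [if_pos hn, ← hn]; rfl
  · rw [if_neg hn]
    rcases lt_or_gt_of_ne hn with h1 | h1
    · exact Polynomial.coeff_eq_zero_of_natDegree_lt h1
    · exact Polynomial.coeff_eq_zero_of_lt_natTrailingDegree (by omega)

/-- over a domain, a divisor of a nonzero monomial is a monomial -/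
theorem eq_monomial_of_mul_eq_monomial {F G : Polynomial A} {a : A} (ha : a ≠ 0) {k : ℕ}
    (h : F * G = Polynomial.monomial k a) : ∃ (b : A) (i : ℕ), F = Polynomial.monomial i b := by
  have hne : Polynomial.monomial k a ≠ 0 := by
    rw [Ne, Polynomial.monomial_eq_zero_iff]; exact ha
  have hF : F ≠ 0 := by rintro rfl; rw [zero_mul] at h; exact hne h.symm
  have hG : G ≠ 0 := by rintro rfl; rw [mul_zero] at h; exact hne h.symm
  have h1 := Polynomial.natDegree_mul hF hG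
  have h2 := Polynomial.natTrailingDegree_mul hF hG
  rw [h, Polynomial.natDegree_monomial_eq k ha] at h1
  rw [h, Polynomial.natTrailingDegree_monomial ha] at h2
  have h3 := Polynomial.natTrailingDegree_le_natDegree F
  have h4 := Polynomial.natTrailingDegree_le_natDegree G
  exact ⟨_, _, eq_monomial_of_natTrailingDegree_eq F (by omega)⟩

/-- over a domain, a divisor of a nonzero Laurent monomial is a monomial -/
theorem eq_C_mul_T_of_mul_eq {f g : A[T;T⁻¹]} {a : A} (ha : a ≠ 0) {m : ℤ}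
    (h : f * g = C a * T m) : ∃ (b : A) (n : ℤ), f = C b * T n := by
  obtain ⟨n₁, F, hF⟩ := f.exists_T_pow
  obtain ⟨n₂, G, hG⟩ := g.exists_T_pow
  set K : ℤ := m + n₁ + n₂ with hK
  set j : ℕ := (-K).toNat with hj
  set k : ℕ := (K + j).toNat with hk
  have hkK : (k : ℤ) = K + j := by omega
  have h1 : Polynomial.toLaurent (F * Polynomial.X ^ j * G) =
      Polynomial.toLaurent (Polynomial.monomial k a) := by
    rw [map_mul, map_mul, hF, hG, Polynomial.toLaurent_X_pow, Polynomial.toLaurent_C_mul_T, hkK]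
    calc f * T (n₁ : ℤ) * T (j : ℤ) * (g * T (n₂ : ℤ))
        = (f * g) * (T (n₁ : ℤ) * T (j : ℤ) * T (n₂ : ℤ)) := by ring
      _ = C a * T (K + j) := by
        rw [h, ← T_add, ← T_add, mul_assoc, ← T_add]
        congr 2
        omega
  have h2 := Polynomial.toLaurent_injective h1
  obtain ⟨b, i, hb⟩ := eq_monomial_of_mul_eq_monomial ha h2
  refine ⟨b, (i : ℤ) - n₁ - j, ?_⟩
  have h3 : f * T (n₁ : ℤ) * T (j : ℤ) = C b * T (i : ℤ) := by
    rw [← hF, ← Polynomial.toLaurent_X_pow, ← map_mul, hb, Polynomial.toLaurent_C_mul_T]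
  calc f = f * T (n₁ : ℤ) * T (j : ℤ) * T (-(n₁ : ℤ) - j) := by
        rw [mul_assoc, mul_assoc, ← T_add, ← T_add]
        rw [show (n₁ : ℤ) + ((j : ℤ) + (-(n₁ : ℤ) - j)) = 0 by ring, T_zero, mul_one]
    _ = C b * T ((i : ℤ) - n₁ - j) := by
        rw [h3, mul_assoc, ← T_add]
        congr 2
        ring

theorem C_mul_T_eq_iff {a b : A} (ha : a ≠ 0) {m n : ℤ} (h : C a * T m = (C b * T n : A[T;T⁻¹])) :
    m = n ∧ a = b := by
  have h1 := congrArg (fun x : A[T;T⁻¹] => x.coeff m) h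
  simp only [coeff_C_mul_T, if_true] at h1
  by_cases hmn : m = n
  · rw [if_pos hmn] at h1
    exact ⟨hmn, h1⟩
  · rw [if_neg hmn] at h1
    exact absurd h1 ha

/-- units of the Laurent polynomial ring over a domain -/
theorem exists_of_isUnit {f : A[T;T⁻¹]} (hf : IsUnit f) :
    ∃ (b : A) (n : ℤ), IsUnit b ∧ f = C b * T n := by
  obtain ⟨v, rfl⟩ := hf
  have h1 : (v : A[T;T⁻¹]) * ((v⁻¹ : (A[T;T⁻¹])ˣ) : A[T;T⁻¹]) = C 1 * T 0 := by
    rw [Units.mul_inv, map_one, T_zero, mul_one]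
  obtain ⟨b, n, hb⟩ := eq_C_mul_T_of_mul_eq one_ne_zero h1
  obtain ⟨b', n', hb'⟩ := eq_C_mul_T_of_mul_eq one_ne_zero ((mul_comm _ _).trans h1)
  refine ⟨b, n, ?_, hb⟩
  rw [hb, hb'] at h1
  have h2 : (C 1 * T 0 : A[T;T⁻¹]) = C (b * b') * T (n + n') := by
    rw [← h1, map_mul, T_add]; ring
  obtain ⟨-, h3⟩ := C_mul_T_eq_iff one_ne_zero h2
  exact IsUnit.of_mul_eq_one b' h3.symm

theorem isUnit_C_mul_T {b : A} (hb : IsUnit b) (n : ℤ) : IsUnit (C b * T n : A[T;T⁻¹]) :=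
  (hb.map C).mul (isUnit_T n)

/-- descent of unique factorization from `A[T;T⁻¹]` to `A` -/
theorem ufd_of_ufd_laurent [IsNoetherianRing A] (h : UniqueFactorizationMonoid A[T;T⁻¹]) :
    UniqueFactorizationMonoid A := by
  haveI hwf : WfDvdMonoid A := inferInstance
  refine @UniqueFactorizationMonoid.mk A _ inferInstance hwf ?_
  intro a
  refine ⟨fun ha => ?_, Prime.irreducible⟩
  have ha0 : a ≠ 0 := ha.ne_zero
  have hirr : Irreducible (C a : A[T;T⁻¹]) := by
    constructor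
    · intro hu
      obtain ⟨b, n, hb, hbn⟩ := exists_of_isUnit hu
      have h1 : (C a * T 0 : A[T;T⁻¹]) = C b * T n := by rw [T_zero, mul_one]; exact hbn
      obtain ⟨-, h2⟩ := C_mul_T_eq_iff ha0 h1
      exact ha.not_isUnit (h2 ▸ hb)
    · intro f g hfg
      have h1 : f * g = C a * T 0 := by rw [T_zero, mul_one]; exact hfg.symm
      obtain ⟨b, n, hb⟩ := eq_C_mul_T_of_mul_eq ha0 h1
      obtain ⟨b', n', hb'⟩ := eq_C_mul_T_of_mul_eq ha0 ((mul_comm _ _).trans h1)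
      rw [hb, hb'] at h1
      have h2 : (C a * T 0 : A[T;T⁻¹]) = C (b * b') * T (n + n') := by
        rw [← h1, map_mul, T_add]; ring
      obtain ⟨-, h3⟩ := C_mul_T_eq_iff ha0 h2
      rcases ha.isUnit_or_isUnit h3 with h4 | h4
      · left; rw [hb]; exact isUnit_C_mul_T h4 n
      · right; rw [hb']; exact isUnit_C_mul_T h4 n'
  have hprime : Prime (C a : A[T;T⁻¹]) := UniqueFactorizationMonoid.irreducible_iff_prime.mp hirr
  refine ⟨ha0, ha.not_isUnit, ?_⟩
  intro x y hxy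
  have h1 : (C a : A[T;T⁻¹]) ∣ C x * C y := by
    rw [← map_mul]; exact map_dvd C hxy
  have key : ∀ z : A, (C a : A[T;T⁻¹]) ∣ C z → a ∣ z := by
    rintro z ⟨w, hw⟩
    refine ⟨w.coeff 0, ?_⟩
    have h2 := congrArg (fun x : A[T;T⁻¹] => x.coeff 0) hw
    rw [show (C a : A[T;T⁻¹]) = AddMonoidAlgebra.single 0 a from rfl,
      AddMonoidAlgebra.coeff_single_zero_mul] at h2
    rw [← h2]
    show z = (C z : A[T;T⁻¹]).coeff 0
    rw [C_apply, if_pos rfl]
  rcases hprime.dvd_or_dvd h1 with h2 | h2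
  · exact Or.inl (key x h2)
  · exact Or.inr (key y h2)

end Poly

section Main

open Groth.Agent.H71.ExtReesCM

variable {A : Type u} [CommRing A] [IsNoetherianRing A] [IsLocalRing A] [IsDomain A]
  (𝓕 : FiltBl.IdealFiltration A) [IsDomain 𝓕.extRees]

theorem u_ne_zero : 𝓕.u ≠ 0 := nonZeroDivisors.ne_zero (u_mem_nonZeroDivisors 𝓕)

theorem u_not_isUnit (hF1 : 𝓕.F 1 ≠ ⊤) : ¬ IsUnit 𝓕.u := by
  rintro ⟨v, hv⟩
  have h1 : (𝓕.u : 𝓕.extRees) * ((v⁻¹ : (𝓕.extRees)ˣ) : 𝓕.extRees) = 1 := by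
    rw [← hv]; exact v.mul_inv
  have h2 := congrArg (fun x : 𝓕.extRees => (x : A[T;T⁻¹])) h1
  simp only [MulMemClass.coe_mul, coe_u, OneMemClass.coe_one] at h2
  -- the inverse is `T 1`
  have h3 : (((v⁻¹ : (𝓕.extRees)ˣ) : 𝓕.extRees) : A[T;T⁻¹]) = T 1 := by
    calc (((v⁻¹ : (𝓕.extRees)ˣ) : 𝓕.extRees) : A[T;T⁻¹])
        = T 1 * (T (-1) * (((v⁻¹ : (𝓕.extRees)ˣ) : 𝓕.extRees) : A[T;T⁻¹])) := by
          rw [← mul_assoc, ← T_add]; simp
      _ = T 1 := by rw [h2, mul_one]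
  have h4 := ((v⁻¹ : (𝓕.extRees)ˣ) : 𝓕.extRees).2 1
  rw [h3, T_apply, if_pos rfl] at h4
  exact hF1 ((Ideal.eq_top_iff_one _).mpr h4)

set_option linter.overlappingInstances false in
/-- if `R'` is a UFD then `u` is a prime element -/
theorem prime_u_of_ufd (hF1 : 𝓕.F 1 ≠ ⊤) [UniqueFactorizationMonoid 𝓕.extRees] :
    Prime 𝓕.u := by
  obtain ⟨π, hπ, hπu⟩ := WfDvdMonoid.exists_irreducible_factor (u_not_isUnit 𝓕 hF1) (u_ne_zero 𝓕)
  have hπp : Prime π := UniqueFactorizationMonoid.irreducible_iff_prime.mp hπ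
  obtain ⟨w, hw⟩ := hπu
  have h1 : (π : A[T;T⁻¹]) * (w : A[T;T⁻¹]) = C 1 * T (-1) := by
    rw [map_one, one_mul, ← coe_u, hw]; rfl
  obtain ⟨b, n, hb⟩ := ExtReesUFD.eq_C_mul_T_of_mul_eq one_ne_zero h1
  obtain ⟨b', n', hb'⟩ := ExtReesUFD.eq_C_mul_T_of_mul_eq one_ne_zero ((mul_comm _ _).trans h1)
  rw [hb, hb'] at h1
  have h2 : (C 1 * T (-1) : A[T;T⁻¹]) = C (b * b') * T (n + n') := by
    rw [← h1, map_mul, T_add]; ring
  obtain ⟨-, h3⟩ := ExtReesUFD.C_mul_T_eq_iff one_ne_zero h2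
  have hbu : IsUnit b := IsUnit.of_mul_eq_one b' h3.symm
  -- `n ≤ 0`
  have hn : n ≤ 0 := by
    by_contra hpos
    have h4 := π.2 n
    rw [hb, coeff_C_mul_T, if_pos rfl] at h4
    have h5 : b ∈ 𝓕.F 1 := 𝓕.antitone (by omega : 1 ≤ n.toNat) h4
    exact hF1 (Ideal.eq_top_of_isUnit_mem _ h5 hbu)
  obtain ⟨k, rfl⟩ : ∃ k : ℕ, n = -(k : ℤ) := ⟨(-n).toNat, by omega⟩
  have h6 : π = algebraMap A 𝓕.extRees b * 𝓕.u ^ k := by
    apply Subtype.ext
    rw [MulMemClass.coe_mul, coe_u_pow, hb]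
    rfl
  have hunit : IsUnit (algebraMap A 𝓕.extRees b) := hbu.map _
  have h7 : Prime (𝓕.u ^ k) := by
    have hassoc : Associated π (𝓕.u ^ k) := by
      rw [h6]
      obtain ⟨v, hv⟩ := hunit
      exact ⟨v⁻¹, by rw [← hv]; rw [mul_comm (v : 𝓕.extRees), mul_assoc, Units.mul_inv, mul_one]⟩
    exact hassoc.prime hπp
  have hk : k = 1 := by
    by_contra hk1
    exact not_prime_pow hk1 h7
  rw [hk, pow_one] at h7
  exact h7

/-- **`R'` is a UFD iff `A` is a UFD and `G` is a domain.** -/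
theorem ufd_extRees_iff (hsep : ⨅ n, 𝓕.F n = ⊥) (hfg : Algebra.FiniteType A 𝓕.rees) :
    UniqueFactorizationMonoid 𝓕.extRees ↔ (UniqueFactorizationMonoid A ∧ IsDomain 𝓕.Gr) := by
  haveI : IsNoetherianRing 𝓕.extRees := isNoetherianRing_extRees 𝓕 hfg
  have hF1 : 𝓕.F 1 ≠ ⊤ := F_one_ne_top 𝓕 hsep
  constructor
  · intro h
    haveI := h
    have hu : Prime 𝓕.u := prime_u_of_ufd 𝓕 hF1
    have hL : UniqueFactorizationMonoid A[T;T⁻¹] :=
      UniqueFactorizationMonoid.of_isLocalization (Submonoid.powers 𝓕.u) A[T;T⁻¹]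
    refine ⟨ExtReesUFD.ufd_of_ufd_laurent hL, ?_⟩
    haveI : (Ideal.span {𝓕.u}).IsPrime := (Ideal.span_singleton_prime (u_ne_zero 𝓕)).mpr hu
    exact Ideal.Quotient.isDomain _
  · rintro ⟨hA, hG⟩
    haveI := hA
    have hprime : (Ideal.span {𝓕.u}).IsPrime := (Ideal.Quotient.isDomain_iff_prime _).mp hG
    have hu : Prime 𝓕.u := (Ideal.span_singleton_prime (u_ne_zero 𝓕)).mp hprime
    rw [UniqueFactorizationMonoid.iff_of_isLocalizationAway_of_prime hu A[T;T⁻¹]]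
    exact UniqueFactorizationMonoid.of_isLocalization
      (Submonoid.powers (Polynomial.X : Polynomial A)) A[T;T⁻¹]

end Main

end Groth.Agent.H71.ExtReesUFD
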