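import Mathlib
import Groth.Prelude.Def_W4bk5brsh16IT
import Groth.Agent.H58.LCBasic

/-!
# `colim_n Ext^i(I^n, -) ≅ H^{i+1}_I` for `i ≥ 1`

via helper58's bridge between Mathlib's projective-resolution `Ext` and `Abelian.Ext`, and the
connecting isomorphisms of `0 → I^n → R → R/I^n → 0`.
-/

open CategoryTheory Limits Opposite
universe u

namespace Groth.Agent.H71.ExtTr
open Groth.Agent.H58.LCBridge Groth.Agent.H58.LC

variable {R : Type u} [CommRing R] (I : Ideal R)

/-- `I^n` as an object of `ModuleCat R`. -/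
noncomputable abbrev P (n : ℕ) : ModuleCat.{u} R := ModuleCat.of R ↥(I ^ n)

/-- the inclusion `I^m → I^n` for `n ≤ m` -/
noncomputable def inc {n m : ℕ} (h : n ≤ m) : P I m ⟶ P I n :=
  ModuleCat.ofHom (Submodule.inclusion (Ideal.pow_le_pow_right h))

/-- the short complex `0 → I^n → R → R/I^n → 0` -/
noncomputable def S (n : ℕ) : ShortComplex (ModuleCat.{u} R) :=
  ShortComplex.mk (X₁ := P I n) (X₂ := ModuleCat.of R R) (X₃ := Q I n)
    (ModuleCat.ofHom (Submodule.subtype (I ^ n))) (ModuleCat.ofHom (Submodule.mkQ (I ^ n)))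
    (by
      refine ModuleCat.hom_ext (LinearMap.ext fun x => ?_)
      exact (Submodule.Quotient.mk_eq_zero _).2 x.2)

lemma S_shortExact (n : ℕ) : (S I n).ShortExact where
  exact := (ShortComplex.ShortExact.moduleCat_exact_iff_function_exact _).2
    (LinearMap.exact_subtype_mkQ (I ^ n))
  mono_f := (ModuleCat.mono_iff_injective _).2 (Submodule.injective_subtype _)
  epi_g := (ModuleCat.epi_iff_surjective _).2 (Submodule.mkQ_surjective _)

/-- the extension class of `0 → I^n → R → R/I^n → 0` -/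
noncomputable def ec (n : ℕ) : Abelian.Ext (Q I n) (P I n) 1 := (S_shortExact I n).extClass

/-- the morphism of short complexes for `n ≤ m` -/
noncomputable def Smap {n m : ℕ} (h : n ≤ m) : S I m ⟶ S I n where
  τ₁ := inc I h
  τ₂ := 𝟙 _
  τ₃ := π I h
  comm₁₂ := by
    refine ModuleCat.hom_ext (LinearMap.ext fun x => ?_)
    rfl
  comm₂₃ := by
    refine ModuleCat.hom_ext (LinearMap.ext fun x => ?_)
    rfl

lemma ec_naturality {n m : ℕ} (h : n ≤ m) :
    (ec I m).comp (Abelian.Ext.mk₀ (inc I h)) (add_zero 1) =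
      (Abelian.Ext.mk₀ (π I h)).comp (ec I n) (zero_add 1) :=
  ShortComplex.ShortExact.extClass_naturality (S_shortExact I m) (S_shortExact I n) (Smap I h)

instance : Projective (ModuleCat.of R R) := by
  exact (IsProjective.iff_projective (R := R) (P := R)).1 inferInstance

variable (i : ℕ) (M : ModuleCat.{u} R)

/-- the connecting map `Ext^i(I^n, M) → Ext^{i+1}(R/I^n, M)` -/
noncomputable def conn (n : ℕ) :
    Abelian.Ext (P I n) M i →ₗ[R] Abelian.Ext (Q I n) M (i + 1) where
  toFun x := (ec I n).comp x (add_comm 1 i)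
  map_add' _ _ := Abelian.Ext.comp_add _ _ _ _
  map_smul' _ _ := Abelian.Ext.comp_smul _ _ _ _

lemma conn_apply (n : ℕ) (x : Abelian.Ext (P I n) M i) :
    conn I i M n x = (ec I n).comp x (add_comm 1 i) := rfl

lemma conn_bijective (n : ℕ) (hi : 1 ≤ i) : Function.Bijective (conn I i M n) := by
  obtain ⟨j, rfl⟩ : ∃ j, i = j + 1 := ⟨i - 1, by omega⟩
  constructor
  · rw [injective_iff_map_eq_zero]
    intro x hx
    obtain ⟨x₂, hx₂⟩ := Abelian.Ext.contravariant_sequence_exact₁ (S_shortExact I n) M x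
      (add_comm 1 (j + 1)) hx
    have : x₂ = 0 := Abelian.Ext.eq_zero_of_projective (P := ModuleCat.of R R) x₂
    rw [← hx₂, this, Abelian.Ext.comp_zero]
    try rfl
  · intro y
    have h0 : (Abelian.Ext.mk₀ (S I n).g).comp y (zero_add (j + 1 + 1)) = 0 :=
      Abelian.Ext.eq_zero_of_projective (P := ModuleCat.of R R) _
    obtain ⟨x₁, hx₁⟩ := Abelian.Ext.contravariant_sequence_exact₃ (S_shortExact I n) M y h0
      (add_comm 1 (j + 1))
    exact ⟨x₁, hx₁⟩

/-- the connecting isomorphism -/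
noncomputable def connEquiv (n : ℕ) (hi : 1 ≤ i) :
    Abelian.Ext (P I n) M i ≃ₗ[R] Abelian.Ext (Q I n) M (i + 1) :=
  LinearEquiv.ofBijective (conn I i M n) (conn_bijective I i M n hi)

lemma conn_nat_right {M M' : ModuleCat.{u} R} (φ : M ⟶ M') (n : ℕ)
    (x : Abelian.Ext (P I n) M i) :
    conn I i M' n (x.comp (Abelian.Ext.mk₀ φ) (add_zero i)) =
      (conn I i M n x).comp (Abelian.Ext.mk₀ φ) (add_zero (i + 1)) := by
  rw [conn_apply, conn_apply]
  exact (Abelian.Ext.comp_assoc_of_third_deg_zero _ _ _ _).symm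

lemma conn_nat_left {n m : ℕ} (h : n ≤ m) (x : Abelian.Ext (P I n) M i) :
    conn I i M m ((Abelian.Ext.mk₀ (inc I h)).comp x (zero_add i)) =
      (Abelian.Ext.mk₀ (π I h)).comp (conn I i M n x) (zero_add (i + 1)) := by
  rw [conn_apply, conn_apply, ← Abelian.Ext.comp_assoc_of_second_deg_zero, ec_naturality,
    Abelian.Ext.comp_assoc (a₁ := 0) (a₂ := 1) (a₃ := i) _ _ _ (zero_add 1) (add_comm 1 i)
      (by omega)]

/-- component equivalence on Mathlib's `Ext` -/
noncomputable def e (n : ℕ) (hi : 1 ≤ i) :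
    ((Ext R (ModuleCat.{u} R) i).obj (op (P I n))).obj M ≃ₗ[R]
      ((Ext R (ModuleCat.{u} R) (i + 1)).obj (op (Q I n))).obj M :=
  (bridge (P I n) M i) ≪≫ₗ connEquiv I i M n hi ≪≫ₗ (bridge (Q I n) M (i + 1)).symm

lemma bridge_e (n : ℕ) (hi : 1 ≤ i) (y : ((Ext R (ModuleCat.{u} R) i).obj (op (P I n))).obj M) :
    bridge (Q I n) M (i + 1) (e I i M n hi y) = conn I i M n (bridge (P I n) M i y) := by
  show bridge (Q I n) M (i + 1) ((bridge (Q I n) M (i + 1)).symm _) = _
  rw [LinearEquiv.apply_symm_apply]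
  rfl

lemma e_nat_right {M M' : ModuleCat.{u} R} (φ : M ⟶ M') (n : ℕ) (hi : 1 ≤ i)
    (y : ((Ext R (ModuleCat.{u} R) i).obj (op (P I n))).obj M) :
    e I i M' n hi ((((Ext R (ModuleCat.{u} R) i).obj (op (P I n))).map φ).hom y) =
      (((Ext R (ModuleCat.{u} R) (i + 1)).obj (op (Q I n))).map φ).hom (e I i M n hi y) := by
  apply (bridge (Q I n) M' (i + 1)).injective
  rw [bridge_e, bridge_map_right, bridge_map_right, bridge_e, conn_nat_right]

lemma e_nat_left {n m : ℕ} (h : n ≤ m) (hi : 1 ≤ i)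
    (y : ((Ext R (ModuleCat.{u} R) i).obj (op (P I n))).obj M) :
    e I i M m hi ((((Ext R (ModuleCat.{u} R) i).map (inc I h).op).app M).hom y) =
      (((Ext R (ModuleCat.{u} R) (i + 1)).map (π I h).op).app M).hom (e I i M n hi y) := by
  apply (bridge (Q I m) M (i + 1)).injective
  rw [bridge_e, bridge_map_left, bridge_map_left, bridge_e, conn_nat_left]

/-- the isomorphism of functors `Ext^i(I^n, -) ≅ Ext^{i+1}(R/I^n, -)` -/
noncomputable def isoObj (n : ℕ) (hi : 1 ≤ i) :
    (Ext R (ModuleCat.{u} R) i).obj (op (P I n)) ≅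
      (Ext R (ModuleCat.{u} R) (i + 1)).obj (op (Q I n)) :=
  NatIso.ofComponents (fun M => (e I i M n hi).toModuleIso) (by
    intro M M' φ
    refine ModuleCat.hom_ext (LinearMap.ext fun y => ?_)
    exact (e_nat_right I i φ n hi y))

/-- the isomorphism of diagrams -/
noncomputable def diagIso (hi : 1 ≤ i) : LocCoh.extTransformDiagram I i ≅ Dg I (i + 1) :=
  NatIso.ofComponents (fun j => isoObj I i j.unop.unop hi) (by
    intro j k f
    obtain ⟨h, rfl⟩ := hom_eq_ixHom f
    ext M y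
    exact (e_nat_left I i M h hi y))

theorem main (hi : 1 ≤ i) :
    Nonempty (LocCoh.extTransform I i ≅ localCohomology I (i + 1)) :=
  ⟨HasColimit.isoOfNatIso (diagIso I i hi)⟩

end Groth.Agent.H71.ExtTr
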