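import Mathlib.RingTheory.DedekindDomain.Ideal.Basic
import Mathlib.RingTheory.IntegralClosure.IntegrallyClosed

/-!
A fractional ideal `J` of an integrally closed domain with `J ^ p = 1` (`p > 0`) is `1`.
-/

set_option autoImplicit false
universe u v

namespace Groth.Agent.H71

open scoped nonZeroDivisors
open Polynomial

theorem fractionalIdeal_eq_one_of_pow_eq_one {A : Type u} {K : Type v} [CommRing A] [IsDomain A]
    [IsIntegrallyClosed A] [Field K] [Algebra A K] [IsFractionRing A K]
    (J : FractionalIdeal A⁰ K) (p : ℕ) (hp : 0 < p) (h : J ^ p = 1) : J = 1 := by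
  have hle : J ≤ 1 := by
    intro x hx
    have hxp : x ^ p ∈ J ^ p := by
      rw [← FractionalIdeal.mem_coe, FractionalIdeal.coe_pow]
      exact Submodule.pow_mem_pow _ hx p
    rw [h, FractionalIdeal.mem_one_iff] at hxp
    obtain ⟨a, ha⟩ := hxp
    have hint : IsIntegral A x := by
      refine ⟨X ^ p - C a, monic_X_pow_sub_C a hp.ne', ?_⟩
      simp [ha]
    obtain ⟨y, hy⟩ := IsIntegrallyClosed.isIntegral_iff.1 hint
    exact (FractionalIdeal.mem_one_iff A⁰).2 ⟨y, hy⟩
  have hge : 1 ≤ J := by
    calc (1 : FractionalIdeal A⁰ K) = J ^ (p - 1) * J := by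
          rw [← pow_succ, Nat.sub_add_cancel hp, h]
      _ ≤ 1 * J := mul_le_mul_left (pow_le_one₀ zero_le hle) J
      _ = J := one_mul J
  exact le_antisymm hle hge

end Groth.Agent.H71
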