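import Mathlib
import Groth.Agent.H79.RegCM
import Groth.Agent.H29.CM2
import Groth.Agent.H59.Goren4
import Groth.Agent.H60.InjLoc
import Groth.Agent.S0342
import Groth.Agent.S0300
import Groth.Agent.H2.Matlis4

/-!
# Frobenius-stable torsion modules over regular local rings, part 1:
the quotients `R ⧸ (x₁^q, …, x_d^q)` are self-injective, and relative injectivity.
-/

set_option autoImplicit false
universe u
open CategoryTheory IsLocalRing

namespace Groth.Agent.H71.FrobInj

variable {R : Type u} [CommRing R]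

/-- the ideal generated by the `q`-th powers of a family -/
def powIdeal {d : ℕ} (x : Fin d → R) (q : ℕ) : Ideal R := Ideal.span (Set.range fun i => x i ^ q)

lemma powIdeal_eq_ofList {d : ℕ} (x : Fin d → R) (q : ℕ) :
    powIdeal x q = Ideal.ofList (List.ofFn fun i => x i ^ q) := by
  unfold powIdeal Ideal.ofList
  congr 1
  ext a
  simp only [Set.mem_range, Set.mem_ofPred_eq, List.mem_ofFn]

lemma pow_mem_powIdeal {d : ℕ} (x : Fin d → R) (q : ℕ) (i : Fin d) : x i ^ q ∈ powIdeal x q :=
  Ideal.subset_span ⟨i, rfl⟩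

lemma powIdeal_one {d : ℕ} (x : Fin d → R) : powIdeal x 1 = Ideal.span (Set.range x) := by
  unfold powIdeal
  congr 1
  ext a
  simp only [pow_one, Set.mem_range]

section reg

variable [IsRegularLocalRing R]

lemma powIdeal_le_pow {d : ℕ} (x : Fin d → R) (hx : Ideal.span (Set.range x) = maximalIdeal R)
    (q : ℕ) : powIdeal x q ≤ maximalIdeal R ^ q := by
  unfold powIdeal
  rw [Ideal.span_le]
  rintro _ ⟨i, rfl⟩
  apply Ideal.pow_mem_pow
  rw [← hx]
  exact Ideal.subset_span ⟨i, rfl⟩

/-- `R ⧸ (x₁^q, …, x_d^q)` is self-injective -/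
theorem injective_quot (d : ℕ) (hd : ringKrullDim R = d) (x : Fin d → R)
    (hx : Ideal.span (Set.range x) = maximalIdeal R) (q : ℕ) (hq : 1 ≤ q) :
    IsNoetherianRing (R ⧸ powIdeal x q) ∧
      Module.Injective (R ⧸ powIdeal x q) (R ⧸ powIdeal x q) := by
  have hCM : LocCoh.IsCohenMacaulayModule R R := Groth.Agent.H79.RegCM.isCM_of_sop R d hd x hx
  set rs : List R := List.ofFn fun i => x i ^ q with hrs
  have hxm : ∀ i, x i ∈ maximalIdeal R := fun i => by
    rw [← hx]; exact Ideal.subset_span ⟨i, rfl⟩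
  have hmem : ∀ r ∈ rs, r ∈ maximalIdeal R := by
    intro r hr
    rw [hrs, List.mem_ofFn] at hr
    obtain ⟨i, rfl⟩ := hr
    exact Ideal.pow_mem_of_mem _ (hxm i) q (by omega)
  have hI : powIdeal x q = Ideal.ofList rs := powIdeal_eq_ofList x q
  have hle : Ideal.ofList rs ≤ maximalIdeal R := by
    unfold Ideal.ofList
    rw [Ideal.span_le]
    intro r hr
    exact hmem r hr
  have hrad : maximalIdeal R ≤ (Ideal.ofList rs).radical := by
    rw [← hx, Ideal.span_le]
    rintro _ ⟨i, rfl⟩
    refine ⟨q, ?_⟩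
    rw [← hI]
    exact pow_mem_powIdeal x q i
  have hdim0 : ringKrullDim (R ⧸ Ideal.ofList rs) = 0 :=
    Groth.Agent.H79.RegCM.ringKrullDim_quotient_eq_zero hle hrad
  have hlen : rs.length = d := List.length_ofFn
  have hdim : Module.supportDim R (R ⧸ (Ideal.ofList rs • (⊤ : Submodule R R))) +
      (rs.length : WithBot ℕ∞) = Module.supportDim R R := by
    have hI2 : Ideal.ofList rs • (⊤ : Submodule R R) = Ideal.ofList rs := by
      rw [smul_eq_mul, Ideal.mul_top]
    rw [Module.supportDim_eq_of_equiv (Submodule.quotEquivOfEq _ _ hI2),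
      Module.supportDim_quotient_eq_ringKrullDim, hdim0, zero_add,
      Module.supportDim_self_eq_ringKrullDim, hd, hlen]
  have hreg := ((Groth.Agent.H29.CM.isWeaklyRegular_iff_of_isCM rs R hCM hmem).1).2 hdim
  have hG : LocCoh.IsGorensteinLocalRing (R ⧸ Ideal.ofList rs) :=
    Groth.Agent.H59.Goren4.gor_quot_of_weaklyRegular d R (Groth.Agent.S0342.result R) rs hlen
      hmem hreg
  rw [hI]
  haveI := hG.toIsLocalRing
  haveI : IsNoetherianRing (R ⧸ Ideal.ofList rs) := inferInstance
  refine ⟨inferInstance, ?_⟩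
  obtain ⟨r, hr1, hr2, -⟩ := Groth.Agent.H60.InjLoc.gor_data (R ⧸ Ideal.ofList rs)
    hG.exists_hasInjectiveDimensionLT
  have hr0 : r = 0 := by
    rw [hdim0] at hr1
    have : ((r : ℕ∞) : WithBot ℕ∞) = 0 := hr1.symm
    exact_mod_cast this
  subst hr0
  haveI : HasInjectiveDimensionLT (ModuleCat.of (R ⧸ Ideal.ofList rs) (R ⧸ Ideal.ofList rs)) 1 :=
    hr2
  haveI : Injective (ModuleCat.of (R ⧸ Ideal.ofList rs) (R ⧸ Ideal.ofList rs)) :=
    injective_iff_hasInjectiveDimensionLT_one.2 inferInstance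
  exact Module.injective_module_of_injective_object _ _

end reg

end Groth.Agent.H71.FrobInj
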