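import Mathlib

/-!
# Frobenius-stable torsion modules, part 2: flat base change of torsion submodules
-/

set_option autoImplicit false
universe u
open TensorProduct

namespace Groth.Agent.H71.FrobInj

section gen

variable {R S : Type u} [CommRing R] [CommRing S] [Algebra R S]
  (M : Type u) [AddCommGroup M] [Module R M] (M' : Type u) [AddCommGroup M'] [Module S M']

lemma mem_torsionBySet_span_range {A : Type*} [CommRing A] {N : Type*} [AddCommGroup N]
    [Module A N] {n : ℕ} (a : Fin n → A) (z : N) :
    z ∈ Submodule.torsionBySet A N (Ideal.span (Set.range a) : Set A) ↔ ∀ i, a i • z = 0 := by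
  rw [← Submodule.torsionBySet_eq_torsionBySet_span, Submodule.mem_torsionBySet_iff]
  constructor
  · intro h i
    exact h ⟨a i, ⟨i, rfl⟩⟩
  · rintro h ⟨_, ⟨i, rfl⟩⟩
    exact h i

/-- the map `m ↦ (aᵢ m)ᵢ` -/
def mulMap {n : ℕ} (a : Fin n → R) : M →ₗ[R] (Fin n → M) :=
  LinearMap.pi fun i => a i • LinearMap.id

lemma mulMap_apply {n : ℕ} (a : Fin n → R) (m : M) (i : Fin n) : mulMap M a m i = a i • m := rfl

lemma exact_mulMap {n : ℕ} (a : Fin n → R) :
    Function.Exact (Submodule.torsionBySet R M (Ideal.span (Set.range a) : Set R)).subtype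
      (mulMap M a) := by
  intro m
  constructor
  · intro h
    have hm : m ∈ Submodule.torsionBySet R M (Ideal.span (Set.range a) : Set R) := by
      rw [mem_torsionBySet_span_range]
      intro i
      exact congrFun h i
    exact ⟨⟨m, hm⟩, rfl⟩
  · rintro ⟨⟨m, hm⟩, rfl⟩
    funext i
    exact (mem_torsionBySet_span_range a m).1 hm i

lemma piRight_lTensor_mulMap {n : ℕ} (a : Fin n → R) (y : S ⊗[R] M) (i : Fin n) :
    TensorProduct.piRight R S S (fun _ : Fin n => M) ((mulMap M a).lTensor S y) i =
      algebraMap R S (a i) • y := by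
  induction y using TensorProduct.induction_on with
  | zero => simp
  | tmul s m =>
    rw [LinearMap.lTensor_tmul, TensorProduct.piRight_apply, TensorProduct.piRightHom_tmul]
    show s ⊗ₜ[R] (a i • m) = _
    rw [TensorProduct.smul_tmul', smul_eq_mul, ← TensorProduct.smul_tmul, Algebra.smul_def]
  | add y z hy hz =>
    rw [map_add, map_add, Pi.add_apply, hy, hz, smul_add]

lemma smul_eq_zero_of_torsion {n : ℕ} (a : Fin n → R)
    (t : S ⊗[R] (Submodule.torsionBySet R M (Ideal.span (Set.range a) : Set R))) (i : Fin n) :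
    algebraMap R S (a i) • t = 0 := by
  induction t using TensorProduct.induction_on with
  | zero => simp
  | tmul s m =>
    rw [TensorProduct.smul_tmul', smul_eq_mul, ← Algebra.smul_def, TensorProduct.smul_tmul]
    have : a i • m = 0 := by
      apply Subtype.ext
      exact (mem_torsionBySet_span_range a (m : M)).1 m.2 i
    rw [this, TensorProduct.tmul_zero]
  | add y z hy hz => rw [smul_add, hy, hz, add_zero]

variable [Module.Flat R S]

/-- the comparison map `S ⊗ M[I] → M'[I S]` -/
noncomputable def cmp (θ : S ⊗[R] M ≃ₗ[S] M') {n : ℕ} (a : Fin n → R) :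
    S ⊗[R] (Submodule.torsionBySet R M (Ideal.span (Set.range a) : Set R)) →ₗ[S] M' :=
  θ.toLinearMap ∘ₗ
    (Submodule.torsionBySet R M (Ideal.span (Set.range a) : Set R)).subtype.baseChange S

lemma cmp_injective (θ : S ⊗[R] M ≃ₗ[S] M') {n : ℕ} (a : Fin n → R) :
    Function.Injective (cmp M M' θ a) := by
  unfold cmp
  rw [LinearMap.coe_comp]
  refine θ.injective.comp ?_
  rw [LinearMap.baseChange_eq_ltensor]
  exact Module.Flat.lTensor_preserves_injective_linearMap _ (Submodule.injective_subtype _)

lemma range_cmp (θ : S ⊗[R] M ≃ₗ[S] M') {n : ℕ} (a : Fin n → R) :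
    LinearMap.range (cmp M M' θ a) =
      Submodule.torsionBySet S M'
        (Ideal.span (Set.range fun i => algebraMap R S (a i)) : Set S) := by
  apply le_antisymm
  · rintro _ ⟨t, rfl⟩
    rw [mem_torsionBySet_span_range]
    intro i
    rw [← map_smul, smul_eq_zero_of_torsion, map_zero]
  · intro z hz
    rw [mem_torsionBySet_span_range] at hz
    have h0 : (mulMap M a).lTensor S (θ.symm z) = 0 := by
      apply (TensorProduct.piRight R S S (fun _ : Fin n => M)).injective
      rw [map_zero]
      funext i
      rw [piRight_lTensor_mulMap, ← map_smul, hz i, map_zero]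
      rfl
    obtain ⟨t, ht⟩ := (Module.Flat.lTensor_exact S (exact_mulMap M a) (θ.symm z)).1 h0
    refine ⟨t, ?_⟩
    show θ ((Submodule.subtype _).baseChange S t) = z
    rw [show ((Submodule.subtype _).baseChange S t : S ⊗[R] M) =
      (Submodule.subtype _).lTensor S t from
        congrFun (LinearMap.baseChange_eq_ltensor _) t, ht, LinearEquiv.apply_symm_apply]

/-- **Flat base change of a free torsion submodule.** -/
theorem step_gen (θ : S ⊗[R] M ≃ₗ[S] M') {n : ℕ} (a : Fin n → R) (J : Type u)
    (e : Submodule.torsionBySet R M (Ideal.span (Set.range a) : Set R) ≃ₗ[R]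
      (J →₀ R ⧸ Ideal.span (Set.range a))) :
    Nonempty (Submodule.torsionBySet S M'
        (Ideal.span (Set.range fun i => algebraMap R S (a i)) : Set S) ≃ₗ[S]
      (J →₀ S ⧸ Ideal.span (Set.range fun i => algebraMap R S (a i)))) := by
  classical
  have e1 : S ⊗[R] (Submodule.torsionBySet R M (Ideal.span (Set.range a) : Set R)) ≃ₗ[S]
      Submodule.torsionBySet S M'
        (Ideal.span (Set.range fun i => algebraMap R S (a i)) : Set S) :=
    (LinearEquiv.ofInjective (cmp M M' θ a) (cmp_injective M M' θ a)).trans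
      (LinearEquiv.ofEq _ _ (range_cmp M M' θ a))
  have e2 := e.baseChange R S
  have e3 := TensorProduct.finsuppRight R S S (R ⧸ Ideal.span (Set.range a)) J
  have hI : (Ideal.span (Set.range a)).map (algebraMap R S) =
      Ideal.span (Set.range fun i => algebraMap R S (a i)) := by
    rw [Ideal.map_span]
    congr 1
    ext s
    simp only [Set.mem_image, Set.mem_range, exists_exists_eq_and]
  have e4 : S ⊗[R] (R ⧸ Ideal.span (Set.range a)) ≃ₗ[S]
      S ⧸ Ideal.span (Set.range fun i => algebraMap R S (a i)) :=
    (Algebra.TensorProduct.quotIdealMapEquivTensorQuot S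
      (Ideal.span (Set.range a))).symm.toLinearEquiv.trans
      (Submodule.quotEquivOfEq _ _ hI)
  exact ⟨e1.symm.trans (e2.trans (e3.trans (Finsupp.mapRange.linearEquiv e4)))⟩

end gen

end Groth.Agent.H71.FrobInj
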