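import Mathlib
import Groth.Agent.H34.KunzReg
import Groth.Agent.H71.FrobInj1
import Groth.Agent.H71.FrobInj2

/-!
# Frobenius-stable torsion modules, part 3: the Frobenius step
-/

set_option autoImplicit false
universe u
open TensorProduct CategoryTheory Groth.Agent.H34.KunzReg

namespace Groth.Agent.H71.FrobInj

variable (p : ℕ) [Fact p.Prime] (R : Type u) [CommRing R] [IsRegularLocalRing R] [CharP R p]
  (M : Type u) [AddCommGroup M] [Module R M]

theorem step_frob
    (θ : (ModuleCat.extendScalars (frobenius R p)).obj (ModuleCat.of R M) ≅ ModuleCat.of R M)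
    {d : ℕ} (x : Fin d → R) (q : ℕ) (J : Type u)
    (e : Submodule.torsionBySet R M (powIdeal x q : Set R) ≃ₗ[R] (J →₀ R ⧸ powIdeal x q)) :
    Nonempty (Submodule.torsionBySet R M (powIdeal x (q * p) : Set R) ≃ₗ[R]
      (J →₀ R ⧸ powIdeal x (q * p))) := by
  have hI : powIdeal x (q * p) = Ideal.span (Set.range fun i => frobenius R p (x i ^ q)) := by
    unfold powIdeal
    congr 1
    ext a
    simp only [Set.mem_range, frobenius_def, pow_mul]
  rw [hI]
  letI : Module (FA R p) M := inferInstanceAs (Module R M)
  haveI : Module.Flat R (FA R p) := flat_of_isRegularLocalRing R p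
  let θ' : FA R p ⊗[R] M ≃ₗ[FA R p] M := θ.toLinearEquiv
  exact step_gen (S := FA R p) M M θ' (fun i => x i ^ q) J e

end Groth.Agent.H71.FrobInj
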