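import Mathlib
import Groth.Prelude.Def_Wider
import Groth.Agent.S0300
import Groth.Agent.H2.Matlis4

/-!
# Frobenius-stable torsion modules, part 4: relative injectivity and Baer's criterion for
power torsion modules
-/

set_option autoImplicit false
universe u
open IsLocalRing

namespace Groth.Agent.H71.FrobInj

variable {R : Type u} [CommRing R]

/-- relative injectivity: maps from ideals killing `𝔞 ⊓ I` are multiplications -/
def RelInj (I : Ideal R) (N : Type u) [AddCommGroup N] [Module R N] : Prop :=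
  ∀ (𝔞 : Ideal R) (g : 𝔞 →ₗ[R] N), (∀ y : 𝔞, (y : R) ∈ I → g y = 0) →
    ∃ w : N, ∀ y : 𝔞, g y = (y : R) • w

lemma relInj_of_equiv {I : Ideal R} {N N' : Type u} [AddCommGroup N] [Module R N]
    [AddCommGroup N'] [Module R N'] (e : N ≃ₗ[R] N') (h : RelInj I N') : RelInj I N := by
  intro 𝔞 g hg
  obtain ⟨w, hw⟩ := h 𝔞 (e.toLinearMap ∘ₗ g) (fun y hy => by
    show e (g y) = 0
    rw [hg y hy, map_zero])
  refine ⟨e.symm w, fun y => ?_⟩
  apply e.injective
  rw [map_smul, e.apply_symm_apply]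
  exact hw y

/-- an injective module over `R ⧸ I` is relatively injective -/
lemma relInj_of_injective (I : Ideal R) (N : Type u) [AddCommGroup N] [Module R N]
    [Module (R ⧸ I) N] [IsScalarTower R (R ⧸ I) N] (h : Module.Injective (R ⧸ I) N) :
    RelInj I N := by
  intro 𝔞 g hg
  set π := Ideal.Quotient.mk I with hπ
  set 𝔟 : Ideal (R ⧸ I) := Ideal.map π 𝔞 with h𝔟
  have hmem : ∀ b : 𝔟, ∃ y : 𝔞, π (y : R) = (b : R ⧸ I) := by
    rintro ⟨b, hb⟩
    obtain ⟨y, hy, hyb⟩ := (Ideal.mem_map_iff_of_surjective π Ideal.Quotient.mk_surjective).1 hb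
    exact ⟨⟨y, hy⟩, hyb⟩
  choose ch hch using hmem
  have key : ∀ (b : 𝔟) (y : 𝔞), π (y : R) = (b : R ⧸ I) → g (ch b) = g y := by
    intro b y hy
    have h1 : ((ch b - y : 𝔞) : R) ∈ I := by
      rw [← Ideal.Quotient.eq_zero_iff_mem]
      show π (((ch b : 𝔞) : R) - (y : R)) = 0
      rw [map_sub, hch b, hy, sub_self]
    have h2 := hg _ h1
    rw [map_sub, sub_eq_zero] at h2
    exact h2
  let gb : 𝔟 →ₗ[R ⧸ I] N :=
    { toFun := fun b => g (ch b)
      map_add' := fun b c => by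
        rw [← map_add]
        apply key
        show π (((ch b : 𝔞) : R) + ((ch c : 𝔞) : R)) = (b : R ⧸ I) + (c : R ⧸ I)
        rw [map_add, hch b, hch c]
      map_smul' := fun l b => by
        obtain ⟨r, rfl⟩ := Ideal.Quotient.mk_surjective l
        show g (ch (π r • b)) = π r • g (ch b)
        have h1 : (π r : R ⧸ I) • g (ch b) = r • g (ch b) := by
          rw [← algebraMap_smul (R ⧸ I) r (g (ch b))]
          rfl
        rw [h1, ← map_smul]
        apply key
        show π (r * ((ch b : 𝔞) : R)) = π r * (b : R ⧸ I)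
        rw [map_mul, hch b] }
  obtain ⟨g', hg'⟩ := Module.Baer.of_injective h 𝔟 gb
  refine ⟨g' 1, fun y => ?_⟩
  have hy𝔟 : π (y : R) ∈ 𝔟 := Ideal.mem_map_of_mem π y.2
  have h1 := hg' (π (y : R)) hy𝔟
  have h2 : gb ⟨π (y : R), hy𝔟⟩ = g y := key ⟨π (y : R), hy𝔟⟩ y rfl
  rw [h2] at h1
  rw [← h1]
  have h3 : π (y : R) = π (y : R) • (1 : R ⧸ I) := by rw [smul_eq_mul, mul_one]
  rw [h3, map_smul, ← algebraMap_smul (R ⧸ I) (y : R) (g' 1)]
  rfl

/-- free modules over a self-injective Noetherian quotient are relatively injective -/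
lemma relInj_finsupp (I : Ideal R) [IsNoetherianRing (R ⧸ I)]
    (h : Module.Injective (R ⧸ I) (R ⧸ I)) (J : Type u) : RelInj I (J →₀ R ⧸ I) := by
  classical
  apply relInj_of_injective
  have h1 : Module.Injective (R ⧸ I) (DirectSum J (fun _ : J => R ⧸ I)) :=
    Groth.Agent.S0300.result (R ⧸ I) (fun _ : J => R ⧸ I) (fun _ => h)
  exact Groth.Agent.H2.Matlis.injective_of_equiv (finsuppLEquivDirectSum (R ⧸ I) (R ⧸ I) J).symm h1

/-- **Baer's criterion for power torsion modules.** -/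
theorem injective_of_relInj [IsNoetherianRing R] [IsLocalRing R] (M : Type u) [AddCommGroup M]
    [Module R M] (hM : LocCoh.IsPowerTorsion (maximalIdeal R) M) (I : ℕ → Ideal R)
    (hI : ∀ n : ℕ, ∃ e : ℕ, I e ≤ maximalIdeal R ^ n)
    (h : ∀ e, RelInj (I e) (Submodule.torsionBySet R M (I e : Set R))) :
    Module.Injective R M := by
  classical
  apply Module.Baer.injective
  intro 𝔞 g
  -- step 1: a uniform exponent killing the image of `g`
  obtain ⟨t, ht⟩ := (isNoetherianRing_iff_ideal_fg R).mp inferInstance 𝔞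
  choose nn hnn using fun y : 𝔞 => hM (g y)
  let a : ℕ := t.sup fun r => if hr : r ∈ 𝔞 then nn ⟨r, hr⟩ else 0
  let K : Submodule R 𝔞 :=
    (Submodule.torsionBySet R M ((maximalIdeal R ^ a : Ideal R) : Set R)).comap g
  have hK : ∀ y : 𝔞, y ∈ K := by
    have h1 : 𝔞 ≤ K.map 𝔞.subtype := by
      refine le_trans (le_of_eq ht.symm) ?_
      rw [Ideal.span_le]
      intro r hr
      have hr𝔞 : r ∈ 𝔞 := by rw [← ht]; exact Ideal.subset_span hr
      refine ⟨⟨r, hr𝔞⟩, ?_, rfl⟩
      show g ⟨r, hr𝔞⟩ ∈ Submodule.torsionBySet R M ((maximalIdeal R ^ a : Ideal R) : Set R)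
      rw [Submodule.mem_torsionBySet_iff]
      rintro ⟨u, hu⟩
      refine hnn ⟨r, hr𝔞⟩ u (Ideal.pow_le_pow_right ?_ hu)
      have := Finset.le_sup (f := fun r => if hr : r ∈ 𝔞 then nn ⟨r, hr⟩ else 0) hr
      simp only [dif_pos hr𝔞] at this
      exact this
    intro y
    obtain ⟨y', hy', hyy⟩ := h1 y.2
    have : y' = y := Subtype.ext hyy
    rw [← this]
    exact hy'
  have hkill : ∀ (y : 𝔞) (u : R), u ∈ maximalIdeal R ^ a → u • g y = 0 := by
    intro y u hu
    have := hK y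
    have h2 : g y ∈ Submodule.torsionBySet R M ((maximalIdeal R ^ a : Ideal R) : Set R) := this
    rw [Submodule.mem_torsionBySet_iff] at h2
    exact h2 ⟨u, hu⟩
  -- step 2: Artin–Rees
  obtain ⟨k, hk⟩ := Ideal.exists_pow_inf_eq_pow_smul (maximalIdeal R) (𝔞 : Submodule R R)
  have hAR : ∀ y : 𝔞, (y : R) ∈ maximalIdeal R ^ (a + k) → g y = 0 := by
    let K2 : Submodule R R := (LinearMap.ker g).map 𝔞.subtype
    have h1 : maximalIdeal R ^ a • (𝔞 : Submodule R R) ≤ K2 := by
      rw [Submodule.smul_le]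
      intro u hu y hy
      refine ⟨u • ⟨y, hy⟩, ?_, rfl⟩
      show g (u • ⟨y, hy⟩) = 0
      rw [map_smul]
      exact hkill ⟨y, hy⟩ u hu
    intro y hy
    have h2 : (y : R) ∈ maximalIdeal R ^ (a + k) • (⊤ : Submodule R R) ⊓ (𝔞 : Submodule R R) := by
      refine ⟨?_, y.2⟩
      rw [smul_eq_mul, Ideal.mul_top]
      exact hy
    rw [hk (a + k) (by omega), Nat.add_sub_cancel] at h2
    have h3 : (y : R) ∈ maximalIdeal R ^ a • (𝔞 : Submodule R R) :=
      Submodule.smul_mono le_rfl inf_le_right h2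
    obtain ⟨y', hy', hyy⟩ := h1 h3
    have : y' = y := Subtype.ext hyy
    rw [← this]
    exact hy'
  -- step 3: choose the level
  obtain ⟨e, he⟩ := hI (a + k)
  have hland : ∀ y : 𝔞, g y ∈ Submodule.torsionBySet R M (I e : Set R) := by
    intro y
    rw [Submodule.mem_torsionBySet_iff]
    rintro ⟨c, hc⟩
    exact hkill y c (Ideal.pow_le_pow_right (Nat.le_add_right a k) (he hc))
  obtain ⟨w, hw⟩ := h e 𝔞 (g.codRestrict _ hland) (fun y hy => by
    apply Subtype.ext
    show g y = 0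
    exact hAR y (he hy))
  refine ⟨LinearMap.toSpanSingleton R M (w : M), fun y hy => ?_⟩
  rw [LinearMap.toSpanSingleton_apply]
  have := congrArg Subtype.val (hw ⟨y, hy⟩)
  exact this.symm

end Groth.Agent.H71.FrobInj
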