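import Groth.Agent.H2.DModTors

/-!
# Frobenius-stable torsion modules, part 5: injective power torsion modules over a Noetherian
local ring are direct sums of copies of the injective hull of the residue field
-/

set_option autoImplicit false
universe u

namespace Groth.Agent.H71.FrobInj

open IsLocalRing

theorem iso_of_injective_torsion {A : Type u} [CommRing A] [IsLocalRing A] [IsNoetherianRing A]
    (E : Type u) [AddCommGroup E] [Module A E] (e : ResidueField A →ₗ[A] E)
    (he : InjHull.IsInjectiveHull e)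
    (M : Type u) [AddCommGroup M] [Module A M]
    (hM : LocCoh.IsPowerTorsion (maximalIdeal A) M) (hinj : Module.Injective A M) :
    ∃ J : Type u, Nonempty (M ≃ₗ[A] (J →₀ E)) := by
  classical
  -- the socle
  let V : Submodule A M := Submodule.torsionBySet A M (maximalIdeal A : Set A)
  letI : Field (A ⧸ maximalIdeal A) := Ideal.Quotient.field (maximalIdeal A)
  let J := Module.Free.ChooseBasisIndex (A ⧸ maximalIdeal A) V
  let b : Module.Basis J (A ⧸ maximalIdeal A) V :=
    Module.Free.chooseBasis (A ⧸ maximalIdeal A) V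
  let ρ : V ≃ₗ[A] (J →₀ (A ⧸ maximalIdeal A)) := b.repr.restrictScalars A
  -- the hull map on `A ⧸ m`
  have hle : maximalIdeal A ≤ LinearMap.ker (LinearMap.toSpanSingleton A E (e 1)) := fun c hc => by
    rw [LinearMap.mem_ker, LinearMap.toSpanSingleton_apply]
    exact Groth.Agent.H2.Matlis.maximalIdeal_smul_f e hc 1
  let e' : (A ⧸ maximalIdeal A) →ₗ[A] E :=
    (maximalIdeal A).liftQ (LinearMap.toSpanSingleton A E (e 1)) hle
  have he'mk : ∀ a : A, e' (Ideal.Quotient.mk (maximalIdeal A) a) = e (residue A a) := by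
    intro a
    show a • e 1 = _
    rw [Groth.Agent.H2.Matlis.smul_f, mul_one]
  have he'inj : Function.Injective e' := by
    rw [injective_iff_map_eq_zero]
    intro q hq
    obtain ⟨a, rfl⟩ := Ideal.Quotient.mk_surjective q
    rw [he'mk] at hq
    have h1 : residue A a = 0 := he.injective (hq.trans (map_zero e).symm)
    rw [Ideal.Quotient.eq_zero_iff_mem]
    exact (residue_eq_zero_iff a).mp h1
  have he'range : ∀ w : E, w ∈ LinearMap.range e → w ∈ LinearMap.range e' := by
    rintro _ ⟨t, rfl⟩
    obtain ⟨a, rfl⟩ := residue_surjective t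
    exact ⟨Ideal.Quotient.mk (maximalIdeal A) a, he'mk a⟩
  let σ : V →ₗ[A] (J →₀ E) := (Finsupp.mapRange.linearMap e') ∘ₗ ρ.toLinearMap
  have hσinj : Function.Injective σ := by
    intro v w hvw
    apply ρ.injective
    exact Finsupp.mapRange_injective e' (map_zero e') he'inj hvw
  -- `J →₀ E` is injective
  have hFinj : Module.Injective A (J →₀ E) := by
    have h1 : Module.Injective A (DirectSum J (fun _ : J => E)) :=
      Groth.Agent.S0300.result A (fun _ : J => E) (fun _ => he.isInjective)
    exact Groth.Agent.H2.Matlis.injective_of_equiv (finsuppLEquivDirectSum A E J).symm h1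
  obtain ⟨φ, hφ⟩ := hFinj.out V.subtype V.subtype_injective σ
  have hφV : ∀ v : V, φ (v : M) = σ v := hφ
  -- `φ` is injective
  have hφinj : Function.Injective φ := by
    rw [injective_iff_map_eq_zero]
    intro z hz
    by_contra hz0
    obtain ⟨a, haz, hkill⟩ := Groth.Agent.H2.Matlis.exists_smul_ne_zero_killed hM z hz0
    have hmem : a • z ∈ V := by
      rw [Submodule.mem_torsionBySet_iff]
      intro c
      exact hkill c.1 c.2
    have h1 : σ ⟨a • z, hmem⟩ = 0 := by
      rw [← hφV ⟨a • z, hmem⟩]
      show φ (a • z) = 0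
      rw [map_smul, hz, smul_zero]
    have h2 : (⟨a • z, hmem⟩ : V) = 0 := hσinj (h1.trans (map_zero σ).symm)
    exact haz (congrArg Subtype.val h2)
  -- the socle of `E`
  have hE := Groth.Agent.S0311.result A E e he
  have hsocE : ∀ w : E, (∀ a ∈ maximalIdeal A, a • w = 0) → w ∈ LinearMap.range e := by
    intro w hw
    by_cases hw0 : w = 0
    · rw [hw0]; exact Submodule.zero_mem _
    have hne : Submodule.span A {w} ≠ ⊥ := by
      rw [Ne, Submodule.span_singleton_eq_bot]; exact hw0
    have hess := he.essential (Submodule.span A {w}) hne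
    obtain ⟨y, hy, hy0⟩ := (Submodule.ne_bot_iff _).mp hess
    obtain ⟨hy1, hy2⟩ := Submodule.mem_inf.mp hy
    obtain ⟨a, rfl⟩ := Submodule.mem_span_singleton.mp hy1
    have hau : IsUnit a := by
      by_contra hnu
      exact hy0 (hw a ((mem_maximalIdeal a).mpr hnu))
    obtain ⟨u, rfl⟩ := hau
    have h1 : w = ((u⁻¹ : Aˣ) : A) • ((u : A) • w) := by
      rw [smul_smul, Units.inv_mul, one_smul]
    rw [h1]
    exact Submodule.smul_mem _ _ hy2
  -- the range of `φ`
  set N : Submodule A (J →₀ E) := LinearMap.range φ with hN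
  have hsocF : ∀ y : J →₀ E, (∀ a ∈ maximalIdeal A, a • y = 0) → y ∈ N := by
    intro y hy
    have h1 : y ∈ LinearMap.range (Finsupp.mapRange.linearMap (α := J) e') := by
      rw [← Finsupp.sum_single y]
      apply Submodule.sum_mem
      intro j _
      have h2 : y j ∈ LinearMap.range e' := he'range _ (hsocE (y j) (fun a ha => by
        have := congrArg (fun f : J →₀ E => f j) (hy a ha)
        simpa using this))
      obtain ⟨c, hc⟩ := h2
      refine ⟨Finsupp.single j c, ?_⟩
      rw [Finsupp.mapRange.linearMap_apply, Finsupp.mapRange_single, hc]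
    obtain ⟨c, hc⟩ := h1
    refine ⟨((ρ.symm c : V) : M), ?_⟩
    rw [hφV]
    show Finsupp.mapRange.linearMap e' (ρ (ρ.symm c)) = y
    rw [LinearEquiv.apply_symm_apply, hc]
  -- `J →₀ E` is power torsion
  have hF : LocCoh.IsPowerTorsion (maximalIdeal A) (J →₀ E) := by
    intro c
    induction c using Finsupp.induction_linear with
    | zero => exact ⟨0, fun a _ => smul_zero a⟩
    | add c c' hc hc' =>
      obtain ⟨n, hn⟩ := hc
      obtain ⟨n', hn'⟩ := hc'
      refine ⟨max n n', fun a ha => ?_⟩
      rw [smul_add, hn a (Ideal.pow_le_pow_right (le_max_left n n') ha),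
        hn' a (Ideal.pow_le_pow_right (le_max_right n n') ha), add_zero]
    | single j w =>
      obtain ⟨n, hn⟩ := hE w
      refine ⟨n, fun a ha => ?_⟩
      rw [Finsupp.smul_single, hn a ha, Finsupp.single_zero]
  -- a retraction of `φ`
  obtain ⟨ψ, hψ⟩ := hinj.out φ hφinj LinearMap.id
  have hψ' : ∀ z : M, ψ (φ z) = z := hψ
  have hφsurj : Function.Surjective φ := by
    intro y
    by_cases hc0 : y - φ (ψ y) = 0
    · exact ⟨ψ y, (sub_eq_zero.1 hc0).symm⟩
    exfalso
    have hc : ψ (y - φ (ψ y)) = 0 := by rw [map_sub, hψ', sub_self]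
    obtain ⟨a, hac, hkill⟩ := Groth.Agent.H2.Matlis.exists_smul_ne_zero_killed hF _ hc0
    obtain ⟨z, hz⟩ := hsocF _ (fun b hb => hkill b hb)
    have hz0 : z = 0 := by rw [← hψ' z, hz, map_smul, hc, smul_zero]
    apply hac
    rw [← hz, hz0, map_zero]
  exact ⟨J, ⟨LinearEquiv.ofBijective φ ⟨hφinj, hφsurj⟩⟩⟩

end Groth.Agent.H71.FrobInj
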