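import Mathlib
import Groth.Agent.H71.GD3

/-!
# `Ext¹(M, M) ≃ Hom(M*, O/c)` for a torsion-free "algebra-like" module over a one-dimensional
Gorenstein local domain
-/

set_option autoImplicit false
universe u

namespace Groth.Agent.H71.GD

open CategoryTheory

section abstract

variable (O : Type u) [CommRing O] [IsDomain O] [LocCoh.IsGorensteinLocalRing O]
  (hdim : ringKrullDim O = 1)

variable (M : Type u) [AddCommGroup M] [Module O M] [Module.Finite O M] [NoZeroSMulDivisors O M]

include hdim in
/-- the dual of a presentation is short exact -/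
theorem dual_exact {r : ℕ} (g : (Fin r → O) →ₗ[O] M) (hg : Function.Surjective g) :
    Function.Injective (LinearMap.lcomp O O g) ∧
      Function.Surjective (LinearMap.lcomp O O (LinearMap.ker g).subtype) ∧
      Function.Exact (LinearMap.lcomp O O g) (LinearMap.lcomp O O (LinearMap.ker g).subtype) := by
  set f := (LinearMap.ker g).subtype with hf
  have hfinj : Function.Injective f := Submodule.injective_subtype _
  have hfg : Function.Exact f g := LinearMap.exact_subtype_ker_map g
  refine ⟨?_, ?_, ?_⟩
  · intro φ φ' h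
    refine LinearMap.ext fun y => ?_
    obtain ⟨v, rfl⟩ := hg y
    exact LinearMap.congr_fun h v
  · intro φ
    obtain ⟨ψ, hψ⟩ := exists_extension f g hfinj hg hfg (ext_van O hdim M 1 le_rfl) φ
    exact ⟨ψ, hψ⟩
  · intro ψ
    constructor
    · intro h
      have hle : LinearMap.ker g ≤ LinearMap.ker ψ := by
        intro v hv
        have := LinearMap.congr_fun h ⟨v, hv⟩
        exact this
      refine ⟨(LinearMap.ker g).liftQ ψ hle ∘ₗ (g.quotKerEquivOfSurjective hg).symm.toLinearMap, ?_⟩
      refine LinearMap.ext fun v => ?_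
      show (LinearMap.ker g).liftQ ψ hle ((g.quotKerEquivOfSurjective hg).symm (g v)) = ψ v
      have : (g.quotKerEquivOfSurjective hg).symm (g v) = Submodule.Quotient.mk v := by
        rw [LinearEquiv.symm_apply_eq]
        rfl
      rw [this]
      rfl
    · rintro ⟨φ, rfl⟩
      refine LinearMap.ext fun v => ?_
      show φ (g (v : Fin r → O)) = 0
      have : g (v : Fin r → O) = 0 := v.2
      rw [this, map_zero]

/-- `Ext¹(X, Hom(O^r, O)) = 0` from `Ext¹(X, O) = 0` -/
theorem ext_van_dual_free (X : Type u) [AddCommGroup X] [Module O X] (r : ℕ)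
    (h : Subsingleton (Abelian.Ext (ModuleCat.of O X) (ModuleCat.of O O) 1)) :
    Subsingleton (Abelian.Ext (ModuleCat.of O X) (ModuleCat.of O ((Fin r → O) →ₗ[O] O)) 1) := by
  classical
  refine subsingleton_ext_of_decomp (ι := Fin r)
    (fun j => ModuleCat.ofHom (LinearMap.applyₗ (fun j' => if j = j' then (1 : O) else 0)))
    (fun j => ModuleCat.ofHom (LinearMap.toSpanSingleton O ((Fin r → O) →ₗ[O] O)
      (LinearMap.proj j))) ?_ h
  apply ModuleCat.hom_ext
  refine LinearMap.ext fun ψ => ?_
  refine LinearMap.ext fun v => ?_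
  rw [ModuleCat.hom_sum, LinearMap.sum_apply, LinearMap.sum_apply]
  show ∑ j, (ψ (fun j' => if j = j' then (1 : O) else 0) •
    (LinearMap.proj j : (Fin r → O) →ₗ[O] O)) v = ψ v
  rw [LinearMap.pi_apply_eq_sum_univ ψ v]
  refine Finset.sum_congr rfl fun j _ => ?_
  rw [LinearMap.smul_apply, LinearMap.proj_apply, smul_eq_mul, smul_eq_mul, mul_comm]

end abstract

end Groth.Agent.H71.GD
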