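import Mathlib
import Groth.Agent.H71.GD4

/-!
# The main duality computation
-/

set_option autoImplicit false
universe u

namespace Groth.Agent.H71.GD

open CategoryTheory

section abstract

variable (O : Type u) [CommRing O] [IsDomain O] [LocCoh.IsGorensteinLocalRing O]
  (hdim : ringKrullDim O = 1)

variable (M : Type u) [AddCommGroup M] [Module O M] [Module.Finite O M] [NoZeroSMulDivisors O M]

include hdim in
theorem main_abstract (one : M) (L : M → (M →ₗ[O] M)) (hL : ∀ y, L y one = y)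
    (hsep : ∀ y : M, y ≠ 0 → ∃ φ : M →ₗ[O] O, φ y ≠ 0)
    (hev₁ : Function.Injective (LinearMap.applyₗ one : (M →ₗ[O] O) →ₗ[O] O)) :
    Nonempty (Abelian.Ext (ModuleCat.of O M) (ModuleCat.of O M) 1 ≃ₗ[O]
      ((M →ₗ[O] O) →ₗ[O]
        (O ⧸ LinearMap.range (LinearMap.applyₗ one : (M →ₗ[O] O) →ₗ[O] O)))) := by
  classical
  obtain ⟨r, g, hg⟩ := Module.Finite.exists_fin' O M
  obtain ⟨hDginj, hDfsurj, hDex⟩ := dual_exact O hdim M g hg
  set f := (LinearMap.ker g).subtype with hf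
  have hfinj : Function.Injective f := Submodule.injective_subtype _
  have hfg : Function.Exact f g := LinearMap.exact_subtype_ker_map g
  set Dg : (M →ₗ[O] O) →ₗ[O] ((Fin r → O) →ₗ[O] O) := LinearMap.lcomp O O g with hDg
  set Df : ((Fin r → O) →ₗ[O] O) →ₗ[O] (LinearMap.ker g →ₗ[O] O) := LinearMap.lcomp O O f with hDf
  haveI : NoZeroSMulDivisors O (M →ₗ[O] O) := noZeroSMulDivisors_dual O _
  -- reflexivity
  have hρbij : Function.Bijective (LinearMap.applyₗ : M →ₗ[O] (M →ₗ[O] O) →ₗ[O] O) := by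
    constructor
    · rw [← LinearMap.ker_eq_bot, eq_bot_iff]
      intro y hy
      rw [Submodule.mem_bot]
      by_contra hy0
      obtain ⟨φ, hφ⟩ := hsep y hy0
      exact hφ (LinearMap.congr_fun hy φ)
    · intro ξ
      obtain ⟨y, hy⟩ := exists_eval O hdim M ξ
      refine ⟨y, LinearMap.ext fun φ => ?_⟩
      exact (hy φ).symm
  let ρ : M ≃ₗ[O] ((M →ₗ[O] O) →ₗ[O] O) := LinearEquiv.ofBijective _ hρbij
  have hρ : ∀ y φ, ρ y φ = φ y := fun y φ => rfl
  have hρs : ∀ (ξ : (M →ₗ[O] O) →ₗ[O] O) (φ : M →ₗ[O] O), φ (ρ.symm ξ) = ξ φ := by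
    intro ξ φ
    rw [← hρ, LinearEquiv.apply_symm_apply]
  -- the swap equivalences
  have Ψ : ∀ (X : Type u) [AddCommGroup X] [Module O X],
      ∃ e : (X →ₗ[O] M) ≃ₗ[O] ((M →ₗ[O] O) →ₗ[O] (X →ₗ[O] O)),
        ∀ (g' : X →ₗ[O] M) (φ : M →ₗ[O] O), e g' φ = φ ∘ₗ g' := by
    intro X _ _
    refine ⟨
      { toFun := fun g' => LinearMap.lcomp O O g'
        map_add' := fun a b => by
          refine LinearMap.ext fun φ => LinearMap.ext fun x => ?_
          show φ (a x + b x) = φ (a x) + φ (b x)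
          rw [map_add]
        map_smul' := fun c a => by
          refine LinearMap.ext fun φ => LinearMap.ext fun x => ?_
          show φ (c • a x) = c • φ (a x)
          rw [map_smul]
        invFun := fun T => ρ.symm.toLinearMap ∘ₗ T.flip
        left_inv := fun g' => by
          refine LinearMap.ext fun x => ?_
          show ρ.symm ((LinearMap.lcomp O O g').flip x) = g' x
          rw [LinearEquiv.symm_apply_eq]
          refine LinearMap.ext fun φ => ?_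
          rfl
        right_inv := fun T => by
          refine LinearMap.ext fun φ => LinearMap.ext fun x => ?_
          show φ (ρ.symm (T.flip x)) = T φ x
          rw [hρs]
          rfl }, fun g' φ => rfl⟩
  obtain ⟨ΨK, hΨK⟩ := Ψ (LinearMap.ker g)
  obtain ⟨ΨF, hΨF⟩ := Ψ (Fin r → O)
  -- E1
  obtain ⟨E1⟩ := ext_one_equiv_contra (N := M) f g hfinj hg hfg
  -- E2
  have hmap : Submodule.map ΨK.toLinearMap (LinearMap.range (LinearMap.lcomp O M f)) =
      LinearMap.range (LinearMap.compRight O Df :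
        ((M →ₗ[O] O) →ₗ[O] ((Fin r → O) →ₗ[O] O)) →ₗ[O] _) := by
    apply le_antisymm
    · rintro _ ⟨_, ⟨ψ, rfl⟩, rfl⟩
      refine ⟨ΨF ψ, ?_⟩
      refine LinearMap.ext fun φ => ?_
      show Df (ΨF ψ φ) = ΨK (ψ ∘ₗ f) φ
      rw [hΨF, hΨK]
      rfl
    · rintro _ ⟨T, rfl⟩
      obtain ⟨ψ, rfl⟩ := ΨF.surjective T
      refine ⟨ψ ∘ₗ f, ⟨ψ, rfl⟩, ?_⟩
      refine LinearMap.ext fun φ => ?_
      show ΨK (ψ ∘ₗ f) φ = Df (ΨF ψ φ)
      rw [hΨF, hΨK]
      rfl
  -- E3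
  obtain ⟨E3⟩ := ext_one_equiv_cov (X := (M →ₗ[O] O)) Dg Df hDginj hDfsurj hDex
    (ext_van_dual_free O _ r (ext_van O hdim (M →ₗ[O] O) 1 le_rfl))
  -- E2 combined with E3
  let Θ₂ : (LinearMap.ker g →ₗ[O] M) →ₗ[O]
      Abelian.Ext (ModuleCat.of O (M →ₗ[O] O)) (ModuleCat.of O (M →ₗ[O] O)) 1 :=
    E3.symm.toLinearMap ∘ₗ (Submodule.mkQ _) ∘ₗ ΨK.toLinearMap
  have hΘ₂surj : Function.Surjective Θ₂ :=
    E3.symm.surjective.comp ((Submodule.mkQ_surjective _).comp ΨK.surjective)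
  have hΘ₂ker : LinearMap.ker Θ₂ = LinearMap.range (LinearMap.lcomp O M f) := by
    ext x
    rw [LinearMap.mem_ker]
    show E3.symm (Submodule.Quotient.mk (ΨK x)) = 0 ↔ _
    rw [LinearEquiv.map_eq_zero_iff, Submodule.Quotient.mk_eq_zero, ← hmap]
    constructor
    · rintro ⟨x', hx', hxx⟩
      have := ΨK.injective hxx
      rw [← this]
      exact hx'
    · intro h
      exact ⟨x, h, rfl⟩
  let E23 := (Submodule.quotEquivOfEq _ _ hΘ₂ker.symm).trans
    (LinearMap.quotKerEquivOfSurjective Θ₂ hΘ₂surj)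
  -- E5
  set ev₁ : (M →ₗ[O] O) →ₗ[O] O := LinearMap.applyₗ one with hev
  obtain ⟨E5⟩ := ext_one_equiv_cov (X := (M →ₗ[O] O)) ev₁ (LinearMap.range ev₁).mkQ hev₁
    (Submodule.mkQ_surjective _) ev₁.exact_map_mkQ_range
    (ext_van O hdim (M →ₗ[O] O) 1 le_rfl)
  -- S7
  have hbot : LinearMap.range (LinearMap.compRight O (LinearMap.range ev₁).mkQ :
      ((M →ₗ[O] O) →ₗ[O] O) →ₗ[O] _) = ⊥ := by
    rw [eq_bot_iff]
    rintro _ ⟨ξ, rfl⟩
    rw [Submodule.mem_bot]
    refine LinearMap.ext fun φ => ?_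
    show Submodule.Quotient.mk (ξ φ) = 0
    rw [Submodule.Quotient.mk_eq_zero]
    obtain ⟨y, hy⟩ := exists_eval O hdim M ξ
    refine ⟨φ ∘ₗ L y, ?_⟩
    show φ (L y one) = ξ φ
    rw [hL, hy]
  exact ⟨E1.trans (E23.trans (E5.trans (Submodule.quotEquivOfEqBot _ hbot)))⟩

end abstract

end Groth.Agent.H71.GD
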