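import Mathlib
import Groth.Agent.H71.GD5

/-!
# Overrings of a one-dimensional Gorenstein local domain: the fractional-ideal bookkeeping
-/

set_option autoImplicit false
universe u

namespace Groth.Agent.H71.GD

open CategoryTheory

section frac

variable {O : Type u} [CommRing O] [IsDomain O] {K : Type u} [Field K] [Algebra O K]
  [IsFractionRing O K] (M : Subalgebra O K)

/-- `O ≃ 1 ⊆ K` -/
noncomputable def e1 (O : Type u) [CommRing O] [IsDomain O] (K : Type u) [Field K] [Algebra O K]
    [IsFractionRing O K] : O ≃ₗ[O] ↥(1 : Submodule O K) :=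
  (LinearEquiv.ofInjective (Algebra.linearMap O K) (IsFractionRing.injective O K)).trans
    (LinearEquiv.ofEq _ _ Submodule.one_eq_range.symm)

lemma e1_coe (a : O) : ((e1 O K a : ↥(1 : Submodule O K)) : K) = algebraMap O K a := rfl

lemma e1_symm_spec (z : ↥(1 : Submodule O K)) : algebraMap O K ((e1 O K).symm z) = (z : K) := by
  rw [← e1_coe, LinearEquiv.apply_symm_apply]

/-- every functional on `M` is multiplication by its value at `1` -/
lemma functional_eq (φ : ↥M →ₗ[O] O) (y : ↥M) :
    algebraMap O K (φ y) = algebraMap O K (φ 1) * (y : K) := by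
  obtain ⟨b, a, ha⟩ := IsLocalization.exists_integer_multiple (nonZeroDivisors O) (y : K)
  have hb0 : algebraMap O K (b : O) ≠ 0 := by
    intro h
    have := (IsFractionRing.injective O K) (h.trans (map_zero _).symm)
    exact nonZeroDivisors.ne_zero b.2 this
  have h1 : (b : O) • y = a • (1 : ↥M) := by
    apply Subtype.ext
    show (b : O) • (y : K) = a • (1 : K)
    rw [Algebra.smul_def a, mul_one]
    exact ha.symm
  have h2 : (b : O) * φ y = a * φ 1 := by
    have := congrArg φ h1
    rwa [map_smul, map_smul, smul_eq_mul, smul_eq_mul] at this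
  have h3 := congrArg (algebraMap O K) h2
  rw [map_mul, map_mul, ha, Algebra.smul_def] at h3
  apply mul_left_cancel₀ hb0
  rw [h3]
  ring

/-- multiplication by an element of `1 / M`, as a functional on `M` -/
noncomputable def mulFun (x : K) (hx : x ∈ (1 : Submodule O K) / Subalgebra.toSubmodule M) :
    ↥M →ₗ[O] O :=
  (e1 O K).symm.toLinearMap ∘ₗ
    ({ toFun := fun y => ⟨x * (y : K), (Submodule.mem_div_iff_forall_mul_mem.1 hx) y
          ((Subalgebra.mem_toSubmodule M).2 y.2)⟩
       map_add' := fun y z => by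
        apply Subtype.ext
        show x * ((y : K) + (z : K)) = x * y + x * z
        rw [mul_add]
       map_smul' := fun c y => by
        apply Subtype.ext
        show x * (c • (y : K)) = c • (x * (y : K))
        rw [mul_smul_comm] } : ↥M →ₗ[O] ↥(1 : Submodule O K))

lemma mulFun_spec (x : K) (hx : x ∈ (1 : Submodule O K) / Subalgebra.toSubmodule M) (y : ↥M) :
    algebraMap O K (mulFun M x hx y) = x * (y : K) := by
  unfold mulFun
  rw [LinearMap.comp_apply]
  exact e1_symm_spec _

lemma value_mem (φ : ↥M →ₗ[O] O) :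
    algebraMap O K (φ 1) ∈ (1 : Submodule O K) / Subalgebra.toSubmodule M := by
  rw [Submodule.mem_div_iff_forall_mul_mem]
  intro y hy
  rw [Submodule.mem_one]
  refine ⟨φ ⟨y, (Subalgebra.mem_toSubmodule M).1 hy⟩, ?_⟩
  rw [functional_eq M φ ⟨y, (Subalgebra.mem_toSubmodule M).1 hy⟩]

/-- the dual of `M` is `1 / M` -/
noncomputable def dualEquiv :
    (↥M →ₗ[O] O) ≃ₗ[O] ↥((1 : Submodule O K) / Subalgebra.toSubmodule M) := by
  refine LinearEquiv.ofBijective
    ((Algebra.linearMap O K ∘ₗ (LinearMap.applyₗ (1 : ↥M) : (↥M →ₗ[O] O) →ₗ[O] O)).codRestrict _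
      (fun φ => value_mem M φ)) ⟨?_, ?_⟩
  · intro φ φ' h
    have h1 : algebraMap O K (φ 1) = algebraMap O K (φ' 1) := congrArg Subtype.val h
    refine LinearMap.ext fun y => ?_
    apply IsFractionRing.injective O K
    rw [functional_eq M φ y, functional_eq M φ' y, h1]
  · rintro ⟨x, hx⟩
    refine ⟨mulFun M x hx, ?_⟩
    apply Subtype.ext
    show algebraMap O K (mulFun M x hx 1) = x
    rw [mulFun_spec]
    show x * (1 : K) = x
    rw [mul_one]

lemma dualEquiv_coe (φ : ↥M →ₗ[O] O) : ((dualEquiv M φ : ↥((1 : Submodule O K) /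
    Subalgebra.toSubmodule M)) : K) = algebraMap O K (φ 1) := rfl

lemma range_ev (M : Subalgebra O K) :
    LinearMap.range (LinearMap.applyₗ (1 : ↥M) : (↥M →ₗ[O] O) →ₗ[O] O) =
      Submodule.comap (Algebra.linearMap O K)
        ((1 : Submodule O K) / Subalgebra.toSubmodule M) := by
  ext c
  rw [LinearMap.mem_range, Submodule.mem_comap]
  constructor
  · rintro ⟨φ, rfl⟩
    exact value_mem M φ
  · intro hc
    refine ⟨mulFun M _ hc, ?_⟩
    apply IsFractionRing.injective O K
    show algebraMap O K (mulFun M _ hc 1) = algebraMap O K c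
    rw [mulFun_spec]
    show algebraMap O K c * (1 : K) = _
    rw [mul_one]

end frac

end Groth.Agent.H71.GD
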