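import Mathlib
import Groth.Agent.H60.Bass
import Groth.Agent.H26.DepthLib
import Groth.Agent.H29.CM
import Groth.Agent.H71.GD1

/-!
# A canonical module `W` over a one-dimensional Noetherian local domain: Bass-type facts
-/

set_option autoImplicit false
universe u

namespace Groth.Agent.H71.GW

open CategoryTheory Abelian
open Groth.Agent.H72.AB (kk)

variable (O : Type u) [CommRing O] [IsDomain O] [IsNoetherianRing O] [IsLocalRing O]
  (hdim : ringKrullDim O = 1)

include hdim in
/-- torsion-free nonzero finite modules have depth at least one -/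
theorem one_le_depth (X : Type u) [AddCommGroup X] [Module O X] [Module.Finite O X]
    [NoZeroSMulDivisors O X] [Nontrivial X] (t : ℕ) (ht : LocCoh.depth O X = (t : ℕ∞)) :
    1 ≤ t := by
  have hm : IsLocalRing.maximalIdeal O ≠ ⊥ := by
    intro h
    have hF : IsField O := IsLocalRing.isField_iff_maximalIdeal_eq.mpr h
    have h0 := ringKrullDim_eq_zero_of_isField hF
    rw [hdim] at h0
    exact one_ne_zero h0
  obtain ⟨x, hxm, hx0⟩ := Submodule.exists_mem_ne_zero_of_ne_bot hm
  have hreg : IsSMulRegular X x := smul_right_injective X hx0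
  have hW : RingTheory.Sequence.IsWeaklyRegular X [x] :=
    (RingTheory.Sequence.isWeaklyRegular_cons_iff X x []).2
      ⟨hreg, RingTheory.Sequence.IsWeaklyRegular.nil O _⟩
  have h1 := Groth.Agent.H26.DepthLib.length_le_idealDepth (IsLocalRing.maximalIdeal O) hW
    (fun r hr => by rw [List.mem_singleton] at hr; rw [hr]; exact hxm)
  rw [show LocCoh.idealDepth (IsLocalRing.maximalIdeal O) X = (t : ℕ∞) from ht] at h1
  exact_mod_cast h1

variable (W : Type u) [AddCommGroup W] [Module O W] [Module.Finite O W]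
  [NoZeroSMulDivisors O W] [Nontrivial W]
  (hinj : HasInjectiveDimensionLT (ModuleCat.of O W) 2)

include hdim hinj in
/-- the Bass data of `W`: injective dimension exactly one -/
theorem bass_data :
    (∀ (X : ModuleCat.{u} O) (i : ℕ), 1 < i → ∀ z : Ext X (ModuleCat.of O W) i, z = 0) ∧
      ∃ z : Ext (kk O) (ModuleCat.of O W) 1, z ≠ 0 := by
  haveI : Nontrivial (ModuleCat.of O W) := inferInstanceAs (Nontrivial W)
  obtain ⟨r, hr1, hr2⟩ := Groth.Agent.H60.Bass.exists_r (ModuleCat.of O W) ⟨2, hinj⟩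
  have hr : r ≤ 1 := by
    by_contra hlt
    obtain ⟨z, hz⟩ := hr2
    exact hz (z.eq_zero_of_hasInjectiveDimensionLT 2 (by omega))
  obtain ⟨t, ht⟩ := Groth.Agent.H29.CM.exists_nat_depth (A := O) (M := W)
  obtain ⟨htr, -, -⟩ := Groth.Agent.H60.Bass.F2 (ModuleCat.of O W) r hr1 hr2 t W ht
  have ht1 := one_le_depth O hdim W t ht
  have hr' : r = 1 := by omega
  subst hr'
  exact ⟨hr1, hr2⟩

include hdim hinj in
/-- `Ext^i(X, W) = 0` for `i ≥ 1` and `X` torsion-free -/
theorem ext_van_W (X : Type u) [AddCommGroup X] [Module O X] [Module.Finite O X]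
    [NoZeroSMulDivisors O X] (i : ℕ) (hi : 1 ≤ i) :
    Subsingleton (Ext (ModuleCat.of O X) (ModuleCat.of O W) i) := by
  obtain ⟨hr1, hr2⟩ := bass_data O hdim W hinj
  by_cases hM : Subsingleton X
  · exact ⟨fun a b => by
      rw [Groth.Agent.S0339.ext_eq_zero_of_isZero_src (ModuleCat.isZero_of_subsingleton _) a,
        Groth.Agent.S0339.ext_eq_zero_of_isZero_src (ModuleCat.isZero_of_subsingleton _) b]⟩
  · haveI : Nontrivial X := not_subsingleton_iff_nontrivial.mp hM
    obtain ⟨t, ht⟩ := Groth.Agent.H29.CM.exists_nat_depth (A := O) (M := X)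
    obtain ⟨htr, -, hvan⟩ := Groth.Agent.H60.Bass.F2 (ModuleCat.of O W) 1 hr1 hr2 t X ht
    have ht1 := one_le_depth O hdim X t ht
    refine ⟨fun a b => ?_⟩
    rw [hvan i (by omega) a, hvan i (by omega) b]

include hdim hinj in
/-- nonzero torsion-free finite modules have nonzero maps to `W` -/
theorem hom_ne_zero (X : Type u) [AddCommGroup X] [Module O X] [Module.Finite O X]
    [NoZeroSMulDivisors O X] [Nontrivial X] : ∃ φ : X →ₗ[O] W, φ ≠ 0 := by
  obtain ⟨hr1, hr2⟩ := bass_data O hdim W hinj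
  obtain ⟨t, ht⟩ := Groth.Agent.H29.CM.exists_nat_depth (A := O) (M := X)
  obtain ⟨htr, hex, -⟩ := Groth.Agent.H60.Bass.F2 (ModuleCat.of O W) 1 hr1 hr2 t X ht
  have ht1 := one_le_depth O hdim X t ht
  have ht' : t = 1 := by omega
  subst ht'
  obtain ⟨z, hz⟩ := hex
  obtain ⟨ψ, rfl⟩ := (Ext.mk₀_bijective (ModuleCat.of O X) (ModuleCat.of O W)).2 z
  refine ⟨ψ.hom, fun h => hz ?_⟩
  have : ψ = 0 := by
    apply ModuleCat.hom_ext
    exact h
  rw [this, Ext.mk₀_zero]

include hdim hinj in
/-- nonzero torsion finite modules have nonzero `Ext¹` into `W` -/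
theorem ext_one_ne_of_torsion (N : Type u) [AddCommGroup N] [Module O N] [Module.Finite O N]
    [Nontrivial N] (htors : ∀ x : N, ∃ c : O, c ≠ 0 ∧ c • x = 0) :
    ¬ Subsingleton (Ext (ModuleCat.of O N) (ModuleCat.of O W) 1) := by
  obtain ⟨hr1, hr2⟩ := bass_data O hdim W hinj
  obtain ⟨t, ht⟩ := Groth.Agent.H29.CM.exists_nat_depth (A := O) (M := N)
  obtain ⟨htr, hex, -⟩ := Groth.Agent.H60.Bass.F2 (ModuleCat.of O W) 1 hr1 hr2 t N ht
  have hhom : ∀ φ : N →ₗ[O] W, φ = 0 := by
    intro φ
    refine LinearMap.ext fun x => ?_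
    obtain ⟨c, hc, hcx⟩ := htors x
    have h1 : c • φ x = 0 := by rw [← map_smul, hcx, map_zero]
    rcases smul_eq_zero.1 h1 with h2 | h2
    · exact absurd h2 hc
    · exact h2
  generalize hk : 1 - t = k at hex
  obtain ⟨z, hz⟩ := hex
  cases k with
  | zero =>
    exfalso
    obtain ⟨ψ, rfl⟩ := (Ext.mk₀_bijective (ModuleCat.of O N) (ModuleCat.of O W)).2 z
    apply hz
    have : ψ = 0 := by
      apply ModuleCat.hom_ext
      exact hhom ψ.hom
    rw [this, Ext.mk₀_zero]
  | succ k =>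
    have hk0 : k = 0 := by omega
    subst hk0
    intro hsub
    exact hz (Subsingleton.elim _ _)

end Groth.Agent.H71.GW
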