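import Mathlib
import Groth.Agent.H71.GW1

/-!
# Duality with respect to a canonical module over a one-dimensional local domain: reflexivity
-/

set_option autoImplicit false
universe u w

namespace Groth.Agent.H71.GW

open CategoryTheory Abelian

section generic

variable {A : Type u} [CommRing A] [HasExt.{w} (ModuleCat.{u} A)]
variable {A₁ A₂ A₃ Y : Type u} [AddCommGroup A₁] [AddCommGroup A₂] [AddCommGroup A₃]
  [AddCommGroup Y] [Module A A₁] [Module A A₂] [Module A A₃] [Module A Y]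

/-- `Ext¹(A₃, Y) = 0` when `Ext¹(A₂, Y) = 0` and restriction `Hom(A₂, Y) → Hom(A₁, Y)` is onto -/
theorem ext_one_van_of_restrict_surj (f : A₁ →ₗ[A] A₂) (g : A₂ →ₗ[A] A₃)
    (hf : Function.Injective f) (hg : Function.Surjective g) (hfg : Function.Exact f g)
    (h2 : Subsingleton (Ext (ModuleCat.of A A₂) (ModuleCat.of A Y) 1))
    (hres : ∀ φ : A₁ →ₗ[A] Y, ∃ ψ : A₂ →ₗ[A] Y, ψ ∘ₗ f = φ) :
    Subsingleton (Ext (ModuleCat.of A A₃) (ModuleCat.of A Y) 1) := by
  let S : ShortComplex (ModuleCat.{u} A) :=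
    ShortComplex.mk (ModuleCat.ofHom f) (ModuleCat.ofHom g)
      (by ext x; exact hfg.apply_apply_eq_zero x)
  have hS : S.ShortExact := ModuleCat.shortComplex_shortExact S hfg hf hg
  let Z : ModuleCat.{u} A := ModuleCat.of A Y
  have hz : ∀ x₃ : Ext S.X₃ Z 1, x₃ = 0 := by
    intro x₃
    have h0 : (Ext.mk₀ S.g).comp x₃ (zero_add 1) = 0 := Subsingleton.elim _ _
    obtain ⟨x₁, hx₁⟩ := Ext.contravariant_sequence_exact₃ hS Z x₃ h0 (add_zero 1)
    obtain ⟨φ', rfl⟩ := (Ext.mk₀_bijective S.X₁ Z).2 x₁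
    obtain ⟨ψ, hψ⟩ := hres φ'.hom
    have h1 : φ' = S.f ≫ ModuleCat.ofHom ψ := by
      apply ModuleCat.hom_ext
      exact hψ.symm
    rw [← hx₁, h1, ← Ext.mk₀_comp_mk₀]
    exact hS.extClass_comp_assoc _
  exact ⟨fun a b => by rw [hz a, hz b]⟩

end generic

/-- submodules of torsion-free modules are torsion-free -/
theorem noZeroSMulDivisors_submodule {O : Type u} [CommRing O] [IsDomain O] {X : Type u} [AddCommGroup X]
    [Module O X] [NoZeroSMulDivisors O X] (T : Submodule O X) : NoZeroSMulDivisors O T := by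
  refine ⟨fun {c y} h => ?_⟩
  by_cases hc : c = 0
  · exact Or.inl hc
  · right
    apply Subtype.ext
    have h1 : c • (y : X) = 0 := congrArg Subtype.val h
    rcases smul_eq_zero.1 h1 with h2 | h2
    · exact absurd h2 hc
    · exact h2

section canon

variable (O : Type u) [CommRing O] [IsDomain O] [IsNoetherianRing O] [IsLocalRing O]
  (hdim : ringKrullDim O = 1)
variable (W : Type u) [AddCommGroup W] [Module O W] [Module.Finite O W]
  [NoZeroSMulDivisors O W] [Nontrivial W]
  (hinj : HasInjectiveDimensionLT (ModuleCat.of O W) 2)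

/-- `Hom(X, W)` is torsion-free -/
theorem noZeroSMulDivisors_hom (X : Type u) [AddCommGroup X] [Module O X] :
    NoZeroSMulDivisors O (X →ₗ[O] W) := by
  refine ⟨fun {c φ} h => ?_⟩
  by_cases hc : c = 0
  · exact Or.inl hc
  · right
    refine LinearMap.ext fun x => ?_
    have h1 := LinearMap.congr_fun h x
    rw [LinearMap.smul_apply, LinearMap.zero_apply] at h1
    rcases smul_eq_zero.1 h1 with h1 | h1
    · exact absurd h1 hc
    · exact h1

include hdim hinj in
/-- the endomorphisms of `W` are the homotheties, provided they are so up to torsion -/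
theorem end_eq (htors : ∀ θ : W →ₗ[O] W, ∃ d : O, d ≠ 0 ∧ ∃ a : O, d • θ = a • LinearMap.id)
    (θ : W →ₗ[O] W) : ∃ c : O, θ = c • LinearMap.id := by
  classical
  set ι : O →ₗ[O] (W →ₗ[O] W) := LinearMap.toSpanSingleton O _ LinearMap.id with hι
  have hιc : ∀ c : O, ι c = c • LinearMap.id := fun c => rfl
  by_contra hθ
  have hθ' : θ ∉ LinearMap.range ι := by
    rintro ⟨c, hc⟩
    exact hθ ⟨c, hc.symm⟩
  haveI : Nontrivial ((W →ₗ[O] W) ⧸ LinearMap.range ι) := by
    refine ⟨⟨Submodule.Quotient.mk θ, 0, fun h => hθ' ?_⟩⟩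
    rwa [Submodule.Quotient.mk_eq_zero] at h
  have htN : ∀ x : (W →ₗ[O] W) ⧸ LinearMap.range ι, ∃ c : O, c ≠ 0 ∧ c • x = 0 := by
    intro x
    obtain ⟨θ', rfl⟩ := Submodule.Quotient.mk_surjective _ x
    obtain ⟨d, hd, a, hda⟩ := htors θ'
    refine ⟨d, hd, ?_⟩
    rw [← Submodule.Quotient.mk_smul, Submodule.Quotient.mk_eq_zero, hda]
    exact ⟨a, rfl⟩
  have hne := ext_one_ne_of_torsion O hdim W hinj _ htN
  apply hne
  haveI : NoZeroSMulDivisors O (W →ₗ[O] W) := noZeroSMulDivisors_hom O W W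
  refine ext_one_van_of_restrict_surj ι (LinearMap.range ι).mkQ ?_ (Submodule.mkQ_surjective _)
    ι.exact_map_mkQ_range (ext_van_W O hdim W hinj (W →ₗ[O] W) 1 le_rfl) ?_
  · intro c c' h
    obtain ⟨w, hw⟩ := exists_ne (0 : W)
    have h1 : c • w = c' • w := LinearMap.congr_fun h w
    have h2 : (c - c') • w = 0 := by rw [sub_smul, h1, sub_self]
    rcases smul_eq_zero.1 h2 with h3 | h3
    · exact sub_eq_zero.1 h3
    · exact absurd h3 hw
  · intro φ
    refine ⟨LinearMap.applyₗ (φ 1), ?_⟩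
    refine LinearMap.ext fun c => ?_
    show (c • (LinearMap.id : W →ₗ[O] W)) (φ 1) = φ c
    rw [LinearMap.smul_apply, LinearMap.id_apply, ← map_smul, smul_eq_mul, mul_one]

include hdim hinj in
/-- `Hom(X, W)` separates the points of a torsion-free finite module -/
theorem sep (X : Type u) [AddCommGroup X] [Module O X] [Module.Finite O X]
    [NoZeroSMulDivisors O X] (x : X) (hx : x ≠ 0) : ∃ φ : X →ₗ[O] W, φ x ≠ 0 := by
  classical
  by_contra hcon
  push Not at hcon
  set T : Submodule O X :=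
    LinearMap.ker (LinearMap.applyₗ : X →ₗ[O] (X →ₗ[O] W) →ₗ[O] W) with hT
  have hTmem : ∀ t : X, t ∈ T ↔ ∀ φ : X →ₗ[O] W, φ t = 0 := by
    intro t
    rw [hT, LinearMap.mem_ker]
    constructor
    · intro h φ
      exact LinearMap.congr_fun h φ
    · intro h
      exact LinearMap.ext fun φ => h φ
  have hxT : x ∈ T := (hTmem x).2 hcon
  haveI : Nontrivial T := ⟨⟨⟨x, hxT⟩, 0, fun h => hx (congrArg Subtype.val h)⟩⟩
  haveI : NoZeroSMulDivisors O T := noZeroSMulDivisors_submodule T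
  obtain ⟨φ', hφ'⟩ := hom_ne_zero O hdim W hinj T
  haveI : NoZeroSMulDivisors O (X ⧸ T) := by
    refine ⟨fun {c y} h => ?_⟩
    by_cases hc : c = 0
    · exact Or.inl hc
    · right
      obtain ⟨z, rfl⟩ := Submodule.Quotient.mk_surjective _ y
      rw [← Submodule.Quotient.mk_smul, Submodule.Quotient.mk_eq_zero, hTmem] at h
      rw [Submodule.Quotient.mk_eq_zero, hTmem]
      intro φ
      have h1 := h φ
      rw [map_smul] at h1
      rcases smul_eq_zero.1 h1 with h2 | h2
      · exact absurd h2 hc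
      · exact h2
  obtain ⟨ψ, hψ⟩ := Groth.Agent.H71.GD.exists_extension T.subtype T.mkQ
    (Submodule.injective_subtype _) (Submodule.mkQ_surjective _) (LinearMap.exact_subtype_mkQ T)
    (ext_van_W O hdim W hinj (X ⧸ T) 1 le_rfl) φ'
  apply hφ'
  refine LinearMap.ext fun t => ?_
  rw [← hψ]
  exact (hTmem t.1).1 t.2 ψ

/-- the coordinate inclusions `W → Hom(O^r, W)` -/
def inc (r : ℕ) (j : Fin r) : W →ₗ[O] ((Fin r → O) →ₗ[O] W) where
  toFun w := (LinearMap.proj j : (Fin r → O) →ₗ[O] O).smulRight w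
  map_add' a b := by
    refine LinearMap.ext fun u => ?_
    show u j • (a + b) = u j • a + u j • b
    rw [smul_add]
  map_smul' c a := by
    refine LinearMap.ext fun u => ?_
    show u j • (c • a) = c • (u j • a)
    rw [smul_comm]

lemma inc_apply (r : ℕ) (j : Fin r) (w : W) (u : Fin r → O) : inc O W r j w u = u j • w := rfl

lemma sum_inc (r : ℕ) (ψ : (Fin r → O) →ₗ[O] W) :
    ∑ j, inc O W r j (ψ (fun j' => if j = j' then 1 else 0)) = ψ := by
  classical
  refine LinearMap.ext fun u => ?_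
  rw [LinearMap.sum_apply, LinearMap.pi_apply_eq_sum_univ ψ u]
  rfl

/-- functionals on `Hom(O^r, W)` are evaluations, when `End(W) = O` -/
theorem eval_free (hE : ∀ θ : W →ₗ[O] W, ∃ c : O, θ = c • LinearMap.id) (r : ℕ)
    (Ξ : ((Fin r → O) →ₗ[O] W) →ₗ[O] W) : ∃ v : Fin r → O, ∀ ψ, Ξ ψ = ψ v := by
  classical
  have := fun j => hE (Ξ ∘ₗ inc O W r j)
  choose v hv using this
  refine ⟨v, fun ψ => ?_⟩
  conv_lhs => rw [← sum_inc O W r ψ]
  rw [map_sum, LinearMap.pi_apply_eq_sum_univ ψ v]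
  refine Finset.sum_congr rfl fun j _ => ?_
  have h1 := LinearMap.congr_fun (hv j) (ψ (fun j' => if j = j' then 1 else 0))
  exact h1

end canon

end Groth.Agent.H71.GW
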