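import Mathlib
import Groth.Agent.H71.GW2

/-!
# Dimension shifting and the dual of a presentation
-/

set_option autoImplicit false
universe u w

namespace Groth.Agent.H71.GW

open CategoryTheory Abelian

section generic

variable {A : Type u} [CommRing A] [HasExt.{w} (ModuleCat.{u} A)]
variable {A₁ A₂ A₃ Y : Type u} [AddCommGroup A₁] [AddCommGroup A₂] [AddCommGroup A₃]
  [AddCommGroup Y] [Module A A₁] [Module A A₂] [Module A A₃] [Module A Y]

/-- contravariant dimension shifting -/
theorem shift_contra (f : A₁ →ₗ[A] A₂) (g : A₂ →ₗ[A] A₃)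
    (hf : Function.Injective f) (hg : Function.Surjective g) (hfg : Function.Exact f g) (n : ℕ)
    (h1 : Subsingleton (Ext (ModuleCat.of A A₂) (ModuleCat.of A Y) n))
    (h2 : Subsingleton (Ext (ModuleCat.of A A₂) (ModuleCat.of A Y) (n + 1))) :
    Nonempty (Ext (ModuleCat.of A A₁) (ModuleCat.of A Y) n ≃+
      Ext (ModuleCat.of A A₃) (ModuleCat.of A Y) (n + 1)) := by
  let S : ShortComplex (ModuleCat.{u} A) :=
    ShortComplex.mk (ModuleCat.ofHom f) (ModuleCat.ofHom g)
      (by ext x; exact hfg.apply_apply_eq_zero x)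
  have hS : S.ShortExact := ModuleCat.shortComplex_shortExact S hfg hf hg
  let Z : ModuleCat.{u} A := ModuleCat.of A Y
  let δ : Ext S.X₁ Z n →+ Ext S.X₃ Z (n + 1) := hS.extClass.precomp Z (add_comm 1 n)
  have hδ : ∀ x, δ x = hS.extClass.comp x (add_comm 1 n) := fun x => rfl
  refine ⟨AddEquiv.ofBijective δ ⟨?_, ?_⟩⟩
  · rw [injective_iff_map_eq_zero]
    intro x₁ hx₁
    rw [hδ] at hx₁
    obtain ⟨x₂, hx₂⟩ := Ext.contravariant_sequence_exact₁ hS Z x₁ (add_comm 1 n) hx₁
    rw [← hx₂, Subsingleton.elim x₂ 0, Ext.comp_zero]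
  · intro x₃
    have h0 : (Ext.mk₀ S.g).comp x₃ (zero_add (n + 1)) = 0 := Subsingleton.elim _ _
    obtain ⟨x₁, hx₁⟩ := Ext.contravariant_sequence_exact₃ hS Z x₃ h0 (add_comm 1 n)
    exact ⟨x₁, hx₁⟩

/-- covariant dimension shifting -/
theorem shift_cov (f : A₁ →ₗ[A] A₂) (g : A₂ →ₗ[A] A₃)
    (hf : Function.Injective f) (hg : Function.Surjective g) (hfg : Function.Exact f g) (n : ℕ)
    (h1 : Subsingleton (Ext (ModuleCat.of A Y) (ModuleCat.of A A₂) n))
    (h2 : Subsingleton (Ext (ModuleCat.of A Y) (ModuleCat.of A A₂) (n + 1))) :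
    Nonempty (Ext (ModuleCat.of A Y) (ModuleCat.of A A₃) n ≃+
      Ext (ModuleCat.of A Y) (ModuleCat.of A A₁) (n + 1)) := by
  let S : ShortComplex (ModuleCat.{u} A) :=
    ShortComplex.mk (ModuleCat.ofHom f) (ModuleCat.ofHom g)
      (by ext x; exact hfg.apply_apply_eq_zero x)
  have hS : S.ShortExact := ModuleCat.shortComplex_shortExact S hfg hf hg
  let Z : ModuleCat.{u} A := ModuleCat.of A Y
  let δ : Ext Z S.X₃ n →+ Ext Z S.X₁ (n + 1) := hS.extClass.postcomp Z rfl
  have hδ : ∀ x, δ x = x.comp hS.extClass rfl := fun x => rfl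
  refine ⟨AddEquiv.ofBijective δ ⟨?_, ?_⟩⟩
  · rw [injective_iff_map_eq_zero]
    intro x₃ hx₃
    rw [hδ] at hx₃
    obtain ⟨x₂, hx₂⟩ := Ext.covariant_sequence_exact₃ Z hS x₃ rfl hx₃
    rw [← hx₂, Subsingleton.elim x₂ 0, Ext.zero_comp]
  · intro x₁
    have h0 : x₁.comp (Ext.mk₀ S.f) (add_zero (n + 1)) = 0 := Subsingleton.elim _ _
    obtain ⟨x₃, hx₃⟩ := Ext.covariant_sequence_exact₁ Z hS x₁ h0 rfl
    exact ⟨x₃, hx₃⟩

end generic

section canon

variable (O : Type u) [CommRing O] [IsDomain O] [IsNoetherianRing O] [IsLocalRing O]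
  (hdim : ringKrullDim O = 1)
variable (W : Type u) [AddCommGroup W] [Module O W] [Module.Finite O W]
  [NoZeroSMulDivisors O W] [Nontrivial W]
  (hinj : HasInjectiveDimensionLT (ModuleCat.of O W) 2)

include hdim hinj in
/-- the `W`-dual of a presentation is short exact -/
theorem dual_exact_W (M : Type u) [AddCommGroup M] [Module O M] [Module.Finite O M]
    [NoZeroSMulDivisors O M] {r : ℕ} (g : (Fin r → O) →ₗ[O] M) (hg : Function.Surjective g) :
    Function.Injective (LinearMap.lcomp O W g) ∧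
      Function.Surjective (LinearMap.lcomp O W (LinearMap.ker g).subtype) ∧
      Function.Exact (LinearMap.lcomp O W g) (LinearMap.lcomp O W (LinearMap.ker g).subtype) := by
  set f := (LinearMap.ker g).subtype with hf
  have hfinj : Function.Injective f := Submodule.injective_subtype _
  have hfg : Function.Exact f g := LinearMap.exact_subtype_ker_map g
  refine ⟨?_, ?_, ?_⟩
  · intro φ φ' h
    refine LinearMap.ext fun y => ?_
    obtain ⟨v, rfl⟩ := hg y
    exact LinearMap.congr_fun h v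
  · intro φ
    obtain ⟨ψ, hψ⟩ := Groth.Agent.H71.GD.exists_extension f g hfinj hg hfg
      (ext_van_W O hdim W hinj M 1 le_rfl) φ
    exact ⟨ψ, hψ⟩
  · intro ψ
    constructor
    · intro h
      have hle : LinearMap.ker g ≤ LinearMap.ker ψ := by
        intro v hv
        have := LinearMap.congr_fun h ⟨v, hv⟩
        exact this
      refine ⟨(LinearMap.ker g).liftQ ψ hle ∘ₗ (g.quotKerEquivOfSurjective hg).symm.toLinearMap, ?_⟩
      refine LinearMap.ext fun v => ?_
      show (LinearMap.ker g).liftQ ψ hle ((g.quotKerEquivOfSurjective hg).symm (g v)) = ψ v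
      have : (g.quotKerEquivOfSurjective hg).symm (g v) = Submodule.Quotient.mk v := by
        rw [LinearEquiv.symm_apply_eq]
        rfl
      rw [this]
      rfl
    · rintro ⟨φ, rfl⟩
      refine LinearMap.ext fun v => ?_
      show φ (g (v : Fin r → O)) = 0
      have : g (v : Fin r → O) = 0 := v.2
      rw [this, map_zero]

/-- `Ext^n(X, Hom(O^r, W)) = 0` from `Ext^n(X, W) = 0` -/
theorem ext_van_dual_free_W (X : Type u) [AddCommGroup X] [Module O X] (r n : ℕ)
    (h : Subsingleton (Ext (ModuleCat.of O X) (ModuleCat.of O W) n)) :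
    Subsingleton (Ext (ModuleCat.of O X) (ModuleCat.of O ((Fin r → O) →ₗ[O] W)) n) := by
  classical
  refine Groth.Agent.H71.GD.subsingleton_ext_of_decomp (ι := Fin r)
    (fun j => ModuleCat.ofHom (LinearMap.applyₗ (fun j' => if j = j' then (1 : O) else 0)))
    (fun j => ModuleCat.ofHom (inc O W r j)) ?_ h
  apply ModuleCat.hom_ext
  refine LinearMap.ext fun ψ => ?_
  rw [ModuleCat.hom_sum, LinearMap.sum_apply]
  exact sum_inc O W r ψ

include hdim hinj in
/-- reflexivity: functionals on the dual are evaluations -/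
theorem exists_eval_W (hE : ∀ θ : W →ₗ[O] W, ∃ c : O, θ = c • LinearMap.id)
    (M : Type u) [AddCommGroup M] [Module O M] [Module.Finite O M] [NoZeroSMulDivisors O M]
    (ξ : (M →ₗ[O] W) →ₗ[O] W) : ∃ y : M, ∀ φ : M →ₗ[O] W, ξ φ = φ y := by
  classical
  obtain ⟨r, g, hg⟩ := Module.Finite.exists_fin' O M
  obtain ⟨hDginj, hDfsurj, hDex⟩ := dual_exact_W O hdim W hinj M g hg
  haveI : NoZeroSMulDivisors O (LinearMap.ker g →ₗ[O] W) := noZeroSMulDivisors_hom O W _
  haveI : IsNoetherian O W := isNoetherian_of_isNoetherianRing_of_finite O W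
  haveI : Module.Finite O (LinearMap.ker g →ₗ[O] W) := inferInstance
  obtain ⟨Ξ, hΞ⟩ := Groth.Agent.H71.GD.exists_extension (LinearMap.lcomp O W g)
    (LinearMap.lcomp O W (LinearMap.ker g).subtype) hDginj hDfsurj hDex
    (ext_van_W O hdim W hinj (LinearMap.ker g →ₗ[O] W) 1 le_rfl) ξ
  obtain ⟨v, hv⟩ := eval_free O W hE r Ξ
  refine ⟨g v, fun φ => ?_⟩
  have h2 := LinearMap.congr_fun hΞ φ
  rw [← h2]
  show Ξ (LinearMap.lcomp O W g φ) = φ (g v)
  rw [hv]
  rfl

end canon

end Groth.Agent.H71.GW
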