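import Mathlib
import Groth.Agent.H71.GW3

/-!
# `Ext^i(M, N) ≃ Ext^i(N*, M*)` for torsion-free modules and the canonical duality
-/

set_option autoImplicit false
universe u

namespace Groth.Agent.H71.GW

open CategoryTheory Abelian

section canon

variable (O : Type u) [CommRing O] [IsDomain O] [IsNoetherianRing O] [IsLocalRing O]
  (hdim : ringKrullDim O = 1)
variable (W : Type u) [AddCommGroup W] [Module O W] [Module.Finite O W]
  [NoZeroSMulDivisors O W] [Nontrivial W]
  (hinj : HasInjectiveDimensionLT (ModuleCat.of O W) 2)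
  (hE : ∀ θ : W →ₗ[O] W, ∃ c : O, θ = c • LinearMap.id)

include hdim hinj hE in
/-- the transposition equivalence `Hom(X, N) ≃ Hom(N*, X*)` for reflexive `N` -/
theorem exists_transpose (N : Type u) [AddCommGroup N] [Module O N] [Module.Finite O N]
    [NoZeroSMulDivisors O N] (X : Type u) [AddCommGroup X] [Module O X] :
    ∃ e : (X →ₗ[O] N) ≃ₗ[O] ((N →ₗ[O] W) →ₗ[O] (X →ₗ[O] W)),
      ∀ (g' : X →ₗ[O] N) (φ : N →ₗ[O] W), e g' φ = φ ∘ₗ g' := by
  classical
  have hρbij : Function.Bijective (LinearMap.applyₗ : N →ₗ[O] (N →ₗ[O] W) →ₗ[O] W) := by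
    constructor
    · rw [← LinearMap.ker_eq_bot, eq_bot_iff]
      intro y hy
      rw [Submodule.mem_bot]
      by_contra hy0
      obtain ⟨φ, hφ⟩ := sep O hdim W hinj N y hy0
      exact hφ (LinearMap.congr_fun hy φ)
    · intro ξ
      obtain ⟨y, hy⟩ := exists_eval_W O hdim W hinj hE N ξ
      refine ⟨y, LinearMap.ext fun φ => ?_⟩
      exact (hy φ).symm
  let ρ : N ≃ₗ[O] ((N →ₗ[O] W) →ₗ[O] W) := LinearEquiv.ofBijective _ hρbij
  have hρ : ∀ y φ, ρ y φ = φ y := fun y φ => rfl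
  have hρs : ∀ (ξ : (N →ₗ[O] W) →ₗ[O] W) (φ : N →ₗ[O] W), φ (ρ.symm ξ) = ξ φ := by
    intro ξ φ
    rw [← hρ, LinearEquiv.apply_symm_apply]
  refine ⟨
    { toFun := fun g' => LinearMap.lcomp O W g'
      map_add' := fun a b => by
        refine LinearMap.ext fun φ => LinearMap.ext fun x => ?_
        show φ (a x + b x) = φ (a x) + φ (b x)
        rw [map_add]
      map_smul' := fun c a => by
        refine LinearMap.ext fun φ => LinearMap.ext fun x => ?_
        show φ (c • a x) = c • φ (a x)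
        rw [map_smul]
      invFun := fun T => ρ.symm.toLinearMap ∘ₗ T.flip
      left_inv := fun g' => by
        refine LinearMap.ext fun x => ?_
        show ρ.symm ((LinearMap.lcomp O W g').flip x) = g' x
        rw [LinearEquiv.symm_apply_eq]
        refine LinearMap.ext fun φ => ?_
        rfl
      right_inv := fun T => by
        refine LinearMap.ext fun φ => LinearMap.ext fun x => ?_
        show φ (ρ.symm (T.flip x)) = T φ x
        rw [hρs]
        rfl }, fun g' φ => rfl⟩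

/-- the duality statement in degree `i` -/
def P (i : ℕ) : Prop :=
  ∀ (M N : Type u) [AddCommGroup M] [Module O M] [Module.Finite O M] [NoZeroSMulDivisors O M]
    [AddCommGroup N] [Module O N] [Module.Finite O N] [NoZeroSMulDivisors O N],
    Nonempty (Ext (ModuleCat.of O M) (ModuleCat.of O N) i ≃+
      Ext (ModuleCat.of O (N →ₗ[O] W)) (ModuleCat.of O (M →ₗ[O] W)) i)

include hdim hinj hE in
theorem P_zero : P O W 0 := by
  intro M N _ _ _ _ _ _ _ _
  obtain ⟨e, -⟩ := exists_transpose O hdim W hinj hE N M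
  let e₁ : (M →ₗ[O] N) ≃ₗ[O] Ext (ModuleCat.of O M) (ModuleCat.of O N) 0 :=
    (ModuleCat.homLinearEquiv (S := O) (M := ModuleCat.of O M) (N := ModuleCat.of O N)).symm.trans
      (Ext.linearEquiv₀ (R := O) (X := ModuleCat.of O M) (Y := ModuleCat.of O N)).symm
  let e₂ : ((N →ₗ[O] W) →ₗ[O] (M →ₗ[O] W)) ≃ₗ[O]
      Ext (ModuleCat.of O (N →ₗ[O] W)) (ModuleCat.of O (M →ₗ[O] W)) 0 :=
    (ModuleCat.homLinearEquiv (S := O) (M := ModuleCat.of O (N →ₗ[O] W))
      (N := ModuleCat.of O (M →ₗ[O] W))).symm.trans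
      (Ext.linearEquiv₀ (R := O) (X := ModuleCat.of O (N →ₗ[O] W))
        (Y := ModuleCat.of O (M →ₗ[O] W))).symm
  exact ⟨(e₁.symm.trans (e.trans e₂)).toAddEquiv⟩

include hdim hinj hE in
theorem P_one : P O W 1 := by
  classical
  intro M N _ _ _ _ _ _ _ _
  obtain ⟨r, g, hg⟩ := Module.Finite.exists_fin' O M
  obtain ⟨hDginj, hDfsurj, hDex⟩ := dual_exact_W O hdim W hinj M g hg
  set f := (LinearMap.ker g).subtype with hf
  have hfinj : Function.Injective f := Submodule.injective_subtype _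
  have hfg : Function.Exact f g := LinearMap.exact_subtype_ker_map g
  set Dg : (M →ₗ[O] W) →ₗ[O] ((Fin r → O) →ₗ[O] W) := LinearMap.lcomp O W g with hDg
  set Df : ((Fin r → O) →ₗ[O] W) →ₗ[O] (LinearMap.ker g →ₗ[O] W) := LinearMap.lcomp O W f with hDf
  haveI : NoZeroSMulDivisors O (N →ₗ[O] W) := noZeroSMulDivisors_hom O W _
  haveI : IsNoetherian O W := isNoetherian_of_isNoetherianRing_of_finite O W
  obtain ⟨ΨK, hΨK⟩ := exists_transpose O hdim W hinj hE N (LinearMap.ker g)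
  obtain ⟨ΨF, hΨF⟩ := exists_transpose O hdim W hinj hE N (Fin r → O)
  obtain ⟨E1⟩ := Groth.Agent.H71.GD.ext_one_equiv_contra (N := N) f g hfinj hg hfg
  have hmap : Submodule.map ΨK.toLinearMap (LinearMap.range (LinearMap.lcomp O N f)) =
      LinearMap.range (LinearMap.compRight O Df :
        ((N →ₗ[O] W) →ₗ[O] ((Fin r → O) →ₗ[O] W)) →ₗ[O] _) := by
    apply le_antisymm
    · rintro _ ⟨_, ⟨ψ, rfl⟩, rfl⟩
      refine ⟨ΨF ψ, ?_⟩
      refine LinearMap.ext fun φ => ?_
      show Df (ΨF ψ φ) = ΨK (ψ ∘ₗ f) φ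
      rw [hΨF, hΨK]
      rfl
    · rintro _ ⟨T, rfl⟩
      obtain ⟨ψ, rfl⟩ := ΨF.surjective T
      refine ⟨ψ ∘ₗ f, ⟨ψ, rfl⟩, ?_⟩
      refine LinearMap.ext fun φ => ?_
      show ΨK (ψ ∘ₗ f) φ = Df (ΨF ψ φ)
      rw [hΨF, hΨK]
      rfl
  obtain ⟨E3⟩ := Groth.Agent.H71.GD.ext_one_equiv_cov (X := (N →ₗ[O] W)) Dg Df hDginj hDfsurj
    hDex (ext_van_dual_free_W O W _ r 1 (ext_van_W O hdim W hinj (N →ₗ[O] W) 1 le_rfl))
  let Θ₂ : (LinearMap.ker g →ₗ[O] N) →ₗ[O]
      Ext (ModuleCat.of O (N →ₗ[O] W)) (ModuleCat.of O (M →ₗ[O] W)) 1 :=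
    E3.symm.toLinearMap ∘ₗ (Submodule.mkQ _) ∘ₗ ΨK.toLinearMap
  have hΘ₂surj : Function.Surjective Θ₂ :=
    E3.symm.surjective.comp ((Submodule.mkQ_surjective _).comp ΨK.surjective)
  have hΘ₂ker : LinearMap.ker Θ₂ = LinearMap.range (LinearMap.lcomp O N f) := by
    ext x
    rw [LinearMap.mem_ker]
    show E3.symm (Submodule.Quotient.mk (ΨK x)) = 0 ↔ _
    rw [LinearEquiv.map_eq_zero_iff, Submodule.Quotient.mk_eq_zero, ← hmap]
    constructor
    · rintro ⟨x', hx', hxx⟩
      have := ΨK.injective hxx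
      rw [← this]
      exact hx'
    · intro h
      exact ⟨x, h, rfl⟩
  let E23 := (Submodule.quotEquivOfEq _ _ hΘ₂ker.symm).trans
    (LinearMap.quotKerEquivOfSurjective Θ₂ hΘ₂surj)
  exact ⟨(E1.trans E23).toAddEquiv⟩

include hdim hinj in
theorem P_step (j : ℕ) (h : P O W (j + 1)) : P O W (j + 2) := by
  classical
  intro M N _ _ _ _ _ _ _ _
  obtain ⟨r, g, hg⟩ := Module.Finite.exists_fin' O M
  obtain ⟨hDginj, hDfsurj, hDex⟩ := dual_exact_W O hdim W hinj M g hg
  set f := (LinearMap.ker g).subtype with hf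
  have hfinj : Function.Injective f := Submodule.injective_subtype _
  have hfg : Function.Exact f g := LinearMap.exact_subtype_ker_map g
  haveI : NoZeroSMulDivisors O (N →ₗ[O] W) := noZeroSMulDivisors_hom O W _
  haveI : IsNoetherian O W := isNoetherian_of_isNoetherianRing_of_finite O W
  haveI : NoZeroSMulDivisors O (LinearMap.ker g) := noZeroSMulDivisors_submodule _
  haveI : Projective (ModuleCat.of O (Fin r → O)) :=
    ModuleCat.projective_of_categoryTheory_projective (ModuleCat.of O (Fin r → O))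
  have hproj : ∀ n : ℕ, Subsingleton (Ext (ModuleCat.of O (Fin r → O)) (ModuleCat.of O N) (n + 1)) :=
    fun n => ⟨fun a b => by
      rw [Ext.eq_zero_of_projective a, Ext.eq_zero_of_projective b]⟩
  obtain ⟨S1⟩ := shift_contra (Y := N) f g hfinj hg hfg (j + 1) (hproj j) (hproj (j + 1))
  obtain ⟨S2⟩ := shift_cov (Y := (N →ₗ[O] W)) (LinearMap.lcomp O W g) (LinearMap.lcomp O W f)
    hDginj hDfsurj hDex (j + 1)
    (ext_van_dual_free_W O W _ r (j + 1)
      (ext_van_W O hdim W hinj (N →ₗ[O] W) (j + 1) (by omega)))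
    (ext_van_dual_free_W O W _ r (j + 1 + 1)
      (ext_van_W O hdim W hinj (N →ₗ[O] W) (j + 1 + 1) (by omega)))
  obtain ⟨I⟩ := h (LinearMap.ker g) N
  exact ⟨S1.symm.trans (I.trans S2)⟩

include hdim hinj hE in
theorem P_all (i : ℕ) : P O W i := by
  rcases i with _ | i
  · exact P_zero O hdim W hinj hE
  · induction i with
    | zero => exact P_one O hdim W hinj hE
    | succ j ih => exact P_step O hdim W hinj j ih

end canon

end Groth.Agent.H71.GW
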