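import Mathlib
import Groth.Agent.H71.GW4

/-!
# Endomorphisms of a fractional ideal are homotheties up to torsion
-/

set_option autoImplicit false
universe u

namespace Groth.Agent.H71.GW

variable {O : Type u} [CommRing O] [IsDomain O] {K : Type u} [Field K] [Algebra O K]
  [IsFractionRing O K]

theorem noZeroSMulDivisors_fractionRing : NoZeroSMulDivisors O K := by
  refine ⟨fun {c y} h => ?_⟩
  rw [Algebra.smul_def, mul_eq_zero] at h
  rcases h with h | h
  · left
    exact (IsFractionRing.injective O K) (h.trans (map_zero _).symm)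
  · exact Or.inr h

theorem end_torsion (ω : Submodule O K) (hω0 : ω ≠ ⊥) (θ : ↥ω →ₗ[O] ↥ω) :
    ∃ d : O, d ≠ 0 ∧ ∃ a : O, d • θ = a • LinearMap.id := by
  have hinjK : Function.Injective (algebraMap O K) := IsFractionRing.injective O K
  obtain ⟨w₀, hw₀ω, hw₀0⟩ := Submodule.exists_mem_ne_zero_of_ne_bot hω0
  set W₀ : ↥ω := ⟨w₀, hw₀ω⟩ with hW₀
  have hstar : ∀ w : ↥ω, ((θ w : ↥ω) : K) * w₀ = ((θ W₀ : ↥ω) : K) * (w : K) := by
    intro w
    obtain ⟨e, p, hp⟩ := IsLocalization.exists_integer_multiple (nonZeroDivisors O) (w : K)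
    obtain ⟨e₀, p₀, hp₀⟩ := IsLocalization.exists_integer_multiple (nonZeroDivisors O) w₀
    have he0 : algebraMap O K (e : O) ≠ 0 := fun h =>
      nonZeroDivisors.ne_zero e.2 (hinjK (h.trans (map_zero _).symm))
    have he₀0 : algebraMap O K (e₀ : O) ≠ 0 := fun h =>
      nonZeroDivisors.ne_zero e₀.2 (hinjK (h.trans (map_zero _).symm))
    rw [Algebra.smul_def] at hp hp₀
    have hp₀0 : algebraMap O K p₀ ≠ 0 := by
      rw [hp₀]
      exact mul_ne_zero he₀0 hw₀0
    have h1 : ((e : O) * p₀) • w = ((e₀ : O) * p) • W₀ := by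
      apply Subtype.ext
      show ((e : O) * p₀) • (w : K) = ((e₀ : O) * p) • w₀
      rw [Algebra.smul_def, Algebra.smul_def, map_mul, map_mul, hp, hp₀]
      ring
    have h2 := congrArg (fun t : ↥ω => (t : K)) (congrArg θ h1)
    simp only [map_smul] at h2
    have h3 : ((e : O) * p₀) • ((θ w : ↥ω) : K) = ((e₀ : O) * p) • ((θ W₀ : ↥ω) : K) := h2
    rw [Algebra.smul_def, Algebra.smul_def, map_mul, map_mul] at h3
    have h4 : algebraMap O K (e : O) * algebraMap O K p₀ ≠ 0 := mul_ne_zero he0 hp₀0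
    apply mul_left_cancel₀ h4
    have h5 : algebraMap O K (e₀ : O) * algebraMap O K p * w₀ =
        algebraMap O K (e : O) * algebraMap O K p₀ * (w : K) := by
      rw [hp, hp₀]
      ring
    calc algebraMap O K (e : O) * algebraMap O K p₀ * (((θ w : ↥ω) : K) * w₀)
        = (algebraMap O K (e : O) * algebraMap O K p₀ * ((θ w : ↥ω) : K)) * w₀ := by ring
      _ = (algebraMap O K (e₀ : O) * algebraMap O K p * ((θ W₀ : ↥ω) : K)) * w₀ := by rw [h3]
      _ = ((θ W₀ : ↥ω) : K) * (algebraMap O K (e₀ : O) * algebraMap O K p * w₀) := by ring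
      _ = ((θ W₀ : ↥ω) : K) * (algebraMap O K (e : O) * algebraMap O K p₀ * (w : K)) := by rw [h5]
      _ = algebraMap O K (e : O) * algebraMap O K p₀ * (((θ W₀ : ↥ω) : K) * (w : K)) := by ring
  obtain ⟨a, d, hd, hx⟩ := IsFractionRing.div_surjective (A := O) (((θ W₀ : ↥ω) : K) / w₀)
  have hd0 : algebraMap O K d ≠ 0 := fun h =>
    nonZeroDivisors.ne_zero hd (hinjK (h.trans (map_zero _).symm))
  refine ⟨d, nonZeroDivisors.ne_zero hd, a, ?_⟩
  refine LinearMap.ext fun w => ?_
  apply Subtype.ext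
  show d • ((θ w : ↥ω) : K) = a • (w : K)
  rw [Algebra.smul_def, Algebra.smul_def]
  have h6 : algebraMap O K a * w₀ = algebraMap O K d * ((θ W₀ : ↥ω) : K) := by
    have := hx
    field_simp at this
    linear_combination this
  apply mul_right_cancel₀ hw₀0
  calc algebraMap O K d * ((θ w : ↥ω) : K) * w₀
      = algebraMap O K d * (((θ w : ↥ω) : K) * w₀) := by ring
    _ = algebraMap O K d * (((θ W₀ : ↥ω) : K) * (w : K)) := by rw [hstar]
    _ = (algebraMap O K d * ((θ W₀ : ↥ω) : K)) * (w : K) := by ring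
    _ = algebraMap O K a * w₀ * (w : K) := by rw [h6]
    _ = algebraMap O K a * (w : K) * w₀ := by ring

end Groth.Agent.H71.GW
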