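import Mathlib
import Groth.Agent.H71.QuotRegular
import Groth.Agent.H9.RegLocalSeq
import Groth.Agent.H15.FlatLoc

/-!
# `R/(t-1)` for a `ℤ`-graded ring `R` with a homogeneous unit `t` of minimal positive degree
(helper71)
-/

set_option autoImplicit false
set_option linter.style.haveILetI false
set_option linter.unusedSectionVars false

universe u

open IsLocalRing

namespace Groth.Agent.H71.GrUnitQuot

variable {R : Type u} [CommRing R] (𝒜 : ℤ → AddSubgroup R) [GradedRing 𝒜]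

section Units

/-- the inverse of a homogeneous unit is homogeneous -/
theorem inv_mem {n : ℤ} (u : Rˣ) (hu : (u : R) ∈ 𝒜 n) : ((u⁻¹ : Rˣ) : R) ∈ 𝒜 (-n) := by
  classical
  have h1 : ((DirectSum.decompose 𝒜 ((u : R) * ((u⁻¹ : Rˣ) : R)) (n + (-n)) : 𝒜 (n + -n)) : R) =
      u * (DirectSum.decompose 𝒜 ((u⁻¹ : Rˣ) : R) (-n) : R) :=
    DirectSum.coe_decompose_mul_add_of_left_mem 𝒜 hu
  rw [Units.mul_inv] at h1
  have h0 : (1 : R) ∈ 𝒜 (n + -n) := by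
    rw [add_neg_cancel]; exact SetLike.GradedOne.one_mem
  rw [DirectSum.decompose_of_mem_same 𝒜 h0] at h1
  have h2 : ((u⁻¹ : Rˣ) : R) = (DirectSum.decompose 𝒜 ((u⁻¹ : Rˣ) : R) (-n) : R) := by
    calc ((u⁻¹ : Rˣ) : R) = ((u⁻¹ : Rˣ) : R) * 1 := (mul_one _).symm
      _ = ((u⁻¹ : Rˣ) : R) * (u * (DirectSum.decompose 𝒜 ((u⁻¹ : Rˣ) : R) (-n) : R)) := by rw [← h1]
      _ = (DirectSum.decompose 𝒜 ((u⁻¹ : Rˣ) : R) (-n) : R) := by
        rw [← mul_assoc, Units.inv_mul, one_mul]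
  rw [h2]
  exact SetLike.coe_mem _

theorem zpow_mem {n : ℤ} (u : Rˣ) (hu : (u : R) ∈ 𝒜 n) (k : ℤ) :
    ((u ^ k : Rˣ) : R) ∈ 𝒜 (k * n) := by
  have hnat : ∀ m : ℕ, ((u ^ m : Rˣ) : R) ∈ 𝒜 ((m : ℤ) * n) := by
    intro m
    rw [Units.val_pow_eq_pow_val, ← nsmul_eq_mul]
    exact SetLike.pow_mem_graded m hu
  cases k with
  | ofNat m =>
    rw [Int.ofNat_eq_natCast, zpow_natCast]
    exact hnat m
  | negSucc m =>
    rw [zpow_negSucc]
    have h := inv_mem 𝒜 (u ^ (m + 1)) (hnat (m + 1))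
    have e : Int.negSucc m * n = -(((m + 1 : ℕ) : ℤ) * n) := by
      rw [Int.negSucc_eq]; push_cast; ring
    rw [e]
    exact h

theorem mk_zpow (u : Rˣ) (k : ℤ) :
    Ideal.Quotient.mk (Ideal.span {(u : R) - 1}) ((u ^ k : Rˣ) : R) = 1 := by
  have h1 : Ideal.Quotient.mk (Ideal.span {(u : R) - 1}) (u : R) = 1 := by
    rw [← sub_eq_zero, ← map_one (Ideal.Quotient.mk _), ← map_sub,
      Ideal.Quotient.eq_zero_iff_mem]
    exact Ideal.mem_span_singleton_self _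
  have hnat : ∀ m : ℕ, Ideal.Quotient.mk (Ideal.span {(u : R) - 1}) ((u ^ m : Rˣ) : R) = 1 := by
    intro m
    rw [Units.val_pow_eq_pow_val, map_pow, h1, one_pow]
  cases k with
  | ofNat m =>
    rw [Int.ofNat_eq_natCast, zpow_natCast]
    exact hnat m
  | negSucc m =>
    rw [zpow_negSucc]
    have h2 : Ideal.Quotient.mk (Ideal.span {(u : R) - 1}) ((u ^ (m + 1) : Rˣ) : R) *
        Ideal.Quotient.mk (Ideal.span {(u : R) - 1}) (((u ^ (m + 1))⁻¹ : Rˣ) : R) = 1 := by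
      rw [← map_mul, Units.mul_inv, map_one]
    rw [hnat (m + 1), one_mul] at h2
    exact h2

/-- `t - 1` is not a unit, for a homogeneous unit `t` of positive degree. -/
theorem sub_one_not_isUnit [Nontrivial R] {n : ℤ} (hn : 0 < n) (u : Rˣ) (hu : (u : R) ∈ 𝒜 n) :
    ¬ IsUnit ((u : R) - 1) := by
  classical
  rintro ⟨v, hv⟩
  set y : R := ((v⁻¹ : Rˣ) : R) with hy
  have hy1 : ((u : R) - 1) * y = 1 := by rw [← hv]; exact v.mul_inv
  have hy0 : y ≠ 0 := (v⁻¹).ne_zero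
  have hSne : (DirectSum.decompose 𝒜 y).support.Nonempty := by
    rw [Finset.nonempty_iff_ne_empty]
    intro h
    apply hy0
    have h' : DirectSum.decompose 𝒜 y = 0 := DFinsupp.support_eq_empty.mp h
    exact (DirectSum.decompose 𝒜).injective (by rw [h', DirectSum.decompose_zero])
  have hcomp : ∀ m : ℤ, ((DirectSum.decompose 𝒜 (((u : R) - 1) * y) (n + m) : 𝒜 (n + m)) : R) =
      (u : R) * (DirectSum.decompose 𝒜 y m : R) - (DirectSum.decompose 𝒜 y (n + m) : R) := by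
    intro m
    rw [sub_mul, one_mul, DirectSum.decompose_sub, DirectSum.sub_apply, AddSubgroupClass.coe_sub,
      DirectSum.coe_decompose_mul_add_of_left_mem 𝒜 hu]
  rw [hy1] at hcomp
  have hone : ∀ j : ℤ, j ≠ 0 → ((DirectSum.decompose 𝒜 (1 : R) j : 𝒜 j) : R) = 0 := fun j hj =>
    DirectSum.decompose_of_mem_ne 𝒜 SetLike.GradedOne.one_mem (Ne.symm hj)
  set top := (DirectSum.decompose 𝒜 y).support.max' hSne with htop
  set bot := (DirectSum.decompose 𝒜 y).support.min' hSne with hbot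
  have hzero : ∀ j : ℤ, j ∉ (DirectSum.decompose 𝒜 y).support →
      ((DirectSum.decompose 𝒜 y j : 𝒜 j) : R) = 0 := by
    intro j hj
    rw [DFinsupp.notMem_support_iff] at hj
    rw [hj, ZeroMemClass.coe_zero]
  have hnz : ∀ j : ℤ, j ∈ (DirectSum.decompose 𝒜 y).support →
      ((DirectSum.decompose 𝒜 y j : 𝒜 j) : R) ≠ 0 := by
    intro j hj h
    rw [DFinsupp.mem_support_iff] at hj
    exact hj (Subtype.ext h)
  -- top degree
  have h1 : n + top = 0 := by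
    by_contra hne
    have h := hcomp top
    rw [hone _ hne, hzero (n + top) (fun hmem => by
      have := Finset.le_max' _ _ hmem
      omega), sub_zero] at h
    exact hnz top (Finset.max'_mem _ _) (u.mul_right_eq_zero.mp h.symm)
  -- bottom degree
  have h2 : bot = 0 := by
    by_contra hne
    have h := hcomp (bot - n)
    have e : n + (bot - n) = bot := by ring
    rw [e, hone _ hne, hzero (bot - n) (fun hmem => by
      have := Finset.min'_le _ _ hmem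
      omega), mul_zero, zero_sub] at h
    exact hnz bot (Finset.min'_mem _ _) (neg_eq_zero.mp h.symm)
  have h3 : bot ≤ top := Finset.min'_le _ _ (Finset.max'_mem _ _)
  omega

end Units

section Main

variable (N : ℕ) (u : Rˣ)

/-- the ideal generated by the pieces of degree not divisible by `N` -/
def J : Ideal R := Ideal.span {a | ∃ i : ℤ, ¬ ((N : ℤ) ∣ i) ∧ a ∈ 𝒜 i}

variable {N} {u}

include 𝒜 in
theorem exists_decomp (hu : (u : R) ∈ 𝒜 (N : ℤ)) (x : R) :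
    ∃ c ∈ 𝒜 0, ∃ y ∈ J 𝒜 N, x - c - y ∈ Ideal.span {(u : R) - 1} := by
  classical
  induction x using DirectSum.Decomposition.inductionOn 𝒜 with
  | zero => exact ⟨0, zero_mem _, 0, zero_mem _, by simp⟩
  | @homogeneous i m =>
    by_cases hdiv : (N : ℤ) ∣ i
    · obtain ⟨k, rfl⟩ := hdiv
      refine ⟨(m : R) * ((u ^ (-k) : Rˣ) : R), ?_, 0, zero_mem _, ?_⟩
      · have h1 := zpow_mem 𝒜 u hu (-k)
        have h2 := SetLike.GradedMul.mul_mem m.2 h1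
        have e : (N : ℤ) * k + -k * (N : ℤ) = 0 := by ring
        rw [e] at h2
        exact h2
      · rw [← Ideal.Quotient.eq_zero_iff_mem, map_sub, map_sub, map_mul, mk_zpow, mul_one, sub_self,
          map_zero, sub_zero]
    · refine ⟨0, zero_mem _, (m : R), Ideal.subset_span ⟨i, hdiv, m.2⟩, ?_⟩
      simp
  | add x₁ x₂ h₁ h₂ =>
    obtain ⟨c₁, hc₁, y₁, hy₁, h₁⟩ := h₁
    obtain ⟨c₂, hc₂, y₂, hy₂, h₂⟩ := h₂
    refine ⟨c₁ + c₂, add_mem hc₁ hc₂, y₁ + y₂, add_mem hy₁ hy₂, ?_⟩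
    have e : x₁ + x₂ - (c₁ + c₂) - (y₁ + y₂) = (x₁ - c₁ - y₁) + (x₂ - c₂ - y₂) := by ring
    rw [e]
    exact add_mem h₁ h₂

theorem isIntegral_mk (hN : 0 < N) (hu : (u : R) ∈ 𝒜 (N : ℤ)) (x : R) :
    IsIntegral (SetLike.GradeZero.subring 𝒜) (Ideal.Quotient.mk (Ideal.span {(u : R) - 1}) x) := by
  classical
  induction x using DirectSum.Decomposition.inductionOn 𝒜 with
  | zero => rw [map_zero]; exact isIntegral_zero
  | @homogeneous i m =>
    have h1 := zpow_mem 𝒜 u hu (-i)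
    have h2 : (m : R) ^ N ∈ 𝒜 (N • i) := SetLike.pow_mem_graded N m.2
    have h3 : (m : R) ^ N * ((u ^ (-i) : Rˣ) : R) ∈ 𝒜 0 := by
      have h := SetLike.GradedMul.mul_mem h2 h1
      have e : N • i + -i * (N : ℤ) = 0 := by rw [nsmul_eq_mul]; ring
      rw [e] at h
      exact h
    have h4 : (Ideal.Quotient.mk (Ideal.span {(u : R) - 1}) (m : R)) ^ N =
        algebraMap (SetLike.GradeZero.subring 𝒜) (R ⧸ Ideal.span {(u : R) - 1})
          ⟨(m : R) ^ N * ((u ^ (-i) : Rˣ) : R), h3⟩ := by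
      rw [← Ideal.Quotient.mk_algebraMap]
      show _ = Ideal.Quotient.mk _ ((m : R) ^ N * ((u ^ (-i) : Rˣ) : R))
      rw [map_mul, mk_zpow, mul_one, map_pow]
    exact IsIntegral.of_pow hN (h4 ▸ isIntegral_algebraMap)
  | add x₁ x₂ h₁ h₂ =>
    rw [map_add]
    exact h₁.add h₂

variable [IsLocalRing (SetLike.GradeZero.subring 𝒜)]

theorem mk_mem_of_mem_maximalIdeal (hN : 0 < N) (hu : (u : R) ∈ 𝒜 (N : ℤ))
    (𝔪 : Ideal (R ⧸ Ideal.span {(u : R) - 1})) [𝔪.IsMaximal]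
    (c : SetLike.GradeZero.subring 𝒜) (hc : c ∈ maximalIdeal (SetLike.GradeZero.subring 𝒜)) :
    Ideal.Quotient.mk (Ideal.span {(u : R) - 1}) (c : R) ∈ 𝔪 := by
  haveI : Algebra.IsIntegral (SetLike.GradeZero.subring 𝒜) (R ⧸ Ideal.span {(u : R) - 1}) :=
    ⟨fun z => by
      obtain ⟨x, rfl⟩ := Ideal.Quotient.mk_surjective z
      exact isIntegral_mk 𝒜 hN hu x⟩
  have hmax : (𝔪.comap (algebraMap (SetLike.GradeZero.subring 𝒜)
      (R ⧸ Ideal.span {(u : R) - 1}))).IsMaximal :=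
    Ideal.isMaximal_comap_of_isIntegral_of_isMaximal 𝔪
  have h := IsLocalRing.eq_maximalIdeal hmax
  rw [← h, Ideal.mem_comap, ← Ideal.Quotient.mk_algebraMap] at hc
  exact hc

theorem mk_mem_of_not_dvd (hN : 0 < N) (hu : (u : R) ∈ 𝒜 (N : ℤ))
    (hmin : ∀ (n : ℤ), 0 < n → n < (N : ℤ) → ∀ s ∈ 𝒜 n, ¬ IsUnit s)
    (𝔪 : Ideal (R ⧸ Ideal.span {(u : R) - 1})) [𝔪.IsMaximal] {i : ℤ} (hi : ¬ ((N : ℤ) ∣ i))
    {a : R} (ha : a ∈ 𝒜 i) :
    Ideal.Quotient.mk (Ideal.span {(u : R) - 1}) a ∈ 𝔪 := by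
  have h1 := zpow_mem 𝒜 u hu (-i)
  have h2 : a ^ N ∈ 𝒜 (N • i) := SetLike.pow_mem_graded N ha
  have h3 : a ^ N * ((u ^ (-i) : Rˣ) : R) ∈ 𝒜 0 := by
    have h := SetLike.GradedMul.mul_mem h2 h1
    have e : N • i + -i * (N : ℤ) = 0 := by rw [nsmul_eq_mul]; ring
    rw [e] at h
    exact h
  have hc : (⟨a ^ N * ((u ^ (-i) : Rˣ) : R), h3⟩ : SetLike.GradeZero.subring 𝒜) ∈
      maximalIdeal (SetLike.GradeZero.subring 𝒜) := by
    by_contra hnot
    rw [mem_maximalIdeal, mem_nonunits_iff, not_not] at hnot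
    have h4 : IsUnit (a ^ N * ((u ^ (-i) : Rˣ) : R)) :=
      hnot.map (SetLike.GradeZero.subring 𝒜).subtype
    have h5 : IsUnit (a ^ N) := (Units.isUnit_mul_units _ _).mp h4
    have h6 : IsUnit a := (isUnit_pow_iff hN.ne').mp h5
    have h7 : IsUnit (a * ((u ^ (-(i / (N : ℤ))) : Rˣ) : R)) :=
      (Units.isUnit_mul_units _ _).mpr h6
    have h8 : a * ((u ^ (-(i / (N : ℤ))) : Rˣ) : R) ∈ 𝒜 (i % (N : ℤ)) := by
      have h := SetLike.GradedMul.mul_mem ha (zpow_mem 𝒜 u hu (-(i / (N : ℤ))))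
      have e : i + -(i / (N : ℤ)) * (N : ℤ) = i % (N : ℤ) := by
        rw [Int.emod_def]; ring
      rw [e] at h
      exact h
    have hNpos : (0 : ℤ) < (N : ℤ) := by exact_mod_cast hN
    have h9 : 0 < i % (N : ℤ) := by
      have h := Int.emod_nonneg i hNpos.ne'
      rcases h.lt_or_eq with h | h
      · exact h
      · exact absurd (Int.dvd_of_emod_eq_zero h.symm) hi
    exact hmin _ h9 (Int.emod_lt_of_pos i hNpos) _ h8 h7
  have h4 := mk_mem_of_mem_maximalIdeal 𝒜 hN hu 𝔪 _ hc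
  have h5 : Ideal.Quotient.mk (Ideal.span {(u : R) - 1}) (a ^ N * ((u ^ (-i) : Rˣ) : R)) =
      (Ideal.Quotient.mk (Ideal.span {(u : R) - 1}) a) ^ N := by
    rw [map_mul, mk_zpow, mul_one, map_pow]
  have h6 : (Ideal.Quotient.mk (Ideal.span {(u : R) - 1}) a) ^ N ∈ 𝔪 := by
    rw [← h5]; exact h4
  exact Ideal.IsPrime.mem_of_pow_mem (Ideal.IsMaximal.isPrime ‹_›) N h6

theorem mk_mem_of_mem_J (hN : 0 < N) (hu : (u : R) ∈ 𝒜 (N : ℤ))
    (hmin : ∀ (n : ℤ), 0 < n → n < (N : ℤ) → ∀ s ∈ 𝒜 n, ¬ IsUnit s)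
    (𝔪 : Ideal (R ⧸ Ideal.span {(u : R) - 1})) [𝔪.IsMaximal] {y : R} (hy : y ∈ J 𝒜 N) :
    Ideal.Quotient.mk (Ideal.span {(u : R) - 1}) y ∈ 𝔪 := by
  have hle : J 𝒜 N ≤ 𝔪.comap (Ideal.Quotient.mk (Ideal.span {(u : R) - 1})) := by
    rw [J, Ideal.span_le]
    rintro a ⟨i, hi, ha⟩
    exact mk_mem_of_not_dvd 𝒜 hN hu hmin 𝔪 hi ha
  exact hle hy

theorem mk_mem_iff (hN : 0 < N) (hu : (u : R) ∈ 𝒜 (N : ℤ))
    (hmin : ∀ (n : ℤ), 0 < n → n < (N : ℤ) → ∀ s ∈ 𝒜 n, ¬ IsUnit s)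
    (𝔪 : Ideal (R ⧸ Ideal.span {(u : R) - 1})) [𝔪.IsMaximal] {x c y : R} (hc : c ∈ 𝒜 0)
    (hy : y ∈ J 𝒜 N) (hx : x - c - y ∈ Ideal.span {(u : R) - 1}) :
    Ideal.Quotient.mk (Ideal.span {(u : R) - 1}) x ∈ 𝔪 ↔
      (⟨c, hc⟩ : SetLike.GradeZero.subring 𝒜) ∈ maximalIdeal (SetLike.GradeZero.subring 𝒜) := by
  have h1 : Ideal.Quotient.mk (Ideal.span {(u : R) - 1}) x =
      Ideal.Quotient.mk (Ideal.span {(u : R) - 1}) c +
        Ideal.Quotient.mk (Ideal.span {(u : R) - 1}) y := by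
    rw [← Ideal.Quotient.eq_zero_iff_mem, map_sub, map_sub] at hx
    rw [← sub_eq_zero, ← hx]
    ring
  have h2 := mk_mem_of_mem_J 𝒜 hN hu hmin 𝔪 hy
  rw [h1]
  constructor
  · intro h
    have h3 : Ideal.Quotient.mk (Ideal.span {(u : R) - 1}) c ∈ 𝔪 := by
      have := 𝔪.sub_mem h h2
      rwa [add_sub_cancel_right] at this
    by_contra hnot
    rw [mem_maximalIdeal, mem_nonunits_iff, not_not] at hnot
    have h4 : IsUnit c := hnot.map (SetLike.GradeZero.subring 𝒜).subtype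
    have h5 : IsUnit (Ideal.Quotient.mk (Ideal.span {(u : R) - 1}) c) := h4.map _
    exact (Ideal.IsMaximal.ne_top ‹_›) (Ideal.eq_top_of_isUnit_mem _ h3 h5)
  · intro h
    exact 𝔪.add_mem (mk_mem_of_mem_maximalIdeal 𝒜 hN hu 𝔪 _ h) h2

/-- **`R/(t-1)` is a local ring.** -/
theorem isLocalRing_quot (hN : 0 < N) (hu : (u : R) ∈ 𝒜 (N : ℤ))
    (hmin : ∀ (n : ℤ), 0 < n → n < (N : ℤ) → ∀ s ∈ 𝒜 n, ¬ IsUnit s) :
    IsLocalRing (R ⧸ Ideal.span {(u : R) - 1}) := by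
  haveI : Nontrivial R :=
    Function.Injective.nontrivial (f := (SetLike.GradeZero.subring 𝒜).subtype)
      Subtype.val_injective
  have hNpos : (0 : ℤ) < (N : ℤ) := by exact_mod_cast hN
  haveI : Nontrivial (R ⧸ Ideal.span {(u : R) - 1}) := by
    rw [Ideal.Quotient.nontrivial_iff]
    intro htop
    exact sub_one_not_isUnit 𝒜 hNpos u hu (Ideal.span_singleton_eq_top.mp htop)
  obtain ⟨𝔪, h𝔪⟩ := Ideal.exists_maximal (R ⧸ Ideal.span {(u : R) - 1})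
  refine IsLocalRing.of_unique_max_ideal ⟨𝔪, h𝔪, fun 𝔪' h𝔪' => ?_⟩
  ext z
  obtain ⟨x, rfl⟩ := Ideal.Quotient.mk_surjective z
  obtain ⟨c, hc, y, hy, hx⟩ := exists_decomp 𝒜 hu x
  rw [mk_mem_iff 𝒜 hN hu hmin 𝔪' hc hy hx, mk_mem_iff 𝒜 hN hu hmin 𝔪 hc hy hx]

/-- **`R/(t-1)` is a regular local ring.** -/
theorem isRegularLocalRing_quot_unit [IsNoetherianRing R]
    (hreg : ∀ (p : Ideal R) [p.IsPrime], IsRegularLocalRing (Localization.AtPrime p))
    (hN : 0 < N) (hu : (u : R) ∈ 𝒜 (N : ℤ))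
    (hmin : ∀ (n : ℤ), 0 < n → n < (N : ℤ) → ∀ s ∈ 𝒜 n, ¬ IsUnit s) :
    IsRegularLocalRing (R ⧸ Ideal.span {(u : R) - 1}) := by
  classical
  haveI := isLocalRing_quot 𝒜 hN hu hmin
  have hNpos : (0 : ℤ) < (N : ℤ) := by exact_mod_cast hN
  set 𝔫 := maximalIdeal (R ⧸ Ideal.span {(u : R) - 1}) with h𝔫
  set 𝔑 : Ideal R := 𝔫.comap (Ideal.Quotient.mk (Ideal.span {(u : R) - 1})) with h𝔑
  haveI h𝔑p : 𝔑.IsPrime := Ideal.comap_isPrime _ _
  have htP : (u : R) - 1 ∈ 𝔑 := by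
    rw [h𝔑, Ideal.mem_comap]
    have h0 : Ideal.Quotient.mk (Ideal.span {(u : R) - 1}) ((u : R) - 1) = 0 :=
      Ideal.Quotient.eq_zero_iff_mem.mpr (Ideal.mem_span_singleton_self _)
    rw [h0]
    exact zero_mem _
  haveI := hreg 𝔑
  have hcp : (Ideal.homogeneousCore 𝒜 𝔑).toIdeal.IsPrime := Ideal.IsPrime.homogeneousCore ‹_›
  have hcore_le : (Ideal.homogeneousCore 𝒜 𝔑).toIdeal ≤ 𝔑 := Ideal.toIdeal_homogeneousCore_le 𝒜 𝔑
  have hJ : J 𝒜 N ≤ (Ideal.homogeneousCore 𝒜 𝔑).toIdeal := by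
    rw [J, Ideal.span_le]
    rintro a ⟨i, hi, ha⟩
    exact Ideal.mem_homogeneousCore_of_homogeneous_of_mem ⟨i, ha⟩
      (mk_mem_of_not_dvd 𝒜 hN hu hmin 𝔫 hi ha)
  have hsup : 𝔑 ≤ (Ideal.homogeneousCore 𝒜 𝔑).toIdeal ⊔ Ideal.span {(u : R) - 1} := by
    intro x hx
    obtain ⟨c, hc, y, hy, hxcy⟩ := exists_decomp 𝒜 hu x
    have hc' := (mk_mem_iff 𝒜 hN hu hmin 𝔫 hc hy hxcy).mp hx
    have hc𝔑 : c ∈ 𝔑 := mk_mem_of_mem_maximalIdeal 𝒜 hN hu 𝔫 ⟨c, hc⟩ hc'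
    have hccore : c ∈ (Ideal.homogeneousCore 𝒜 𝔑).toIdeal :=
      Ideal.mem_homogeneousCore_of_homogeneous_of_mem ⟨0, hc⟩ hc𝔑
    have e : x = (c + y) + (x - c - y) := by ring
    rw [e]
    exact Submodule.add_mem_sup (add_mem hccore (hJ hy)) hxcy
  have hnot : (u : R) - 1 ∉ (Ideal.homogeneousCore 𝒜 𝔑).toIdeal := by
    intro h
    have h0 := (Ideal.homogeneousCore 𝒜 𝔑).isHomogeneous 0 h
    rw [DirectSum.decompose_sub, DirectSum.sub_apply, AddSubgroupClass.coe_sub,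
      DirectSum.decompose_of_mem_ne 𝒜 hu (by omega : (N : ℤ) ≠ 0),
      DirectSum.decompose_of_mem_same 𝒜 SetLike.GradedOne.one_mem, zero_sub] at h0
    have h1 : (1 : R) ∈ 𝔑 := by
      have := 𝔑.neg_mem (hcore_le h0)
      rwa [neg_neg] at this
    exact (Ideal.IsPrime.ne_top h𝔑p) ((Ideal.eq_top_iff_one _).mpr h1)
  have hsq : 𝔑 ^ 2 ≤ (Ideal.homogeneousCore 𝒜 𝔑).toIdeal ⊔ Ideal.span {((u : R) - 1) ^ 2} := by
    rw [pow_two, Ideal.mul_le]
    intro a ha b hb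
    obtain ⟨a₁, ha₁, a₂, ha₂, rfl⟩ := Submodule.mem_sup.mp (hsup ha)
    obtain ⟨b₁, hb₁, b₂, hb₂, rfl⟩ := Submodule.mem_sup.mp (hsup hb)
    obtain ⟨r, rfl⟩ := Ideal.mem_span_singleton'.mp ha₂
    obtain ⟨r', rfl⟩ := Ideal.mem_span_singleton'.mp hb₂
    have e : (a₁ + r * ((u : R) - 1)) * (b₁ + r' * ((u : R) - 1)) =
        (a₁ * (b₁ + r' * ((u : R) - 1)) + r * ((u : R) - 1) * b₁) +
          (r * r') * ((u : R) - 1) ^ 2 := by ring
    rw [e]
    exact Submodule.add_mem_sup (add_mem (Ideal.mul_mem_right _ _ ha₁) (Ideal.mul_mem_left _ _ hb₁))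
      (Ideal.mem_span_singleton'.mpr ⟨r * r', rfl⟩)
  have hx2 : algebraMap R (Localization.AtPrime 𝔑) ((u : R) - 1) ∉
      maximalIdeal (Localization.AtPrime 𝔑) ^ 2 := by
    intro hmem
    rw [← Localization.AtPrime.map_eq_maximalIdeal, ← Ideal.map_pow] at hmem
    obtain ⟨⟨⟨a, ha⟩, ⟨s, hs⟩⟩, hsm⟩ :=
      (IsLocalization.mem_map_algebraMap_iff 𝔑.primeCompl (Localization.AtPrime 𝔑)).mp hmem
    simp only at hsm
    rw [← map_mul] at hsm
    obtain ⟨⟨c, hc⟩, hceq⟩ :=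
      (IsLocalization.eq_iff_exists 𝔑.primeCompl (Localization.AtPrime 𝔑)).mp hsm
    simp only at hceq
    have hmem2 : c * (((u : R) - 1) * s) ∈ 𝔑 ^ 2 := by
      rw [hceq]; exact Ideal.mul_mem_left _ _ ha
    obtain ⟨n₁, hn₁, z, hz, hsum⟩ := Submodule.mem_sup.mp (hsq hmem2)
    obtain ⟨r, rfl⟩ := Ideal.mem_span_singleton'.mp hz
    have h1 : ((u : R) - 1) * (c * s - r * ((u : R) - 1)) ∈
        (Ideal.homogeneousCore 𝒜 𝔑).toIdeal := by
      have e : ((u : R) - 1) * (c * s - r * ((u : R) - 1)) = n₁ := by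
        linear_combination (-1 : R) * hsum
      rw [e]
      exact hn₁
    rcases hcp.mem_or_mem h1 with h | h
    · exact hnot h
    · have hcs : c * s ∈ 𝔑 := by
        have h2 : c * s = (c * s - r * ((u : R) - 1)) + r * ((u : R) - 1) := by ring
        rw [h2]
        exact 𝔑.add_mem (hcore_le h) (𝔑.mul_mem_left _ htP)
      rcases h𝔑p.mem_or_mem hcs with h | h
      · exact hc h
      · exact hs h
  have hm := QR.algebraMap_mem_maximalIdeal htP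
  obtain ⟨hQreg, -⟩ := Groth.Agent.H9.regular_quotient_of_notMem_sq (Localization.AtPrime 𝔑)
    (algebraMap R (Localization.AtPrime 𝔑) ((u : R) - 1)) hm hx2
  haveI : (𝔑.map (Ideal.Quotient.mk (Ideal.span {(u : R) - 1}))).IsPrime := QR.map_mk_isPrime htP
  obtain ⟨e⟩ := QR.locQuot_equiv ((u : R) - 1) 𝔑 htP
  haveI := hQreg
  haveI hloc : IsRegularLocalRing
      (Localization.AtPrime (𝔑.map (Ideal.Quotient.mk (Ideal.span {(u : R) - 1})))) :=
    IsRegularLocalRing.of_ringEquiv e.symm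
  have hmap : 𝔑.map (Ideal.Quotient.mk (Ideal.span {(u : R) - 1})) = 𝔫 :=
    Ideal.map_comap_of_surjective _ Ideal.Quotient.mk_surjective 𝔫
  have gen : ∀ (I : Ideal (R ⧸ Ideal.span {(u : R) - 1})) [I.IsPrime],
      I = maximalIdeal (R ⧸ Ideal.span {(u : R) - 1}) →
      IsRegularLocalRing (Localization.AtPrime I) →
      IsRegularLocalRing (R ⧸ Ideal.span {(u : R) - 1}) := by
    intro I _ hI h
    subst hI
    exact Groth.Agent.H15.FlatLoc.isRegularLocalRing_of_locMax _ h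
  exact gen _ hmap hloc

end Main

end Groth.Agent.H71.GrUnitQuot
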