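import Mathlib
import Groth.Agent.H71.GrUnitQuot
import Groth.Agent.H71.GrCoact
import Groth.Agent.H71.BassGr
import Groth.Agent.H71.CMFormal

/-!
# `R[U]/(U^N - t) ≅ (R/(t-1))[T;T⁻¹]` for a `ℤ`-graded ring with a homogeneous unit `t` of degree
`N` (helper71)
-/

set_option autoImplicit false
set_option linter.style.haveILetI false
set_option linter.unusedSectionVars false

universe u

open IsLocalRing LaurentPolynomial

namespace Groth.Agent.H71.GrUnitQuot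

open Groth.Agent.H71.GrCoact

section TUnit

variable (S : Type u) [CommRing S]

/-- `T` as a unit of the Laurent polynomial ring -/
noncomputable def Tu : (S[T;T⁻¹])ˣ where
  val := T 1
  inv := T (-1)
  val_inv := by rw [← T_add]; simp
  inv_val := by rw [← T_add]; simp

theorem Tu_zpow (k : ℤ) : ((Tu S ^ k : (S[T;T⁻¹])ˣ) : S[T;T⁻¹]) = T k := by
  have hnat : ∀ m : ℕ, ((Tu S ^ m : (S[T;T⁻¹])ˣ) : S[T;T⁻¹]) = T (m : ℤ) := by
    intro m
    rw [Units.val_pow_eq_pow_val]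
    show (T 1 : S[T;T⁻¹]) ^ m = _
    rw [T_pow, mul_one]
  cases k with
  | ofNat m =>
    rw [Int.ofNat_eq_natCast, zpow_natCast]
    exact hnat m
  | negSucc m =>
    rw [zpow_negSucc]
    have h : (Tu S ^ (m + 1))⁻¹ = ⟨T (-((m + 1 : ℕ) : ℤ)), T ((m + 1 : ℕ) : ℤ),
        by rw [← T_add]; simp, by rw [← T_add]; simp⟩ := by
      apply inv_eq_of_mul_eq_one_right
      apply Units.ext
      rw [Units.val_mul, hnat]
      show T ((m + 1 : ℕ) : ℤ) * T (-((m + 1 : ℕ) : ℤ)) = 1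
      rw [← T_add]; simp
    rw [h, Int.negSucc_eq]
    push_cast
    rfl

end TUnit

variable {R : Type u} [CommRing R] (𝒜 : ℤ → AddSubgroup R) [GradedRing 𝒜] (N : ℕ) (u : Rˣ)

theorem root_pow :
    AdjoinRoot.root (Polynomial.X ^ N - Polynomial.C (u : R) : Polynomial R) ^ N = AdjoinRoot.of (Polynomial.X ^ N - Polynomial.C (u : R) : Polynomial R) u := by
  have h := AdjoinRoot.eval₂_root (Polynomial.X ^ N - Polynomial.C (u : R) : Polynomial R)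
  rw [Polynomial.eval₂_sub, Polynomial.eval₂_pow, Polynomial.eval₂_X, Polynomial.eval₂_C] at h
  exact sub_eq_zero.mp h

/-- the root of `U^N - t` is a unit -/
noncomputable def rootUnit (hN : 0 < N) : (AdjoinRoot (Polynomial.X ^ N - Polynomial.C (u : R) : Polynomial R))ˣ where
  val := AdjoinRoot.root _
  inv := AdjoinRoot.root _ ^ (N - 1) * AdjoinRoot.of _ ((u⁻¹ : Rˣ) : R)
  val_inv := by
    rw [← mul_assoc, ← pow_succ', Nat.sub_add_cancel hN, root_pow, ← map_mul, Units.mul_inv, map_one]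
  inv_val := by
    rw [mul_comm, ← mul_assoc, ← pow_succ', Nat.sub_add_cancel hN, root_pow, ← map_mul,
      Units.mul_inv, map_one]

theorem rootUnit_pow (hN : 0 < N) :
    ((rootUnit N u hN ^ (N : ℤ) : (AdjoinRoot (Polynomial.X ^ N - Polynomial.C (u : R) : Polynomial R))ˣ) :
      AdjoinRoot (Polynomial.X ^ N - Polynomial.C (u : R) : Polynomial R)) = AdjoinRoot.of _ (u : R) := by
  rw [zpow_natCast, Units.val_pow_eq_pow_val]
  exact root_pow N u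

/-- `R → (R/(t-1))[T;T⁻¹]`, `r_g ↦ [r_g] T^g` -/
noncomputable def toLaurentC : R →+* (R ⧸ Ideal.span {(u : R) - 1})[T;T⁻¹] :=
  (AddMonoidAlgebra.mapRingHom ℤ (Ideal.Quotient.mk (Ideal.span {(u : R) - 1}))).comp
    (coact 𝒜 (AddMonoidHom.id ℤ))

theorem toLaurentC_of_mem {g : ℤ} {r : R} (hr : r ∈ 𝒜 g) :
    toLaurentC 𝒜 u r = C (Ideal.Quotient.mk (Ideal.span {(u : R) - 1}) r) * T g := by
  rw [toLaurentC, RingHom.comp_apply, coact_of_mem 𝒜 _ hr, AddMonoidAlgebra.mapRingHom_single,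
    ← single_eq_C_mul_T]
  rfl

/-- the forward map `R[U]/(U^N - t) → (R/(t-1))[T;T⁻¹]` -/
noncomputable def Φ (hu : (u : R) ∈ 𝒜 (N : ℤ)) :
    AdjoinRoot (Polynomial.X ^ N - Polynomial.C (u : R) : Polynomial R) →+* (R ⧸ Ideal.span {(u : R) - 1})[T;T⁻¹] :=
  AdjoinRoot.lift (toLaurentC 𝒜 u) (T 1) (by
    rw [Polynomial.eval₂_sub, Polynomial.eval₂_pow, Polynomial.eval₂_X, Polynomial.eval₂_C, toLaurentC_of_mem 𝒜 u hu, T_pow, mul_one]
    have h1 : Ideal.Quotient.mk (Ideal.span {(u : R) - 1}) (u : R) = 1 := by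
      have := mk_zpow u 1
      rwa [zpow_one] at this
    rw [h1, map_one, one_mul, sub_self])

/-- `R → R[U]/(U^N - t)`, `r_g ↦ r_g U^{-g}` -/
noncomputable def ψ' (hN : 0 < N) : R →+* AdjoinRoot (Polynomial.X ^ N - Polynomial.C (u : R) : Polynomial R) :=
  (LaurentPolynomial.eval₂ (AdjoinRoot.of (Polynomial.X ^ N - Polynomial.C (u : R) : Polynomial R)) (rootUnit N u hN)).comp
    (coact 𝒜 (-AddMonoidHom.id ℤ))

theorem ψ'_of_mem (hN : 0 < N) {g : ℤ} {r : R} (hr : r ∈ 𝒜 g) :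
    ψ' 𝒜 N u hN r = AdjoinRoot.of _ r *
      ((rootUnit N u hN ^ (-g) : (AdjoinRoot (Polynomial.X ^ N - Polynomial.C (u : R) : Polynomial R))ˣ) : AdjoinRoot _) := by
  rw [ψ', RingHom.comp_apply, coact_of_mem 𝒜 _ hr, single_eq_C_mul_T, eval₂_C_mul_T]
  rfl

theorem ψ'_sub_one (hN : 0 < N) (hu : (u : R) ∈ 𝒜 (N : ℤ)) : ψ' 𝒜 N u hN ((u : R) - 1) = 0 := by
  rw [map_sub, map_one, ψ'_of_mem 𝒜 N u hN hu, ← rootUnit_pow N u hN, ← Units.val_mul,
    ← zpow_add, add_neg_cancel, zpow_zero, Units.val_one, sub_self]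

/-- `R/(t-1) → R[U]/(U^N - t)` -/
noncomputable def ψ₀ (hN : 0 < N) (hu : (u : R) ∈ 𝒜 (N : ℤ)) :
    (R ⧸ Ideal.span {(u : R) - 1}) →+* AdjoinRoot (Polynomial.X ^ N - Polynomial.C (u : R) : Polynomial R) :=
  Ideal.Quotient.lift _ (ψ' 𝒜 N u hN) (by
    intro a ha
    obtain ⟨b, rfl⟩ := Ideal.mem_span_singleton'.mp ha
    rw [map_mul, ψ'_sub_one 𝒜 N u hN hu, mul_zero])

/-- the backward map `(R/(t-1))[T;T⁻¹] → R[U]/(U^N - t)` -/
noncomputable def Ψ (hN : 0 < N) (hu : (u : R) ∈ 𝒜 (N : ℤ)) :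
    (R ⧸ Ideal.span {(u : R) - 1})[T;T⁻¹] →+* AdjoinRoot (Polynomial.X ^ N - Polynomial.C (u : R) : Polynomial R) :=
  LaurentPolynomial.eval₂ (ψ₀ 𝒜 N u hN hu) (rootUnit N u hN)

theorem Φ_root (hu : (u : R) ∈ 𝒜 (N : ℤ)) : Φ 𝒜 N u hu (AdjoinRoot.root _) = T 1 :=
  AdjoinRoot.lift_root _

theorem Φ_of (hu : (u : R) ∈ 𝒜 (N : ℤ)) (r : R) :
    Φ 𝒜 N u hu (AdjoinRoot.of _ r) = toLaurentC 𝒜 u r :=
  AdjoinRoot.lift_of _

theorem Φ_rootUnit_zpow (hN : 0 < N) (hu : (u : R) ∈ 𝒜 (N : ℤ)) (k : ℤ) :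
    Φ 𝒜 N u hu ((rootUnit N u hN ^ k : (AdjoinRoot (Polynomial.X ^ N - Polynomial.C (u : R) : Polynomial R))ˣ) : AdjoinRoot _)
      = T k := by
  have h1 : Units.map (Φ 𝒜 N u hu : AdjoinRoot (Polynomial.X ^ N - Polynomial.C (u : R) : Polynomial R) →* _) (rootUnit N u hN) =
      Tu (R ⧸ Ideal.span {(u : R) - 1}) := Units.ext (Φ_root 𝒜 N u hu)
  have h2 : Units.map (Φ 𝒜 N u hu : AdjoinRoot (Polynomial.X ^ N - Polynomial.C (u : R) : Polynomial R) →* _)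
      (rootUnit N u hN ^ k) = Tu (R ⧸ Ideal.span {(u : R) - 1}) ^ k := by
    rw [map_zpow, h1]
  have h3 := congrArg (fun v : ((R ⧸ Ideal.span {(u : R) - 1})[T;T⁻¹])ˣ =>
    (v : (R ⧸ Ideal.span {(u : R) - 1})[T;T⁻¹])) h2
  simp only [Units.coe_map, Tu_zpow] at h3
  exact h3

theorem Ψ_Φ (hN : 0 < N) (hu : (u : R) ∈ 𝒜 (N : ℤ))
    (z : AdjoinRoot (Polynomial.X ^ N - Polynomial.C (u : R) : Polynomial R)) : Ψ 𝒜 N u hN hu (Φ 𝒜 N u hu z) = z := by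
  classical
  have hof : ∀ r : R, Ψ 𝒜 N u hN hu (Φ 𝒜 N u hu (AdjoinRoot.of _ r)) = AdjoinRoot.of _ r := by
    intro r
    induction r using DirectSum.Decomposition.inductionOn 𝒜 with
    | zero => simp
    | @homogeneous g m =>
      rw [Φ_of, toLaurentC_of_mem 𝒜 u m.2, Ψ, eval₂_C_mul_T]
      show ψ' 𝒜 N u hN (m : R) * _ = _
      rw [ψ'_of_mem 𝒜 N u hN m.2, mul_assoc, ← Units.val_mul, ← zpow_add, neg_add_cancel,
        zpow_zero, Units.val_one, mul_one]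
    | add x y hx hy => rw [map_add, map_add, map_add, hx, hy]
  have hroot : Ψ 𝒜 N u hN hu (Φ 𝒜 N u hu (AdjoinRoot.root _)) = AdjoinRoot.root _ := by
    rw [Φ_root, Ψ, eval₂_T, zpow_one]
    rfl
  have h : ((Ψ 𝒜 N u hN hu).comp (Φ 𝒜 N u hu)).comp (AdjoinRoot.mk _) =
      (RingHom.id _).comp (AdjoinRoot.mk (Polynomial.X ^ N - Polynomial.C (u : R) : Polynomial R)) := by
    apply Polynomial.ringHom_ext
    · intro r
      simp only [RingHom.comp_apply, RingHom.id_apply, AdjoinRoot.mk_C]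
      exact hof r
    · simp only [RingHom.comp_apply, RingHom.id_apply, AdjoinRoot.mk_X]
      exact hroot
  obtain ⟨g, rfl⟩ := AdjoinRoot.mk_surjective z
  exact congrArg (fun φ : Polynomial R →+* AdjoinRoot (Polynomial.X ^ N - Polynomial.C (u : R) : Polynomial R) => φ g) h

theorem Φ_Ψ (hN : 0 < N) (hu : (u : R) ∈ 𝒜 (N : ℤ))
    (z : (R ⧸ Ideal.span {(u : R) - 1})[T;T⁻¹]) : Φ 𝒜 N u hu (Ψ 𝒜 N u hN hu z) = z := by
  classical
  induction z using LaurentPolynomial.induction_on' with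
  | add p q hp hq => rw [map_add, map_add, hp, hq]
  | C_mul_T n a =>
    obtain ⟨r, rfl⟩ := Ideal.Quotient.mk_surjective a
    induction r using DirectSum.Decomposition.inductionOn 𝒜 with
    | zero => simp
    | @homogeneous g m =>
      rw [Ψ, eval₂_C_mul_T]
      show Φ 𝒜 N u hu (ψ' 𝒜 N u hN (m : R) * _) = _
      rw [ψ'_of_mem 𝒜 N u hN m.2, map_mul, map_mul, Φ_of, Φ_rootUnit_zpow, Φ_rootUnit_zpow,
        toLaurentC_of_mem 𝒜 u m.2, mul_assoc, mul_assoc, ← T_add, ← T_add,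
        show g + (-g + n) = n by ring]
    | add x y hx hy =>
      rw [map_add, map_add, add_mul, map_add, map_add, hx, hy]

/-- **`R[U]/(U^N - t) ≅ (R/(t-1))[T;T⁻¹]`.** -/
noncomputable def adjoinRootEquiv (hN : 0 < N) (hu : (u : R) ∈ 𝒜 (N : ℤ)) :
    AdjoinRoot (Polynomial.X ^ N - Polynomial.C (u : R) : Polynomial R) ≃+* (R ⧸ Ideal.span {(u : R) - 1})[T;T⁻¹] :=
  RingEquiv.ofRingHom (Φ 𝒜 N u hu) (Ψ 𝒜 N u hN hu)
    (RingHom.ext fun z => Φ_Ψ 𝒜 N u hN hu z) (RingHom.ext fun z => Ψ_Φ 𝒜 N u hN hu z)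

variable {N} {u}

/-- **`R[U]/(U^N - t)` is a regular ring.** -/
theorem isRegularRing_adjoinRoot [IsNoetherianRing R]
    [IsLocalRing (SetLike.GradeZero.subring 𝒜)]
    (hreg : ∀ (p : Ideal R) [p.IsPrime], IsRegularLocalRing (Localization.AtPrime p))
    (hN : 0 < N) (hu : (u : R) ∈ 𝒜 (N : ℤ))
    (hmin : ∀ (n : ℤ), 0 < n → n < (N : ℤ) → ∀ s ∈ 𝒜 n, ¬ IsUnit s) :
    IsRegularRing (AdjoinRoot (Polynomial.X ^ N - Polynomial.C (u : R) : Polynomial R)) := by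
  haveI := isRegularLocalRing_quot_unit 𝒜 hreg hN hu hmin
  haveI : IsRegularRing (R ⧸ Ideal.span {(u : R) - 1}) :=
    Groth.Agent.H71.CMFormal.isRegularRing_of_isRegularLocalRing _
  haveI := Groth.Agent.H71.BassGr.isRegularRing_laurent (R ⧸ Ideal.span {(u : R) - 1})
  exact IsRegularRing.of_ringEquiv (adjoinRootEquiv 𝒜 N u hN hu).symm

/-- the product condition forces `N` to be the least positive degree of a unit -/
theorem hmin_of_hm [IsLocalRing (SetLike.GradeZero.subring 𝒜)] (hu : (u : R) ∈ 𝒜 (N : ℤ))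
    (hm : ∀ (i j : ℤ), 0 < i → 0 < j → i + j = (N : ℤ) → ∀ a ∈ 𝒜 i, ∀ b ∈ 𝒜 j,
      ∃ c : SetLike.GradeZero.subring 𝒜, c ∈ maximalIdeal (SetLike.GradeZero.subring 𝒜) ∧
        a * b = (c : R) * (u : R)) :
    ∀ (n : ℤ), 0 < n → n < (N : ℤ) → ∀ s ∈ 𝒜 n, ¬ IsUnit s := by
  rintro n hn hnN s hs ⟨v, rfl⟩
  have h1 : ((v⁻¹ : Rˣ) : R) * (u : R) ∈ 𝒜 (-n + (N : ℤ)) :=
    SetLike.GradedMul.mul_mem (inv_mem 𝒜 v hs) hu
  obtain ⟨c, hc, hcu⟩ := hm n (-n + (N : ℤ)) hn (by omega) (by ring) (v : R) hs _ h1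
  rw [← mul_assoc, Units.mul_inv, one_mul] at hcu
  have h2 : (c : R) = 1 := by
    have h3 : (u : R) * ((c : R) - 1) = 0 := by rw [mul_sub, mul_one, mul_comm, ← hcu, sub_self]
    exact sub_eq_zero.mp (u.mul_right_eq_zero.mp h3)
  have h4 : c = 1 := Subtype.ext h2
  rw [h4] at hc
  exact (maximalIdeal.isMaximal _).ne_top ((Ideal.eq_top_iff_one _).mpr hc)

end Groth.Agent.H71.GrUnitQuot
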