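import Mathlib
import Groth.Agent.H71.NITRes
import Groth.Agent.S0563
import Groth.Agent.H23.RegularLocal

/-!
# Presentation `0 → R^m → R^{m+1} → I → 0` of an ideal in a two-dimensional regular local ring
-/

set_option autoImplicit false
universe u

namespace Groth.Agent.H71.HB

open CategoryTheory IsLocalRing

/-- rank count for a presentation of a nonzero ideal of a domain -/
lemma rank_rel {R : Type u} [CommRing R] [IsDomain R] {n m : ℕ}
    (φ : (Fin m → R) →ₗ[R] (Fin n → R)) {I : Ideal R} (ψ : (Fin n → R) →ₗ[R] I)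
    (hφ : Function.Injective φ) (hψ : Function.Surjective ψ)
    (hex : LinearMap.ker ψ = LinearMap.range φ) (hI : I ≠ ⊥) : n = m + 1 := by
  haveI : Module.Finite R I := Module.Finite.of_surjective ψ hψ
  have h1 := (LinearMap.ker ψ).finrank_quotient_add_finrank
  have h2 : Module.finrank R ((Fin n → R) ⧸ LinearMap.ker ψ) = Module.finrank R I :=
    (ψ.quotKerEquivOfSurjective hψ).finrank_eq
  have h3 : Module.finrank R (LinearMap.ker ψ) = m := by
    rw [hex, ← (LinearEquiv.ofInjective φ hφ).finrank_eq, Module.finrank_fin_fun]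
  have h4 : Module.finrank R I = 1 := by
    apply le_antisymm
    · have := Submodule.finrank_le I
      rwa [Module.finrank_self] at this
    · obtain ⟨x, hxI, hx0⟩ := Submodule.exists_mem_ne_zero_of_ne_bot hI
      have hinj : Function.Injective (LinearMap.toSpanSingleton R I ⟨x, hxI⟩) := by
        intro r s hrs
        have h5 : r * x = s * x := congrArg Subtype.val hrs
        exact mul_right_cancel₀ hx0 h5
      have := LinearMap.finrank_le_finrank_of_injective hinj
      rwa [Module.finrank_self] at this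
  rw [h2, h3, h4, Module.finrank_fin_fun] at h1
  omega

/-- a two-term free presentation of an ideal in a two-dimensional regular local ring -/
theorem exists_pres (R : Type u) [CommRing R] [IsRegularLocalRing R] (hdim : ringKrullDim R = 2)
    (I : Ideal R) :
    ∃ (n m : ℕ) (φ : (Fin m → R) →ₗ[R] (Fin n → R)) (ψ : (Fin n → R) →ₗ[R] I),
      Function.Injective φ ∧ Function.Surjective ψ ∧ LinearMap.ker ψ = LinearMap.range φ := by
  have hpd3 : HasProjectiveDimensionLT (ModuleCat.of R (R ⧸ I)) 3 :=
    Groth.Agent.S0563.result R 2 (by rw [hdim]; rfl) (R ⧸ I)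
  have hfg : Function.Exact I.subtype I.mkQ := LinearMap.exact_subtype_mkQ I
  have hS : (ModuleCat.shortComplexOfCompEqZero I.subtype I.mkQ
      hfg.linearMap_comp_eq_zero).ShortExact :=
    ModuleCat.shortComplex_shortExact _ hfg I.injective_subtype I.mkQ_surjective
  have hP : Projective (ModuleCat.of R R) := ModuleCat.projective_of_free (Module.Basis.singleton Unit R)
  have hpd2 : HasProjectiveDimensionLT (ModuleCat.of R I) 2 :=
    (hS.hasProjectiveDimensionLT_X₃_iff 1 hP).1 hpd3
  obtain ⟨C, ε, hr, hZB, hε, hker⟩ := Groth.Agent.H71.NIT.exists_resolution 1 I hpd2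
  refine ⟨C.r 0, C.r 1, (C.D 0).mulVecLin, ε, ?_, hε, hker⟩
  have h2 : C.r 2 = 0 := hr 2 (by norm_num)
  haveI : IsEmpty (Fin (C.r (1 + 1))) := by
    show IsEmpty (Fin (C.r 2))
    rw [h2]; infer_instance
  rw [← LinearMap.ker_eq_bot, eq_bot_iff]
  intro z hz
  have h3 : z ∈ C.B 1 := hZB 0 hz
  rw [Groth.Agent.H71.NIT.Cx.mem_B] at h3
  obtain ⟨w, hw⟩ := h3
  rw [Submodule.mem_bot, ← hw, Subsingleton.elim w 0, Matrix.mulVec_zero]

end Groth.Agent.H71.HB
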