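import Mathlib
import Groth.Agent.H2.Matlis1
import Groth.Agent.H71.FrobInj1

/-!
# Duality over a self-injective Artinian local quotient
-/

set_option autoImplicit false
universe u

namespace Groth.Agent.H71.HB

open IsLocalRing

section selfinj

variable {A : Type u} [CommRing A] [IsLocalRing A]

/-- a self-injective local ring whose maximal ideal is locally nilpotent is the injective hull of
its residue field -/
theorem exists_hull (hinj : Module.Injective A A)
    (hpt : LocCoh.IsPowerTorsion (maximalIdeal A) A) :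
    ∃ f : ResidueField A →ₗ[A] A, InjHull.IsInjectiveHull f := by
  apply Groth.Agent.H2.Matlis.isInjectiveHull_of_simple_dual hinj hpt
  rw [isSimpleModule_iff_toSpanSingleton_surjective]
  obtain ⟨a, ha0, hkill⟩ :=
    Groth.Agent.H2.Matlis.exists_smul_ne_zero_killed hpt (1 : A) one_ne_zero
  have hle : maximalIdeal A ≤ LinearMap.ker (LinearMap.toSpanSingleton A A (a • (1 : A))) :=
    fun c hc => hkill c hc
  obtain ⟨g₀, hg₀⟩ : ∃ g : ResidueField A →ₗ[A] A, g 1 = a • (1 : A) :=
    ⟨(maximalIdeal A).liftQ (LinearMap.toSpanSingleton A A (a • (1 : A))) hle,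
      by show (1 : A) • (a • (1 : A)) = a • (1 : A); rw [one_smul]⟩
  refine ⟨⟨⟨g₀, 0, fun h => ha0 (by rw [← hg₀, h]; rfl)⟩⟩, fun φ hφ φ' => ?_⟩
  have hφinj : Function.Injective φ := by
    rw [← LinearMap.ker_eq_bot]
    rcases eq_bot_or_eq_top (LinearMap.ker φ) with h | h
    · exact h
    · exact absurd (LinearMap.ker_eq_top.mp h) hφ
  obtain ⟨h, hh⟩ := Module.Injective.extension_property A A _ _ φ hφinj φ'
  refine ⟨h 1, ?_⟩
  show h 1 • φ = φ'
  ext t
  rw [LinearMap.smul_apply, ← hh]
  show h 1 • φ t = h (φ t)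
  have h1 : φ t = φ t • (1 : A) := by rw [smul_eq_mul, mul_one]
  conv_rhs => rw [h1, map_smul]
  rw [smul_eq_mul, smul_eq_mul, mul_comm]

end selfinj

section quot

variable {R : Type u} [CommRing R]

/-- `Hom_R(-, R/Q)` preserves lengths of finite length modules killed by `Q` when `R/Q` is an
injective hull of its residue field -/
theorem length_dual_quot (Q : Ideal R) [IsLocalRing (R ⧸ Q)]
    (f : ResidueField (R ⧸ Q) →ₗ[R ⧸ Q] (R ⧸ Q)) (hf : InjHull.IsInjectiveHull f)
    (X : Type u) [AddCommGroup X] [Module R X] (hX : ∀ q ∈ Q, ∀ x : X, q • x = 0)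
    (hfl : IsFiniteLength R X) :
    Module.length R (X →ₗ[R] (R ⧸ Q)) = Module.length R X := by
  have hX' : Module.IsTorsionBySet R X Q := fun x q => hX q.1 q.2 x
  letI : Module (R ⧸ Q) X := hX'.module
  haveI : IsScalarTower R (R ⧸ Q) X := hX'.isScalarTower
  have hsurj : Function.Surjective (algebraMap R (R ⧸ Q)) := Ideal.Quotient.mk_surjective
  have h1 : Module.length R X = Module.length (R ⧸ Q) X := Module.length_eq_of_surjective hsurj
  have hfl' : IsFiniteLength (R ⧸ Q) X := by
    rw [← Module.length_ne_top_iff, ← h1, Module.length_ne_top_iff]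
    exact hfl
  have h2 := Groth.Agent.H2.Matlis.length_dual hf X hfl'
  have h3 : Module.length R (X →ₗ[R ⧸ Q] (R ⧸ Q)) =
      Module.length (R ⧸ Q) (X →ₗ[R ⧸ Q] (R ⧸ Q)) := Module.length_eq_of_surjective hsurj
  let e : (X →ₗ[R ⧸ Q] (R ⧸ Q)) ≃ₗ[R] (X →ₗ[R] (R ⧸ Q)) :=
    { toFun := fun g => g.restrictScalars R
      map_add' := fun g g' => rfl
      map_smul' := fun r g => rfl
      invFun := fun h =>
        { toFun := h
          map_add' := h.map_add
          map_smul' := fun c y => by
            obtain ⟨r, rfl⟩ := Ideal.Quotient.mk_surjective c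
            show h (r • y) = Ideal.Quotient.mk Q r • h y
            rw [map_smul, Algebra.smul_def]
            rfl }
      left_inv := fun g => rfl
      right_inv := fun h => rfl }
  rw [← e.length_eq, h3, h2, h1]

end quot

section reg

variable {R : Type u} [CommRing R] [IsRegularLocalRing R]

/-- the duality statement for the quotient by powers of a regular system of parameters -/
theorem length_dual_powIdeal (d : ℕ) (hd : ringKrullDim R = d) (x : Fin d → R)
    (hx : Ideal.span (Set.range x) = maximalIdeal R) (q : ℕ) (hq : 1 ≤ q)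
    (X : Type u) [AddCommGroup X] [Module R X]
    (hX : ∀ r ∈ Groth.Agent.H71.FrobInj.powIdeal x q, ∀ y : X, r • y = 0)
    (hfl : IsFiniteLength R X) :
    Module.length R (X →ₗ[R] (R ⧸ Groth.Agent.H71.FrobInj.powIdeal x q)) = Module.length R X := by
  set Q := Groth.Agent.H71.FrobInj.powIdeal x q with hQ
  obtain ⟨hN, hinj⟩ := Groth.Agent.H71.FrobInj.injective_quot d hd x hx q hq
  have hQm : Q ≤ maximalIdeal R :=
    le_trans (Groth.Agent.H71.FrobInj.powIdeal_le_pow x hx q)
      (Ideal.pow_le_self (by omega))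
  have hQtop : Q ≠ ⊤ := fun h => (IsLocalRing.maximalIdeal.isMaximal R).ne_top
    (top_le_iff.1 (h ▸ hQm))
  haveI : Nontrivial (R ⧸ Q) := Ideal.Quotient.nontrivial_iff.2 hQtop
  haveI : IsLocalRing (R ⧸ Q) :=
    IsLocalRing.of_surjective' (Ideal.Quotient.mk Q) Ideal.Quotient.mk_surjective
  have hrad : maximalIdeal R ≤ Q.radical := by
    rw [← hx, Ideal.span_le]
    rintro _ ⟨i, rfl⟩
    exact ⟨q, Groth.Agent.H71.FrobInj.pow_mem_powIdeal x q i⟩
  obtain ⟨k, hk⟩ := Ideal.exists_pow_le_of_le_radical_of_fg hrad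
    (IsNoetherian.noetherian (maximalIdeal R))
  have hnil : maximalIdeal (R ⧸ Q) ^ k = ⊥ := by
    rw [← IsLocalRing.map_maximalIdeal_of_surjective (Ideal.Quotient.mk Q)
      Ideal.Quotient.mk_surjective, ← Ideal.map_pow, eq_bot_iff]
    exact le_trans (Ideal.map_mono hk) (le_of_eq (Ideal.map_quotient_self Q))
  have hpt : LocCoh.IsPowerTorsion (maximalIdeal (R ⧸ Q)) (R ⧸ Q) := by
    intro y
    refine ⟨k, fun a ha => ?_⟩
    rw [hnil, Ideal.mem_bot] at ha
    rw [ha, zero_smul]
  obtain ⟨f, hf⟩ := exists_hull hinj hpt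
  exact length_dual_quot Q f hf X hX hfl

end reg

end Groth.Agent.H71.HB
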