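import Mathlib
import Groth.Agent.H71.FrobInj1

/-!
# Koszul relations for powers of a regular system of parameters and the second Tor
-/

set_option autoImplicit false
universe u

namespace Groth.Agent.H71.HB

open IsLocalRing RingTheory.Sequence

section reg

variable {R : Type u} [CommRing R] [IsRegularLocalRing R]

/-- powers of a regular system of parameters form a (weakly) regular sequence -/
theorem weaklyRegular_pow (d : ℕ) (hd : ringKrullDim R = d) (x : Fin d → R)
    (hx : Ideal.span (Set.range x) = maximalIdeal R) (q : ℕ) (hq : 1 ≤ q) :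
    IsWeaklyRegular R (List.ofFn fun i => x i ^ q) := by
  have hCM : LocCoh.IsCohenMacaulayModule R R := Groth.Agent.H79.RegCM.isCM_of_sop R d hd x hx
  set rs : List R := List.ofFn fun i => x i ^ q with hrs
  have hxm : ∀ i, x i ∈ maximalIdeal R := fun i => by
    rw [← hx]; exact Ideal.subset_span ⟨i, rfl⟩
  have hmem : ∀ r ∈ rs, r ∈ maximalIdeal R := by
    intro r hr
    rw [hrs, List.mem_ofFn] at hr
    obtain ⟨i, rfl⟩ := hr
    exact Ideal.pow_mem_of_mem _ (hxm i) q (by omega)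
  have hI : Groth.Agent.H71.FrobInj.powIdeal x q = Ideal.ofList rs :=
    Groth.Agent.H71.FrobInj.powIdeal_eq_ofList x q
  have hle : Ideal.ofList rs ≤ maximalIdeal R := by
    unfold Ideal.ofList
    rw [Ideal.span_le]
    intro r hr
    exact hmem r hr
  have hrad : maximalIdeal R ≤ (Ideal.ofList rs).radical := by
    rw [← hx, Ideal.span_le]
    rintro _ ⟨i, rfl⟩
    refine ⟨q, ?_⟩
    rw [← hI]
    exact Groth.Agent.H71.FrobInj.pow_mem_powIdeal x q i
  have hdim0 : ringKrullDim (R ⧸ Ideal.ofList rs) = 0 :=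
    Groth.Agent.H79.RegCM.ringKrullDim_quotient_eq_zero hle hrad
  have hlen : rs.length = d := List.length_ofFn
  have hdim : Module.supportDim R (R ⧸ (Ideal.ofList rs • (⊤ : Submodule R R))) +
      (rs.length : WithBot ℕ∞) = Module.supportDim R R := by
    have hI2 : Ideal.ofList rs • (⊤ : Submodule R R) = Ideal.ofList rs := by
      rw [smul_eq_mul, Ideal.mul_top]
    rw [Module.supportDim_eq_of_equiv (Submodule.quotEquivOfEq _ _ hI2),
      Module.supportDim_quotient_eq_ringKrullDim, hdim0, zero_add,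
      Module.supportDim_self_eq_ringKrullDim, hd, hlen]
  exact ((Groth.Agent.H29.CM.isWeaklyRegular_iff_of_isCM rs R hCM hmem).1).2 hdim

/-- the Koszul relation for `x₀^q, x₁^q` in dimension two -/
theorem koszul_pair (hdim : ringKrullDim R = 2) (x : Fin 2 → R)
    (hx : Ideal.span (Set.range x) = maximalIdeal R) (q : ℕ) (hq : 1 ≤ q) :
    IsSMulRegular R (x 0 ^ q) ∧
      ∀ p p' : R, x 0 ^ q * p = x 1 ^ q * p' → ∃ z, p = x 1 ^ q * z ∧ p' = x 0 ^ q * z := by
  have hreg := weaklyRegular_pow 2 (by rw [hdim]; rfl) x hx q hq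
  have hl : (List.ofFn fun i : Fin 2 => x i ^ q) = [x 0 ^ q, x 1 ^ q] := by
    simp [List.ofFn_succ]
  rw [hl, isWeaklyRegular_cons_iff, isWeaklyRegular_cons_iff] at hreg
  obtain ⟨h1, h2, -⟩ := hreg
  refine ⟨h1, fun p p' hpp => ?_⟩
  have h3 : x 1 ^ q • (Submodule.Quotient.mk p' : QuotSMulTop (x 0 ^ q) R) = x 1 ^ q • 0 := by
    rw [smul_zero, ← Submodule.Quotient.mk_smul, Submodule.Quotient.mk_eq_zero, smul_eq_mul,
      ← hpp]
    exact Submodule.smul_mem_pointwise_smul p (x 0 ^ q) ⊤ Submodule.mem_top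
  have h4 := h2 h3
  rw [Submodule.Quotient.mk_eq_zero] at h4
  obtain ⟨z, -, hz⟩ := (Submodule.mem_smul_pointwise_iff_exists p' (x 0 ^ q) ⊤).1 h4
  refine ⟨z, ?_, ?_⟩
  · apply h1
    show x 0 ^ q * p = x 0 ^ q * (x 1 ^ q * z)
    rw [hpp, ← hz, smul_eq_mul]
    ring
  · rw [← hz, smul_eq_mul]

end reg

section tor

variable {R : Type u} [CommRing R] {n m : ℕ}

/-- the kernel of `φ ⊗ R/(a,b)` for a presentation `φ` of an ideal containing the regular sequence
`a, b` is cyclic, generated by a class `u₀` with annihilator `I` -/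
theorem tor2 (φ : (Fin m → R) →ₗ[R] (Fin n → R)) (ψ' : (Fin n → R) →ₗ[R] R)
    (hφ : Function.Injective φ) (hex : LinearMap.ker ψ' = LinearMap.range φ)
    (a b : R) (ha : IsSMulRegular R a)
    (hK : ∀ p p' : R, a * p = b * p' → ∃ z, p = b * z ∧ p' = a * z)
    (haI : a ∈ LinearMap.range ψ') (hbI : b ∈ LinearMap.range ψ') :
    ∃ u₀ : Fin m → R,
      (∃ v₁ v₂ : Fin n → R, φ u₀ = a • v₁ + b • v₂) ∧
      (∀ u, (∃ v₁ v₂ : Fin n → R, φ u = a • v₁ + b • v₂) →
        ∃ (c : R) (w₁ w₂ : Fin m → R), u = c • u₀ + a • w₁ + b • w₂) ∧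
      (∀ c : R, (∃ w₁ w₂ : Fin m → R, c • u₀ = a • w₁ + b • w₂) ↔ c ∈ LinearMap.range ψ') := by
  have hKv : ∀ P P' : Fin n → R, a • P = b • P' → ∃ Z, P = b • Z ∧ P' = a • Z := by
    intro P P' h
    have := fun i => hK (P i) (P' i) (congrFun h i)
    choose Z hZ1 hZ2 using this
    exact ⟨Z, funext hZ1, funext hZ2⟩
  have hker : ∀ v, ψ' v = 0 → ∃ w, φ w = v := by
    intro v hv
    have : v ∈ LinearMap.ker ψ' := hv
    rw [hex] at this
    exact this
  have hcomp : ∀ w, ψ' (φ w) = 0 := by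
    intro w
    have : φ w ∈ LinearMap.ker ψ' := by rw [hex]; exact ⟨w, rfl⟩
    exact this
  obtain ⟨va, hva⟩ := haI
  obtain ⟨vb, hvb⟩ := hbI
  have h0 : ψ' (b • va - a • vb) = 0 := by
    rw [map_sub, map_smul, map_smul, hva, hvb, smul_eq_mul, smul_eq_mul]
    ring
  obtain ⟨u₀, hu₀⟩ := hker _ h0
  refine ⟨u₀, ⟨-vb, va, ?_⟩, ?_, ?_⟩
  · rw [hu₀]
    module
  · rintro u ⟨v₁, v₂, hu⟩
    have h1 : a * ψ' v₁ = b * (-ψ' v₂) := by
      have := hcomp u
      rw [hu, map_add, map_smul, map_smul, smul_eq_mul, smul_eq_mul] at this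
      linear_combination this
    obtain ⟨z, hz1, hz2⟩ := hK _ _ h1
    have h2 : ψ' (v₁ - z • vb) = 0 := by
      rw [map_sub, map_smul, hvb, hz1, smul_eq_mul]
      ring
    have h3 : ψ' (v₂ + z • va) = 0 := by
      rw [map_add, map_smul, hva, smul_eq_mul]
      linear_combination -hz2
    obtain ⟨w₁, hw₁⟩ := hker _ h2
    obtain ⟨w₂, hw₂⟩ := hker _ h3
    refine ⟨-z, w₁, w₂, hφ ?_⟩
    rw [map_add, map_add, map_smul, map_smul, map_smul, hu, hu₀, hw₁, hw₂]
    module
  · intro c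
    constructor
    · rintro ⟨w₁, w₂, hc⟩
      have h1 := congrArg φ hc
      rw [map_smul, map_add, map_smul, map_smul, hu₀] at h1
      have h2 : a • (φ w₁ + c • vb) = b • (c • va - φ w₂) := by
        linear_combination (norm := module) -h1
      obtain ⟨Z, hZ1, hZ2⟩ := hKv _ _ h2
      have h3 := congrArg ψ' hZ2
      rw [map_sub, map_smul, map_smul, hcomp, hva, sub_zero, smul_eq_mul, smul_eq_mul] at h3
      refine ⟨Z, ?_⟩
      apply ha
      show a * ψ' Z = a * c
      linear_combination -h3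
    · rintro ⟨z, rfl⟩
      have h2 : ψ' (ψ' z • va - a • z) = 0 := by
        rw [map_sub, map_smul, map_smul, hva, smul_eq_mul, smul_eq_mul]
        ring
      have h3 : ψ' (ψ' z • vb - b • z) = 0 := by
        rw [map_sub, map_smul, map_smul, hvb, smul_eq_mul, smul_eq_mul]
        ring
      obtain ⟨w₂, hw₂⟩ := hker _ h2
      obtain ⟨w₁, hw₁⟩ := hker _ h3
      refine ⟨-w₁, w₂, hφ ?_⟩
      rw [map_smul, map_add, map_smul, map_smul, map_neg, hu₀, hw₁, hw₂]
      module

end tor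

end Groth.Agent.H71.HB
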