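import Mathlib

/-!
# Length bookkeeping for `Hom(I, Z)` via a presentation `R^m → R^n → I → 0`
-/

set_option autoImplicit false
universe u

namespace Groth.Agent.H71.HB

section generic

variable {R : Type u} [CommRing R]

/-- maps killing the kernel of `p` -/
def kerAnn {M X : Type u} [AddCommGroup M] [Module R M] [AddCommGroup X] [Module R X]
    (p : M →ₗ[R] X) (A : Type u) [AddCommGroup A] [Module R A] : Submodule R (M →ₗ[R] A) where
  carrier := {H | ∀ g, p g = 0 → H g = 0}
  add_mem' := fun {H H'} hH hH' g hg => by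
    rw [LinearMap.add_apply, hH g hg, hH' g hg, add_zero]
  zero_mem' := fun g _ => rfl
  smul_mem' := fun r H hH g hg => by
    rw [LinearMap.smul_apply, hH g hg, smul_zero]

lemma mem_kerAnn {M X : Type u} [AddCommGroup M] [Module R M] [AddCommGroup X] [Module R X]
    (p : M →ₗ[R] X) (A : Type u) [AddCommGroup A] [Module R A] (H : M →ₗ[R] A) :
    H ∈ kerAnn p A ↔ ∀ g, p g = 0 → H g = 0 := Iff.rfl

/-- `Hom(X, A)` for a quotient `X` of `M` -/
theorem length_hom_of_surjective {M X : Type u} [AddCommGroup M] [Module R M] [AddCommGroup X]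
    [Module R X] (p : M →ₗ[R] X) (hp : Function.Surjective p) (A : Type u) [AddCommGroup A]
    [Module R A] : Module.length R (X →ₗ[R] A) = Module.length R (kerAnn p A) := by
  let F : (X →ₗ[R] A) →ₗ[R] kerAnn p A :=
    (LinearMap.lcomp R A p).codRestrict (kerAnn p A) (fun h g hg => by
      show h (p g) = 0
      rw [hg, map_zero])
  have hF : ∀ h, ((F h : kerAnn p A) : M →ₗ[R] A) = h ∘ₗ p := fun h => rfl
  have hinj : Function.Injective F := by
    intro h h' hh
    ext x
    obtain ⟨g, rfl⟩ := hp x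
    have := congrArg (fun t : kerAnn p A => (t : M →ₗ[R] A) g) hh
    exact this
  have hsurj : Function.Surjective F := by
    rintro ⟨H, hH⟩
    have hle : LinearMap.ker p ≤ LinearMap.ker H := fun g hg => hH g hg
    refine ⟨(LinearMap.ker p).liftQ H hle ∘ₗ (p.quotKerEquivOfSurjective hp).symm.toLinearMap, ?_⟩
    apply Subtype.ext
    rw [hF]
    ext g
    show (LinearMap.ker p).liftQ H hle ((p.quotKerEquivOfSurjective hp).symm (p g)) = H g
    have : (p.quotKerEquivOfSurjective hp).symm (p g) = Submodule.Quotient.mk g := by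
      rw [LinearEquiv.symm_apply_eq]
      rfl
    rw [this]
    rfl
  exact (LinearEquiv.ofBijective F ⟨hinj, hsurj⟩).length_eq

lemma len_ker_range {M N : Type u} [AddCommGroup M] [Module R M] [AddCommGroup N] [Module R N]
    (f : M →ₗ[R] N) :
    Module.length R M = Module.length R (LinearMap.ker f) + Module.length R (LinearMap.range f) := by
  refine Module.length_eq_add_of_exact (LinearMap.ker f).subtype f.rangeRestrict
    (Submodule.injective_subtype _) f.surjective_rangeRestrict ?_
  intro x
  constructor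
  · intro hx
    have hx' : f x = 0 := congrArg Subtype.val hx
    exact ⟨⟨x, hx'⟩, rfl⟩
  · rintro ⟨⟨y, hy⟩, rfl⟩
    apply Subtype.ext
    exact hy

lemma len_range_coker {M N : Type u} [AddCommGroup M] [Module R M] [AddCommGroup N] [Module R N]
    (f : M →ₗ[R] N) :
    Module.length R N =
      Module.length R (LinearMap.range f) + Module.length R (N ⧸ LinearMap.range f) :=
  Module.length_eq_add_of_exact (LinearMap.range f).subtype (LinearMap.range f).mkQ
    (Submodule.injective_subtype _) (Submodule.mkQ_surjective _)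
    (LinearMap.exact_subtype_mkQ _)

lemma len_hom_free (k : ℕ) (Z : Type u) [AddCommGroup Z] [Module R Z] :
    Module.length R ((Fin k → R) →ₗ[R] Z) = (k : ℕ∞) * Module.length R Z := by
  rw [← ((Pi.basisFun R (Fin k)).constr R (M' := Z)).length_eq, Module.length_pi,
    ENat.card_eq_coe_fintype_card, Fintype.card_fin]

/-- `ℓ Hom(I, Z) = ℓ(Z) + ℓ(coker φᵀ_Z)` -/
theorem len_hom_ideal {n m : ℕ} (hnm : n = m + 1) (φ : (Fin m → R) →ₗ[R] (Fin n → R))
    {I : Ideal R} (ψ : (Fin n → R) →ₗ[R] I) (hψ : Function.Surjective ψ)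
    (hex : LinearMap.ker ψ = LinearMap.range φ) (Z : Type u) [AddCommGroup Z] [Module R Z]
    (hZ : Module.length R Z ≠ ⊤) :
    Module.length R (I →ₗ[R] Z) = Module.length R Z +
      Module.length R (((Fin m → R) →ₗ[R] Z) ⧸ LinearMap.range (LinearMap.lcomp R Z φ)) := by
  have h1 := length_hom_of_surjective ψ hψ Z
  have h2 : kerAnn ψ Z = LinearMap.ker (LinearMap.lcomp R Z φ) := by
    ext g
    rw [mem_kerAnn, LinearMap.mem_ker]
    constructor
    · intro h
      refine LinearMap.ext fun w => ?_
      show g (φ w) = 0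
      apply h
      have : φ w ∈ LinearMap.ker ψ := by rw [hex]; exact ⟨_, rfl⟩
      exact this
    · intro h v hv
      have : v ∈ LinearMap.range φ := by rw [← hex]; exact hv
      obtain ⟨w, rfl⟩ := this
      exact LinearMap.congr_fun h w
  rw [h1, h2]
  have h3 := len_ker_range (LinearMap.lcomp R Z φ)
  have h4 := len_range_coker (LinearMap.lcomp R Z φ)
  rw [len_hom_free] at h3 h4
  obtain ⟨L, hL⟩ := ENat.ne_top_iff_exists.1 hZ
  rw [← hL] at h3 h4 ⊢
  set K := Module.length R (LinearMap.ker (LinearMap.lcomp R Z φ)) with hK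
  set r := Module.length R (LinearMap.range (LinearMap.lcomp R Z φ)) with hr
  set W := Module.length R
    (((Fin m → R) →ₗ[R] Z) ⧸ LinearMap.range (LinearMap.lcomp R Z φ)) with hW
  have hr' : r ≠ ⊤ := by
    intro h
    rw [h, top_add] at h4
    exact ENat.natCast_ne_top _ (by exact_mod_cast h4)
  have hW' : W ≠ ⊤ := by
    intro h
    rw [h, add_top] at h4
    exact ENat.natCast_ne_top _ (by exact_mod_cast h4)
  have hK' : K ≠ ⊤ := by
    intro h
    rw [h, top_add] at h3
    exact ENat.natCast_ne_top _ (by exact_mod_cast h3)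
  obtain ⟨r₀, hr₀⟩ := ENat.ne_top_iff_exists.1 hr'
  obtain ⟨W₀, hW₀⟩ := ENat.ne_top_iff_exists.1 hW'
  obtain ⟨K₀, hK₀⟩ := ENat.ne_top_iff_exists.1 hK'
  rw [← hr₀, ← hW₀] at h4
  rw [← hr₀, ← hK₀] at h3
  rw [← hK₀, ← hW₀]
  have h3' : n * L = K₀ + r₀ := by exact_mod_cast h3
  have h4' : m * L = r₀ + W₀ := by exact_mod_cast h4
  have : K₀ = L + W₀ := by
    subst hnm
    nlinarith
  exact_mod_cast this

end generic

end Groth.Agent.H71.HB
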