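import Mathlib
import Groth.Agent.H71.HB4

/-!
# The dual of `coker φᵀ_{R/J}` as `(I : J)/I`
-/

set_option autoImplicit false
universe u

namespace Groth.Agent.H71.HB

section generic2

variable {R : Type u} [CommRing R]

/-- lengths along an injective image: `ℓ(R/I) = ℓ(Θ(K)) + ℓ(R/K)` when `ker Θ = I ≤ K` -/
theorem len_map_add {N : Type u} [AddCommGroup N] [Module R N] (Θ : R →ₗ[R] N) (I K : Ideal R)
    (hker : LinearMap.ker Θ = I) (hIK : I ≤ K) :
    Module.length R (R ⧸ I) =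
      Module.length R (Submodule.map Θ K) + Module.length R (R ⧸ K) := by
  have hle : I ≤ LinearMap.ker Θ := le_of_eq hker.symm
  set Θb : (R ⧸ I) →ₗ[R] N := Submodule.liftQ I Θ hle with hΘb
  have hinj : Function.Injective Θb := by
    rw [← LinearMap.ker_eq_bot, hΘb, Submodule.ker_liftQ_eq_bot _ _ _ (le_of_eq hker)]
  have h1 : Submodule.map Θ K = Submodule.map Θb (Submodule.map I.mkQ K) := by
    rw [← Submodule.map_comp, hΘb, Submodule.liftQ_mkQ]
  have h2 : Module.length R (Submodule.map Θb (Submodule.map I.mkQ K)) =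
      Module.length R (Submodule.map I.mkQ K) :=
    (Submodule.equivMapOfInjective Θb hinj (Submodule.map I.mkQ K)).length_eq.symm
  have h3 := Module.length_eq_add_of_exact (Submodule.map I.mkQ K).subtype
    (Submodule.map I.mkQ K).mkQ (Submodule.injective_subtype _) (Submodule.mkQ_surjective _)
    (LinearMap.exact_subtype_mkQ _)
  have h4 : Module.length R ((R ⧸ I) ⧸ Submodule.map I.mkQ K) = Module.length R (R ⧸ K) :=
    (Submodule.quotientQuotientEquivQuotient I K hIK).length_eq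
  rw [h1, h2, h3, h4]

end generic2

section colon

variable {R : Type u} [CommRing R] {n m : ℕ}

/-- the reduction map `Hom(R^m, R) → coker(φᵀ ⊗ R/J)` -/
noncomputable def PiMap (φ : (Fin m → R) →ₗ[R] (Fin n → R)) (J : Ideal R) :
    ((Fin m → R) →ₗ[R] R) →ₗ[R]
      (((Fin m → R) →ₗ[R] (R ⧸ J)) ⧸ LinearMap.range (LinearMap.lcomp R (R ⧸ J) φ)) :=
  (LinearMap.range (LinearMap.lcomp R (R ⧸ J) φ)).mkQ ∘ₗ LinearMap.compRight R J.mkQ

lemma PiMap_eq_zero_iff (φ : (Fin m → R) →ₗ[R] (Fin n → R)) (J : Ideal R)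
    (g : (Fin m → R) →ₗ[R] R) :
    PiMap φ J g = 0 ↔ ∃ gZ : (Fin n → R) →ₗ[R] (R ⧸ J), gZ ∘ₗ φ = J.mkQ ∘ₗ g := by
  show Submodule.Quotient.mk (J.mkQ ∘ₗ g) = 0 ↔ _
  rw [Submodule.Quotient.mk_eq_zero, LinearMap.mem_range]
  rfl

lemma PiMap_surjective (φ : (Fin m → R) →ₗ[R] (Fin n → R)) (J : Ideal R) :
    Function.Surjective (PiMap φ J) := by
  intro x
  obtain ⟨gZ, rfl⟩ := Submodule.mkQ_surjective _ x
  obtain ⟨g, hg⟩ := Module.projective_lifting_property J.mkQ gZ J.mkQ_surjective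
  refine ⟨g, ?_⟩
  show Submodule.Quotient.mk (J.mkQ ∘ₗ g) = _
  rw [hg]
  rfl

lemma PiMap_comp (φ : (Fin m → R) →ₗ[R] (Fin n → R)) (J : Ideal R)
    (g' : (Fin n → R) →ₗ[R] R) : PiMap φ J (g' ∘ₗ φ) = 0 := by
  rw [PiMap_eq_zero_iff]
  exact ⟨J.mkQ ∘ₗ g', rfl⟩

lemma PiMap_smul (φ : (Fin m → R) →ₗ[R] (Fin n → R)) (J : Ideal R) (r : R) (hr : r ∈ J)
    (g : (Fin m → R) →ₗ[R] R) : PiMap φ J (r • g) = 0 := by
  rw [PiMap_eq_zero_iff]
  refine ⟨0, ?_⟩
  rw [LinearMap.zero_comp]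
  refine LinearMap.ext fun v => ?_
  show (0 : R ⧸ J) = Submodule.Quotient.mk (r * g v)
  symm
  rw [Submodule.Quotient.mk_eq_zero]
  exact J.mul_mem_right _ hr

lemma PiMap_ker (φ : (Fin m → R) →ₗ[R] (Fin n → R)) (J : Ideal R) (g : (Fin m → R) →ₗ[R] R)
    (hg : PiMap φ J g = 0) :
    ∃ (g' : (Fin n → R) →ₗ[R] R) (k : (Fin m → R) →ₗ[R] R),
      (∀ v, k v ∈ J) ∧ g = g' ∘ₗ φ + k := by
  obtain ⟨gZ, hgZ⟩ := (PiMap_eq_zero_iff φ J g).1 hg
  obtain ⟨g', hg'⟩ := Module.projective_lifting_property J.mkQ gZ J.mkQ_surjective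
  refine ⟨g', g - g' ∘ₗ φ, fun v => ?_, by rw [add_sub_cancel]⟩
  rw [← Submodule.Quotient.mk_eq_zero J]
  show J.mkQ (g v - g' (φ v)) = 0
  rw [map_sub, sub_eq_zero]
  have := LinearMap.congr_fun hgZ v
  rw [← hg'] at this
  exact this.symm

/-- the main computation -/
theorem len_colon (φ : (Fin m → R) →ₗ[R] (Fin n → R)) (a b : R) (I J : Ideal R)
    (u₀ : Fin m → R)
    (h1 : ∃ v₁ v₂ : Fin n → R, φ u₀ = a • v₁ + b • v₂)
    (h2 : ∀ u, (∃ v₁ v₂ : Fin n → R, φ u = a • v₁ + b • v₂) →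
      ∃ (c : R) (w₁ w₂ : Fin m → R), u = c • u₀ + a • w₁ + b • w₂)
    (h3 : ∀ c : R, (∃ w₁ w₂ : Fin m → R, c • u₀ = a • w₁ + b • w₂) ↔ c ∈ I) :
    Module.length R (R ⧸ I) =
      Module.length R
        ((((Fin m → R) →ₗ[R] (R ⧸ J)) ⧸ LinearMap.range (LinearMap.lcomp R (R ⧸ J) φ)) →ₗ[R]
          (R ⧸ Ideal.span {a, b})) + Module.length R (R ⧸ I.colon J) := by
  classical
  set Q : Ideal R := Ideal.span {a, b} with hQ
  have haQ : a ∈ Q := Ideal.subset_span (by simp)
  have hbQ : b ∈ Q := Ideal.subset_span (by simp)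
  have hvec : ∀ {k : ℕ} (t : Fin k → R), (∀ j, t j ∈ Q) →
      ∃ y₁ y₂ : Fin k → R, t = a • y₁ + b • y₂ := by
    intro k t ht
    have := fun j => Ideal.mem_span_pair.1 (ht j)
    choose y₁ y₂ hy using this
    refine ⟨y₁, y₂, funext fun j => ?_⟩
    simp only [Pi.add_apply, Pi.smul_apply, smul_eq_mul]
    rw [← hy j]
    ring
  have hvec' : ∀ {k : ℕ} (y₁ y₂ : Fin k → R) (g : (Fin k → R) →ₗ[R] R),
      g (a • y₁ + b • y₂) ∈ Q := by
    intro k y₁ y₂ g
    rw [map_add, map_smul, map_smul, smul_eq_mul, smul_eq_mul]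
    exact Q.add_mem (Q.mul_mem_right _ haQ) (Q.mul_mem_right _ hbQ)
  let H₀ : ((Fin m → R) →ₗ[R] R) →ₗ[R] (R ⧸ Q) := Q.mkQ ∘ₗ LinearMap.applyₗ u₀
  let Θ : R →ₗ[R] (((Fin m → R) →ₗ[R] R) →ₗ[R] (R ⧸ Q)) := LinearMap.toSpanSingleton R _ H₀
  have hΘ : ∀ c g, Θ c g = Submodule.Quotient.mk (c * g u₀) := fun c g => rfl
  have hΘ0 : ∀ c g, Θ c g = 0 ↔ g (c • u₀) ∈ Q := by
    intro c g
    rw [hΘ, Submodule.Quotient.mk_eq_zero, map_smul, smul_eq_mul]
  have hker : LinearMap.ker Θ = I := by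
    ext c
    rw [LinearMap.mem_ker, ← h3 c]
    constructor
    · intro hc
      apply hvec
      intro j
      have := (hΘ0 c (LinearMap.proj j)).1 (by rw [hc]; rfl)
      exact this
    · rintro ⟨w₁, w₂, hw⟩
      refine LinearMap.ext fun g => ?_
      rw [LinearMap.zero_apply, hΘ0, hw]
      exact hvec' w₁ w₂ g
  have hIK : I ≤ I.colon J := by
    intro c hc
    rw [Submodule.mem_colon]
    intro r _
    exact I.mul_mem_right _ hc
  have hB : kerAnn (PiMap φ J) (R ⧸ Q) = Submodule.map Θ (I.colon J) := by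
    apply le_antisymm
    · intro H hH
      rw [mem_kerAnn] at hH
      have hcoord : ∃ u : Fin m → R, ∀ g, H g = Submodule.Quotient.mk (g u) := by
        have := fun j => Submodule.Quotient.mk_surjective Q
          (H (LinearMap.proj j : (Fin m → R) →ₗ[R] R))
        choose u hu using this
        refine ⟨u, fun g => ?_⟩
        have hg : g = ∑ j, g (fun j' => if j = j' then 1 else 0) •
            (LinearMap.proj j : (Fin m → R) →ₗ[R] R) := by
          refine LinearMap.ext fun v => ?_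
          rw [LinearMap.pi_apply_eq_sum_univ g v, LinearMap.sum_apply]
          refine Finset.sum_congr rfl fun j _ => ?_
          rw [LinearMap.smul_apply, LinearMap.proj_apply, smul_eq_mul, smul_eq_mul, mul_comm]
        conv_lhs => rw [hg]
        rw [map_sum, LinearMap.pi_apply_eq_sum_univ g u]
        have : ∀ x : R, (Submodule.Quotient.mk x : R ⧸ Q) = Q.mkQ x := fun x => rfl
        rw [this, map_sum]
        refine Finset.sum_congr rfl fun j _ => ?_
        rw [map_smul, ← hu j, map_smul]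
        show (g _) • (Submodule.Quotient.mk (u j) : R ⧸ Q) = u j • Submodule.Quotient.mk (g _)
        rw [← Submodule.Quotient.mk_smul, ← Submodule.Quotient.mk_smul, smul_eq_mul, smul_eq_mul,
          mul_comm]
      obtain ⟨u, hu⟩ := hcoord
      have hφu : ∀ i, (φ u) i ∈ Q := by
        intro i
        have := hH ((LinearMap.proj i : (Fin n → R) →ₗ[R] R) ∘ₗ φ) (PiMap_comp φ J _)
        rw [hu, Submodule.Quotient.mk_eq_zero] at this
        exact this
      obtain ⟨v₁, v₂, hv⟩ := hvec (φ u) hφu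
      obtain ⟨c, w₁, w₂, hc⟩ := h2 u ⟨v₁, v₂, hv⟩
      refine ⟨c, ?_, ?_⟩
      · show c ∈ I.colon J
        rw [Submodule.mem_colon]
        intro r hr
        rw [smul_eq_mul, ← h3]
        have hru : ∀ j, (r • u) j ∈ Q := by
          intro j
          have := hH (r • (LinearMap.proj j : (Fin m → R) →ₗ[R] R)) (PiMap_smul φ J r hr _)
          rw [hu, Submodule.Quotient.mk_eq_zero] at this
          exact this
        obtain ⟨y₁, y₂, hy⟩ := hvec (r • u) hru
        refine ⟨y₁ - r • w₁, y₂ - r • w₂, ?_⟩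
        linear_combination (norm := module) hy - r • hc
      · refine LinearMap.ext fun g => ?_
        rw [hΘ, hu, hc, map_add, map_add, map_smul, smul_eq_mul, add_assoc,
          ← map_add]
        rw [Submodule.Quotient.eq]
        have := hvec' w₁ w₂ g
        have h5 : c * g u₀ - (c * g u₀ + g (a • w₁ + b • w₂)) = -(g (a • w₁ + b • w₂)) := by ring
        rw [h5]
        exact Q.neg_mem this
    · rintro _ ⟨c, hc, rfl⟩
      rw [mem_kerAnn]
      intro g hg
      obtain ⟨g', k, hk, rfl⟩ := PiMap_ker φ J g hg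
      rw [hΘ0, LinearMap.add_apply]
      refine Q.add_mem ?_ ?_
      · obtain ⟨v₁, v₂, hv⟩ := h1
        show g' (φ (c • u₀)) ∈ Q
        rw [map_smul, hv]
        have : c • (a • v₁ + b • v₂) = a • (c • v₁) + b • (c • v₂) := by module
        rw [this]
        exact hvec' _ _ g'
      · rw [LinearMap.pi_apply_eq_sum_univ k (c • u₀)]
        refine Q.sum_mem fun j _ => ?_
        set ej : Fin m → R := fun j' => if j = j' then 1 else 0 with hej
        have h6 : c * k ej ∈ I := by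
          have := (Submodule.mem_colon.1 hc) (k ej) (hk ej)
          rwa [smul_eq_mul] at this
        obtain ⟨w₁, w₂, hw⟩ := (h3 _).2 h6
        have h7 := congrFun hw j
        simp only [Pi.add_apply, Pi.smul_apply, smul_eq_mul] at h7 ⊢
        have h8 : c * u₀ j * k ej = a * w₁ j + b * w₂ j := by rw [← h7]; ring
        rw [h8]
        exact Q.add_mem (Q.mul_mem_right _ haQ) (Q.mul_mem_right _ hbQ)
  rw [length_hom_of_surjective (PiMap φ J) (PiMap_surjective φ J) (R ⧸ Q), hB]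
  exact len_map_add Θ I (I.colon J) hker hIK

end colon

end Groth.Agent.H71.HB
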