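import Groth.Agent.H71.ZClosed
import Mathlib.RingTheory.Ideal.Height
import Mathlib.RingTheory.Localization.Module
import Mathlib.Algebra.Module.LocalizedModule.IsLocalization
import Mathlib.RingTheory.Noetherian.Nilpotent
import Mathlib.RingTheory.Ideal.MinimalPrime.Noetherian
import Mathlib.Topology.Connected.Clopen

/-!
# Hartshorne's connectedness theorem (idempotent argument)
-/

set_option autoImplicit false
universe u

open AlgebraicGeometry CategoryTheory Opposite TopologicalSpace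
open Groth.Agent.H58 Groth.Agent.H15.Depth Groth.Agent.H71.ZC

namespace Groth.Agent.H71.HC

/-- the algebraic core: ideals `I`, `J` with `IJ = 0` and `I + J` of "depth two" produce an
idempotent. -/
lemma exists_idempotent {R : Type*} [CommRing R] (I J : Ideal R)
    (hIJ : ∀ i ∈ I, ∀ j ∈ J, i * j = 0) (a b : R) (ha : a ∈ I) (hb : b ∈ J)
    (hreg : ∀ r : R, (a + b) * r = 0 → r = 0)
    (H1 : ∀ c : R, (∀ z ∈ I ⊔ J, z * c = 0) → c = 0)
    (H2 : ∀ m : R, (∀ z ∈ I ⊔ J, ∃ n, (a + b) * n = z * m) → ∃ m', (a + b) * m' = m) :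
    ∃ r : R, r * r = r ∧ a = (a + b) * r ∧ r * b = 0 := by
  obtain ⟨r, hr⟩ := H2 a (by
    intro z hz
    obtain ⟨i, hi, j, hj, rfl⟩ := Submodule.mem_sup.mp hz
    refine ⟨i, ?_⟩
    have h1 := hIJ i hi b hb
    have h2 := hIJ a ha j hj
    linear_combination h1 - h2)
  have hc : r * b = 0 := by
    apply H1
    intro z hz
    obtain ⟨i, hi, j, hj, rfl⟩ := Submodule.mem_sup.mp hz
    have h1 := hIJ i hi b hb
    have h2 := hIJ a ha j hj
    -- r * b = a * (1 - r)
    have h3 : r * b = a * (1 - r) := by linear_combination hr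
    have e1 : i * (r * b) = 0 := by linear_combination r * h1
    have e2 : j * (r * b) = 0 := by rw [h3]; linear_combination (1 - r) * h2
    rw [add_mul, e1, e2, add_zero]
  refine ⟨r, ?_, hr.symm, hc⟩
  have h4 : (a + b) * (r * r - r) = 0 := by linear_combination r * hr - hc
  have := hreg _ h4
  exact sub_eq_zero.mp this

/-- `A_P` as a localized module of `A` is `A_P`. -/
noncomputable def locSelfEquiv {A : Type u} [CommRing A] (P : Ideal A) [P.IsPrime] :
    LocalizedModule P.primeCompl A ≃ₗ[Localization.AtPrime P] Localization.AtPrime P :=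
  (IsLocalizedModule.iso P.primeCompl
    (Algebra.linearMap A (Localization.AtPrime P))).extendScalarsOfIsLocalization
    P.primeCompl (Localization.AtPrime P)

lemma smul_top_self_ne_top {R : Type*} [CommRing R] [IsLocalRing R] :
    IsLocalRing.maximalIdeal R • (⊤ : Submodule R R) ≠ ⊤ := by
  rw [smul_eq_mul, Ideal.mul_top]
  exact (IsLocalRing.maximalIdeal.isMaximal R).ne_top

lemma le_depth_localizedModule_self {A : Type u} [CommRing A] (P : Ideal A) [P.IsPrime] (n : ℕ)
    (h : (n : ℕ∞) ≤ LocCoh.depth (Localization.AtPrime P) (Localization.AtPrime P)) :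
    (n : ℕ∞) ≤ LocCoh.depth (Localization.AtPrime P) (LocalizedModule P.primeCompl A) := by
  by_cases htop : IsLocalRing.maximalIdeal (Localization.AtPrime P) •
      (⊤ : Submodule (Localization.AtPrime P) (LocalizedModule P.primeCompl A)) = ⊤
  · unfold LocCoh.depth
    rw [idealDepth_eq_top_of_smul_top_eq_top htop]
    exact le_top
  · have h2 : HasSeq (IsLocalRing.maximalIdeal (Localization.AtPrime P))
        (Localization.AtPrime P) n := (le_idealDepth_iff smul_top_self_ne_top n).mp h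
    exact (le_idealDepth_iff htop n).mpr (h2.congr (locSelfEquiv P).symm)

lemma hasSeq_self_of_le_depth_localizedModule {A : Type u} [CommRing A] [IsNoetherianRing A]
    (P : Ideal A) [P.IsPrime] (n : ℕ)
    (h : (n : ℕ∞) ≤ LocCoh.depth (Localization.AtPrime P) (LocalizedModule P.primeCompl A)) :
    HasSeq (IsLocalRing.maximalIdeal (Localization.AtPrime P)) (Localization.AtPrime P) n := by
  have htop : IsLocalRing.maximalIdeal (Localization.AtPrime P) •
      (⊤ : Submodule (Localization.AtPrime P) (LocalizedModule P.primeCompl A)) ≠ ⊤ := by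
    intro htop
    have hs := subsingleton_of_smul_top_eq_top (M := A) P htop
    have : Subsingleton (Localization.AtPrime P) := (locSelfEquiv P).symm.injective.subsingleton
    exact not_subsingleton (Localization.AtPrime P) this
  exact ((le_idealDepth_iff htop n).mp h).congr (locSelfEquiv P)

/-- idempotents of a ring with connected spectrum are trivial. -/
lemma eq_zero_or_one_of_idempotent {A : Type*} [CommRing A] [ConnectedSpace (PrimeSpectrum A)]
    (r : A) (hr : r * r = r) : r = 0 ∨ r = 1 := by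
  have hclopen := PrimeSpectrum.isClopen_basicOpen_of_mul_add r (1 - r)
    (by rw [mul_sub, mul_one, hr, sub_self]) (by ring)
  rcases isClopen_iff.mp hclopen with h | h
  · left
    apply PrimeSpectrum.basicOpen_injOn_isIdempotentElem (show IsIdempotentElem r from hr)
      (show IsIdempotentElem (0 : A) from mul_zero 0)
    rw [PrimeSpectrum.basicOpen_zero]
    exact TopologicalSpace.Opens.ext h
  · right
    apply PrimeSpectrum.basicOpen_injOn_isIdempotentElem (show IsIdempotentElem r from hr)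
      (show IsIdempotentElem (1 : A) from mul_one 1)
    rw [PrimeSpectrum.basicOpen_one]
    exact TopologicalSpace.Opens.ext h

/-- if `IJ = 0`, the spectrum is connected and sections over `D(I + J)` all come from `A`,
then `I = 0` or `J = 0`. -/
lemma eq_bot_or_eq_bot_of_bijective (A : Type u) [CommRing A] [IsNoetherianRing A]
    [ConnectedSpace (PrimeSpectrum A)] (I J : Ideal A) (hIJ : I * J = ⊥)
    (hbij : Function.Bijective (TS.toSec A (LocCoh.puncturedOpen A (I ⊔ J)))) :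
    I = ⊥ ∨ J = ⊥ := by
  have hfg : (I ⊔ J).FG := IsNoetherian.noetherian _
  have hIJ' : ∀ i ∈ I, ∀ j ∈ J, i * j = 0 := fun i hi j hj => by
    have h1 : i * j ∈ I * J := Ideal.mul_mem_mul hi hj
    rw [hIJ] at h1
    exact (Submodule.mem_bot A).mp h1
  have H1 : ∀ c : A, (∀ z ∈ I ⊔ J, z * c = 0) → c = 0 := fun c hc =>
    eq_zero_of_smul_eq_zero_of_injective A (I ⊔ J) hfg hbij.1 c hc
  obtain ⟨x, hx, hxreg⟩ : ∃ x ∈ I ⊔ J, IsSMulRegular A x := by
    rcases exists_regular_or_hasSocle (I := I ⊔ J) A with h | ⟨m, hm0, hm⟩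
    · exact h
    · exact absurd (H1 m hm) hm0
  obtain ⟨a, ha, b, hb, rfl⟩ := Submodule.mem_sup.mp hx
  have hreg : ∀ r : A, (a + b) * r = 0 → r = 0 := fun r hr => hxreg.right_eq_zero_of_smul hr
  have H2 : ∀ m : A, (∀ z ∈ I ⊔ J, ∃ n, (a + b) * n = z * m) → ∃ m', (a + b) * m' = m := by
    intro m hm
    obtain ⟨τ, hτ⟩ := exists_sec_div A (I ⊔ J) (a + b) 1 m
      (fun m' hm' => by rw [one_smul]; exact hreg m' hm') hm
    obtain ⟨m', rfl⟩ := hbij.2 τ
    refine ⟨m', ?_⟩
    have h1 := hbij.1 ((map_smul _ _ _).trans hτ)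
    rwa [one_smul] at h1
  obtain ⟨r, hrr, har, hrb⟩ := exists_idempotent I J hIJ' a b ha hb hreg H1 H2
  rcases eq_zero_or_one_of_idempotent r hrr with rfl | rfl
  · left
    rw [mul_zero] at har
    rw [eq_bot_iff]
    intro i hi
    rw [Ideal.mem_bot]
    apply hreg
    rw [har, zero_add, mul_comm]
    exact hIJ' i hi b hb
  · right
    rw [one_mul] at hrb
    rw [eq_bot_iff]
    intro j hj
    rw [Ideal.mem_bot]
    apply hreg
    rw [hrb, add_zero]
    exact hIJ' a ha j hj

/-! ### chains of minimal primes -/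

section Chain

variable (A : Type u) [CommRing A] (d : ℕ)

/-- two ideals lie in a common prime of height `≤ d - 1`. -/
def Link (p q : Ideal A) : Prop :=
  ∃ (Q : Ideal A) (_ : Q.IsPrime), p ≤ Q ∧ q ≤ Q ∧ Q.height + 1 ≤ (d : ℕ∞)

/-- chains of minimal primes linked in codimension `≤ d - 1`. -/
def ChainTo (p q : Ideal A) : Prop :=
  ∃ (n : ℕ) (c : Fin (n + 1) → Ideal A), c 0 = p ∧ c (Fin.last n) = q ∧
    (∀ i, c i ∈ minimalPrimes A) ∧ ∀ i : Fin n, Link A d (c i.castSucc) (c i.succ)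

variable {A d}

lemma chainTo_refl {p : Ideal A} (hp : p ∈ minimalPrimes A) : ChainTo A d p p :=
  ⟨0, fun _ => p, rfl, rfl, fun _ => hp, fun i => i.elim0⟩

lemma chainTo_snoc {p q r : Ideal A} (h : ChainTo A d p q) (hr : r ∈ minimalPrimes A)
    (hqr : Link A d q r) : ChainTo A d p r := by
  obtain ⟨n, c, h0, hl, hmin, hlink⟩ := h
  refine ⟨n + 1, @Fin.snoc (n + 1) (fun _ => Ideal A) c r, ?_, ?_, ?_, ?_⟩
  · have e : (0 : Fin (n + 1 + 1)) = Fin.castSucc (0 : Fin (n + 1)) := rfl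
    rw [e, Fin.snoc_castSucc, h0]
  · rw [Fin.snoc_last]
  · intro i
    refine Fin.lastCases ?_ (fun j => ?_) i
    · rw [Fin.snoc_last]; exact hr
    · rw [Fin.snoc_castSucc]; exact hmin j
  · intro i
    refine Fin.lastCases ?_ (fun j => ?_) i
    · rw [Fin.snoc_castSucc, Fin.succ_last, Fin.snoc_last, hl]; exact hqr
    · rw [Fin.snoc_castSucc, Fin.succ_castSucc, Fin.snoc_castSucc]; exact hlink j

end Chain

theorem hartshorne_chain (A : Type u) [CommRing A] [IsNoetherianRing A]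
    [ConnectedSpace (PrimeSpectrum A)] (d : ℕ)
    (h : ∀ (p : Ideal A) [p.IsPrime], (d : ℕ∞) ≤ p.height →
      (2 : ℕ∞) ≤ LocCoh.depth (Localization.AtPrime p) (Localization.AtPrime p))
    (p' p'' : Ideal A) (hp' : p' ∈ minimalPrimes A) (hp'' : p'' ∈ minimalPrimes A) :
    ChainTo A d p' p'' := by
  classical
  by_contra hnot
  have hfin := minimalPrimes.finite_of_isNoetherianRing A
  have hmemT : ∀ q, q ∈ hfin.toFinset ↔ q ∈ minimalPrimes A := fun q => hfin.mem_toFinset
  have hS1 : ∀ q, q ∈ hfin.toFinset.filter (fun q => ChainTo A d p' q) ↔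
      q ∈ minimalPrimes A ∧ ChainTo A d p' q := fun q => by
    rw [Finset.mem_filter, hmemT]
  have hS2 : ∀ q, q ∈ hfin.toFinset.filter (fun q => ¬ ChainTo A d p' q) ↔
      q ∈ minimalPrimes A ∧ ¬ ChainTo A d p' q := fun q => by
    rw [Finset.mem_filter, hmemT]
  generalize hI'def : (hfin.toFinset.filter (fun q => ChainTo A d p' q)).inf id = I' at *
  generalize hI''def : (hfin.toFinset.filter (fun q => ¬ ChainTo A d p' q)).inf id = I'' at *
  have hI'le : ∀ q, q ∈ minimalPrimes A → ChainTo A d p' q → I' ≤ q := fun q hq hc => by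
    rw [← hI'def]; exact Finset.inf_le (f := id) ((hS1 q).mpr ⟨hq, hc⟩)
  have hI''le : ∀ q, q ∈ minimalPrimes A → ¬ ChainTo A d p' q → I'' ≤ q := fun q hq hc => by
    rw [← hI''def]; exact Finset.inf_le (f := id) ((hS2 q).mpr ⟨hq, hc⟩)
  have hI'prime : ∀ Q : Ideal A, Q.IsPrime → I' ≤ Q →
      ∃ q, q ∈ minimalPrimes A ∧ ChainTo A d p' q ∧ q ≤ Q := fun Q hQ hle => by
    rw [← hI'def] at hle
    obtain ⟨q, hq, hqQ⟩ := (Ideal.IsPrime.inf_le' hQ).mp hle
    exact ⟨q, ((hS1 q).mp hq).1, ((hS1 q).mp hq).2, hqQ⟩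
  have hI''prime : ∀ Q : Ideal A, Q.IsPrime → I'' ≤ Q →
      ∃ q, q ∈ minimalPrimes A ∧ ¬ ChainTo A d p' q ∧ q ≤ Q := fun Q hQ hle => by
    rw [← hI''def] at hle
    obtain ⟨q, hq, hqQ⟩ := (Ideal.IsPrime.inf_le' hQ).mp hle
    exact ⟨q, ((hS2 q).mp hq).1, ((hS2 q).mp hq).2, hqQ⟩
  have hcover : ∀ Q : Ideal A, Q.IsPrime → I' * I'' ≤ Q := by
    intro Q hQ
    obtain ⟨p, hpmin, hpQ⟩ := Ideal.exists_minimalPrimes_le (bot_le : (⊥ : Ideal A) ≤ Q)
    by_cases hc : ChainTo A d p' p
    · exact (Ideal.mul_le_left.trans (hI'le p hpmin hc)).trans hpQ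
    · exact (Ideal.mul_le_right.trans (hI''le p hpmin hc)).trans hpQ
  have hnil : I' * I'' ≤ nilradical A := by
    rw [nilradical_eq_sInf]
    exact le_sInf (fun Q hQ => hcover Q hQ)
  obtain ⟨n, hn⟩ := IsNoetherianRing.isNilpotent_nilradical A
  have hIJ0 : I' ^ n * I'' ^ n = ⊥ := by
    rw [← mul_pow, eq_bot_iff, ← Ideal.zero_eq_bot, ← hn]
    exact Ideal.pow_right_mono hnil n
  have hdepth : ∀ P : PrimeSpectrum A,
      P ∈ PrimeSpectrum.zeroLocus ((I' ^ n ⊔ I'' ^ n : Ideal A) : Set A) →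
      (2 : ℕ∞) ≤ LocCoh.depth (Localization.AtPrime P.asIdeal)
        (LocalizedModule P.asIdeal.primeCompl A) := by
    intro P hP
    have hle : I' ^ n ⊔ I'' ^ n ≤ P.asIdeal := (PrimeSpectrum.mem_zeroLocus _ _).mp hP
    have h1 : I' ≤ P.asIdeal := Ideal.IsPrime.le_of_pow_le (le_sup_left.trans hle)
    have h2 : I'' ≤ P.asIdeal := Ideal.IsPrime.le_of_pow_le (le_sup_right.trans hle)
    obtain ⟨p₁, hp₁, hc₁, hp₁P⟩ := hI'prime _ P.isPrime h1
    obtain ⟨p₂, hp₂, hc₂, hp₂P⟩ := hI''prime _ P.isPrime h2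
    have h3 := le_depth_localizedModule_self P.asIdeal 2 (by
      rw [Nat.cast_ofNat]
      apply h
      by_contra hlt
      rw [not_le] at hlt
      exact hc₂ (chainTo_snoc hc₁ hp₂
        ⟨P.asIdeal, P.isPrime, hp₁P, hp₂P, Order.add_one_le_of_lt hlt⟩))
    rw [Nat.cast_ofNat] at h3
    exact h3
  have hcl := (isClosedAlong_iff_depth A
    (PrimeSpectrum.zeroLocus ((I' ^ n ⊔ I'' ^ n : Ideal A) : Set A))
    (PrimeSpectrum.isClosed_zeroLocus _).stableUnderSpecialization).mpr hdepth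
  have hbij := (restrCompl_bijective_iff A (I' ^ n ⊔ I'' ^ n)).mp (hcl _ subset_rfl)
  rcases eq_bot_or_eq_bot_of_bijective A (I' ^ n) (I'' ^ n) hIJ0 hbij with h0 | h0
  · have hle : I' ≤ p'' := by
      have := hp''.1.1
      apply Ideal.IsPrime.le_of_pow_le (n := n)
      rw [h0]; exact bot_le
    obtain ⟨p₁, hp₁, hc₁, hp₁p⟩ := hI'prime _ hp''.1.1 hle
    have heq : p₁ = p'' := le_antisymm hp₁p (hp''.2 ⟨hp₁.1.1, bot_le⟩ hp₁p)
    exact hnot (heq ▸ hc₁)
  · have hle : I'' ≤ p' := by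
      have := hp'.1.1
      apply Ideal.IsPrime.le_of_pow_le (n := n)
      rw [h0]; exact bot_le
    obtain ⟨p₂, hp₂, hc₂, hp₂p⟩ := hI''prime _ hp'.1.1 hle
    have heq : p₂ = p' := le_antisymm hp₂p (hp'.2 ⟨hp₂.1.1, bot_le⟩ hp₂p)
    exact hc₂ (by rw [heq]; exact chainTo_refl hp')

end Groth.Agent.H71.HC
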