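import Mathlib
import Groth.Agent.H2.Matlis3
import Groth.Agent.S0299

/-!
# Hartshorne–Speiser–Lyubeznik over a complete local ring (helper71)

`hsl_complete`: `R` complete Noetherian local, `M` Artinian, `φ : M →+ M` with
`φ (a • x) = a ^ p • φ x` (`2 ≤ p`), locally nilpotent ⟹ nilpotent.
Proof: Noetherian induction on annihilators + Matlis duality + Gabber's trick.
-/

set_option autoImplicit false

namespace Groth.Agent.H71.HSL

open IsLocalRing Function

universe w

section Basic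

variable {R : Type*} [CommRing R] {M : Type*} [AddCommGroup M] [Module R M]

lemma iter_smul (p : ℕ) (φ : M →+ M) (hφ : ∀ (a : R) (x : M), φ (a • x) = a ^ p • φ x)
    (n : ℕ) (a : R) (x : M) : φ^[n] (a • x) = a ^ (p ^ n) • φ^[n] x := by
  induction n generalizing a x with
  | zero => simp
  | succ n ih =>
    rw [Function.iterate_succ_apply, hφ, ih, Function.iterate_succ_apply, ← pow_mul, pow_succ']

/-- The kernel of the `n`-th iterate, as a submodule. -/
def kerIter (p : ℕ) (φ : M →+ M) (hφ : ∀ (a : R) (x : M), φ (a • x) = a ^ p • φ x) (n : ℕ) :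
    Submodule R M where
  carrier := {x | φ^[n] x = 0}
  add_mem' := by
    intro x y hx hy
    simp only [Set.mem_ofPred_eq] at *
    rw [iterate_map_add, hx, hy, add_zero]
  zero_mem' := iterate_map_zero φ n
  smul_mem' := by
    intro a x hx
    simp only [Set.mem_ofPred_eq] at *
    rw [iter_smul p φ hφ, hx, smul_zero]

lemma mem_kerIter (p : ℕ) (φ : M →+ M) (hφ : ∀ (a : R) (x : M), φ (a • x) = a ^ p • φ x) (n : ℕ)
    (x : M) : x ∈ kerIter p φ hφ n ↔ φ^[n] x = 0 := Iff.rfl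

noncomputable def phiQ (N : Submodule R M) (φ : M →+ M) (hN : ∀ x ∈ N, φ x ∈ N) :
    (M ⧸ N) →+ (M ⧸ N) :=
  QuotientAddGroup.map N.toAddSubgroup N.toAddSubgroup φ (fun x hx => hN x hx)

lemma phiQ_mk (N : Submodule R M) (φ : M →+ M) (hN : ∀ x ∈ N, φ x ∈ N) (x : M) :
    phiQ N φ hN (Submodule.Quotient.mk x) = Submodule.Quotient.mk (φ x) := rfl

lemma phiQ_iter (N : Submodule R M) (φ : M →+ M) (hN : ∀ x ∈ N, φ x ∈ N) (n : ℕ) (x : M) :
    (phiQ N φ hN)^[n] (Submodule.Quotient.mk x) = Submodule.Quotient.mk (φ^[n] x) := by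
  induction n generalizing x with
  | zero => rfl
  | succ n ih => rw [Function.iterate_succ_apply, phiQ_mk, ih, Function.iterate_succ_apply]

noncomputable def phiS (N : Submodule R M) (φ : M →+ M) (hN : ∀ x ∈ N, φ x ∈ N) : N →+ N :=
  AddMonoidHom.mk' (fun x => ⟨φ x, hN x x.2⟩) (by
    intro a b
    apply Subtype.ext
    simp)

lemma phiS_iter (N : Submodule R M) (φ : M →+ M) (hN : ∀ x ∈ N, φ x ∈ N) (n : ℕ) (x : N) :
    (((phiS N φ hN)^[n] x : N) : M) = φ^[n] (x : M) := by
  induction n generalizing x with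
  | zero => rfl
  | succ n ih =>
    rw [Function.iterate_succ_apply, ih, Function.iterate_succ_apply]
    rfl

/-- The submodule `s M`. -/
def smulRange (s : R) : Submodule R M := LinearMap.range (LinearMap.lsmul R M s)

lemma mem_smulRange (s : R) (x : M) : x ∈ (smulRange s : Submodule R M) ↔ ∃ y, s • y = x := by
  unfold smulRange
  rw [LinearMap.mem_range]
  rfl

lemma phi_mem_smulRange (p : ℕ) (hp : 1 ≤ p) (φ : M →+ M)
    (hφ : ∀ (a : R) (x : M), φ (a • x) = a ^ p • φ x) (s : R) (x : M)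
    (hx : x ∈ (smulRange s : Submodule R M)) : φ x ∈ (smulRange s : Submodule R M) := by
  rw [mem_smulRange] at hx ⊢
  obtain ⟨y, rfl⟩ := hx
  refine ⟨s ^ (p - 1) • φ y, ?_⟩
  rw [hφ, smul_smul, ← pow_succ', Nat.sub_add_cancel hp]

end Basic

/-- The statement proved by Noetherian induction. -/
def HSLProp (R : Type w) [CommRing R] (p : ℕ) (𝔞 : Ideal R) : Prop :=
  ∀ (M : Type w) [AddCommGroup M] [Module R M] [IsArtinian R M] (φ : M →+ M),
    (∀ (a : R) (x : M), φ (a • x) = a ^ p • φ x) → (∀ x, ∃ n, φ^[n] x = 0) →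
    𝔞 ≤ Module.annihilator R M → ∃ n, ∀ x, φ^[n] x = 0

section Steps

variable {R : Type w} [CommRing R] {p : ℕ} {𝔟 : Ideal R}
  {M : Type w} [AddCommGroup M] [Module R M] [IsArtinian R M]

lemma sub_step (IH : HSLProp R p 𝔟) (φ : M →+ M)
    (hφ : ∀ (a : R) (x : M), φ (a • x) = a ^ p • φ x) (hloc : ∀ x, ∃ n, φ^[n] x = 0)
    (N : Submodule R M) (hN : ∀ x ∈ N, φ x ∈ N) (h𝔟 : ∀ b ∈ 𝔟, ∀ x ∈ N, b • x = 0) :
    ∃ n, ∀ x ∈ N, φ^[n] x = 0 := by
  obtain ⟨n, hn⟩ := IH N (phiS N φ hN)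
    (fun a x => Subtype.ext (by
      show φ (a • (x : M)) = a ^ p • φ (x : M)
      exact hφ a x))
    (fun x => by
      obtain ⟨n, hn⟩ := hloc x
      exact ⟨n, Subtype.ext ((phiS_iter N φ hN n x).trans hn)⟩)
    (fun b hb => by
      rw [Module.mem_annihilator]
      intro x
      exact Subtype.ext (h𝔟 b hb x x.2))
  refine ⟨n, fun x hx => ?_⟩
  have h := hn ⟨x, hx⟩
  rw [← phiS_iter N φ hN n ⟨x, hx⟩, h]
  rfl

lemma quot_step (IH : HSLProp R p 𝔟) (φ : M →+ M)
    (hφ : ∀ (a : R) (x : M), φ (a • x) = a ^ p • φ x) (hloc : ∀ x, ∃ n, φ^[n] x = 0)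
    (N : Submodule R M) (hN : ∀ x ∈ N, φ x ∈ N) (h𝔟 : ∀ b ∈ 𝔟, ∀ x : M, b • x ∈ N) :
    ∃ n, ∀ x, φ^[n] x ∈ N := by
  obtain ⟨n, hn⟩ := IH (M ⧸ N) (phiQ N φ hN)
    (fun a x => by
      obtain ⟨x, rfl⟩ := Submodule.Quotient.mk_surjective N x
      rw [← Submodule.Quotient.mk_smul, phiQ_mk, phiQ_mk, hφ, Submodule.Quotient.mk_smul])
    (fun x => by
      obtain ⟨x, rfl⟩ := Submodule.Quotient.mk_surjective N x
      obtain ⟨n, hn⟩ := hloc x
      exact ⟨n, by rw [phiQ_iter, hn, Submodule.Quotient.mk_zero]⟩)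
    (fun b hb => by
      rw [Module.mem_annihilator]
      intro x
      obtain ⟨x, rfl⟩ := Submodule.Quotient.mk_surjective N x
      rw [← Submodule.Quotient.mk_smul, Submodule.Quotient.mk_eq_zero]
      exact h𝔟 b hb x)
  refine ⟨n, fun x => ?_⟩
  have h := hn (Submodule.Quotient.mk x)
  rwa [phiQ_iter, Submodule.Quotient.mk_eq_zero] at h

/-- Quotient step for `N = s M`. -/
lemma quot_smul {𝔞 : Ideal R} (s : R) (IH : HSLProp R p (𝔞 ⊔ Ideal.span {s})) (hp : 1 ≤ p)
    (φ : M →+ M)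
    (hφ : ∀ (a : R) (x : M), φ (a • x) = a ^ p • φ x) (hloc : ∀ x, ∃ n, φ^[n] x = 0)
    (hkill : ∀ u ∈ 𝔞, ∀ x : M, u • x = 0) :
    ∃ n, ∀ x, ∃ y, φ^[n] x = s • y := by
  obtain ⟨n, hn⟩ := quot_step IH φ hφ hloc (smulRange s) (phi_mem_smulRange p hp φ hφ s)
    (fun b hb x => by
      obtain ⟨u, hu, v, hv, rfl⟩ := Submodule.mem_sup.mp hb
      obtain ⟨c, rfl⟩ := Ideal.mem_span_singleton'.mp hv
      rw [add_smul, hkill u hu, zero_add, mem_smulRange]
      exact ⟨c • x, by rw [smul_smul, mul_comm]⟩)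
  refine ⟨n, fun x => ?_⟩
  obtain ⟨y, hy⟩ := (mem_smulRange s _).mp (hn x)
  exact ⟨y, hy.symm⟩

end Steps

lemma exists_eq_succ_of_antitone (f : ℕ → ℕ) (hf : ∀ n, f (n + 1) ≤ f n) :
    ∃ c, f (c + 1) = f c := by
  by_contra h
  push Not at h
  have key : ∀ c, f c + c ≤ f 0 := by
    intro c
    induction c with
    | zero => simp
    | succ c ih =>
      have h1 := hf c
      have h2 := h c
      omega
  have := key (f 0 + 1)
  omega


section Torsion

variable {D : Type*} [CommRing D] [IsDomain D] {N : Type*} [AddCommGroup N] [Module D N]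

/-- If every element of a finitely generated submodule `K` is sent into `K'` by a nonzero scalar,
a single nonzero scalar works. -/
lemma exists_common_smul (K' : Submodule D N) (S : Finset N)
    (h : ∀ χ ∈ S, ∃ d : D, d ≠ 0 ∧ d • χ ∈ K') :
    ∃ d : D, d ≠ 0 ∧ ∀ χ ∈ Submodule.span D (S : Set N), d • χ ∈ K' := by
  classical
  induction S using Finset.induction_on with
  | empty =>
    refine ⟨1, one_ne_zero, fun χ hχ => ?_⟩
    rw [Finset.coe_empty, Submodule.span_empty, Submodule.mem_bot] at hχ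
    rw [hχ, smul_zero]
    exact K'.zero_mem
  | insert χ0 S _ ih =>
    obtain ⟨d1, hd1, h1⟩ := ih (fun χ hχ => h χ (Finset.mem_insert_of_mem hχ))
    obtain ⟨d0, hd0, h0⟩ := h χ0 (Finset.mem_insert_self χ0 S)
    refine ⟨d0 * d1, mul_ne_zero hd0 hd1, fun χ hχ => ?_⟩
    rw [Finset.coe_insert, Submodule.mem_span_insert] at hχ
    obtain ⟨a, z, hz, rfl⟩ := hχ
    rw [smul_add]
    refine K'.add_mem ?_ ?_
    · have : (d0 * d1) • a • χ0 = (d1 * a) • (d0 • χ0) := by
        rw [smul_smul, smul_smul]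
        congr 1
        ring
      rw [this]
      exact K'.smul_mem _ h0
    · rw [mul_smul]
      exact K'.smul_mem _ (h1 z hz)

end Torsion

/-- **HSL theorem over a complete Noetherian local ring.** -/
theorem hsl_complete (R : Type w) [CommRing R] [IsNoetherianRing R] [IsLocalRing R]
    [IsAdicComplete (maximalIdeal R) R] (p : ℕ) (hp : 2 ≤ p) (𝔞 : Ideal R) : HSLProp R p 𝔞 := by
  induction 𝔞 using WellFoundedGT.induction with
  | ind 𝔞 IH =>
  intro M _ _ _ φ hφ hloc h𝔞
  by_cases hlt : 𝔞 < Module.annihilator R M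
  · exact IH _ hlt M φ hφ hloc le_rfl
  have hann : 𝔞 = Module.annihilator R M := eq_of_le_of_not_lt h𝔞 hlt
  have hkill : ∀ u ∈ 𝔞, ∀ x : M, u • x = 0 := fun u hu x =>
    Module.mem_annihilator.mp (hann ▸ hu) x
  by_cases htop : 𝔞 = ⊤
  · refine ⟨0, fun x => ?_⟩
    have h1 := hkill 1 (htop ▸ Submodule.mem_top) x
    rwa [one_smul] at h1
  have hp1 : 1 ≤ p := by omega
  by_cases hprime : 𝔞.IsPrime
  · -- prime case: Matlis duality + Gabber's trick
    obtain ⟨E, hE1, hE2, f, hf⟩ := Groth.Agent.S0299.result R (ResidueField R)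
    have hfin : Module.Finite R (M →ₗ[R] E) := (Groth.Agent.H2.Matlis.duality_artinian hf M).1
    have hT : Module.IsTorsionBySet R (M →ₗ[R] E) (𝔞 : Set R) := by
      intro χ a
      ext x
      rw [LinearMap.smul_apply, ← map_smul, hkill _ a.2, map_zero, LinearMap.zero_apply]
    letI : Module (R ⧸ 𝔞) (M →ₗ[R] E) := hT.module
    haveI : IsScalarTower R (R ⧸ 𝔞) (M →ₗ[R] E) := hT.isScalarTower
    haveI : Module.Finite (R ⧸ 𝔞) (M →ₗ[R] E) := Module.Finite.of_restrictScalars_finite R _ _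
    have hmk : ∀ (r : R) (χ : M →ₗ[R] E), (Ideal.Quotient.mk 𝔞 r) • χ = r • χ := fun r χ => rfl
    let Kd : ℕ → Submodule (R ⧸ 𝔞) (M →ₗ[R] E) := fun e =>
      { carrier := {χ | ∀ x, φ^[e] x = 0 → χ x = 0}
        add_mem' := by
          intro χ ψ hχ hψ x hx
          rw [LinearMap.add_apply, hχ x hx, hψ x hx, add_zero]
        zero_mem' := fun x _ => rfl
        smul_mem' := by
          intro d χ hχ x hx
          obtain ⟨r, rfl⟩ := Ideal.Quotient.mk_surjective d
          rw [hmk, LinearMap.smul_apply, hχ x hx, smul_zero] }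
    have hKd : ∀ e (χ : M →ₗ[R] E), χ ∈ Kd e ↔ ∀ x, φ^[e] x = 0 → χ x = 0 := fun e χ => Iff.rfl
    have hanti : ∀ e, Kd (e + 1) ≤ Kd e := by
      intro e χ hχ
      rw [hKd] at hχ ⊢
      intro x hx
      apply hχ
      rw [Function.iterate_succ_apply', hx, map_zero]
    obtain ⟨c, hc⟩ := exists_eq_succ_of_antitone
      (fun e => Module.finrank (R ⧸ 𝔞) (Kd e)) (fun e => Submodule.finrank_mono (hanti e))
    -- torsion quotient
    have hrk : Module.finrank (R ⧸ 𝔞) (↥(Kd c) ⧸ ((Kd (c + 1)).comap (Kd c).subtype)) = 0 := by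
      have h1 := ((Kd (c + 1)).comap (Kd c).subtype).finrank_quotient_add_finrank
      have h2 := (Submodule.comapSubtypeEquivOfLe (hanti c)).finrank_eq
      omega
    have htors : ∀ χ ∈ Kd c, ∃ d : R ⧸ 𝔞, d ≠ 0 ∧ d • χ ∈ Kd (c + 1) := by
      intro χ hχ
      obtain ⟨a, ha, ha2⟩ := Module.finrank_eq_zero_iff.mp hrk
        (Submodule.Quotient.mk ⟨χ, hχ⟩)
      refine ⟨a, ha, ?_⟩
      rw [← Submodule.Quotient.mk_smul, Submodule.Quotient.mk_eq_zero, Submodule.mem_comap] at ha2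
      exact ha2
    obtain ⟨S, hS⟩ := (IsNoetherian.noetherian (Kd c) : (Kd c).FG)
    obtain ⟨d, hd, hdK⟩ := exists_common_smul (Kd (c + 1)) S
      (fun χ hχ => htors χ (hS ▸ Submodule.subset_span hχ))
    rw [hS] at hdK
    obtain ⟨r, rfl⟩ := Ideal.Quotient.mk_surjective d
    have hr𝔞 : r ∉ 𝔞 := fun h => hd (Ideal.Quotient.eq_zero_iff_mem.mpr h)
    -- `r M_{c+1} ⊆ M_c`
    have hr1 : ∀ y, φ^[c + 1] y = 0 → φ^[c] (r • y) = 0 := by
      intro y hy
      by_contra hne
      have hne' : (kerIter p φ hφ c).mkQ (r • y) ≠ 0 := by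
        rw [Submodule.mkQ_apply, Ne, Submodule.Quotient.mk_eq_zero]
        exact hne
      obtain ⟨ψ, hψ⟩ := Groth.Agent.H2.Matlis.cogen hf (M ⧸ kerIter p φ hφ c) _ hne'
      have hχ : ψ ∘ₗ (kerIter p φ hφ c).mkQ ∈ Kd c := by
        rw [hKd]
        intro x hx
        rw [LinearMap.comp_apply, Submodule.mkQ_apply,
          (Submodule.Quotient.mk_eq_zero _).mpr ((mem_kerIter p φ hφ c x).mpr hx), map_zero]
      have h2 := (hKd _ _).mp (hdK _ hχ) y hy
      rw [hmk, LinearMap.smul_apply, ← map_smul] at h2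
      exact hψ h2
    -- Gabber's trick
    have hr2 : ∀ j y, φ^[c + (j + 1)] y = 0 → φ^[c] (r ^ 2 • y) = 0 := by
      intro j
      induction j with
      | zero =>
        intro y hy
        have h1 := hr1 y hy
        rw [pow_two, mul_smul]
        exact (kerIter p φ hφ c).smul_mem r h1
      | succ j ih =>
        intro y hy
        have h1 : φ^[c + (j + 1)] (φ y) = 0 := by
          rw [← Function.iterate_succ_apply]
          exact hy
        have h2 := ih (φ y) h1
        have h3 : φ^[c] (φ (r • y)) = 0 := by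
          rw [hφ]
          have hpow : r ^ p = r ^ (p - 2) * r ^ 2 := by
            rw [← pow_add]
            congr 1
            omega
          rw [hpow, mul_smul]
          exact (kerIter p φ hφ c).smul_mem _ h2
        have h4 : φ^[c + 1] (r • y) = 0 := by
          rw [Function.iterate_succ_apply]
          exact h3
        have h5 := hr1 (r • y) h4
        rw [pow_two, mul_smul]
        exact h5
    have hr3 : ∀ y, φ^[c] (r ^ 2 • y) = 0 := by
      intro y
      obtain ⟨n, hn⟩ := hloc y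
      apply hr2 n y
      have : c + (n + 1) = (c + 1) + n := by omega
      rw [this, Function.iterate_add_apply, hn, iterate_map_zero]
    have hlt2 : 𝔞 < 𝔞 ⊔ Ideal.span {r ^ 2} := by
      refine lt_of_le_of_ne le_sup_left (fun h => hr𝔞 (hprime.mem_of_pow_mem 2 ?_))
      rw [h]
      exact Ideal.mem_sup_right (Ideal.mem_span_singleton_self _)
    obtain ⟨b, hb⟩ := quot_smul (r ^ 2) (IH _ hlt2) hp1 φ hφ hloc hkill
    refine ⟨c + b, fun x => ?_⟩
    obtain ⟨y, hy⟩ := hb x
    rw [Function.iterate_add_apply, hy]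
    exact hr3 y
  · -- non-prime case
    rw [Ideal.isPrime_iff] at hprime
    push Not at hprime
    obtain ⟨s, t, hst, hs, ht⟩ := hprime htop
    have hlt1 : 𝔞 < 𝔞 ⊔ Ideal.span {t} := by
      refine lt_of_le_of_ne le_sup_left (fun h => ht ?_)
      rw [h]
      exact Ideal.mem_sup_right (Ideal.mem_span_singleton_self _)
    have hlt2 : 𝔞 < 𝔞 ⊔ Ideal.span {s} := by
      refine lt_of_le_of_ne le_sup_left (fun h => hs ?_)
      rw [h]
      exact Ideal.mem_sup_right (Ideal.mem_span_singleton_self _)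
    obtain ⟨a, ha⟩ := sub_step (IH _ hlt1) φ hφ hloc (smulRange s)
      (phi_mem_smulRange p hp1 φ hφ s)
      (fun b hb x hx => by
        obtain ⟨u, hu, v, hv, rfl⟩ := Submodule.mem_sup.mp hb
        obtain ⟨c, rfl⟩ := Ideal.mem_span_singleton'.mp hv
        obtain ⟨y, rfl⟩ := (mem_smulRange s x).mp hx
        rw [add_smul, hkill u hu, zero_add, smul_smul, mul_assoc, mul_comm t s, mul_smul,
          hkill _ hst, smul_zero])
    obtain ⟨b, hb⟩ := quot_smul s (IH _ hlt2) hp1 φ hφ hloc hkill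
    refine ⟨a + b, fun x => ?_⟩
    obtain ⟨y, hy⟩ := hb x
    rw [Function.iterate_add_apply, hy]
    exact ha _ ((mem_smulRange s _).mpr ⟨y, rfl⟩)

end Groth.Agent.H71.HSL
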