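import Mathlib
import Groth.Agent.H71.HSLComplete
import Groth.Agent.S0543

/-!
# Action of the adic completion on a power torsion module, and HSL over any Noetherian local ring
(helper71)
-/

set_option autoImplicit false

namespace Groth.Agent.H71.HSL

open IsLocalRing Function

universe w

section Action

variable {A : Type*} [CommRing A] (I : Ideal A) {M : Type*} [AddCommGroup M] [Module A M]

lemma evalₐ_compat {m n : ℕ} (h : m ≤ n) (a : AdicCompletion I A) (r : A)
    (hr : AdicCompletion.evalₐ I n a = Ideal.Quotient.mk (I ^ n) r) :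
    AdicCompletion.evalₐ I m a = Ideal.Quotient.mk (I ^ m) r := by
  obtain ⟨c, rfl⟩ := AdicCompletion.mk_surjective I A a
  rw [AdicCompletion.evalₐ_mk, Ideal.Quotient.eq] at hr ⊢
  have h1 : c.val m - c.val n ∈ I ^ m := by
    have := c.2 h
    rw [SModEq.sub_mem, smul_eq_mul, Ideal.mul_top] at this
    exact this
  have h2 : c.val n - r ∈ I ^ m := Ideal.pow_le_pow_right h hr
  have : c.val m - r = (c.val m - c.val n) + (c.val n - r) := by ring
  rw [this]
  exact (I ^ m).add_mem h1 h2

lemma smul_eq_of_evalₐ (a : AdicCompletion I A) (x : M) (n : ℕ) (hn : ∀ b ∈ I ^ n, b • x = 0)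
    (r r' : A) (hr : AdicCompletion.evalₐ I n a = Ideal.Quotient.mk (I ^ n) r)
    (hr' : AdicCompletion.evalₐ I n a = Ideal.Quotient.mk (I ^ n) r') : r • x = r' • x := by
  have h : r - r' ∈ I ^ n := by
    rw [← Ideal.Quotient.eq, ← hr, ← hr']
  have := hn _ h
  rwa [sub_smul, sub_eq_zero] at this

variable (htors : ∀ x : M, ∃ n : ℕ, ∀ a ∈ I ^ n, a • x = 0)

/-- A lift of the `n`-th component. -/
noncomputable def clift (a : AdicCompletion I A) (n : ℕ) : A :=
  Classical.choose (Ideal.Quotient.mk_surjective (AdicCompletion.evalₐ I n a))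

lemma clift_spec (a : AdicCompletion I A) (n : ℕ) :
    AdicCompletion.evalₐ I n a = Ideal.Quotient.mk (I ^ n) (clift I a n) :=
  (Classical.choose_spec (Ideal.Quotient.mk_surjective (AdicCompletion.evalₐ I n a))).symm

/-- A torsion exponent. -/
noncomputable def ntor (x : M) : ℕ := Classical.choose (htors x)

include htors in
lemma ntor_spec (x : M) : ∀ a ∈ I ^ ntor I htors x, a • x = 0 := Classical.choose_spec (htors x)

/-- The action of the completion. -/
noncomputable def csmul (a : AdicCompletion I A) (x : M) : M := clift I a (ntor I htors x) • x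

lemma csmul_eq (a : AdicCompletion I A) (x : M) (k : ℕ) (hk : ∀ b ∈ I ^ k, b • x = 0) (r : A)
    (hr : AdicCompletion.evalₐ I k a = Ideal.Quotient.mk (I ^ k) r) :
    csmul I htors a x = r • x := by
  unfold csmul
  set n := ntor I htors x
  have hn := ntor_spec I htors x
  have hN := clift_spec I a (max n k)
  rw [smul_eq_of_evalₐ I a x n hn _ _ (clift_spec I a n)
    (evalₐ_compat I (le_max_left n k) a _ hN)]
  exact smul_eq_of_evalₐ I a x k hk _ _ (evalₐ_compat I (le_max_right n k) a _ hN) hr

lemma csmul_eq' (a : AdicCompletion I A) (x : M) (k : ℕ) (hk : ∀ b ∈ I ^ k, b • x = 0) :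
    csmul I htors a x = clift I a k • x :=
  csmul_eq I htors a x k hk _ (clift_spec I a k)

/-- The module structure over the completion. -/
@[reducible]
noncomputable def complModule : Module (AdicCompletion I A) M where
  smul := csmul I htors
  one_smul x := by
    show csmul I htors 1 x = x
    rw [csmul_eq I htors 1 x _ (ntor_spec I htors x) 1 (by rw [map_one, map_one]), one_smul]
  mul_smul a b x := by
    show csmul I htors (a * b) x = csmul I htors a (csmul I htors b x)
    have hn := ntor_spec I htors x
    set n := ntor I htors x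
    have hb : csmul I htors b x = clift I b n • x := csmul_eq' I htors b x n hn
    have hn' : ∀ c ∈ I ^ n, c • (clift I b n • x) = 0 := fun c hc => by
      rw [smul_comm, hn c hc, smul_zero]
    rw [hb, csmul_eq' I htors a _ n hn',
      csmul_eq I htors (a * b) x n hn (clift I a n * clift I b n)
        (by rw [map_mul, map_mul, ← clift_spec, ← clift_spec]), mul_smul]
  smul_zero a := by
    show csmul I htors a 0 = 0
    unfold csmul
    rw [smul_zero]
  smul_add a x y := by
    show csmul I htors a (x + y) = csmul I htors a x + csmul I htors a y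
    have hx := ntor_spec I htors x
    have hy := ntor_spec I htors y
    set n1 := ntor I htors x
    set n2 := ntor I htors y
    have hx' : ∀ c ∈ I ^ (max n1 n2), c • x = 0 := fun c hc =>
      hx c (Ideal.pow_le_pow_right (le_max_left _ _) hc)
    have hy' : ∀ c ∈ I ^ (max n1 n2), c • y = 0 := fun c hc =>
      hy c (Ideal.pow_le_pow_right (le_max_right _ _) hc)
    have hxy : ∀ c ∈ I ^ (max n1 n2), c • (x + y) = 0 := fun c hc => by
      rw [smul_add, hx' c hc, hy' c hc, add_zero]
    rw [csmul_eq' I htors a _ _ hxy, csmul_eq' I htors a _ _ hx', csmul_eq' I htors a _ _ hy',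
      smul_add]
  add_smul a b x := by
    show csmul I htors (a + b) x = csmul I htors a x + csmul I htors b x
    have hn := ntor_spec I htors x
    set n := ntor I htors x
    rw [csmul_eq' I htors a x n hn, csmul_eq' I htors b x n hn,
      csmul_eq I htors (a + b) x n hn (clift I a n + clift I b n)
        (by rw [map_add, map_add, ← clift_spec, ← clift_spec]), add_smul]
  zero_smul x := by
    show csmul I htors 0 x = 0
    rw [csmul_eq I htors 0 x _ (ntor_spec I htors x) 0 (by rw [map_zero, map_zero]), zero_smul]

lemma complModule_smul_def (a : AdicCompletion I A) (x : M) :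
    (letI := complModule I htors; a • x) = csmul I htors a x := rfl

lemma algebraMap_csmul (r : A) (x : M) :
    csmul I htors (algebraMap A (AdicCompletion I A) r) x = r • x :=
  csmul_eq I htors _ x _ (ntor_spec I htors x) r (by rw [AlgHom.commutes]; rfl)

lemma complModule_isScalarTower :
    letI := complModule I htors
    IsScalarTower A (AdicCompletion I A) M := by
  letI := complModule I htors
  refine ⟨fun r a x => ?_⟩
  rw [Algebra.smul_def, mul_smul]
  exact algebraMap_csmul I htors r (a • x)

/-- Semilinearity transfers to the completion. -/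
lemma semilinear_compl (p : ℕ) (φ : M →+ M) (hφ : ∀ (a : A) (x : M), φ (a • x) = a ^ p • φ x)
    (a : AdicCompletion I A) (x : M) :
    φ (csmul I htors a x) = csmul I htors (a ^ p) (φ x) := by
  have hx := ntor_spec I htors x
  have hy := ntor_spec I htors (φ x)
  set n1 := ntor I htors x
  set n2 := ntor I htors (φ x)
  have hx' : ∀ c ∈ I ^ (max n1 n2), c • x = 0 := fun c hc =>
    hx c (Ideal.pow_le_pow_right (le_max_left _ _) hc)
  have hy' : ∀ c ∈ I ^ (max n1 n2), c • φ x = 0 := fun c hc =>
    hy c (Ideal.pow_le_pow_right (le_max_right _ _) hc)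
  rw [csmul_eq' I htors a x _ hx', hφ,
    csmul_eq I htors (a ^ p) (φ x) _ hy' (clift I a (max n1 n2) ^ p)
      (by rw [map_pow, map_pow, ← clift_spec])]

end Action

/-- **HSL over a Noetherian local ring**, module and ring in the same universe. -/
theorem hsl_local (A : Type w) [CommRing A] [IsNoetherianRing A] [IsLocalRing A]
    (M : Type w) [AddCommGroup M] [Module A M]
    (htors : LocCoh.IsPowerTorsion (maximalIdeal A) M)
    (hsoc : Module.Finite A ↥(LocCoh.torsionBy (maximalIdeal A) M))
    (p : ℕ) (hp : 2 ≤ p) (φ : M →+ M) (hφ : ∀ (a : A) (x : M), φ (a • x) = a ^ p • φ x)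
    (hloc : ∀ x : M, ∃ n : ℕ, φ^[n] x = 0) : ∃ n : ℕ, ∀ x : M, φ^[n] x = 0 := by
  haveI : Module.Finite (A ⧸ maximalIdeal A) ↥(LocCoh.torsionBy (maximalIdeal A) M) :=
    Module.Finite.of_restrictScalars_finite A _ _
  haveI : IsArtinian A M :=
    Groth.Agent.H2.Matlis.isArtinian_of_powerTorsion_of_finite_socle M htors
  letI := complModule (maximalIdeal A) htors
  haveI : IsScalarTower A (AdicCompletion (maximalIdeal A) A) M :=
    complModule_isScalarTower (maximalIdeal A) htors
  haveI : IsArtinian (AdicCompletion (maximalIdeal A) A) M := isArtinian_of_tower A inferInstance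
  haveI : IsNoetherianRing (AdicCompletion (maximalIdeal A) A) := Groth.Agent.S0543.result A _
  exact hsl_complete (AdicCompletion (maximalIdeal A) A) p hp ⊥ M φ
    (fun a x => semilinear_compl (maximalIdeal A) htors p φ hφ a x) hloc bot_le

end Groth.Agent.H71.HSL
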