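import Mathlib
import Groth.Agent.H71.HSLCompletion

/-!
# HSL over a Noetherian local ring, universe polymorphic version (helper71)
-/

set_option autoImplicit false

namespace Groth.Agent.H71.HSL

open IsLocalRing Function

universe u v

section Transfer

variable (A : Type u) [CommRing A] [IsLocalRing A]

instance : IsLocalRing (ULift.{v} A) := (ULift.ringEquiv (R := A)).symm.isLocalRing

lemma down_mem_maximalIdeal (a : ULift.{v} A) (ha : a ∈ maximalIdeal (ULift.{v} A)) :
    a.down ∈ maximalIdeal A := by
  rw [mem_maximalIdeal, mem_nonunits_iff] at ha ⊢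
  intro h
  apply ha
  have : a = (ULift.ringEquiv (R := A)).symm a.down := rfl
  rw [this]
  exact h.map _

lemma up_mem_maximalIdeal (a : A) (ha : a ∈ maximalIdeal A) :
    (ULift.up a : ULift.{v} A) ∈ maximalIdeal (ULift.{v} A) := by
  rw [mem_maximalIdeal, mem_nonunits_iff] at ha ⊢
  intro h
  apply ha
  have := h.map (ULift.ringEquiv (R := A))
  exact this

lemma down_mem_pow (n : ℕ) (a : ULift.{v} A) (ha : a ∈ maximalIdeal (ULift.{v} A) ^ n) :
    a.down ∈ maximalIdeal A ^ n := by
  have h1 : Ideal.map (ULift.ringEquiv (R := A) : ULift.{v} A →+* A) (maximalIdeal (ULift.{v} A))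
      ≤ maximalIdeal A := by
    rw [Ideal.map_le_iff_le_comap]
    intro x hx
    exact down_mem_maximalIdeal A x hx
  have h2 := Ideal.mem_map_of_mem (ULift.ringEquiv (R := A) : ULift.{v} A →+* A) ha
  rw [Ideal.map_pow] at h2
  exact Ideal.pow_right_mono h1 n h2

end Transfer

/-- **HSL over a Noetherian local ring**, universe polymorphic. -/
theorem hsl_univ (A : Type u) [CommRing A] [IsNoetherianRing A] [IsLocalRing A]
    (M : Type v) [AddCommGroup M] [Module A M]
    (htors : LocCoh.IsPowerTorsion (maximalIdeal A) M)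
    (hsoc : Module.Finite A ↥(LocCoh.torsionBy (maximalIdeal A) M))
    (p : ℕ) (hp : 2 ≤ p) (φ : M →+ M) (hφ : ∀ (a : A) (x : M), φ (a • x) = a ^ p • φ x)
    (hloc : ∀ x : M, ∃ n : ℕ, φ^[n] x = 0) : ∃ n : ℕ, ∀ x : M, φ^[n] x = 0 := by
  haveI : IsNoetherianRing (ULift.{v} A) :=
    isNoetherianRing_of_ringEquiv A (ULift.ringEquiv (R := A)).symm
  have hsm : ∀ (a : ULift.{v} A) (x : ULift.{u} M), a • x = ULift.up (a.down • x.down) :=
    fun a x => rfl
  let φ' : ULift.{u} M →+ ULift.{u} M :=
    AddMonoidHom.mk' (fun x => ULift.up (φ x.down)) (by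
      intro x y
      apply ULift.ext
      simp)
  have hφ'iter : ∀ (n : ℕ) (x : ULift.{u} M), (φ'^[n] x).down = φ^[n] x.down := by
    intro n
    induction n with
    | zero => intro x; rfl
    | succ n ih =>
      intro x
      rw [Function.iterate_succ_apply, ih, Function.iterate_succ_apply]
      rfl
  have htors' : LocCoh.IsPowerTorsion (maximalIdeal (ULift.{v} A)) (ULift.{u} M) := by
    intro x
    obtain ⟨n, hn⟩ := htors x.down
    refine ⟨n, fun a ha => ?_⟩
    rw [hsm, hn _ (down_mem_pow A n a ha)]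
    rfl
  have hsoc' : Module.Finite (ULift.{v} A)
      ↥(LocCoh.torsionBy (maximalIdeal (ULift.{v} A)) (ULift.{u} M)) := by
    obtain ⟨S, hS⟩ := hsoc.fg_top
    have hmem : ∀ x : ↥(LocCoh.torsionBy (maximalIdeal A) M),
        (ULift.up (x : M) : ULift.{u} M) ∈
          LocCoh.torsionBy (maximalIdeal (ULift.{v} A)) (ULift.{u} M) := by
      intro x
      rw [Submodule.mem_torsionBySet_iff]
      intro a
      rw [hsm]
      have := (Submodule.mem_torsionBySet_iff _ _).mp x.2
        ⟨(a : ULift.{v} A).down, down_mem_maximalIdeal A _ a.2⟩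
      rw [this]
      rfl
    classical
    let ψ : ↥(LocCoh.torsionBy (maximalIdeal A) M) →
        ↥(LocCoh.torsionBy (maximalIdeal (ULift.{v} A)) (ULift.{u} M)) :=
      fun x => ⟨ULift.up (x : M), hmem x⟩
    refine ⟨⟨S.image ψ, ?_⟩⟩
    rw [eq_top_iff]
    rintro ⟨x, hx⟩ -
    have hxd : x.down ∈ LocCoh.torsionBy (maximalIdeal A) M := by
      rw [Submodule.mem_torsionBySet_iff]
      intro a
      have := (Submodule.mem_torsionBySet_iff _ _).mp hx
        ⟨ULift.up (a : A), up_mem_maximalIdeal A _ a.2⟩
      exact congrArg ULift.down this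
    have key : ∀ y : ↥(LocCoh.torsionBy (maximalIdeal A) M),
        y ∈ Submodule.span A (S : Set ↥(LocCoh.torsionBy (maximalIdeal A) M)) →
        ψ y ∈ Submodule.span (ULift.{v} A) ((S.image ψ : Finset _) :
            Set ↥(LocCoh.torsionBy (maximalIdeal (ULift.{v} A)) (ULift.{u} M))) := by
      intro y hy
      induction hy using Submodule.span_induction with
      | mem y hy =>
        apply Submodule.subset_span
        rw [Finset.coe_image]
        exact ⟨y, hy, rfl⟩
      | zero =>
        have : ψ 0 = 0 := rfl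
        rw [this]
        exact Submodule.zero_mem _
      | add y z _ _ hy hz =>
        have : ψ (y + z) = ψ y + ψ z := rfl
        rw [this]
        exact Submodule.add_mem _ hy hz
      | smul a y _ hy =>
        have : ψ (a • y) = (ULift.up a : ULift.{v} A) • ψ y := rfl
        rw [this]
        exact Submodule.smul_mem _ _ hy
    have := key ⟨x.down, hxd⟩ (hS ▸ Submodule.mem_top)
    exact this
  obtain ⟨n, hn⟩ := hsl_local (ULift.{v} A) (ULift.{u} M) htors' hsoc' p hp φ'
    (fun a x => by
      apply ULift.ext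
      show φ (a.down • x.down) = (a ^ p).down • φ x.down
      rw [hφ]
      rfl)
    (fun x => by
      obtain ⟨n, hn⟩ := hloc x.down
      exact ⟨n, ULift.ext _ _ ((hφ'iter n x).trans hn)⟩)
  refine ⟨n, fun x => ?_⟩
  have := hn (ULift.up x)
  rw [← hφ'iter n (ULift.up x), this]
  rfl

end Groth.Agent.H71.HSL
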