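import Mathlib

/-!
# Characteristic polynomials on `S ⊗[k] H` for a finite free `k`-module `H` (helper71)

`chi b S s` is the characteristic polynomial over `S` of multiplication by `s` on `S ⊗[k] H`
(with respect to the `S`-basis induced by a `k`-basis `b` of `H`).  Base change, invariance under
`S`-algebra automorphisms, Cayley–Hamilton, norms and the "norm in a prime" lemma.
-/

set_option autoImplicit false
set_option linter.style.haveILetI false
set_option linter.unusedSectionVars false

universe u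

open TensorProduct Polynomial

namespace Groth.Agent.H71.HopfChi

variable {k : Type u} [CommRing k] {H : Type u} [CommRing H] [Algebra k H]
variable {ι : Type} [Fintype ι] [DecidableEq ι] (b : Module.Basis ι k H)

/-- the matrix of multiplication by `s` on `S ⊗ H` -/
noncomputable def mat (S : Type u) [CommRing S] [Algebra k S] (s : S ⊗[k] H) : Matrix ι ι S :=
  Algebra.leftMulMatrix (Algebra.TensorProduct.basis S b) s

/-- the characteristic polynomial of multiplication by `s` on `S ⊗ H` -/
noncomputable def chi (S : Type u) [CommRing S] [Algebra k S] (s : S ⊗[k] H) : S[X] :=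
  (mat b S s).charpoly

/-- the norm of `s` -/
noncomputable def nrm (S : Type u) [CommRing S] [Algebra k S] (s : S ⊗[k] H) : S :=
  (mat b S s).det

section Map

variable {S S' : Type u} [CommRing S] [CommRing S'] [Algebra k S] [Algebra k S'] (φ : S →ₐ[k] S')

theorem repr_map (x : S ⊗[k] H) (i : ι) :
    (Algebra.TensorProduct.basis S' b).repr (Algebra.TensorProduct.map φ (AlgHom.id k H) x) i =
      φ ((Algebra.TensorProduct.basis S b).repr x i) := by
  induction x using TensorProduct.induction_on with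
  | zero => simp
  | tmul a h =>
    rw [Algebra.TensorProduct.map_tmul, Algebra.TensorProduct.basis_repr_tmul,
      Algebra.TensorProduct.basis_repr_tmul]
    simp only [AlgHom.coe_id, id_eq, Finsupp.smul_apply, Finsupp.mapRange_apply, smul_eq_mul,
      map_mul, AlgHom.commutes]
  | add x y hx hy => simp only [map_add, Finsupp.add_apply, hx, hy]

theorem mat_map (s : S ⊗[k] H) :
    mat b S' (Algebra.TensorProduct.map φ (AlgHom.id k H) s) = (mat b S s).map φ := by
  ext i j
  unfold mat
  rw [Matrix.map_apply, Algebra.leftMulMatrix_eq_repr_mul, Algebra.leftMulMatrix_eq_repr_mul,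
    ← repr_map b φ]
  congr 2
  rw [map_mul, Algebra.TensorProduct.basis_apply, Algebra.TensorProduct.basis_apply,
    Algebra.TensorProduct.map_tmul, map_one]
  rfl

theorem chi_map (s : S ⊗[k] H) :
    chi b S' (Algebra.TensorProduct.map φ (AlgHom.id k H) s) = (chi b S s).map (φ : S →+* S') := by
  unfold chi
  rw [mat_map]
  exact Matrix.charpoly_map (mat b S s) (φ : S →+* S')

theorem nrm_map (s : S ⊗[k] H) :
    nrm b S' (Algebra.TensorProduct.map φ (AlgHom.id k H) s) = φ (nrm b S s) := by
  unfold nrm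
  rw [mat_map]
  exact (RingHom.map_det (φ : S →+* S') (mat b S s)).symm

end Map

section Basic

variable (S : Type u) [CommRing S] [Algebra k S]

theorem chi_monic (s : S ⊗[k] H) : (chi b S s).Monic := Matrix.charpoly_monic _

theorem chi_conj (θ : (S ⊗[k] H) ≃ₐ[S] (S ⊗[k] H)) (s : S ⊗[k] H) :
    chi b S (θ s) = chi b S s := by
  haveI : Module.Free S (S ⊗[k] H) := Module.Free.of_basis (Algebra.TensorProduct.basis S b)
  haveI : Module.Finite S (S ⊗[k] H) := Module.Finite.of_basis (Algebra.TensorProduct.basis S b)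
  have h1 : ∀ t : S ⊗[k] H, chi b S t = (Algebra.lmul S (S ⊗[k] H) t).charpoly := by
    intro t
    unfold chi mat
    rw [Algebra.leftMulMatrix_apply, LinearMap.charpoly_toMatrix]
  rw [h1, h1, ← LinearEquiv.charpoly_conj θ.toLinearEquiv (Algebra.lmul S (S ⊗[k] H) s)]
  congr 1
  apply LinearMap.ext
  intro y
  rw [LinearEquiv.conj_apply]
  change θ s * y = θ (s * θ.symm y)
  rw [map_mul, AlgEquiv.apply_symm_apply]

theorem aeval_chi (s : S ⊗[k] H) : aeval s (chi b S s) = 0 := by
  apply Algebra.leftMulMatrix_injective (Algebra.TensorProduct.basis S b)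
  rw [map_zero, ← Polynomial.aeval_algHom_apply]
  exact Matrix.aeval_self_charpoly _

theorem nrm_mul (s t : S ⊗[k] H) : nrm b S (s * t) = nrm b S s * nrm b S t := by
  unfold nrm mat
  rw [map_mul, Matrix.det_mul]

theorem nrm_algebraMap (a : S) :
    nrm b S (algebraMap S (S ⊗[k] H) a) = a ^ Fintype.card ι := by
  unfold nrm mat
  rw [AlgHom.commutes, Matrix.algebraMap_eq_diagonal, Matrix.det_diagonal]
  simp

theorem nrm_eq_sign_coeff (s : S ⊗[k] H) :
    nrm b S s = (-1) ^ Fintype.card ι * (chi b S s).coeff 0 :=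
  Matrix.det_eq_sign_charpoly_coeff _

/-- `algebraMap (nrm s)` is a multiple of `s` -/
theorem exists_mul_eq_nrm (s : S ⊗[k] H) :
    ∃ y : S ⊗[k] H, s * y = algebraMap S (S ⊗[k] H) (nrm b S s) := by
  have h := aeval_chi b S s
  have hp : chi b S s = (chi b S s).divX * X + C ((chi b S s).coeff 0) :=
    (Polynomial.divX_mul_X_add _).symm
  rw [hp, map_add, map_mul, aeval_X, aeval_C] at h
  refine ⟨-((-1) ^ Fintype.card ι) • aeval s (chi b S s).divX, ?_⟩
  rw [nrm_eq_sign_coeff, map_mul]
  have h' : algebraMap S (S ⊗[k] H) ((chi b S s).coeff 0) =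
      -(aeval s (chi b S s).divX * s) := by
    rw [eq_neg_iff_add_eq_zero, add_comm]
    exact h
  rw [h', map_pow, map_neg, map_one]
  simp only [smul_eq_mul, mul_neg, neg_mul, neg_neg, Algebra.smul_def, map_neg, map_pow, map_one]
  ring

end Basic

section Prime

variable (S : Type u) [CommRing S] [Algebra k S]

/-- if `s` lies in a prime `Q` then the norm of `s` lies in the contraction of `Q` -/
theorem nrm_mem_of_mem (Q : Ideal (S ⊗[k] H)) (s : S ⊗[k] H) (hs : s ∈ Q) :
    nrm b S s ∈ Q.comap (algebraMap S (S ⊗[k] H)) := by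
  obtain ⟨y, hy⟩ := exists_mul_eq_nrm b S s
  rw [Ideal.mem_comap, ← hy]
  exact Q.mul_mem_right _ hs

/-- if the norm of `s` lies in a prime `q`, then `s` lies in a prime over `q` -/
theorem exists_prime_of_nrm_mem (q : Ideal S) [hq : q.IsPrime] (s : S ⊗[k] H)
    (hs : nrm b S s ∈ q) :
    ∃ Q : Ideal (S ⊗[k] H), Q.IsPrime ∧ Q.comap (algebraMap S (S ⊗[k] H)) = q ∧ s ∈ Q := by
  classical
  let I : Ideal (S ⊗[k] H) := Ideal.span {s} ⊔ q.map (algebraMap S (S ⊗[k] H))
  let M : Submonoid (S ⊗[k] H) := q.primeCompl.map (algebraMap S (S ⊗[k] H))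
  -- the quotient map
  let φ : S →ₐ[k] (S ⧸ q) := Ideal.Quotient.mkₐ k q
  let Φ : S ⊗[k] H →ₐ[k] (S ⧸ q) ⊗[k] H := Algebra.TensorProduct.map φ (AlgHom.id k H)
  have hΦq : ∀ z ∈ q.map (algebraMap S (S ⊗[k] H)), Φ z = 0 := by
    intro z hz
    have hle : q.map (algebraMap S (S ⊗[k] H)) ≤ RingHom.ker Φ.toRingHom := by
      rw [Ideal.map_le_iff_le_comap]
      intro a ha
      rw [Ideal.mem_comap, RingHom.mem_ker]
      change Φ (algebraMap S (S ⊗[k] H) a) = 0
      rw [Algebra.TensorProduct.algebraMap_apply]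
      change Φ (a ⊗ₜ[k] 1) = 0
      rw [Algebra.TensorProduct.map_tmul]
      have : φ a = 0 := Ideal.Quotient.eq_zero_iff_mem.mpr ha
      rw [this, TensorProduct.zero_tmul]
    exact RingHom.mem_ker.mp (hle hz)
  have hdisj : Disjoint (I : Set (S ⊗[k] H)) (M : Set (S ⊗[k] H)) := by
    rw [Set.disjoint_left]
    rintro _ hzI ⟨a, ha, rfl⟩
    apply ha
    -- `algebraMap a ∈ I`
    obtain ⟨x, hx, z, hz, hxz⟩ := Submodule.mem_sup.mp hzI
    obtain ⟨y, rfl⟩ := Ideal.mem_span_singleton'.mp hx
    have h1 : Φ (algebraMap S (S ⊗[k] H) a) = Φ y * Φ s := by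
      rw [← hxz, map_add, hΦq z hz, add_zero, map_mul]
    have h2 : Φ (algebraMap S (S ⊗[k] H) a) = algebraMap (S ⧸ q) ((S ⧸ q) ⊗[k] H) (φ a) := by
      rw [Algebra.TensorProduct.algebraMap_apply, Algebra.TensorProduct.algebraMap_apply]
      change Φ (a ⊗ₜ[k] 1) = _
      rw [Algebra.TensorProduct.map_tmul]
      rfl
    have h3 := congrArg (nrm b (S ⧸ q)) h1
    rw [h2, nrm_algebraMap, nrm_mul, nrm_map b φ s] at h3
    have h4 : φ (nrm b S s) = 0 := Ideal.Quotient.eq_zero_iff_mem.mpr hs
    rw [h4, mul_zero] at h3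
    haveI : IsDomain (S ⧸ q) := Ideal.Quotient.isDomain q
    have h5 : φ a = 0 := by
      by_cases hc : Fintype.card ι = 0
      · exfalso
        -- then the norm is `1`
        have : nrm b S s = 1 := by
          unfold nrm
          haveI : IsEmpty ι := Fintype.card_eq_zero_iff.mp hc
          exact Matrix.det_isEmpty
        rw [this] at hs
        exact hq.ne_top ((Ideal.eq_top_iff_one q).mpr hs)
      · exact pow_eq_zero_iff hc |>.mp h3
    exact Ideal.Quotient.eq_zero_iff_mem.mp h5
  obtain ⟨Q, hQ, hIQ, hQM⟩ := Ideal.exists_le_prime_disjoint I M hdisj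
  refine ⟨Q, hQ, ?_, ?_⟩
  · apply le_antisymm
    · intro a ha
      by_contra hna
      rw [Set.disjoint_left] at hQM
      exact hQM ha ⟨a, hna, rfl⟩
    · rw [← Ideal.map_le_iff_le_comap]
      exact le_trans le_sup_right hIQ
  · exact hIQ (Ideal.mem_sup_left (Ideal.mem_span_singleton_self s))

end Prime

end Groth.Agent.H71.HopfChi
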