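import Mathlib
import Groth.Agent.H71.HopfChi
import Groth.Agent.H62.Shear

/-!
# The Galois map of a commutative Hopf algebra and invariance of the characteristic polynomial
of a coaction (helper71)

For a commutative Hopf algebra `H` over `k`, a commutative `k`-algebra `S` and `j : H →ₐ[k] S`,
`gal j : S ⊗ H →ₐ[S] S ⊗ H`, `x ⊗ h ↦ (x ⊗ 1) (j ⊗ id)(Δ h)` is bijective (`H` finite over `k`).
For a comodule algebra `R` the characteristic polynomial of multiplication by `ρ f` on `R ⊗ H`
has invariant coefficients, `f` is a root of it, hence `R` is integral over the invariants.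
-/

set_option autoImplicit false
set_option linter.style.haveILetI false
set_option linter.unusedSectionVars false

universe u

open TensorProduct Polynomial

namespace Groth.Agent.H71.HopfGalois

open Groth.Agent Groth.Agent.H71.HopfChi

variable {k : Type u} [CommRing k] {H : Type u} [CommRing H] [HopfAlgebra k H]

local notation "𝓢" => HopfAlgebraStruct.antipode (R := k) (A := H)
local notation "Δₕ" => CoalgebraStruct.comul (R := k) (A := H)
local notation "εₕ" => CoalgebraStruct.counit (R := k) (A := H)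

section G0

/-- `a ⊗ c ↦ (𝓢 a ⊗ 1) Δ(c)` -/
noncomputable def G0 : H ⊗[k] H →ₐ[k] H ⊗[k] H :=
  Algebra.TensorProduct.lift
    ((Algebra.TensorProduct.includeLeft : H →ₐ[k] H ⊗[k] H).comp (HopfAlgebra.antipodeAlgHom k H))
    (Bialgebra.comulAlgHom k H) (fun _ _ => Commute.all _ _)

theorem tmul_one_mul (x : H) (w : H ⊗[k] H) :
    (x ⊗ₜ[k] (1 : H)) * w =
      (LinearMap.mul' k H).rTensor H ((TensorProduct.assoc k H H H).symm (x ⊗ₜ[k] w)) := by
  induction w using TensorProduct.induction_on with
  | zero => simp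
  | tmul a c => simp
  | add w1 w2 h1 h2 => simp only [mul_add, TensorProduct.tmul_add, map_add, h1, h2]

theorem G0_apply (z : H ⊗[k] H) :
    G0 (k := k) z = (LinearMap.mul' k H).rTensor H
      ((TensorProduct.assoc k H H H).symm (TensorProduct.map 𝓢 Δₕ z)) := by
  induction z using TensorProduct.induction_on with
  | zero => simp
  | tmul a c =>
    rw [G0, Algebra.TensorProduct.lift_tmul, TensorProduct.map_tmul, ← tmul_one_mul]
    rfl
  | add z1 z2 h1 h2 => simp only [map_add, h1, h2]

theorem assoc_symm_rTensor_assoc (f : H →ₗ[k] H) (y : (H ⊗[k] H) ⊗[k] H) :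
    (TensorProduct.assoc k H H H).symm (f.rTensor (H ⊗[k] H) (TensorProduct.assoc k H H H y)) =
      (f.rTensor H).rTensor H y := by
  induction y using TensorProduct.induction_on with
  | zero => simp
  | tmul w c =>
    induction w using TensorProduct.induction_on with
    | zero => simp
    | tmul a b => simp
    | add w1 w2 h1 h2 => simp only [TensorProduct.add_tmul, map_add, h1, h2]
  | add y1 y2 h1 h2 => simp only [map_add, h1, h2]

theorem G0_comul (h : H) : G0 (k := k) (Δₕ h) = (1 : H) ⊗ₜ[k] h := by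
  rw [G0_apply]
  have e1 : TensorProduct.map 𝓢 Δₕ (Δₕ h) =
      (𝓢).rTensor (H ⊗[k] H) ((Δₕ).lTensor H (Δₕ h)) := by
    rw [← LinearMap.rTensor_comp_lTensor, LinearMap.comp_apply]
  rw [e1, ← Coalgebra.coassoc_apply, assoc_symm_rTensor_assoc, ← LinearMap.rTensor_comp_apply,
    ← LinearMap.rTensor_comp_apply]
  have e2 : LinearMap.mul' k H ∘ₗ (𝓢).rTensor H ∘ₗ Δₕ = Algebra.linearMap k H ∘ₗ εₕ :=
    HopfAlgebra.mul_antipode_rTensor_comul
  rw [LinearMap.comp_assoc, e2, LinearMap.rTensor_comp_apply, Coalgebra.rTensor_counit_comul,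
    LinearMap.rTensor_tmul, Algebra.linearMap_apply, map_one]

end G0

section Gal

variable {S : Type u} [CommRing S] [Algebra k S] (j : H →ₐ[k] S)

/-- the Galois map `x ⊗ h ↦ (x ⊗ 1) (j ⊗ id)(Δ h)` -/
noncomputable def gal : S ⊗[k] H →ₐ[S] S ⊗[k] H :=
  Algebra.TensorProduct.lift (Algebra.ofId S (S ⊗[k] H))
    ((Algebra.TensorProduct.map j (AlgHom.id k H)).comp (Bialgebra.comulAlgHom k H))
    (fun _ _ => Commute.all _ _)

theorem gal_tmul (x : S) (h : H) :
    gal j (x ⊗ₜ[k] h) = (x ⊗ₜ[k] (1 : H)) * Algebra.TensorProduct.map j (AlgHom.id k H) (Δₕ h) := by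
  rw [gal, Algebra.TensorProduct.lift_tmul]
  rfl

theorem gal_map_antipode (z : H ⊗[k] H) :
    gal j (Algebra.TensorProduct.map (j.comp (HopfAlgebra.antipodeAlgHom k H)) (AlgHom.id k H) z) =
      Algebra.TensorProduct.map j (AlgHom.id k H) (G0 (k := k) z) := by
  induction z using TensorProduct.induction_on with
  | zero => simp
  | tmul a c =>
    rw [Algebra.TensorProduct.map_tmul, gal_tmul, G0, Algebra.TensorProduct.lift_tmul, map_mul]
    rfl
  | add z1 z2 h1 h2 => simp only [map_add, h1, h2]

theorem gal_surjective : Function.Surjective (gal j) := by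
  intro t
  induction t using TensorProduct.induction_on with
  | zero => exact ⟨0, map_zero _⟩
  | tmul x h =>
    refine ⟨(x ⊗ₜ[k] (1 : H)) * Algebra.TensorProduct.map
      (j.comp (HopfAlgebra.antipodeAlgHom k H)) (AlgHom.id k H) (Δₕ h), ?_⟩
    rw [map_mul, gal_map_antipode, G0_comul, gal_tmul]
    have h1 : Δₕ (1 : H) = (1 : H ⊗[k] H) := Bialgebra.comul_one
    rw [h1, map_one, mul_one, Algebra.TensorProduct.map_tmul, map_one,
      Algebra.TensorProduct.tmul_mul_tmul, mul_one, one_mul]
    rfl
  | add t1 t2 h1 h2 =>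
    obtain ⟨s1, rfl⟩ := h1
    obtain ⟨s2, rfl⟩ := h2
    exact ⟨s1 + s2, map_add _ _ _⟩

theorem gal_bijective [Module.Finite k H] : Function.Bijective (gal j) := by
  haveI : Module.Finite S (S ⊗[k] H) := inferInstance
  refine ⟨?_, gal_surjective j⟩
  exact OrzechProperty.injective_of_surjective_endomorphism (gal j).toLinearMap (gal_surjective j)

/-- the Galois map as an algebra automorphism -/
noncomputable def galEquiv [Module.Finite k H] : (S ⊗[k] H) ≃ₐ[S] (S ⊗[k] H) :=
  AlgEquiv.ofBijective (gal j) (gal_bijective j)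

@[simp] theorem galEquiv_apply [Module.Finite k H] (t : S ⊗[k] H) : galEquiv j t = gal j t := rfl

end Gal

section Coact

variable {R : Type u} [CommRing R] [Algebra k R] [HopfRep.Comod k H R]
variable (hmul : ∀ x y : R, (H40.ρ k H R) (x * y) = (H40.ρ k H R) x * (H40.ρ k H R) y)
  (hone : (H40.ρ k H R) (1 : R) = 1)

/-- the coaction as an algebra map -/
noncomputable abbrev ρₐ : R →ₐ[k] R ⊗[k] H := H62.Shear.coactAlg hmul hone

/-- `r ↦ r ⊗ 1` as an algebra map -/
noncomputable abbrev ιₐ : R →ₐ[k] R ⊗[k] H := Algebra.TensorProduct.includeLeft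

omit [HopfRep.Comod k H R] in
theorem tmul_one_tmul_one_mul (x : R) (w : H ⊗[k] H) :
    ((x ⊗ₜ[k] (1 : H)) ⊗ₜ[k] (1 : H)) *
        Algebra.TensorProduct.map
          (Algebra.TensorProduct.includeRight : H →ₐ[k] R ⊗[k] H) (AlgHom.id k H) w =
      (TensorProduct.assoc k R H H).symm (x ⊗ₜ[k] w) := by
  induction w using TensorProduct.induction_on with
  | zero => simp
  | tmul a c => simp
  | add w1 w2 h1 h2 => simp only [mul_add, TensorProduct.tmul_add, map_add, h1, h2]

omit [HopfRep.Comod k H R] in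
theorem gal_map_incl (z : R ⊗[k] H) :
    gal (Algebra.TensorProduct.includeRight : H →ₐ[k] R ⊗[k] H)
        (Algebra.TensorProduct.map (ιₐ (k := k) (H := H) (R := R)) (AlgHom.id k H) z) =
      (TensorProduct.assoc k R H H).symm ((Δₕ).lTensor R z) := by
  induction z using TensorProduct.induction_on with
  | zero => simp
  | tmul x h =>
    rw [Algebra.TensorProduct.map_tmul, LinearMap.lTensor_tmul, ← tmul_one_tmul_one_mul,
      gal_tmul]
    rfl
  | add z1 z2 h1 h2 => simp only [map_add, h1, h2]

theorem map_coact_eq (z : R ⊗[k] H) :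
    Algebra.TensorProduct.map (ρₐ hmul hone) (AlgHom.id k H) z = (H40.ρ k H R).rTensor H z := by
  induction z using TensorProduct.induction_on with
  | zero => simp
  | tmul x h => simp
  | add z1 z2 h1 h2 => simp only [map_add, h1, h2]

theorem map_coact_coact (f : R) :
    Algebra.TensorProduct.map (ρₐ hmul hone) (AlgHom.id k H) (H40.ρ k H R f) =
      gal (Algebra.TensorProduct.includeRight : H →ₐ[k] R ⊗[k] H)
        (Algebra.TensorProduct.map (ιₐ (k := k) (H := H) (R := R)) (AlgHom.id k H)
          (H40.ρ k H R f)) := by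
  rw [gal_map_incl, map_coact_eq, ← H40.coassoc_apply, LinearEquiv.symm_apply_apply]

variable {ι : Type} [Fintype ι] [DecidableEq ι] (b : Module.Basis ι k H)

include hmul hone in
theorem chi_map_coact_eq [Module.Finite k H] (f : R) :
    (chi b R (H40.ρ k H R f)).map ((ρₐ hmul hone : R →ₐ[k] R ⊗[k] H) : R →+* R ⊗[k] H) =
      (chi b R (H40.ρ k H R f)).map
        ((ιₐ (k := k) (H := H) (R := R) : R →ₐ[k] R ⊗[k] H) : R →+* R ⊗[k] H) := by
  rw [← chi_map b (ρₐ hmul hone), ← chi_map b (ιₐ (k := k) (H := H) (R := R)),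
    map_coact_coact hmul hone, ← galEquiv_apply, chi_conj]

include hmul hone in
/-- the coefficients of the characteristic polynomial of `ρ f` are invariant -/
theorem coact_coeff [Module.Finite k H] (f : R) (i : ℕ) :
    H40.ρ k H R ((chi b R (H40.ρ k H R f)).coeff i) =
      (chi b R (H40.ρ k H R f)).coeff i ⊗ₜ[k] (1 : H) := by
  have h := congrArg (fun p => p.coeff i) (chi_map_coact_eq hmul hone b f)
  simp only [Polynomial.coeff_map] at h
  exact h

include hmul hone in
/-- the norm of `ρ f` is invariant -/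
theorem coact_nrm [Module.Finite k H] (f : R) :
    H40.ρ k H R (nrm b R (H40.ρ k H R f)) = nrm b R (H40.ρ k H R f) ⊗ₜ[k] (1 : H) := by
  rw [nrm_eq_sign_coeff]
  have h0 := coact_coeff hmul hone b f 0
  have hρ : ∀ x, ρₐ hmul hone x = H40.ρ k H R x := fun _ => rfl
  rw [← hρ, map_mul, map_pow, map_neg, map_one, hρ, h0]
  have : ((-1 : R ⊗[k] H) ^ Fintype.card ι) = ((-1 : R) ^ Fintype.card ι) ⊗ₜ[k] (1 : H) := by
    have h1 : (-1 : R ⊗[k] H) = (-1 : R) ⊗ₜ[k] (1 : H) := by
      rw [TensorProduct.neg_tmul, ← Algebra.TensorProduct.one_def]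
    rw [h1, Algebra.TensorProduct.tmul_pow, one_pow]
  rw [this, Algebra.TensorProduct.tmul_mul_tmul, mul_one]

/-- `id ⊗ ε : R ⊗ H → R` as an `R`-algebra map -/
noncomputable def epsR : R ⊗[k] H →ₐ[R] R :=
  Algebra.TensorProduct.lift (AlgHom.id R R)
    ((Algebra.ofId k R).comp (Bialgebra.counitAlgHom k H)) (fun _ _ => Commute.all _ _)

omit [HopfRep.Comod k H R] in
theorem epsR_apply (z : R ⊗[k] H) :
    epsR (k := k) (H := H) (R := R) z = TensorProduct.rid k R ((εₕ).lTensor R z) := by
  induction z using TensorProduct.induction_on with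
  | zero => simp
  | tmul x h =>
    rw [epsR, Algebra.TensorProduct.lift_tmul, LinearMap.lTensor_tmul, TensorProduct.rid_tmul]
    simp [Algebra.ofId_apply, Algebra.smul_def, mul_comm]
  | add z1 z2 h1 h2 => simp only [map_add, h1, h2]

theorem epsR_coact (f : R) : epsR (k := k) (H := H) (R := R) (H40.ρ k H R f) = f := by
  rw [epsR_apply, H40.counit_apply, TensorProduct.rid_tmul, one_smul]

/-- `f` is a root of the characteristic polynomial of `ρ f` -/
theorem aeval_chi_coact (f : R) : aeval f (chi b R (H40.ρ k H R f)) = 0 := by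
  have h := congrArg (epsR (k := k) (H := H) (R := R)) (aeval_chi b R (H40.ρ k H R f))
  rw [← Polynomial.aeval_algHom_apply, epsR_coact, map_zero] at h
  exact h

end Coact

end Groth.Agent.H71.HopfGalois
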