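import Mathlib
import Groth.Agent.H71.HopfGalois
import Groth.Agent.H62.Reynolds2
import Groth.Agent.H29.FinDimDepth
import Groth.Agent.H72.AB

/-!
# Invariants of a finite linearly reductive group scheme (helper71)

`R` a comodule algebra over a finite commutative Hopf algebra `H` over a field `k`,
`A = R^H` the invariants.  `R` is integral over `A`; two primes of `R` with the same contraction
to `A` are the two images of one prime of `R ⊗ H` (transitivity on fibres), hence have the same
height; `A_p` is a direct summand of `R_p` (Reynolds operator), so `depth A_p ≥ depth_{A_p} R_p`.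
Consequences: `(S_r)` and Cohen–Macaulayness descend from `R` to `A`.
-/

set_option autoImplicit false
set_option linter.style.haveILetI false
set_option linter.unusedSectionVars false

universe u

open TensorProduct Polynomial

namespace Groth.Agent.H71.HopfInv

open Groth.Agent Groth.Agent.H71.HopfChi Groth.Agent.H71.HopfGalois

section Basic

variable {k : Type u} [Field k] {H : Type u} [CommRing H] [HopfAlgebra k H] [Module.Finite k H]
variable {R : Type u} [CommRing R] [Algebra k R] [HopfRep.Comod k H R] [GLin.IsCoactAlg k H R]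

theorem hmul' : ∀ x y : R, (H40.ρ k H R) (x * y) = (H40.ρ k H R) x * (H40.ρ k H R) y :=
  GLin.IsCoactAlg.coact_mul

theorem hone' : (H40.ρ k H R) (1 : R) = 1 := GLin.IsCoactAlg.coact_one

/-- `R` is integral over the invariants. -/
theorem isIntegral_invariants (f : R) : IsIntegral (GLin.invariants k H R) f := by
  classical
  rcases subsingleton_or_nontrivial R with hsub | hnt
  · haveI : Subsingleton (GLin.invariants k H R) :=
      ⟨fun a b => Subtype.ext (Subsingleton.elim _ _)⟩
    exact ⟨1, Subsingleton.elim _ _, Subsingleton.elim _ _⟩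
  let b := Module.finBasis k H
  have hmul := hmul' (k := k) (H := H) (R := R)
  have hone := hone' (k := k) (H := H) (R := R)
  have hmonic : (chi b R (H40.ρ k H R f)).Monic := chi_monic b R _
  have hlifts : chi b R (H40.ρ k H R f) ∈
      Polynomial.lifts (algebraMap (GLin.invariants k H R) R) := by
    rw [Polynomial.lifts_iff_coeff_lifts]
    intro n
    exact ⟨⟨(chi b R (H40.ρ k H R f)).coeff n,
      (GLin.mem_invariants_iff k H R _).mpr (coact_coeff hmul hone b f n)⟩, rfl⟩
  obtain ⟨q, hq, -, hqm⟩ := Polynomial.lifts_and_degree_eq_and_monic hlifts hmonic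
  refine ⟨q, hqm, ?_⟩
  rw [Polynomial.eval₂_eq_eval_map, hq]
  have h := aeval_chi_coact b f
  rwa [Polynomial.coe_aeval_eq_eval] at h

theorem algebraIsIntegral_invariants : Algebra.IsIntegral (GLin.invariants k H R) R :=
  ⟨isIntegral_invariants⟩

theorem finite_invariants [Algebra.FiniteType k R] : Module.Finite (GLin.invariants k H R) R := by
  haveI : Algebra.IsIntegral (GLin.invariants k H R) R := algebraIsIntegral_invariants
  haveI : Algebra.FiniteType (GLin.invariants k H R) R :=
    Algebra.FiniteType.of_restrictScalars_finiteType k _ R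
  exact Algebra.IsIntegral.finite

/-! ### the shear automorphism -/

theorem shear'_shear (t : R ⊗[k] H) :
    H62.Shear.shear' hmul' hone' (H62.Shear.shear (k := k) (H := H) hmul' hone' t) = t := by
  induction t using TensorProduct.induction_on with
  | zero => simp
  | tmul x h =>
    rw [H62.Shear.shear, Algebra.TensorProduct.lift_tmul, map_mul, H62.Shear.coactAlg_apply,
      H62.Shear.shear'_coact, Algebra.TensorProduct.includeRight_apply, H62.Shear.shear',
      Algebra.TensorProduct.lift_tmul, map_one, one_mul,
      Algebra.TensorProduct.includeRight_apply, Algebra.TensorProduct.tmul_mul_tmul, mul_one,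
      one_mul]
  | add x y hx hy => simp only [map_add, hx, hy]

/-- the shear map `x ⊗ h ↦ ρ(x) (1 ⊗ h)` as an automorphism of `R ⊗ H` -/
noncomputable def shearEquiv : (R ⊗[k] H) ≃ₐ[k] (R ⊗[k] H) :=
  AlgEquiv.ofAlgHom (H62.Shear.shear hmul' hone') (H62.Shear.shear' hmul' hone')
    (AlgHom.ext fun t => H62.Shear.shear_shear' hmul' hone' t)
    (AlgHom.ext fun t => shear'_shear t)

theorem shearEquiv_tmul_one (x : R) :
    shearEquiv (k := k) (H := H) (x ⊗ₜ[k] (1 : H)) = H40.ρ k H R x := by
  show H62.Shear.shear hmul' hone' (x ⊗ₜ[k] (1 : H)) = _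
  rw [H62.Shear.shear, Algebra.TensorProduct.lift_tmul, map_one, mul_one,
    H62.Shear.coactAlg_apply]

/-! ### heights -/

theorem height_le_height_comap_of_isIntegral (R S : Type u) [CommRing R] [CommRing S]
    [Algebra R S] [Algebra.IsIntegral R S] (Q : Ideal S) [hQ : Q.IsPrime] :
    Q.height ≤ (Q.comap (algebraMap R S)).height := by
  have h1 := PrimeSpectrum.height_eq_orderHeight (⟨Q, hQ⟩ : PrimeSpectrum S)
  have h2 := PrimeSpectrum.height_eq_orderHeight
    (PrimeSpectrum.comap (algebraMap R S) ⟨Q, hQ⟩)
  show (⟨Q, hQ⟩ : PrimeSpectrum S).asIdeal.height ≤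
    (PrimeSpectrum.comap (algebraMap R S) ⟨Q, hQ⟩).asIdeal.height
  rw [h1, h2]
  exact Order.height_le_height_apply_of_strictMono (PrimeSpectrum.comap (algebraMap R S))
    (fun P Q hPQ => Ideal.IsIntegral.comap_lt_comap (R := R) hPQ) ⟨Q, hQ⟩

theorem height_le_height_of_liesOver_of_goingDown {R S : Type u} [CommRing R] [CommRing S]
    [Algebra R S] [Algebra.HasGoingDown R S]
    (p : Ideal R) [hp : p.IsPrime] (P : Ideal S) [hP : P.IsPrime] [hPp : P.LiesOver p] :
    p.height ≤ P.height := by
  have h1 : p.height = Order.height (⟨p, hp⟩ : PrimeSpectrum R) :=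
    PrimeSpectrum.height_eq_orderHeight (⟨p, hp⟩ : PrimeSpectrum R)
  have h2 : P.height = Order.height (⟨P, hP⟩ : PrimeSpectrum S) :=
    PrimeSpectrum.height_eq_orderHeight (⟨P, hP⟩ : PrimeSpectrum S)
  rw [h1, h2, Order.height_eq_iSup_last_eq]
  apply iSup₂_le
  intro l hl
  haveI : P.LiesOver l.last.asIdeal := by
    rw [hl]
    exact hPp
  obtain ⟨L, hlen, hlast, -⟩ := Ideal.exists_ltSeries_of_hasGoingDown l P
  rw [← hlen, ← hlast]
  exact Order.length_le_height_last

/-- `R → R ⊗ H` is finite free, so contraction preserves heights. -/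
theorem height_comap_algebraMap (Q : Ideal (R ⊗[k] H)) [hQ : Q.IsPrime] :
    (Q.comap (algebraMap R (R ⊗[k] H))).height = Q.height := by
  haveI : Algebra.IsIntegral R (R ⊗[k] H) := inferInstance
  haveI : Module.Flat R (R ⊗[k] H) := inferInstance
  apply le_antisymm
  · haveI : Q.LiesOver (Q.comap (algebraMap R (R ⊗[k] H))) := ⟨rfl⟩
    exact height_le_height_of_liesOver_of_goingDown _ Q
  · exact height_le_height_comap_of_isIntegral R (R ⊗[k] H) Q

theorem comap_coact_eq (Q : Ideal (R ⊗[k] H)) :
    Q.comap ((ρₐ (k := k) (H := H) (R := R) hmul' hone' : R →ₐ[k] R ⊗[k] H) : R →+* R ⊗[k] H) =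
      (Q.comap ((shearEquiv (k := k) (H := H) (R := R)) : R ⊗[k] H ≃+* R ⊗[k] H)).comap
        (algebraMap R (R ⊗[k] H)) := by
  ext x
  simp only [Ideal.mem_comap]
  have h1 : algebraMap R (R ⊗[k] H) x = x ⊗ₜ[k] (1 : H) := rfl
  rw [h1]
  have h2 : ((shearEquiv (k := k) (H := H) (R := R)) : R ⊗[k] H ≃+* R ⊗[k] H)
      (x ⊗ₜ[k] (1 : H)) = H40.ρ k H R x := shearEquiv_tmul_one x
  rw [h2]
  rfl

/-- contraction along the coaction preserves heights. -/
theorem height_comap_coact (Q : Ideal (R ⊗[k] H)) [hQ : Q.IsPrime] :
    (Q.comap ((ρₐ (k := k) (H := H) (R := R) hmul' hone' : R →ₐ[k] R ⊗[k] H) :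
      R →+* R ⊗[k] H)).height = Q.height := by
  rw [comap_coact_eq]
  haveI : (Q.comap ((shearEquiv (k := k) (H := H) (R := R)) : R ⊗[k] H ≃+* R ⊗[k] H)).IsPrime :=
    Ideal.comap_isPrime _ _
  rw [height_comap_algebraMap]
  exact RingEquiv.height_comap _ Q

/-! ### transitivity on the fibres of `Spec R → Spec A` -/

theorem coact_of_mem (a : GLin.invariants k H R) :
    H40.ρ k H R (a : R) = (a : R) ⊗ₜ[k] (1 : H) := a.2

theorem exists_prime_comap_eq (q q' : Ideal R) [hq : q.IsPrime] [hq' : q'.IsPrime]
    (h : q.comap (algebraMap (GLin.invariants k H R) R) =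
      q'.comap (algebraMap (GLin.invariants k H R) R)) :
    ∃ Q : Ideal (R ⊗[k] H), Q.IsPrime ∧ Q.comap (algebraMap R (R ⊗[k] H)) = q ∧
      Q.comap ((ρₐ (k := k) (H := H) (R := R) hmul' hone' : R →ₐ[k] R ⊗[k] H) :
        R →+* R ⊗[k] H) = q' := by
  classical
  let b := Module.finBasis k H
  have hmul := hmul' (k := k) (H := H) (R := R)
  have hone := hone' (k := k) (H := H) (R := R)
  haveI hint : Algebra.IsIntegral (GLin.invariants k H R) R := algebraIsIntegral_invariants
  have hfin : (q.primesOver (R ⊗[k] H)).Finite := Algebra.QuasiFinite.finite_primesOver q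
  set ρ : R →+* R ⊗[k] H := ((ρₐ (k := k) (H := H) (R := R) hmul' hone' : R →ₐ[k] R ⊗[k] H) :
        R →+* R ⊗[k] H) with hρ
  have hρa : ∀ x, ρ x = H40.ρ k H R x := fun _ => rfl
  have hcover : (q' : Set R) ⊆ ⋃ Q ∈ (hfin.toFinset : Set (Ideal (R ⊗[k] H))),
      ((Q.comap ρ : Ideal R) : Set R) := by
    intro f hf
    have hN : nrm b R (H40.ρ k H R f) ∈ q' := by
      have h1 := nrm_mem_of_mem b R
        (q'.comap ((epsR (k := k) (H := H) (R := R) : R ⊗[k] H →ₐ[R] R) : R ⊗[k] H →+* R))
        (H40.ρ k H R f) (by
          rw [Ideal.mem_comap]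
          show epsR (k := k) (H := H) (R := R) (H40.ρ k H R f) ∈ q'
          rw [epsR_coact]
          exact hf)
      rw [Ideal.mem_comap, Ideal.mem_comap] at h1
      have h2 : ((epsR (k := k) (H := H) (R := R) : R ⊗[k] H →ₐ[R] R) : R ⊗[k] H →+* R)
          (algebraMap R (R ⊗[k] H) (nrm b R (H40.ρ k H R f))) = nrm b R (H40.ρ k H R f) :=
        (epsR (k := k) (H := H) (R := R)).commutes _
      rwa [h2] at h1
    have hNA : nrm b R (H40.ρ k H R f) ∈ GLin.invariants k H R :=
      (GLin.mem_invariants_iff k H R _).mpr (coact_nrm hmul hone b f)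
    have hNq : nrm b R (H40.ρ k H R f) ∈ q := by
      have h3 : (⟨nrm b R (H40.ρ k H R f), hNA⟩ : GLin.invariants k H R) ∈
          q'.comap (algebraMap (GLin.invariants k H R) R) := hN
      rw [← h] at h3
      exact h3
    obtain ⟨Q, hQp, hQq, hfQ⟩ := exists_prime_of_nrm_mem b R q (H40.ρ k H R f) hNq
    simp only [Set.mem_iUnion]
    refine ⟨Q, ?_, hfQ⟩
    rw [Finset.mem_coe, Set.Finite.mem_toFinset]
    exact ⟨hQp, ⟨hQq.symm⟩⟩
  rw [Ideal.subset_union_prime (⊤ : Ideal (R ⊗[k] H)) ⊤ (fun Q hQ _ _ => by
    rw [Set.Finite.mem_toFinset] at hQ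
    haveI := hQ.1
    exact Ideal.comap_isPrime ρ Q)] at hcover
  obtain ⟨Q, hQmem, hle⟩ := hcover
  rw [Set.Finite.mem_toFinset] at hQmem
  obtain ⟨hQp, ⟨hQq⟩⟩ := hQmem
  haveI := hQp
  refine ⟨Q, hQp, hQq.symm, ?_⟩
  haveI hp'' : (Q.comap ρ).IsPrime := Ideal.comap_isPrime ρ Q
  -- contraction to the invariants
  have hcontr : (Q.comap ρ).comap (algebraMap (GLin.invariants k H R) R) =
      q'.comap (algebraMap (GLin.invariants k H R) R) := by
    rw [← h]
    ext a
    simp only [Ideal.mem_comap]
    have h4 : ρ (algebraMap (GLin.invariants k H R) R a) =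
        algebraMap R (R ⊗[k] H) (algebraMap (GLin.invariants k H R) R a) := by
      rw [hρa]
      exact coact_of_mem a
    rw [h4]
    have h5 : q = Q.comap (algebraMap R (R ⊗[k] H)) := hQq
    rw [h5, Ideal.mem_comap]
  by_contra hne
  have hlt : q' < Q.comap ρ := lt_of_le_of_ne hle (fun e => hne e.symm)
  have := Ideal.IsIntegral.comap_lt_comap (R := GLin.invariants k H R) hlt
  rw [hcontr] at this
  exact lt_irrefl _ this

/-- primes of `R` with the same contraction to the invariants have the same height. -/
theorem height_eq_of_comap_eq (q q' : Ideal R) [hq : q.IsPrime] [hq' : q'.IsPrime]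
    (h : q.comap (algebraMap (GLin.invariants k H R) R) =
      q'.comap (algebraMap (GLin.invariants k H R) R)) : q.height = q'.height := by
  obtain ⟨Q, hQp, h1, h2⟩ := exists_prime_comap_eq q q' h
  haveI := hQp
  rw [← h1, ← h2, height_comap_algebraMap, height_comap_coact]

end Basic

section Retract

variable {S : Type u} [CommRing S] [IsLocalRing S] [IsNoetherianRing S]
  {N M : Type u} [AddCommGroup N] [Module S N] [Module.Finite S N]
  [AddCommGroup M] [Module S M] [Module.Finite S M]

/-- the depth of a direct summand is at least the depth of the module. -/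
theorem depth_le_depth_of_retract (i : N →ₗ[S] M) (r : M →ₗ[S] N)
    (h : r ∘ₗ i = LinearMap.id) : LocCoh.depth S M ≤ LocCoh.depth S N := by
  unfold LocCoh.depth
  rw [← ENat.forall_natCast_le_iff_le]
  intro n hn
  rw [H26.DepthExt.le_idealDepth_iff_ext] at hn ⊢
  intro j hj
  refine H72.AB.subsingleton_ext_of_retract (ModuleCat.ofHom i) (ModuleCat.ofHom r) ?_ j (hn j hj)
  rw [← ModuleCat.ofHom_comp, h]
  rfl

end Retract

section Gen

variable {R : Type u} [CommRing R]

theorem mem_support_self (q : PrimeSpectrum R) : q ∈ Module.support R R := by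
  rw [Module.mem_support_iff']
  refine ⟨1, fun r hr e => hr ?_⟩
  rw [smul_eq_mul, mul_one] at e
  rw [e]
  exact q.asIdeal.zero_mem

theorem supportDim_localizedModule_self (q : Ideal R) [q.IsPrime] :
    Module.supportDim (Localization.AtPrime q) (LocalizedModule q.primeCompl R) =
      ((q.height : ℕ∞) : WithBot ℕ∞) := by
  rw [Module.supportDim_eq_of_equiv (H29.DepthFinite.selfEquiv q.primeCompl),
    Module.supportDim_self_eq_ringKrullDim,
    IsLocalization.AtPrime.ringKrullDim_eq_height q (Localization.AtPrime q)]

theorem depth_localizedModule_self (q : Ideal R) [q.IsPrime] :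
    LocCoh.depth (Localization.AtPrime q) (LocalizedModule q.primeCompl R) =
      LocCoh.depth (Localization.AtPrime q) (Localization.AtPrime q) :=
  H29.CM.idealDepth_congr (H29.DepthFinite.selfEquiv q.primeCompl)

end Gen

section Reynolds

variable {k : Type u} [Field k] {H : Type u} [CommRing H] [HopfAlgebra k H]
variable {R : Type u} [CommRing R] [Algebra k R] [HopfRep.Comod k H R] [GLin.IsCoactAlg k H R]

/-- the Reynolds operator as a linear retraction of `R` onto the invariants. -/
noncomputable def reynoldsA (hG : HopfRep.IsLinearlyReductive k H) :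
    R →ₗ[GLin.invariants k H R] (GLin.invariants k H R) where
  toFun x := ⟨H62.reynolds R hG x, H62.reynolds_mem_invariants hG x⟩
  map_add' x y := Subtype.ext (by simp)
  map_smul' a x := Subtype.ext (by
    show H62.reynolds R hG (a • x) = (a : R) * H62.reynolds R hG x
    rw [Subalgebra.smul_def, smul_eq_mul, mul_comm, H62.reynolds_mul hG x a.2, mul_comm])

theorem reynoldsA_comp (hG : HopfRep.IsLinearlyReductive k H) :
    (reynoldsA (R := R) hG) ∘ₗ (Algebra.linearMap (GLin.invariants k H R) R) = LinearMap.id := by
  refine LinearMap.ext fun a => Subtype.ext ?_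
  exact H62.reynolds_of_mem_invariants hG a.2

variable [Module.Finite k H] [Algebra.FiniteType k R]

/-- `depth A_p ≥ depth_{A_p} R_p`. -/
theorem depth_localized_le (hG : HopfRep.IsLinearlyReductive k H)
    (p : Ideal (GLin.invariants k H R)) [p.IsPrime] :
    LocCoh.depth (Localization.AtPrime p) (LocalizedModule p.primeCompl R) ≤
      LocCoh.depth (Localization.AtPrime p)
        (LocalizedModule p.primeCompl (GLin.invariants k H R)) := by
  haveI : IsNoetherianRing R := Algebra.FiniteType.isNoetherianRing k R
  haveI : IsNoetherianRing (GLin.invariants k H R) := H62.isNoetherianRing_invariants hG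
  haveI : Module.Finite (GLin.invariants k H R) R := finite_invariants
  haveI : IsNoetherianRing (Localization.AtPrime p) :=
    IsLocalization.isNoetherianRing p.primeCompl _ inferInstance
  refine depth_le_depth_of_retract
    (LocalizedModule.map p.primeCompl (Algebra.linearMap (GLin.invariants k H R) R))
    (LocalizedModule.map p.primeCompl (reynoldsA (R := R) hG)) ?_
  refine LinearMap.ext fun x => ?_
  induction x using LocalizedModule.induction_on with
  | h m s =>
    rw [LinearMap.comp_apply, LocalizedModule.map_mk, LocalizedModule.map_mk, LinearMap.id_apply]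
    congr 1
    exact LinearMap.congr_fun (reynoldsA_comp (R := R) hG) m

/-- `R_p` is a faithful finite `A_p`-module. -/
theorem supportDim_localized (p : Ideal (GLin.invariants k H R)) [p.IsPrime] :
    Module.supportDim (Localization.AtPrime p) (LocalizedModule p.primeCompl R) =
      ringKrullDim (Localization.AtPrime p) := by
  apply le_antisymm (Module.supportDim_le_ringKrullDim _ _)
  rw [← Module.supportDim_self_eq_ringKrullDim,
    ← Module.supportDim_eq_of_equiv (H29.DepthFinite.selfEquiv p.primeCompl)]
  exact Module.supportDim_le_of_injective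
    (LocalizedModule.map p.primeCompl (Algebra.linearMap (GLin.invariants k H R) R))
    (LocalizedModule.map_injective _ _ Subtype.val_injective)

end Reynolds

section Main

variable {k : Type u} [Field k] {H : Type u} [CommRing H] [HopfAlgebra k H] [Module.Finite k H]
variable {R : Type u} [CommRing R] [Algebra k R] [HopfRep.Comod k H R] [GLin.IsCoactAlg k H R]
  [Algebra.FiniteType k R]

theorem exists_prime_over (p : Ideal (GLin.invariants k H R)) [p.IsPrime] :
    ∃ q : Ideal R, q.IsPrime ∧ q.comap (algebraMap (GLin.invariants k H R) R) = p := by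
  haveI : Algebra.IsIntegral (GLin.invariants k H R) R := algebraIsIntegral_invariants
  obtain ⟨Q, -, hQ, hQp⟩ := Ideal.exists_ideal_over_prime_of_isIntegral p (⊥ : Ideal R) (by
    rw [Ideal.comap_bot_of_injective _ Subtype.val_injective]
    exact bot_le)
  exact ⟨Q, hQ, hQp⟩

theorem supportDim_eq_height (p : Ideal (GLin.invariants k H R)) [p.IsPrime]
    (q₀ : Ideal R) [q₀.IsPrime] (h₀ : q₀.comap (algebraMap (GLin.invariants k H R) R) = p) :
    Module.supportDim (Localization.AtPrime p) (LocalizedModule p.primeCompl R) =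
      ((q₀.height : ℕ∞) : WithBot ℕ∞) := by
  haveI : Module.Finite (GLin.invariants k H R) R := finite_invariants
  rw [H29.FinDimDepth.supportDim_atPrime_eq_iSup (A := GLin.invariants k H R) (B := R) (M := R) p]
  apply le_antisymm
  · refine iSup₂_le fun q hq => ?_
    rw [supportDim_localizedModule_self,
      height_eq_of_comap_eq (k := k) (H := H) q.asIdeal q₀ (hq.1.trans h₀.symm)]
  · refine le_iSup₂_of_le (⟨q₀, inferInstance⟩ : PrimeSpectrum R) ⟨h₀, mem_support_self _⟩ ?_
    rw [supportDim_localizedModule_self]

theorem depth_eq_iInf (hG : HopfRep.IsLinearlyReductive k H)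
    (p : Ideal (GLin.invariants k H R)) [p.IsPrime] :
    LocCoh.depth (Localization.AtPrime p) (LocalizedModule p.primeCompl R) =
      ⨅ q ∈ {q : PrimeSpectrum R | q.asIdeal.comap (algebraMap (GLin.invariants k H R) R) = p ∧
          q ∈ Module.support R R},
        LocCoh.depth (Localization.AtPrime q.asIdeal)
          (LocalizedModule q.asIdeal.primeCompl R) := by
  haveI : IsNoetherianRing R := Algebra.FiniteType.isNoetherianRing k R
  haveI : IsNoetherianRing (GLin.invariants k H R) := H62.isNoetherianRing_invariants hG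
  haveI : Module.Finite (GLin.invariants k H R) R := finite_invariants
  exact H29.FinDimDepth.depth_atPrime_eq_iInf R p

/-- Serre's condition `(S_r)` descends to the invariants. -/
theorem hasSk_invariants (hG : HopfRep.IsLinearlyReductive k H) (r : ℕ)
    (hR : LocCoh.HasSk r R R) :
    LocCoh.HasSk r (GLin.invariants k H R) R ∧
      LocCoh.HasSk r (GLin.invariants k H R) (GLin.invariants k H R) := by
  have key : ∀ (p : Ideal (GLin.invariants k H R)) [p.IsPrime],
      min (r : WithBot ℕ∞)
        (Module.supportDim (Localization.AtPrime p) (LocalizedModule p.primeCompl R)) ≤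
      ((LocCoh.depth (Localization.AtPrime p) (LocalizedModule p.primeCompl R) : ℕ∞) :
        WithBot ℕ∞) := by
    intro p _
    obtain ⟨q₀, hq₀, h₀⟩ := exists_prime_over p
    haveI := hq₀
    rw [supportDim_eq_height p q₀ h₀, depth_eq_iInf hG p]
    have h1 : min (r : ℕ∞) q₀.height ≤
        ⨅ q ∈ {q : PrimeSpectrum R |
            q.asIdeal.comap (algebraMap (GLin.invariants k H R) R) = p ∧
            q ∈ Module.support R R},
          LocCoh.depth (Localization.AtPrime q.asIdeal)
            (LocalizedModule q.asIdeal.primeCompl R) := by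
      refine le_iInf₂ fun q hq => ?_
      have h2 := hR q.asIdeal
      rw [supportDim_localizedModule_self,
        height_eq_of_comap_eq (k := k) (H := H) q.asIdeal q₀ (hq.1.trans h₀.symm)] at h2
      exact_mod_cast h2
    exact_mod_cast h1
  refine ⟨fun p _ => key p, fun p _ => ?_⟩
  have h1 := key p
  have h2 := depth_localized_le hG p
  have h3 : Module.supportDim (Localization.AtPrime p)
      (LocalizedModule p.primeCompl (GLin.invariants k H R)) =
      Module.supportDim (Localization.AtPrime p) (LocalizedModule p.primeCompl R) := by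
    rw [supportDim_localized, Module.supportDim_eq_of_equiv
      (H29.DepthFinite.selfEquiv p.primeCompl), Module.supportDim_self_eq_ringKrullDim]
  rw [h3]
  exact h1.trans (WithBot.coe_le_coe.mpr h2)

/-- Cohen–Macaulayness descends to the invariants, and `R` is maximal Cohen–Macaulay over them. -/
theorem cm_invariants (hG : HopfRep.IsLinearlyReductive k H)
    (hR : LocCoh.IsCohenMacaulayRing R) :
    LocCoh.IsCohenMacaulayRing (GLin.invariants k H R) ∧
      ∀ (p : Ideal (GLin.invariants k H R)) [p.IsPrime],
        LocCoh.IsCohenMacaulayModule (Localization.AtPrime p) (LocalizedModule p.primeCompl R) ∧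
          Module.supportDim (Localization.AtPrime p) (LocalizedModule p.primeCompl R) =
            ringKrullDim (Localization.AtPrime p) := by
  haveI : IsNoetherianRing R := Algebra.FiniteType.isNoetherianRing k R
  haveI hnA : IsNoetherianRing (GLin.invariants k H R) := H62.isNoetherianRing_invariants hG
  haveI : Module.Finite (GLin.invariants k H R) R := finite_invariants
  have key : ∀ (p : Ideal (GLin.invariants k H R)) [p.IsPrime],
      Module.supportDim (Localization.AtPrime p) (LocalizedModule p.primeCompl R) =
      ((LocCoh.depth (Localization.AtPrime p) (LocalizedModule p.primeCompl R) : ℕ∞) :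
        WithBot ℕ∞) := by
    intro p _
    obtain ⟨q₀, hq₀, h₀⟩ := exists_prime_over p
    haveI := hq₀
    rw [supportDim_eq_height p q₀ h₀, depth_eq_iInf hG p]
    congr 1
    have hq : ∀ q ∈ {q : PrimeSpectrum R |
            q.asIdeal.comap (algebraMap (GLin.invariants k H R) R) = p ∧
            q ∈ Module.support R R},
        LocCoh.depth (Localization.AtPrime q.asIdeal)
          (LocalizedModule q.asIdeal.primeCompl R) = q₀.height := by
      intro q hq
      have h1 := (hR.isCohenMacaulayLocalRing_localization q.asIdeal).supportDim_eq_depth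
      rw [Module.supportDim_self_eq_ringKrullDim,
        IsLocalization.AtPrime.ringKrullDim_eq_height q.asIdeal (Localization.AtPrime q.asIdeal),
        height_eq_of_comap_eq (k := k) (H := H) q.asIdeal q₀ (hq.1.trans h₀.symm)] at h1
      rw [depth_localizedModule_self]
      exact (WithBot.coe_injective h1).symm
    apply le_antisymm
    · exact le_iInf₂ fun q hq' => (hq q hq').ge
    · exact (iInf₂_le (⟨q₀, hq₀⟩ : PrimeSpectrum R) ⟨h₀, mem_support_self _⟩).trans
        (hq _ ⟨h₀, mem_support_self _⟩).le
  refine ⟨?_, fun p _ => ⟨key p, supportDim_localized p⟩⟩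
  refine { toIsNoetherian := hnA, isCohenMacaulayLocalRing_localization := fun p _ => ?_ }
  haveI hnAp : IsNoetherianRing (Localization.AtPrime p) :=
    IsLocalization.isNoetherianRing p.primeCompl _ inferInstance
  refine { toIsNoetherian := hnAp, toIsLocalRing := inferInstance, supportDim_eq_depth := ?_ }
  apply le_antisymm
  · rw [Module.supportDim_self_eq_ringKrullDim, ← supportDim_localized (R := R) p, key p,
      ← depth_localizedModule_self p]
    exact WithBot.coe_le_coe.mpr (depth_localized_le hG p)
  · exact H29.CM.depth_le_supportDim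

end Main

end Groth.Agent.H71.HopfInv
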