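import Mathlib.FieldTheory.KummerExtension

/-!
Irreducibility of `X ^ n - C a` over a field containing a primitive `n`-th root of unity,
when `a` is not a `p`-th power for any prime `p ∣ n` (all `n`, including even ones).
-/

set_option autoImplicit false
universe u

namespace Groth.Agent.H71

open Polynomial IntermediateField

theorem X_pow_sub_C_irreducible_of_primitiveRoot_aux (n : ℕ) :
    ∀ (K : Type u) [Field K] (ζ a : K), 0 < n → IsPrimitiveRoot ζ n →
      (∀ p : ℕ, p.Prime → p ∣ n → ∀ b : K, b ^ p ≠ a) → Irreducible (X ^ n - C a) := by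
  induction n using induction_on_primes with
  | zero => intro K _ ζ a h; exact absurd h (lt_irrefl 0)
  | one => intro K _ ζ a _ _ _; simpa using irreducible_X_sub_C a
  | prime_mul p m hp IH =>
    intro K _ ζ a hpos hζ ha
    have hm : 0 < m := Nat.pos_of_ne_zero (fun h => by simp [h] at hpos)
    rw [mul_comm]
    apply X_pow_mul_sub_C_irreducible
      (X_pow_sub_C_irreducible_of_prime hp (ha p hp (dvd_mul_right _ _)))
    intro E _ _ x hx
    have hint : IsIntegral K x := not_not.mp fun h ↦ by
      simpa only [degree_zero, degree_X_pow_sub_C hp.pos,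
        WithBot.natCast_ne_bot] using congr_arg degree (hx.symm.trans (dif_neg h))
    have hζm : IsPrimitiveRoot (ζ ^ p) m := hζ.pow hpos rfl
    apply IH K⟮x⟯ (algebraMap K K⟮x⟯ (ζ ^ p)) _ hm
      (hζm.map_of_injective (algebraMap K K⟮x⟯).injective)
    intro q hq hqm b hb
    have hnorm : (Algebra.norm K b) ^ q = (-1) ^ p * (-a) := by
      rw [← map_pow, hb, ← adjoin.powerBasis_gen hint,
        Algebra.PowerBasis.norm_gen_eq_coeff_zero_minpoly]
      simp [minpoly_gen, hx, hp.ne_zero.symm]
    have hqn : q ∣ p * m := dvd_mul_of_dvd_right hqm p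
    by_cases hp2 : p = 2
    · subst hp2
      have hnorm' : (Algebra.norm K b) ^ q = -a := by simpa using hnorm
      by_cases hq2 : q = 2
      · subst hq2
        obtain ⟨m', rfl⟩ := hqm
        -- ζ ^ (2 * m') is a primitive 2nd root of unity, so equals -1
        have h2 : IsPrimitiveRoot (ζ ^ (2 * m')) 2 := hζ.pow hpos (by ring)
        have hneg : ζ ^ (2 * m') = -1 := h2.eq_neg_one_of_two_right
        apply ha 2 hq hqn (ζ ^ m' * Algebra.norm K b)
        rw [mul_pow, hnorm', ← pow_mul, mul_comm m' 2, hneg]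
        ring
      · have hodd : Odd q := hq.odd_of_ne_two hq2
        apply ha q hq hqn (-(Algebra.norm K b))
        rw [hodd.neg_pow, hnorm', neg_neg]
    · have hodd : Odd p := hp.odd_of_ne_two hp2
      apply ha q hq hqn (Algebra.norm K b)
      rw [hnorm, hodd.neg_one_pow]
      ring

theorem X_pow_sub_C_irreducible_of_primitiveRoot {K : Type u} [Field K] {n : ℕ} (hn : 0 < n)
    {ζ : K} (hζ : IsPrimitiveRoot ζ n) {a : K}
    (ha : ∀ p : ℕ, p.Prime → p ∣ n → ∀ b : K, b ^ p ≠ a) : Irreducible (X ^ n - C a) :=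
  X_pow_sub_C_irreducible_of_primitiveRoot_aux n K ζ a hn hζ ha

end Groth.Agent.H71
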