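import Mathlib.AlgebraicGeometry.Morphisms.Separated
import Mathlib.AlgebraicGeometry.Morphisms.SchemeTheoreticallyDominant

set_option autoImplicit false
universe u

namespace Groth.Agent.H71

open AlgebraicGeometry CategoryTheory CategoryTheory.Limits

set_option backward.isDefEq.respectTransparency false in
/-- If `f g : X ⟶ Y` agree over a separated `s : Y ⟶ Z` and agree after precomposition with a
scheme-theoretically dominant `ι`, then `f = g`. -/
lemma ext_of_isSchemeTheoreticallyDominant_of_isSeparated {W X Y Z : Scheme.{u}} {f g : X ⟶ Y}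
    (s : Y ⟶ Z) [IsSeparated s] (h : f ≫ s = g ≫ s)
    (ι : W ⟶ X) [IsSchemeTheoreticallyDominant ι] (hU : ι ≫ f = ι ≫ g) : f = g := by
  let X' : Over Z := Over.mk (f ≫ s)
  let Y' : Over Z := Over.mk s
  let U' : Over Z := Over.mk (ι ≫ f ≫ s)
  let f' : X' ⟶ Y' := Over.homMk f
  let g' : X' ⟶ Y' := Over.homMk g
  let ι' : U' ⟶ X' := Over.homMk ι
  have : IsSeparated Y'.hom := ‹_›
  have hlift : ι' ≫ f' = ι' ≫ g' := by ext1; exact hU
  have hfac : (equalizer.lift ι' hlift).left ≫ (equalizer.ι f' g').left = ι := by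
    rw [← Over.comp_left, equalizer.lift_ι]; rfl
  have hker : (equalizer.ι f' g').left.ker = ⊥ := by
    have h1 := Scheme.Hom.le_ker_comp (equalizer.lift ι' hlift).left (equalizer.ι f' g').left
    rw [hfac, ι.ker_eq_bot] at h1
    exact le_bot_iff.mp h1
  have : IsIso (equalizer.ι f' g').left :=
    IsClosedImmersion.isIso_iff_ker_eq_bot.mpr hker
  rw [← cancel_epi (equalizer.ι f' g').left]
  exact congr($(equalizer.condition f' g').left)

end Groth.Agent.H71
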