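import Groth.Agent.H71.ZClosedAlg
import Groth.Agent.H58.TildeSec
import Groth.Prelude.Def_EGA4c
import Groth.Prelude.Def_CAlg
import Mathlib.Topology.Sheaves.SheafCondition.UniqueGluing

/-!
# `Z`-pure and `Z`-closed modules: characterisation by associated primes and by depth
-/

set_option autoImplicit false
universe u

open AlgebraicGeometry CategoryTheory Opposite TopologicalSpace
open Groth.Agent.H58 Groth.Agent.H15.Depth
open scoped Pointwise

namespace Groth.Agent.H71.ZC

variable {A : Type u} [CommRing A] (M : Type u) [AddCommGroup M] [Module A M]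

/-! ### bridging `restrCompl` and `toSec` -/

lemma toSec_top_bijective :
    Function.Bijective (TS.toSec M (⊤ : (Spec (CommRingCat.of A)).Opens)) := by
  have := tilde.isIso_toOpen_top (M := ModuleCat.of (CommRingCat.of A) M)
  exact (ConcreteCategory.isIso_iff_bijective _).mp this

lemma restrCompl_toSec (J : Ideal A) (m : M) :
    (EGA4.restrCompl A J M) (TS.toSec M ⊤ m) = TS.toSec M (LocCoh.puncturedOpen A J) m :=
  TS.res_toSec M (le_top : EGA4.openCompl A J ≤ ⊤) m

lemma restrCompl_injective_iff (J : Ideal A) :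
    Function.Injective (EGA4.restrCompl A J M) ↔
      Function.Injective (TS.toSec M (LocCoh.puncturedOpen A J)) := by
  have h1 := toSec_top_bijective (A := A) M
  constructor
  · intro h m m' hmm
    apply h1.1
    apply h
    exact (restrCompl_toSec M J m).trans (hmm.trans (restrCompl_toSec M J m').symm)
  · intro h x y hxy
    obtain ⟨m, rfl⟩ := h1.2 x
    obtain ⟨m', rfl⟩ := h1.2 y
    rw [h ((restrCompl_toSec M J m).symm.trans (hxy.trans (restrCompl_toSec M J m')))]

lemma restrCompl_surjective_iff (J : Ideal A) :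
    Function.Surjective (EGA4.restrCompl A J M) ↔
      Function.Surjective (TS.toSec M (LocCoh.puncturedOpen A J)) := by
  have h1 := toSec_top_bijective (A := A) M
  constructor
  · intro h τ
    obtain ⟨x, hx⟩ := h τ
    obtain ⟨m, rfl⟩ := h1.2 x
    exact ⟨m, (restrCompl_toSec M J m).symm.trans hx⟩
  · intro h τ
    obtain ⟨m, hm⟩ := h τ
    exact ⟨TS.toSec M ⊤ m, (restrCompl_toSec M J m).trans hm⟩

lemma restrCompl_bijective_iff (J : Ideal A) :
    Function.Bijective (EGA4.restrCompl A J M) ↔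
      Function.Bijective (TS.toSec M (LocCoh.puncturedOpen A J)) := by
  unfold Function.Bijective
  rw [restrCompl_injective_iff, restrCompl_surjective_iff]

/-! ### sections killed locally -/

/-- If `c`-torsion elements of `M` are killed by elements outside `P`, the same holds for sections
of `M~` over any open subset. -/
lemma exists_notMem_smul_sec_eq_zero [IsNoetherianRing A] (P : Ideal A) [P.IsPrime] (c : A)
    (hc : ∀ m : M, c • m = 0 → ∃ s, s ∉ P ∧ s • m = 0)
    (W : (Spec (CommRingCat.of A)).Opens) (μ : TS.sec M W) (hμ : c • μ = 0) :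
    ∃ s, s ∉ P ∧ s • μ = 0 := by
  classical
  obtain ⟨G, hGW, hcov⟩ := TS.exists_finset_cover W
  have key : ∀ g (hg : g ∈ G), ∃ s, s ∉ P ∧ s • TS.res M (hGW g hg) μ = 0 := by
    intro g hg
    obtain ⟨m, k, hm⟩ := TS.surj_basicOpen M g (TS.res M (hGW g hg) μ)
    have h1 : TS.toSec M (PrimeSpectrum.basicOpen g) (c • m) = 0 := by
      have h0 : c • (g ^ k • TS.res M (hGW g hg) μ) = 0 := by
        rw [smul_comm, ← map_smul, hμ, map_zero, smul_zero]
      rw [map_smul, ← hm]; exact h0
    obtain ⟨e, he⟩ := (TS.toSec_basicOpen_eq_zero_iff M g (c • m)).1 h1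
    obtain ⟨s, hs, hsm⟩ := hc (g ^ e • m) (by rw [smul_comm]; exact he)
    refine ⟨s, hs, ?_⟩
    apply TS.smul_pow_injective M g (k + e)
    calc g ^ (k + e) • s • TS.res M (hGW g hg) μ
        = s • g ^ e • (g ^ k • TS.res M (hGW g hg) μ) := by
          rw [pow_add]; module
      _ = TS.toSec M (PrimeSpectrum.basicOpen g) (s • g ^ e • m) := by
          rw [hm, map_smul, map_smul]
      _ = 0 := by rw [hsm, map_zero]
  choose! s hs using key
  refine ⟨∏ g ∈ G, s g, Submonoid.prod_mem P.primeCompl (fun g hg => (hs g hg).1), ?_⟩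
  apply TS.sec_ext
  intro x hx
  obtain ⟨g, hgG, hgx⟩ := hcov x hx
  refine ⟨_, hGW g hgG, hgx, ?_⟩
  rw [map_zero, map_smul]
  obtain ⟨d, hd⟩ := Finset.dvd_prod_of_mem s hgG
  rw [hd, mul_comm, mul_smul, (hs g hgG).2, smul_zero]

/-- `f` acts injectively on sections over opens contained in `D(f)`. -/
lemma smul_eq_zero_of_le_basicOpen [IsNoetherianRing A] (f : A)
    (W : (Spec (CommRingCat.of A)).Opens) (hW : W ≤ PrimeSpectrum.basicOpen f)
    (σ : TS.sec M W) (h : f • σ = 0) : σ = 0 := by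
  obtain ⟨G, hGW, hcov⟩ := TS.exists_finset_cover W
  apply TS.sec_ext
  intro x hx
  obtain ⟨g, hg, hgx⟩ := hcov x hx
  refine ⟨_, hGW g hg, hgx, ?_⟩
  rw [map_zero]
  have hle : PrimeSpectrum.basicOpen g ≤ PrimeSpectrum.basicOpen f := (hGW g hg).trans hW
  obtain ⟨k, hk⟩ := (PrimeSpectrum.basicOpen_le_basicOpen_iff g f).mp hle
  obtain ⟨c, hc⟩ := Ideal.mem_span_singleton.mp hk
  apply TS.smul_pow_injective M g k
  rw [hc, mul_comm, mul_smul, ← map_smul, h, map_zero, smul_zero]

/-! ### gluing -/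

lemma glue {ι : Type u} (U : ι → (Spec (CommRingCat.of A)).Opens)
    (V : (Spec (CommRingCat.of A)).Opens) (hUV : ∀ i, U i ≤ V) (hcov : V ≤ iSup U)
    (sf : ∀ i, TS.sec M (U i))
    (hcomp : ∀ i j, TS.res M (inf_le_left : U i ⊓ U j ≤ U i) (sf i) =
      TS.res M (inf_le_right : U i ⊓ U j ≤ U j) (sf j)) :
    ∃ s : TS.sec M V, ∀ i, TS.res M (hUV i) s = sf i := by
  obtain ⟨s, hs, -⟩ := TopCat.Sheaf.existsUnique_gluing' (TS.sh M) U V
    (fun i => homOfLE (hUV i)) hcov sf hcomp
  exact ⟨s, hs⟩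

lemma exists_mem_basicOpen_of_mem_punctured_span (G : Finset A) {p : PrimeSpectrum A}
    (hp : p ∈ LocCoh.puncturedOpen A (Submodule.span A (G : Set A))) :
    ∃ g ∈ G, p ∈ PrimeSpectrum.basicOpen g := by
  have hp' : p ∉ PrimeSpectrum.zeroLocus ((Ideal.span (G : Set A) : Ideal A) : Set A) := hp
  rw [PrimeSpectrum.zeroLocus_span, PrimeSpectrum.mem_zeroLocus, Set.not_subset] at hp'
  obtain ⟨g, hg, hgx⟩ := hp'
  exact ⟨g, hg, (PrimeSpectrum.mem_basicOpen g p).2 hgx⟩

lemma res_eq_res_of_smul [IsNoetherianRing A] (i j : A) (W : (Spec (CommRingCat.of A)).Opens)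
    (hi : W ≤ PrimeSpectrum.basicOpen i) (hj : W ≤ PrimeSpectrum.basicOpen j)
    (yi : TS.sec M (PrimeSpectrum.basicOpen i)) (yj : TS.sec M (PrimeSpectrum.basicOpen j))
    (ni nj : M) (hyi : i • yi = TS.toSec M (PrimeSpectrum.basicOpen i) ni)
    (hyj : j • yj = TS.toSec M (PrimeSpectrum.basicOpen j) nj) (h : j • ni = i • nj) :
    TS.res M hi yi = TS.res M hj yj := by
  rw [← sub_eq_zero]
  apply smul_eq_zero_of_le_basicOpen M j W hj
  apply smul_eq_zero_of_le_basicOpen M i W hi
  have e1 : i • TS.res M hi yi = TS.toSec M W ni := by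
    rw [← map_smul, hyi]; exact TS.res_toSec M hi ni
  have e2 : j • TS.res M hj yj = TS.toSec M W nj := by
    rw [← map_smul, hyj]; exact TS.res_toSec M hj nj
  rw [smul_sub, smul_sub, smul_comm i j (TS.res M hi yi), e1, e2, ← map_smul, ← map_smul, h,
    sub_self]

/-- the section "`s₀ m* / a₀`" over `D(J)`. -/
lemma exists_sec_div [IsNoetherianRing A] (J : Ideal A) (a₀ s₀ : A) (mstar : M)
    (hker : ∀ m : M, a₀ • m = 0 → s₀ • m = 0)
    (hdiv : ∀ f ∈ J, ∃ n : M, a₀ • n = f • mstar) :
    ∃ τ : TS.sec M (LocCoh.puncturedOpen A J),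
      a₀ • τ = TS.toSec M (LocCoh.puncturedOpen A J) (s₀ • mstar) := by
  classical
  obtain ⟨G, rfl⟩ := (IsNoetherian.noetherian J : J.FG)
  have hGJ : ∀ g ∈ G, g ∈ Submodule.span A (G : Set A) := fun g hg => Submodule.subset_span hg
  choose! n hn using hdiv
  let y : ∀ g : A, TS.sec M (PrimeSpectrum.basicOpen g) := fun g =>
    IsLocalizedModule.mk' (TS.toSec M (PrimeSpectrum.basicOpen g)) (s₀ • n g)
      (⟨g, 1, pow_one g⟩ : Submonoid.powers g)
  have hy : ∀ g : A, g • y g = TS.toSec M (PrimeSpectrum.basicOpen g) (s₀ • n g) := fun g =>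
    IsLocalizedModule.mk'_cancel' (TS.toSec M (PrimeSpectrum.basicOpen g)) (s₀ • n g)
      (⟨g, 1, pow_one g⟩ : Submonoid.powers g)
  have hUV : ∀ i : {g // g ∈ G}, (PrimeSpectrum.basicOpen (i : A) :
      (Spec (CommRingCat.of A)).Opens) ≤ LocCoh.puncturedOpen A (Submodule.span A (G : Set A)) :=
    fun i => TS.basicOpen_le_punctured _ (hGJ i.1 i.2)
  have hcover : LocCoh.puncturedOpen A (Submodule.span A (G : Set A)) ≤
      iSup (fun i : {g // g ∈ G} => (PrimeSpectrum.basicOpen (i : A) :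
        (Spec (CommRingCat.of A)).Opens)) := by
    intro x hx
    obtain ⟨g, hg, hgx⟩ := exists_mem_basicOpen_of_mem_punctured_span G hx
    exact TopologicalSpace.Opens.mem_iSup.mpr ⟨⟨g, hg⟩, hgx⟩
  have hcompat : ∀ i j : {g // g ∈ G}, (j : A) • s₀ • n i = (i : A) • s₀ • n j := by
    intro i j
    have e3 : s₀ • ((j : A) • n i - (i : A) • n j) = 0 := by
      apply hker
      rw [smul_sub, smul_comm a₀ (j : A), smul_comm a₀ (i : A), hn _ (hGJ i.1 i.2),
        hn _ (hGJ j.1 j.2), smul_comm (j : A) (i : A), sub_self]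
    rw [smul_sub, sub_eq_zero] at e3
    rw [smul_comm (j : A) s₀, e3, smul_comm s₀ (i : A)]
  obtain ⟨τ, hτ⟩ := glue M (fun i : {g // g ∈ G} => (PrimeSpectrum.basicOpen (i : A) :
      (Spec (CommRingCat.of A)).Opens)) _ hUV hcover (fun i => y i)
      (fun i j => res_eq_res_of_smul M (i : A) (j : A) _ inf_le_left inf_le_right (y i) (y j)
        (s₀ • n i) (s₀ • n j) (hy i) (hy j) (hcompat i j))
  refine ⟨τ, ?_⟩
  apply TS.sec_ext
  intro x hx
  obtain ⟨g, hg, hgx⟩ := exists_mem_basicOpen_of_mem_punctured_span G hx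
  refine ⟨_, hUV ⟨g, hg⟩, hgx, ?_⟩
  rw [map_smul, hτ ⟨g, hg⟩]
  refine Eq.trans ?_ (TS.res_toSec M (hUV ⟨g, hg⟩) (s₀ • mstar)).symm
  rw [← sub_eq_zero]
  apply TS.smul_pow_injective M g 1
  rw [pow_one, smul_sub, sub_eq_zero, smul_comm g a₀, hy, ← map_smul, ← map_smul]
  congr 1
  rw [smul_comm a₀ s₀, hn _ (hGJ g hg)]
  exact smul_comm _ _ _

/-! ### injectivity -/

lemma toSec_injective_of_noAss [IsNoetherianRing A] (J : Ideal A)
    (h : ∀ Q : Ideal A, IsAssociatedPrime Q M → ¬ J ≤ Q) :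
    Function.Injective (TS.toSec M (LocCoh.puncturedOpen A J)) := by
  rw [← LinearMap.ker_eq_bot, TS.ker_toSec M J (IsNoetherian.noetherian J), eq_bot_iff]
  apply iSup_le
  intro n m hm
  rw [Submodule.mem_torsionBySet_iff] at hm
  rw [Submodule.mem_bot]
  by_contra hm0
  obtain ⟨Q, hQ, hle⟩ := exists_le_isAssociatedPrime_of_isNoetherianRing A m hm0
  have := hQ.isPrime
  apply h Q hQ
  apply Ideal.IsPrime.le_of_pow_le (n := n)
  intro r hr
  apply hle
  rw [Submodule.mem_colon_singleton, Submodule.mem_bot]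
  exact hm ⟨r, hr⟩

lemma eq_zero_of_smul_eq_zero_of_injective (P : Ideal A) (hfg : P.FG)
    (hinj : Function.Injective (TS.toSec M (LocCoh.puncturedOpen A P))) (m : M)
    (hm : ∀ r ∈ P, r • m = 0) : m = 0 := by
  apply hinj
  rw [map_zero, ← LinearMap.mem_ker, TS.ker_toSec M P hfg]
  apply Submodule.mem_iSup_of_mem 1
  rw [Submodule.mem_torsionBySet_iff]
  rintro ⟨r, hr⟩
  rw [pow_one] at hr
  exact hm r hr

/-- if `toSec M (D P)` is injective, then `M_P` has no socle. -/
lemma not_hasSocle_of_injective [IsNoetherianRing A] (P : Ideal A) [P.IsPrime]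
    (hinj : Function.Injective (TS.toSec M (LocCoh.puncturedOpen A P))) :
    ¬ HasSocle (IsLocalRing.maximalIdeal (Localization.AtPrime P))
      (LocalizedModule P.primeCompl M) := by
  rintro ⟨w, hw0, hw⟩
  have hfg : P.FG := IsNoetherian.noetherian P
  have hA : ∀ f ∈ P, ∃ y : LocalizedModule P.primeCompl M, f • w = (0 : A) • y := by
    intro f hf
    refine ⟨0, ?_⟩
    rw [smul_zero, ← algebraMap_smul (Localization.AtPrime P) f w]
    exact hw _ ((IsLocalization.AtPrime.to_map_mem_maximal_iff (Localization.AtPrime P) P f).mpr hf)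
  have hB : ¬ ∃ y : LocalizedModule P.primeCompl M, w = (0 : A) • y := by
    rintro ⟨y, hy⟩
    exact hw0 (by rw [hy, zero_smul])
  obtain ⟨mstar, h1, h2⟩ := descend_socle P hfg 0 w hA hB
  apply h2
  have h3 : mstar = 0 := by
    apply eq_zero_of_smul_eq_zero_of_injective M P hfg hinj
    intro r hr
    obtain ⟨n, hn⟩ := h1 r hr
    rw [← hn, zero_smul]
  exact ⟨0, by rw [h3, map_zero, smul_zero]⟩

lemma not_one_le_depth_of_isAssociatedPrime [IsNoetherianRing A] [Module.Finite A M]
    (P : Ideal A) [P.IsPrime] (hP : IsAssociatedPrime P M) :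
    ¬ (1 : ℕ∞) ≤ LocCoh.depth (Localization.AtPrime P) (LocalizedModule P.primeCompl M) := by
  intro h
  obtain ⟨-, m', hm'⟩ := isAssociatedPrime_iff.mp hP
  have hsoc := hasSocle_of_colon P m' hm'
  have hIM : IsLocalRing.maximalIdeal (Localization.AtPrime P) •
      (⊤ : Submodule (Localization.AtPrime P) (LocalizedModule P.primeCompl M)) ≠ ⊤ := by
    intro htop
    haveI := subsingleton_of_smul_top_eq_top P htop
    obtain ⟨w, hw0, -⟩ := hsoc
    exact hw0 (Subsingleton.elim _ _)
  have h1 : HasSeq (IsLocalRing.maximalIdeal (Localization.AtPrime P))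
      (LocalizedModule P.primeCompl M) 1 :=
    (le_idealDepth_iff hIM 1).mp (by rw [Nat.cast_one]; exact h)
  obtain ⟨x, hx, hxreg, -⟩ := hasSeq_succ_iff.mp h1
  exact hsoc.not_regular hx hxreg

/-! ### surjectivity from depth two -/

lemma toSec_surjective_of_depth [IsNoetherianRing A] [Module.Finite A M] (J : Ideal A)
    (hinj : Function.Injective (TS.toSec M (LocCoh.puncturedOpen A J)))
    (h : ∀ (P : Ideal A) [P.IsPrime], J ≤ P →
      IsLocalRing.maximalIdeal (Localization.AtPrime P) •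
        (⊤ : Submodule (Localization.AtPrime P) (LocalizedModule P.primeCompl M)) = ⊤ ∨
      HasSeq (IsLocalRing.maximalIdeal (Localization.AtPrime P))
        (LocalizedModule P.primeCompl M) 2) :
    Function.Surjective (TS.toSec M (LocCoh.puncturedOpen A J)) := by
  intro τ
  have hmemI : ∀ r : A, r ∈ (LinearMap.range (TS.toSec M (LocCoh.puncturedOpen A J))).comap
      (LinearMap.toSpanSingleton A _ τ) ↔
        r • τ ∈ LinearMap.range (TS.toSec M (LocCoh.puncturedOpen A J)) := fun r => by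
    rw [Submodule.mem_comap, LinearMap.toSpanSingleton_apply]
  generalize hI : (LinearMap.range (TS.toSec M (LocCoh.puncturedOpen A J))).comap
      (LinearMap.toSpanSingleton A _ τ) = I at hmemI
  by_contra hτ
  have hItop : (I : Ideal A) ≠ ⊤ := by
    intro h1
    apply hτ
    have h2 : (1 : A) ∈ I := h1 ▸ Submodule.mem_top
    rw [hmemI, one_smul] at h2
    exact h2
  obtain ⟨⟨P, hP⟩⟩ := Ideal.nonempty_minimalPrimes hItop
  haveI : P.IsPrime := hP.1.1
  have hIP : I ≤ P := hP.1.2
  obtain ⟨n, hn⟩ := TS.exists_pow_smul_mem_range M J τ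
  have hJP : J ≤ P := by
    apply Ideal.IsPrime.le_of_pow_le (n := n)
    intro r hr
    exact hIP ((hmemI r).mpr (hn r hr))
  have hnotI : ∀ s, s ∉ P → s ∉ I := fun s hs hsI => hs (hIP hsI)
  rcases h P hJP with htop | hseq
  · haveI := subsingleton_of_smul_top_eq_top P htop
    have hc : ∀ m : M, (0 : A) • m = 0 → ∃ s, s ∉ P ∧ s • m = 0 := fun m _ =>
      (mk_eq_zero_iff P m).mp (Subsingleton.elim _ _)
    obtain ⟨s, hs, hsτ⟩ := exists_notMem_smul_sec_eq_zero M P 0 hc _ τ (zero_smul _ _)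
    exact hnotI s hs ((hmemI s).mpr (by rw [hsτ]; exact Submodule.zero_mem _))
  · obtain ⟨a₀, b₀, ha₀, hb₀, hareg, hdiv⟩ := exists_elementary_of_hasSeq_two P hseq
    have hc : ∀ m : M, a₀ • m = 0 → ∃ s, s ∉ P ∧ s • m = 0 := fun m hm =>
      (mk_eq_zero_iff P m).mp (hareg _ (by rw [← map_smul, hm, map_zero]))
    have haT : ∀ τ' : LocalizedModule P.primeCompl (TS.sec M (LocCoh.puncturedOpen A J)),
        a₀ • τ' = 0 → τ' = 0 := by
      intro τ' hτ'
      obtain ⟨s, μ, hs, hsμ⟩ := exists_smul_eq_mk P τ'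
      have h1 : LocalizedModule.mkLinearMap P.primeCompl
          (TS.sec M (LocCoh.puncturedOpen A J)) (a₀ • μ) = 0 := by
        rw [map_smul, ← hsμ, smul_comm, hτ', smul_zero]
      obtain ⟨t, ht, htμ⟩ := (mk_eq_zero_iff P _).mp h1
      obtain ⟨s', hs', hs'μ⟩ := exists_notMem_smul_sec_eq_zero M P a₀ hc _ (t • μ)
        (by rw [smul_comm]; exact htμ)
      have h2 : LocalizedModule.mkLinearMap P.primeCompl
          (TS.sec M (LocCoh.puncturedOpen A J)) μ = 0 :=
        (mk_eq_zero_iff P μ).mpr ⟨s' * t, P.primeCompl.mul_mem hs' ht, by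
          rw [mul_smul]; exact hs'μ⟩
      apply smul_inj P hs
      rw [hsμ, h2, smul_zero]
    obtain ⟨k, s, hs, hsk⟩ := exists_mul_pow_mem_of_mem_minimalPrimes hP ha₀
    obtain ⟨l, t, ht, htl⟩ := exists_mul_pow_mem_of_mem_minimalPrimes hP hb₀
    have hrange : ∀ (c : A) (s : A), s ∉ P → s * c ∈ I →
        c • LocalizedModule.mkLinearMap P.primeCompl (TS.sec M (LocCoh.puncturedOpen A J)) τ ∈
          LinearMap.range (locMap P.primeCompl (TS.toSec M (LocCoh.puncturedOpen A J))) := by
      intro c s hs hsc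
      rw [← map_smul, mk_mem_range_locMap_iff]
      refine ⟨s, hs, ?_⟩
      rw [smul_smul]; exact (hmemI _).mp hsc
    have hfinal := mem_range_of_pow_smul_mem_range
      (locMap P.primeCompl (TS.toSec M (LocCoh.puncturedOpen A J)))
      (locMap_injective _ _ hinj) a₀ b₀ haT hdiv k l
      (LocalizedModule.mkLinearMap P.primeCompl (TS.sec M (LocCoh.puncturedOpen A J)) τ)
      (hrange _ s hs hsk) (hrange _ t ht htl)
    obtain ⟨s', hs', hs'τ⟩ := (mk_mem_range_locMap_iff _ _ _).mp hfinal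
    exact hnotI s' hs' ((hmemI s').mpr hs'τ)

/-! ### depth two from bijectivity -/

lemma hasSeq_two_of_bijective [IsNoetherianRing A] [Module.Finite A M] (P : Ideal A) [P.IsPrime]
    (hbij : Function.Bijective (TS.toSec M (LocCoh.puncturedOpen A P))) :
    HasSeq (IsLocalRing.maximalIdeal (Localization.AtPrime P))
      (LocalizedModule P.primeCompl M) 2 := by
  have hfg : P.FG := IsNoetherian.noetherian P
  rcases exists_regular_or_hasSocle (I := IsLocalRing.maximalIdeal (Localization.AtPrime P))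
      (LocalizedModule P.primeCompl M) with ⟨a, ha, hareg⟩ | hsoc
  swap
  · exact absurd hsoc (not_hasSocle_of_injective M P hbij.1)
  rcases exists_regular_or_hasSocle (I := IsLocalRing.maximalIdeal (Localization.AtPrime P))
      (QuotSMulTop a (LocalizedModule P.primeCompl M)) with ⟨b, hb, hbreg⟩ | hsoc
  · exact hasSeq_succ_iff.mpr ⟨a, ha, hareg, hasSeq_succ_iff.mpr ⟨b, hb, hbreg, hasSeq_zero⟩⟩
  exfalso
  obtain ⟨w, hw1, hw2⟩ := hasSocle_quotSMulTop_iff.mp hsoc
  obtain ⟨a₀, s, hs, hnum⟩ := exists_numerator (M := M) P a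
  have hmem : ∀ x : LocalizedModule P.primeCompl M,
      x ∈ a • (⊤ : Submodule (Localization.AtPrime P) (LocalizedModule P.primeCompl M)) ↔
        ∃ y, x = a₀ • y := by
    intro x
    rw [Submodule.mem_smul_pointwise_iff_exists]
    constructor
    · rintro ⟨z, -, rfl⟩
      obtain ⟨y, rfl⟩ := exists_smul_eq P hs z
      exact ⟨y, (hnum y).symm⟩
    · rintro ⟨y, rfl⟩
      exact ⟨s • y, Submodule.mem_top, (hnum y).symm⟩
  have ha₀reg : ∀ x : LocalizedModule P.primeCompl M, a₀ • x = 0 → x = 0 := by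
    intro x hx
    rw [hnum] at hx
    apply smul_inj P hs
    rw [smul_zero]
    exact hareg.right_eq_zero_of_smul hx
  have hA : ∀ f ∈ P, ∃ y : LocalizedModule P.primeCompl M, f • w = a₀ • y := by
    intro f hf
    rw [← hmem, ← algebraMap_smul (Localization.AtPrime P) f w]
    exact hw2 _ ((IsLocalization.AtPrime.to_map_mem_maximal_iff (Localization.AtPrime P) P f).mpr hf)
  have hB : ¬ ∃ y : LocalizedModule P.primeCompl M, w = a₀ • y := by
    rw [← hmem]; exact hw1
  obtain ⟨mstar, h1, h2⟩ := descend_socle P hfg a₀ w hA hB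
  have hC : ∀ k ∈ LinearMap.ker (LinearMap.lsmul A M a₀), ∃ s, s ∉ P ∧ s • k = 0 := by
    intro k hk
    rw [LinearMap.mem_ker, LinearMap.lsmul_apply] at hk
    exact (mk_eq_zero_iff P k).mp (ha₀reg _ (by rw [← map_smul, hk, map_zero]))
  obtain ⟨s₀, hs₀, hker⟩ := exists_notMem_forall_smul_eq_zero P
    (LinearMap.ker (LinearMap.lsmul A M a₀)) (IsNoetherian.noetherian _) hC
  obtain ⟨τ, hτ⟩ := exists_sec_div M P a₀ s₀ mstar
    (fun m hm => hker m (by rw [LinearMap.mem_ker, LinearMap.lsmul_apply]; exact hm)) h1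
  obtain ⟨m', rfl⟩ := hbij.2 τ
  have h3 : a₀ • m' = s₀ • mstar := by
    apply hbij.1
    rw [map_smul]; exact hτ
  apply h2
  obtain ⟨y', hy'⟩ := exists_smul_eq P (s := s₀) hs₀
    (LocalizedModule.mkLinearMap P.primeCompl M m')
  refine ⟨y', ?_⟩
  apply smul_inj P (s := s₀) hs₀
  rw [← map_smul, ← h3, map_smul, ← hy', smul_comm]

/-! ### the main theorems -/

lemma zeroLocus_subset_of_mem {Z : Set (PrimeSpectrum A)} (hZ : StableUnderSpecialization Z)
    {p : PrimeSpectrum A} (hp : p ∈ Z) :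
    PrimeSpectrum.zeroLocus (p.asIdeal : Set A) ⊆ Z := by
  intro q hq
  have hpq : p ≤ q :=
    (PrimeSpectrum.asIdeal_le_asIdeal p q).mp ((PrimeSpectrum.mem_zeroLocus _ _).mp hq)
  exact hZ ((PrimeSpectrum.le_iff_specializes p q).mp hpq) hp

theorem isPureAlong_iff_ass [IsNoetherianRing A] (Z : Set (PrimeSpectrum A))
    (hZ : StableUnderSpecialization Z) :
    EGA4.IsPureAlong Z M ↔
      ∀ p : PrimeSpectrum A, p.asIdeal ∈ associatedPrimes A M → p ∉ Z := by
  constructor
  · intro h p hpass hpZ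
    have hinj := (restrCompl_injective_iff M p.asIdeal).mp (h _ (zeroLocus_subset_of_mem hZ hpZ))
    obtain ⟨-, m', hm'⟩ := isAssociatedPrime_iff.mp hpass
    have hm0 : m' = 0 := by
      apply eq_zero_of_smul_eq_zero_of_injective M p.asIdeal (IsNoetherian.noetherian _) hinj
      intro r hr
      rw [hm', Submodule.mem_colon_singleton, Submodule.mem_bot] at hr
      exact hr
    apply p.isPrime.ne_top
    rw [hm', hm0, Ideal.eq_top_iff_one, Submodule.mem_colon_singleton, smul_zero]
    exact Submodule.zero_mem _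
  · intro h J hJ
    rw [restrCompl_injective_iff]
    apply toSec_injective_of_noAss
    intro Q hQ hJQ
    exact h ⟨Q, hQ.isPrime⟩ hQ (hJ ((PrimeSpectrum.mem_zeroLocus _ _).mpr hJQ))

theorem isPureAlong_iff_depth [IsNoetherianRing A] [Module.Finite A M]
    (Z : Set (PrimeSpectrum A)) (hZ : StableUnderSpecialization Z) :
    EGA4.IsPureAlong Z M ↔
      ∀ p : PrimeSpectrum A, p ∈ Z → (1 : ℕ∞) ≤ LocCoh.depth (Localization.AtPrime p.asIdeal)
        (LocalizedModule p.asIdeal.primeCompl M) := by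
  constructor
  · intro h p hp
    have hinj := (restrCompl_injective_iff M p.asIdeal).mp (h _ (zeroLocus_subset_of_mem hZ hp))
    by_cases htop : IsLocalRing.maximalIdeal (Localization.AtPrime p.asIdeal) •
        (⊤ : Submodule (Localization.AtPrime p.asIdeal)
          (LocalizedModule p.asIdeal.primeCompl M)) = ⊤
    · unfold LocCoh.depth
      rw [idealDepth_eq_top_of_smul_top_eq_top htop]
      exact le_top
    · have h1 : HasSeq (IsLocalRing.maximalIdeal (Localization.AtPrime p.asIdeal))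
          (LocalizedModule p.asIdeal.primeCompl M) 1 := by
        rcases exists_regular_or_hasSocle
          (I := IsLocalRing.maximalIdeal (Localization.AtPrime p.asIdeal))
          (LocalizedModule p.asIdeal.primeCompl M) with ⟨a, ha, hareg⟩ | hsoc
        · exact hasSeq_succ_iff.mpr ⟨a, ha, hareg, hasSeq_zero⟩
        · exact absurd hsoc (not_hasSocle_of_injective M _ hinj)
      have h2 := (le_idealDepth_iff htop 1).mpr h1
      rw [Nat.cast_one] at h2
      exact h2
  · intro h
    rw [isPureAlong_iff_ass M Z hZ]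
    intro p hpass hpZ
    exact not_one_le_depth_of_isAssociatedPrime M p.asIdeal hpass (h p hpZ)

theorem isClosedAlong_iff_depth [IsNoetherianRing A] [Module.Finite A M]
    (Z : Set (PrimeSpectrum A)) (hZ : StableUnderSpecialization Z) :
    EGA4.IsClosedAlong Z M ↔
      ∀ p : PrimeSpectrum A, p ∈ Z → (2 : ℕ∞) ≤ LocCoh.depth (Localization.AtPrime p.asIdeal)
        (LocalizedModule p.asIdeal.primeCompl M) := by
  constructor
  · intro h p hp
    have hbij := (restrCompl_bijective_iff M p.asIdeal).mp (h _ (zeroLocus_subset_of_mem hZ hp))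
    by_cases htop : IsLocalRing.maximalIdeal (Localization.AtPrime p.asIdeal) •
        (⊤ : Submodule (Localization.AtPrime p.asIdeal)
          (LocalizedModule p.asIdeal.primeCompl M)) = ⊤
    · unfold LocCoh.depth
      rw [idealDepth_eq_top_of_smul_top_eq_top htop]
      exact le_top
    · have h2 := (le_idealDepth_iff htop 2).mpr (hasSeq_two_of_bijective M p.asIdeal hbij)
      rw [Nat.cast_ofNat] at h2
      exact h2
  · intro h J hJ
    rw [restrCompl_bijective_iff]
    have hinj : Function.Injective (TS.toSec M (LocCoh.puncturedOpen A J)) := by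
      apply toSec_injective_of_noAss
      intro Q hQ hJQ
      have := hQ.isPrime
      refine not_one_le_depth_of_isAssociatedPrime M Q hQ (le_trans ?_
        (h ⟨Q, hQ.isPrime⟩ (hJ ((PrimeSpectrum.mem_zeroLocus _ _).mpr hJQ))))
      norm_num
    refine ⟨hinj, toSec_surjective_of_depth M J hinj ?_⟩
    intro P _ hJP
    by_cases htop : IsLocalRing.maximalIdeal (Localization.AtPrime P) •
        (⊤ : Submodule (Localization.AtPrime P) (LocalizedModule P.primeCompl M)) = ⊤
    · exact Or.inl htop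
    · right
      have h2 := h ⟨P, inferInstance⟩ (hJ ((PrimeSpectrum.mem_zeroLocus _ _).mpr hJP))
      exact (le_idealDepth_iff htop 2).mp (by rw [Nat.cast_ofNat]; exact h2)

end Groth.Agent.H71.ZC
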