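import Groth.Agent.H15.Depth
import Mathlib.RingTheory.Ideal.MinimalPrime.Localization
import Mathlib.RingTheory.Localization.AtPrime.Basic
import Mathlib.Algebra.Module.LocalizedModule.Basic
import Mathlib.RingTheory.Localization.Finiteness
import Mathlib.RingTheory.Nakayama
import Mathlib.RingTheory.Ideal.AssociatedPrime.Basic
import Mathlib.Tactic.LinearCombination
import Mathlib.Tactic.Ring
import Mathlib.Tactic.Module

/-!
# Algebraic lemmas for the characterisation of `Z`-closed modules by depth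
-/

set_option autoImplicit false
universe u v

namespace Groth.Agent.H71.ZC

open Groth.Agent.H15.Depth

/-- Module version of the "regular sequence of length two" extension argument. -/
lemma mem_range_of_pow_smul_mem_range {A L T : Type*} [CommRing A] [AddCommGroup L] [Module A L]
    [AddCommGroup T] [Module A T] (ι : L →ₗ[A] T) (hι : Function.Injective ι) (a b : A)
    (ha : ∀ τ : T, a • τ = 0 → τ = 0)
    (hb : ∀ x y : L, b • x = a • y → ∃ y', x = a • y') :
    ∀ (m n : ℕ) (τ : T), a ^ m • τ ∈ LinearMap.range ι → b ^ n • τ ∈ LinearMap.range ι →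
      τ ∈ LinearMap.range ι := by
  have claim : ∀ τ : T, a • τ ∈ LinearMap.range ι → b • τ ∈ LinearMap.range ι →
      τ ∈ LinearMap.range ι := by
    rintro τ ⟨α, hα⟩ ⟨β, hβ⟩
    have h1 : b • α = a • β := by
      apply hι
      rw [map_smul, map_smul, hα, hβ, smul_comm]
    obtain ⟨γ, hγ⟩ := hb α β h1
    refine ⟨γ, ?_⟩
    have h2 : a • (τ - ι γ) = 0 := by
      rw [smul_sub, ← hα, hγ, map_smul, sub_self]
    exact (sub_eq_zero.mp (ha _ h2)).symm
  have claim1 : ∀ (m : ℕ) (τ : T), a ^ m • τ ∈ LinearMap.range ι → b • τ ∈ LinearMap.range ι →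
      τ ∈ LinearMap.range ι := by
    intro m
    induction m with
    | zero => intro τ h _; simpa using h
    | succ m ih =>
      intro τ h1 h2
      refine ih τ (claim _ ?_ ?_) h2
      · rw [smul_smul, ← pow_succ']; exact h1
      · obtain ⟨β, hβ⟩ := h2
        exact ⟨a ^ m • β, by rw [map_smul, hβ, smul_comm]⟩
  intro m n
  induction n with
  | zero => intro τ _ h; simpa using h
  | succ n ih =>
    intro τ h1 h2
    refine ih τ h1 (claim1 m _ ?_ ?_)
    · obtain ⟨α, hα⟩ := h1
      exact ⟨b ^ n • α, by rw [map_smul, hα, smul_comm]⟩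
    · rw [smul_smul, ← pow_succ']; exact h2

/-- Elements of a minimal prime over `I` have a power in `I` up to an element outside the prime. -/
lemma exists_mul_pow_mem_of_mem_minimalPrimes {A : Type*} [CommRing A] {I P : Ideal A}
    (hP : P ∈ I.minimalPrimes) {x : A} (hx : x ∈ P) :
    ∃ (k : ℕ) (s : A), s ∉ P ∧ s * x ^ k ∈ I := by
  haveI : P.IsPrime := hP.1.1
  have hrad := IsLocalization.AtPrime.radical_map_of_mem_minimalPrimes
    (A := Localization.AtPrime P) P I hP
  have hmem : algebraMap A (Localization.AtPrime P) x ∈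
      (I.map (algebraMap A (Localization.AtPrime P))).radical := by
    rw [hrad]; exact Ideal.mem_map_of_mem _ hx
  obtain ⟨k, hk⟩ := hmem
  rw [← map_pow] at hk
  obtain ⟨⟨⟨i, hi⟩, s⟩, h⟩ :=
    (IsLocalization.mem_map_algebraMap_iff P.primeCompl (Localization.AtPrime P)).mp hk
  dsimp only at h
  rw [← map_mul] at h
  obtain ⟨c, hc⟩ := (IsLocalization.eq_iff_exists P.primeCompl (Localization.AtPrime P)).mp h
  refine ⟨k, c * s, P.primeCompl.mul_mem c.2 s.2, ?_⟩
  have e : (c : A) * s * x ^ k = c * i := by rw [← hc]; ring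
  rw [e]; exact I.mul_mem_left _ hi

/-- Uniformising a family of denominators outside a finitely generated prime. -/
lemma exists_uniform_notMem {A M : Type*} [CommRing A] [AddCommGroup M] [Module A M]
    (P : Ideal A) [P.IsPrime] (hfg : P.FG) (N' : Submodule A M) (y : M)
    (h : ∀ f ∈ P, ∃ t, t ∉ P ∧ t • f • y ∈ N') :
    ∃ t, t ∉ P ∧ ∀ f ∈ P, f • t • y ∈ N' := by
  classical
  obtain ⟨G, hG⟩ := hfg
  have hGP : ∀ g ∈ G, g ∈ P := fun g hg => hG ▸ Submodule.subset_span hg
  choose! t ht using fun g (hg : g ∈ G) => h g (hGP g hg)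
  refine ⟨∏ g ∈ G, t g, Submonoid.prod_mem P.primeCompl (fun g hg => (ht g hg).1), ?_⟩
  have hle : P ≤ N'.comap (LinearMap.toSpanSingleton A M ((∏ g ∈ G, t g) • y)) := by
    rw [← hG, Submodule.span_le]
    intro g hg
    rw [SetLike.mem_coe, Submodule.mem_comap, LinearMap.toSpanSingleton_apply]
    obtain ⟨c, hc⟩ := Finset.dvd_prod_of_mem t hg
    have e : g • (∏ g ∈ G, t g) • y = c • t g • g • y := by
      rw [hc, smul_smul, smul_smul, smul_smul]; congr 1; ring
    rw [e]
    exact N'.smul_mem c (ht g hg).2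
  intro f hf
  have := hle hf
  rwa [Submodule.mem_comap, LinearMap.toSpanSingleton_apply] at this

section Localized

variable {A : Type u} [CommRing A] {M : Type u} [AddCommGroup M] [Module A M]

/-- Elements of the submonoid act bijectively on the localized module. -/
lemma smul_bijective (S : Submonoid A) {s : A} (hs : s ∈ S) :
    Function.Bijective (fun x : LocalizedModule S M => s • x) := by
  have h := IsLocalizedModule.map_units (LocalizedModule.mkLinearMap S M) ⟨s, hs⟩
  rw [Module.End.isUnit_iff] at h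
  exact h

variable (P : Ideal A) [P.IsPrime]

/-- scalars of `A` and of `A_P` commute on `M_P`. -/
lemma smul_comm' (c : Localization.AtPrime P) (r : A) (w : LocalizedModule P.primeCompl M) :
    r • (c • w) = c • (r • w) := by
  rw [← algebraMap_smul (Localization.AtPrime P) r (c • w),
    ← algebraMap_smul (Localization.AtPrime P) r w, smul_smul, smul_smul, mul_comm]

/-- From a weakly regular sequence of length two on `M_P` (over `A_P`) to elementary statements
with scalars in `A`. -/
lemma exists_elementary_of_hasSeq_two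
    (h : HasSeq (IsLocalRing.maximalIdeal (Localization.AtPrime P))
      (LocalizedModule P.primeCompl M) 2) :
    ∃ a₀ b₀ : A, a₀ ∈ P ∧ b₀ ∈ P ∧
      (∀ x : LocalizedModule P.primeCompl M, a₀ • x = 0 → x = 0) ∧
      (∀ x y : LocalizedModule P.primeCompl M, b₀ • x = a₀ • y → ∃ y', x = a₀ • y') := by
  obtain ⟨a, ha, hareg, h1⟩ := hasSeq_succ_iff.mp h
  obtain ⟨b, hb, hbreg, -⟩ := hasSeq_succ_iff.mp h1
  obtain ⟨⟨a₀, s⟩, has⟩ := IsLocalization.surj P.primeCompl a
  obtain ⟨⟨b₀, t⟩, hbt⟩ := IsLocalization.surj P.primeCompl b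
  dsimp only at has hbt
  have ha₀ : a₀ ∈ P := by
    rw [← IsLocalization.AtPrime.to_map_mem_maximal_iff (Localization.AtPrime P) P a₀, ← has]
    exact Ideal.mul_mem_right _ _ ha
  have hb₀ : b₀ ∈ P := by
    rw [← IsLocalization.AtPrime.to_map_mem_maximal_iff (Localization.AtPrime P) P b₀, ← hbt]
    exact Ideal.mul_mem_right _ _ hb
  have ea : ∀ x : LocalizedModule P.primeCompl M, a₀ • x = a • ((s : A) • x) := fun x => by
    rw [← algebraMap_smul (Localization.AtPrime P) a₀ x, ← has, mul_smul, algebraMap_smul]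
  have eb : ∀ x : LocalizedModule P.primeCompl M, b₀ • x = b • ((t : A) • x) := fun x => by
    rw [← algebraMap_smul (Localization.AtPrime P) b₀ x, ← hbt, mul_smul, algebraMap_smul]
  refine ⟨a₀, b₀, ha₀, hb₀, ?_, ?_⟩
  · intro x hx
    rw [ea] at hx
    exact (smul_bijective (M := M) P.primeCompl s.2).1 (by
      show (s : A) • x = (s : A) • 0
      rw [smul_zero]; exact hareg.right_eq_zero_of_smul hx)
  · intro x y hxy
    rw [ea, eb] at hxy
    have h3 : b • (Submodule.Quotient.mk ((t : A) • x) :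
        QuotSMulTop a (LocalizedModule P.primeCompl M)) = 0 := by
      rw [← Submodule.Quotient.mk_smul, Submodule.Quotient.mk_eq_zero, hxy]
      exact Submodule.smul_mem_pointwise_smul _ a ⊤ Submodule.mem_top
    have h4 := hbreg.right_eq_zero_of_smul h3
    rw [Submodule.Quotient.mk_eq_zero] at h4
    obtain ⟨z, -, hz⟩ := (Submodule.mem_smul_pointwise_iff_exists _ _ _).mp h4
    obtain ⟨y', hy'⟩ := (smul_bijective (M := M) P.primeCompl
      (P.primeCompl.mul_mem t.2 s.2)).2 z
    have hy'' : ((t : A) * s) • y' = z := hy'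
    refine ⟨y', ?_⟩
    apply (smul_bijective (M := M) P.primeCompl t.2).1
    show (t : A) • x = (t : A) • (a₀ • y')
    rw [← hz, ← hy'', ea, smul_comm' P a, mul_smul]

variable [IsNoetherianRing A] [Module.Finite A M]

/-- Nakayama: if `𝔪 M_P = M_P` then `M_P = 0`. -/
lemma subsingleton_of_smul_top_eq_top
    (h : IsLocalRing.maximalIdeal (Localization.AtPrime P) •
      (⊤ : Submodule (Localization.AtPrime P) (LocalizedModule P.primeCompl M)) = ⊤) :
    Subsingleton (LocalizedModule P.primeCompl M) := by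
  have h1 : (⊤ : Submodule (Localization.AtPrime P) (LocalizedModule P.primeCompl M)) = ⊥ :=
    Submodule.eq_bot_of_le_smul_of_le_jacobson_bot _ _ Module.Finite.fg_top h.ge
      (IsLocalRing.jacobson_eq_maximalIdeal ⊥ bot_ne_top).ge
  exact (Submodule.subsingleton_iff (Localization.AtPrime P)).mp (subsingleton_of_bot_eq_top h1.symm)

end Localized

section Localized2

variable {A : Type u} [CommRing A] {M : Type u} [AddCommGroup M] [Module A M]
variable (P : Ideal A) [P.IsPrime]

/-- `m/1 = 0` in `M_P` iff `m` is killed by an element outside `P`. -/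
lemma mk_eq_zero_iff (m : M) :
    LocalizedModule.mkLinearMap P.primeCompl M m = 0 ↔ ∃ s, s ∉ P ∧ s • m = 0 := by
  rw [IsLocalizedModule.eq_zero_iff P.primeCompl]
  constructor
  · rintro ⟨⟨s, hs⟩, h⟩; exact ⟨s, hs, h⟩
  · rintro ⟨s, hs, h⟩; exact ⟨⟨s, hs⟩, h⟩

/-- every element of `M_P` has a multiple by an element outside `P` coming from `M`. -/
lemma exists_smul_eq_mk (w : LocalizedModule P.primeCompl M) :
    ∃ (s : A) (m : M), s ∈ P.primeCompl ∧
      s • w = LocalizedModule.mkLinearMap P.primeCompl M m := by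
  obtain ⟨⟨m, ⟨s, hs⟩⟩, h⟩ :=
    IsLocalizedModule.surj P.primeCompl (LocalizedModule.mkLinearMap P.primeCompl M) w
  exact ⟨s, m, hs, h⟩

lemma smul_inj {s : A} (hs : s ∈ P.primeCompl) {x y : LocalizedModule P.primeCompl M}
    (h : s • x = s • y) : x = y :=
  (smul_bijective (M := M) P.primeCompl hs).1 h

lemma exists_smul_eq {s : A} (hs : s ∈ P.primeCompl) (x : LocalizedModule P.primeCompl M) :
    ∃ y : LocalizedModule P.primeCompl M, s • y = x :=
  (smul_bijective (M := M) P.primeCompl hs).2 x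

/-- numerators. -/
lemma exists_numerator (a : Localization.AtPrime P) :
    ∃ (a₀ s : A), s ∈ P.primeCompl ∧
      ∀ x : LocalizedModule P.primeCompl M, a₀ • x = a • (s • x) := by
  obtain ⟨⟨a₀, s⟩, has⟩ := IsLocalization.surj P.primeCompl a
  dsimp only at has
  refine ⟨a₀, s, s.2, fun x => ?_⟩
  rw [← algebraMap_smul (Localization.AtPrime P) a₀ x, ← has, mul_smul, algebraMap_smul]

/-- uniform annihilator outside `P` of a finitely generated submodule. -/
lemma exists_notMem_forall_smul_eq_zero (K : Submodule A M) (hK : K.FG)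
    (h : ∀ k ∈ K, ∃ s, s ∉ P ∧ s • k = 0) : ∃ s, s ∉ P ∧ ∀ k ∈ K, s • k = 0 := by
  classical
  obtain ⟨F, hF⟩ := hK
  have hFK : ∀ k ∈ F, k ∈ K := fun k hk => hF ▸ Submodule.subset_span hk
  choose! s hs using fun k (hk : k ∈ F) => h k (hFK k hk)
  refine ⟨∏ k ∈ F, s k, Submonoid.prod_mem P.primeCompl (fun k hk => (hs k hk).1), ?_⟩
  have hle : K ≤ LinearMap.ker (LinearMap.lsmul A M (∏ k ∈ F, s k)) := by
    rw [← hF, Submodule.span_le]
    intro k hk
    rw [SetLike.mem_coe, LinearMap.mem_ker, LinearMap.lsmul_apply]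
    obtain ⟨c, hc⟩ := Finset.dvd_prod_of_mem s hk
    rw [hc, mul_comm, mul_smul, (hs k hk).2, smul_zero]
  intro k hk
  have := hle hk
  rwa [LinearMap.mem_ker, LinearMap.lsmul_apply] at this

/-- descending a "socle modulo `a₀`" element of `M_P` to `M`. -/
lemma descend_socle (hfg : P.FG) (a₀ : A) (w : LocalizedModule P.primeCompl M)
    (hw : ∀ f ∈ P, ∃ y : LocalizedModule P.primeCompl M, f • w = a₀ • y)
    (hw' : ¬ ∃ y : LocalizedModule P.primeCompl M, w = a₀ • y) :
    ∃ mstar : M, (∀ f ∈ P, ∃ n : M, a₀ • n = f • mstar) ∧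
      ¬ ∃ y : LocalizedModule P.primeCompl M,
        LocalizedModule.mkLinearMap P.primeCompl M mstar = a₀ • y := by
  obtain ⟨s, m₀, hs, hsm⟩ := exists_smul_eq_mk P w
  have hmemN' : ∀ x : M, x ∈ LinearMap.range (LinearMap.lsmul A M a₀) ↔ ∃ n, a₀ • n = x :=
    fun x => by rw [LinearMap.mem_range]; rfl
  have h1 : ∀ f ∈ P, ∃ t, t ∉ P ∧ t • f • m₀ ∈ LinearMap.range (LinearMap.lsmul A M a₀) := by
    intro f hf
    obtain ⟨y, hy⟩ := hw f hf
    obtain ⟨t, n, ht, htn⟩ := exists_smul_eq_mk P y
    have h2 : LocalizedModule.mkLinearMap P.primeCompl M (t • f • m₀ - a₀ • s • n) = 0 := by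
      simp only [map_sub, map_smul]
      rw [← hsm, ← htn, sub_eq_zero, smul_comm f s w, hy]
      module
    obtain ⟨u, hu, huz⟩ := (mk_eq_zero_iff P _).mp h2
    refine ⟨u * t, P.primeCompl.mul_mem hu ht, ?_⟩
    rw [hmemN']
    refine ⟨u • s • n, ?_⟩
    rw [smul_sub, sub_eq_zero] at huz
    rw [mul_smul, huz]
    module
  obtain ⟨t₀, ht₀, h3⟩ := exists_uniform_notMem P hfg _ m₀ h1
  refine ⟨t₀ • m₀, fun f hf => (hmemN' _).mp (h3 f hf), ?_⟩
  rintro ⟨y, hy⟩
  apply hw'
  have hts : t₀ * s ∈ P.primeCompl := P.primeCompl.mul_mem ht₀ hs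
  obtain ⟨y', hy'⟩ := exists_smul_eq P hts y
  refine ⟨y', ?_⟩
  apply smul_inj P hts
  rw [mul_smul, hsm, ← map_smul, hy, ← hy']
  module

/-- an associated prime gives a socle element of the localization. -/
lemma hasSocle_of_colon (m' : M) (hm' : P = (⊥ : Submodule A M).colon {m'}) :
    HasSocle (IsLocalRing.maximalIdeal (Localization.AtPrime P))
      (LocalizedModule P.primeCompl M) := by
  have hmem : ∀ r : A, r ∈ P ↔ r • m' = 0 := fun r => by
    conv_lhs => rw [hm']
    rw [Submodule.mem_colon_singleton, Submodule.mem_bot]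
  refine ⟨LocalizedModule.mkLinearMap P.primeCompl M m', ?_, ?_⟩
  · intro h0
    obtain ⟨s, hs, hsm⟩ := (mk_eq_zero_iff P m').mp h0
    exact hs ((hmem s).mpr hsm)
  · intro a ha
    obtain ⟨⟨x, t⟩, hxt⟩ := IsLocalization.surj P.primeCompl a
    dsimp only at hxt
    have hx : x ∈ P := by
      rw [← IsLocalization.AtPrime.to_map_mem_maximal_iff (Localization.AtPrime P) P x, ← hxt]
      exact Ideal.mul_mem_right _ _ ha
    apply smul_inj P t.2
    rw [smul_zero, smul_comm' P a, ← algebraMap_smul (Localization.AtPrime P) (t : A), smul_smul,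
      hxt, algebraMap_smul, ← map_smul, (hmem x).mp hx, map_zero]

end Localized2

section LocMap

variable {A : Type u} [CommRing A] {M N : Type u} [AddCommGroup M] [Module A M]
  [AddCommGroup N] [Module A N]
variable (S : Submonoid A) (f : M →ₗ[A] N)

/-- the localized map. -/
noncomputable abbrev locMap : LocalizedModule S M →ₗ[A] LocalizedModule S N :=
  IsLocalizedModule.map S (LocalizedModule.mkLinearMap S M) (LocalizedModule.mkLinearMap S N) f

lemma locMap_mk (m : M) : locMap S f (LocalizedModule.mkLinearMap S M m) =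
    LocalizedModule.mkLinearMap S N (f m) :=
  IsLocalizedModule.map_apply S _ _ f m

lemma locMap_injective (hf : Function.Injective f) : Function.Injective (locMap S f) :=
  IsLocalizedModule.map_injective S _ _ f hf

lemma mk_mem_range_locMap_iff (ν : N) :
    LocalizedModule.mkLinearMap S N ν ∈ LinearMap.range (locMap S f) ↔
      ∃ s ∈ S, s • ν ∈ LinearMap.range f := by
  constructor
  · rintro ⟨w, hw⟩
    obtain ⟨⟨m, s⟩, hms⟩ := IsLocalizedModule.surj S (LocalizedModule.mkLinearMap S M) w
    have hms' : (s : A) • w = LocalizedModule.mkLinearMap S M m := hms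
    have h1 : LocalizedModule.mkLinearMap S N ((s : A) • ν - f m) = 0 := by
      rw [map_sub, map_smul, ← hw, ← map_smul, hms', locMap_mk, sub_self]
    obtain ⟨t, ht⟩ := (IsLocalizedModule.eq_zero_iff S (LocalizedModule.mkLinearMap S N)).mp h1
    have ht' : (t : A) • ((s : A) • ν - f m) = 0 := ht
    rw [smul_sub, sub_eq_zero] at ht'
    refine ⟨t * s, S.mul_mem t.2 s.2, LinearMap.mem_range.mpr ⟨(t : A) • m, ?_⟩⟩
    rw [map_smul, mul_smul, ht']
  · rintro ⟨s, hs, m, hm⟩
    obtain ⟨w, hw⟩ := (smul_bijective (M := M) S hs).2 (LocalizedModule.mkLinearMap S M m)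
    have hw' : s • w = LocalizedModule.mkLinearMap S M m := hw
    refine ⟨w, ?_⟩
    apply (smul_bijective (M := N) S hs).1
    show s • locMap S f w = s • LocalizedModule.mkLinearMap S N ν
    rw [← map_smul, hw', locMap_mk, hm, map_smul]

end LocMap

end Groth.Agent.H71.ZC
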